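import Cfsg.Agent.WA.B1F

/-! Walter's theorem, part B1: conclusion. -/

set_option autoImplicit false
set_option linter.unusedSectionVars false
set_option linter.unusedVariables false

namespace Cfsg.Agent.WA

open Cfsg Subgroup Cfsg.Agent.GT Cfsg.Agent.Cls Cfsg.Agent.GW
open Cfsg.Agent.TT (QS Cmp SN layerOf fstarOf)
open scoped commutatorElement

universe u

variable {G : Type u} [Group G] [Finite G] [IsSimpleGroup G] {p q r : ℕ}
  {A B B' C D E H J K L L₁ L₂ M M' M₀ P Q R S T U V W W' X X' Y Γ : Subgroup G}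
  {a b c d e g k k' m n s t u v w x y z : G}

theorem Gl.inO2 (h : Gl S A) (ht : t ∈ A) (hM : M ≠ ⊤) (ct : C1[t] ≤ M)
    (h1 : ∀ q, q.Prime → q ≠ 2 → piCoreOf {q} M ≤ C1[t]) : t ∈ piCoreOf {2} M := by
  have tM := ct (self_mem_cent1 t)
  refine le_piCoreOf_of_le_fittingOf (le_fit (zpowers_le.2 tM) (fun q hq => ?_) fun K hK =>
    zpowers_le.2 (h.cmp ht hM ct hK)) (isPi_of_isPGroup Nat.prime_two (pg2' (h.sq ht)))
    (mem_zpowers t)
  rw [zpowers_le, mem_cent_iff]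
  by_cases e : q = 2
  · subst e
    exact h.ab.pc1 (piCoreOf_isPGroup hq M) (h.sq ht) (self_le_norm_piCoreOf _ _ tM)
  · exact h1 q hq e

namespace Bd
variable (h : Bd S A p a W X M)
include h

theorem ncM : NC M := nc_of h.hp h.cpF (ne_bot_of_le h.X1 h.XP)

theorem nX : N[X] ≤ M := by
  obtain ⟨L₁, hN, ar⟩ := h.exZ
  obtain rfl := ar.bt h.co h.ncM h.hp h.xp.ne (inf_le_left.trans h.XP) hN
  obtain ⟨L, hL, hL'⟩ := h.exL h.hp h.pX h.X1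
  rwa [(h.arZ hN hL (h.xp.sX.trans hL') (le_normalizer.trans hL')).bt h.co h.ncM h.hp h.X1 h.XP hL']

theorem ar (hL : IsCoatom L) (hS : S ≤ L) (hX : X ≤ L) : Arw p X L M :=
  ⟨h.ab, h.hp, h.hp2, hL, h.X1, h.xp.kk L hL.1 hS hX, h.nX⟩

theorem uq (hg : g ∈ N[S]) (e : X ≤ cj[g] M) : g ∈ M :=
  h.nM h.co h.SM ((h.ar (isCoatom_conj g h.co) (h.Scj hg h.SM) e).n1 h.co h.ncM).symm

theorem hyp' : Hyp A C[X] := (h.hyp16 fun _ => h.uq).1
theorem n8 : Nat.card A ≠ 8 := (h.hyp16 fun _ => h.uq).2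

theorem u1 (hN : N[S] ≤ M) (hu : u ∈ A) (u1 : u ≠ 1) (uX : u ∈ C[X]) (h0 : ¬ C1[u] ≤ M) :
    u ∈ C[piCoreOf {p} M] := by
  obtain ⟨H, hH, h1⟩ := exists_coatom_ge (h.c1t u1)
  refine (h.ar hH ((h.sc hu).trans h1) ((mem_cent_iff.1 uX).trans h1)).a4 Nat.prime_two h.hp2.symm
    (h.inO2 hu hH.1 h1 fun q hq hq2 => ?_)
  by_contra h2
  obtain ⟨W', X', M', k⟩ := h.bd hq hq2 hu (piCoreOf_isPGroup hq H)
    (h1.trans (self_le_norm_piCoreOf _ _)) h2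
  obtain ⟨g, hg, e⟩ := h.thm k.hyp' h.aA
  have XM : X' ≤ M := (mem_cent_iff.1 e).trans (conj_cent1 g a ▸ conj_le_of_mem (hN hg) h.ca)
  exact h0 ((h.ar k.co k.SM ((mem_cent_iff.1 uX).trans k.ca)).bt h.co h.ncM hq k.X1
    (k.xp.kk M h.co.1 h.SM XM) k.nX ▸ k.ca)

theorem nN (hN : N[S] ≤ M) : False := by
  have nC : N[S] ≤ N[C[piCoreOf {p} M]] := le_norm_cent (hN.trans (self_le_norm_piCoreOf _ _))
  have key : ∀ u ∈ A, u ≠ 1 → u ∉ C[piCoreOf {p} M] → C1[u] ≤ M := fun u hu u1 h0 => by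
    obtain ⟨n, hn, e⟩ := h.thm h.hyp' hu
    by_contra h1
    have := conj_mem_of_le_norm' nC hn (h.u1 hN (h.cjm hn hu) (cne u1 n) e fun h2 => h1 (by
      have := conj_le_of_mem (inv_mem (hN hn)) h2
      rwa [← conj_cent1, inv_conj_conj] at this))
    exact h0 (by simpa [mul_assoc] using this)
  refine h.se h.co.1 hN fun u hu u1 => ?_
  by_contra h0
  have uP : u ∈ C[piCoreOf {p} M] := by_contra fun e => h0 (key u hu u1 e)
  refine glob h.co.1 u1 fun g => h.loc0 le_top hu u1 h.aA h.a1 h.ca (fun n hn => ?_) (mem_top g)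
  have h1 := conj_mem_of_le_norm nC hn.2 uP
  have h2 : a * (n * u * n⁻¹) ∉ C[piCoreOf {p} M] := fun e =>
    h.naP ((Subgroup.mul_mem_cancel_right _ h1).1 e)
  exact ⟨fun e => h.naP (e ▸ h1), key _ (mul_mem h.aA (h.cjm hn.2 hu))
    (fun e => h2 (e ▸ one_mem _)) h2⟩

variable (hg : g ∈ N[S]) (gM : g ∉ M)
include hg gM

theorem nXg : ¬ cj[g] X ≤ M := fun e =>
  gM (inv_mem_iff.1 (h.uq (inv_mem hg) (conj_le_iff.1 e)))

omit gM in
theorem exH (hu : u ∈ C[X] ⊓ cj[g] C[X] ⊓ A) (u1 : u ≠ 1) :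
    ∃ H, C1[u] ≤ H ∧ Arw p X H M ∧ cj[g] X ≤ piCoreOf {p} H := by
  obtain ⟨H, hH, h1⟩ := exists_coatom_ge (h.c1t u1)
  have hS := (h.sc hu.2).trans h1
  refine ⟨H, h1, h.ar hH hS ((mem_cent_iff.1 hu.1.1).trans h1), ?_⟩
  rw [conj_le_iff, conj_piCoreOf]
  refine h.xp.kk _ (isCoatom_conj _ hH).1 (h.Scj (inv_mem hg) hS) (conj_le_iff.1
    ((mem_cent_iff.1 ?_).trans h1))
  rw [← conj_centralizer]; exact hu.1.2

theorem q1 (hq : q.Prime) (hqp : q ≠ p) (hu : u ∈ C[X] ⊓ cj[g] C[X] ⊓ A) (u1 : u ≠ 1) :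
    piCoreOf {q} M ⊓ C1[u] = ⊥ := by
  obtain ⟨H, h1, ar, h2⟩ := h.exH hg hu u1
  by_contra h0
  obtain ⟨L, hL, hN⟩ := h.exL hq ((piCoreOf_isPGroup hq M).to_le inf_le_left) h0
  have c := (le_norm_of_cent (le_cent_symm ((inf_le_inf_left _ h1).trans (ar.a2 hq hqp)))).trans hN
  have hS : S ≤ L := (le_norm_inf (h.SM.trans (self_le_norm_piCoreOf _ _))
    ((h.sc hu.2).trans le_normalizer)).trans hN
  exact h.nXg hg gM ((h.ar hL hS (ar.le.trans c)).bt h.co h.ncM hq h0 inf_le_left hN ▸ h2.trans c)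

theorem exK : ∃ K, Cmp K M := by
  obtain ⟨d, hd, e, he, od, oe, ed⟩ := h.four h.n8 h.hyp' (h.hyp'.conj (h.nA hg))
  have c := h.cm he.2 hd.2
  refine TT.exists_cmp_of_ne_bot ((not_chp h.hp h.cpF).resolve_left ?_)
  rintro ⟨q, hq, hqp, h0⟩
  have nQ := h.SM.trans (self_le_norm_piCoreOf {q} M)
  have k1 := h.q1 hg gM hq hqp hd (ne1 od)
  by_cases e2 : q = 2
  · subst e2
    exact h0 (by rwa [inf_eq_left.2 (h.ab.pc1 (piCoreOf_isPGroup hq M) (sq1 od) (nQ (h.AS hd.2)))] at k1)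
  · exact h0 (le_bot_iff.1 (gen3 od oe ed c (odd_p hq e2 (piCoreOf_isPGroup hq M)) (nQ (h.AS hd.2))
      (nQ (h.AS he.2)) k1.le (h.q1 hg gM hq hqp he (ne1 oe)).le
      (h.q1 hg gM hq hqp (mul_mem hd he) (ne1 (ord2_mul od oe ed c))).le))

omit hg gM in
theorem SK (hK : Cmp K M) : S ≤ N[K] := h.ab.normS hK h.pS (h.SM.trans le_normalizer)

omit hg gM in
theorem KX (hK : Cmp K M) : K ≤ C[X] := (cmp_cent_O hK h.hp).trans (cent_anti h.XP)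

omit hg gM in
theorem nK (hK : Cmp K M) : N[K] ≤ M := by
  obtain ⟨L, hL, hL'⟩ := exists_coatom_ge (Cl.normalizer_ne_top_of_simple hK.ne
    fun e => h.co.1 (top_le_iff.1 (e ▸ hK.le)))
  rwa [(h.ar hL ((h.SK hK).trans hL') ((le_norm_of_cent (le_cent_symm (h.KX hK))).trans hL')).fin
    h.co h.ncM (hK.fstarOf_le_norm.trans hL')]

theorem uK (hK : Cmp K M) (hu : u ∈ C[X] ⊓ cj[g] C[X] ⊓ A) (uK : u ∈ C[K]) : u = 1 := by
  by_contra u1
  obtain ⟨H, h1, ar, h2⟩ := h.exH hg hu u1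
  exact h.nXg hg gM (h2.trans ((le_norm_of_cent (le_cent_symm (ar.a3 hK
    ((mem_cent_iff.1 uK).trans h1)))).trans (h.nK hK)))

theorem DK (hK : Cmp K M) : C[X] ⊓ cj[g] C[X] ⊓ A ≤ K := fun u hu => by
  by_cases u1 : u = 1
  · exact u1 ▸ one_mem _
  obtain ⟨H, h1, ar, h2⟩ := h.exH hg hu u1
  obtain ⟨k, hk, k2, e⟩ := h.ab.inner hK.toQS (h.sq hu.2) (h.SK hK (h.AS hu.2))
  have ku : k ∈ C1[u] := (c1_of_inner hk k2 e hk).2 (self_mem_cent1 k)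
  have kR := ar.axb1 (h1 ku) k2 (h.kg.k1c hK (card_lt_of_le hK.le (card_lt_of_ne_top h.co.1))
    (odd_p h.hp h.hp2 (ar.pR.to_le inf_le_left)) (le_norm_self inf_le_right)
    (le_norm_inf (inf_le_right.trans (h1.trans (self_le_norm_piCoreOf _ _)))
      (le_norm_self (inf_le_left.trans hK.le))) hk k2 e).2
  have kA : k ∈ A := h.mem (h.syl.mem_of_mem_norm (mem_top k) (cent_le_norm S (mem_cent_iff.2
    fun x hx => h.ab.fix hK.toQS hk k2 e (h.SK hK hx) (h.sc hu.2 hx)))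
    ((piNat_single_pow Nat.prime_two 1).of_dvd (orderOf_dvd_of_pow_eq_one (by rwa [pow_one, sq])))) k2
  have := h.uK hg gM hK (mul_mem hu ⟨⟨cent_anti ar.le kR, by
    rw [conj_centralizer]; exact cent_anti h2 kR⟩, kA⟩) e
  rw [eq_inv_of_mul_eq_one_left this]; exact inv_mem hk

omit hg gM in
theorem exa (hK : Cmp K M) : ∃ b ∈ A, b ≠ 1 ∧ b ∈ C[X] ∧ b ∈ C[K] ∧ C1[b] ≤ M := by
  obtain ⟨n, hn, e⟩ := h.thm h.hyp' h.aA
  have c := conj_cent1 n a ▸ conj_mono n h.ca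
  rw [conj_eq_self_of_mem (h.uq hn ((mem_cent_iff.1 e).trans c))] at c
  exact ⟨_, h.cjm hn h.aA, cne h.a1 n, e, h.cmp (h.cjm hn h.aA) h.co.1 c hK, c⟩

theorem KD (hK : Cmp K M) (hx : x ∈ A) (xK : x ∈ K) : x ∈ cj[g] C[X] := by
  obtain ⟨b, hb, b1, bX, bK, -⟩ := h.exa hK
  have nb : b ∉ K := fun e => h.ab.nc hK.toQS e (h.o2 hb b1) bK
  by_contra h0
  exact nb ((K.mul_mem_cancel_left xK).1 (h.DK hg gM hK ⟨⟨mul_mem (h.KX hK xK) bX,
    h.hyp'.conj (h.nA hg) x hx b hb h0 fun e => nb (h.DK hg gM hK ⟨⟨bX, e⟩, hb⟩)⟩, mul_mem hx hb⟩))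

theorem nN' : False := by
  obtain ⟨K, hK⟩ := h.exK hg gM
  have f := h.fam hK.toQS (fun e => h.co.1 (top_le_iff.1 (e ▸ hK.le))) (h.SK hK)
  have gU : g ∈ N[S ⊓ K] := mem_normalizer_of_conj_le (conj_le_iff_forall.2 fun x hx => by
    have xA := h.mem hx.1 (f.sq x hx)
    have h1 := h.cjm hg xA
    refine ⟨h.AS h1, h.DK hg gM hK ⟨⟨?_, conj_mem_conj.2 (h.KX hK hx.2)⟩, h1⟩⟩
    simpa using h.KD (inv_mem hg) (mt inv_mem_iff.1 gM) hK xA hx.2)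
  obtain ⟨b, hb, b1, -, bK, cb⟩ := h.exa hK
  have KM : K ≤ cj[g] M := (mem_cent_iff.1 (conj_mem_of_mem_norm (f.norm_C hg gU)
    ⟨h.AS hb, bK⟩).2).trans (conj_cent1 g b ▸ conj_mono g cb)
  obtain ⟨k, hk, -, -, k1, -⟩ := f.two
  have hk' : k ∈ cj[g] K := mem_conj.2 (conj_mem_of_le_norm' le_rfl gU hk).2
  exact gM (h.nK hK (conj_eq_self_iff.1 (eq_of_le_of_card_ge (qs_le hK.toQS
    (h.ab.qs_norm (cmp_cj hK g) hK.toQS (le_norm_self KM)) hk.2 hk'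
    (h.ab.nc hK.toQS hk.2 (ord2 (f.sq k hk) k1))) (card_conj g K).le).symm))

omit hg gM in
theorem false : False := h.nN fun _ hg => by_contra fun gM => h.nN' hg gM

end Bd

theorem b1 (rig : RIG.{u}) : B1.{u} := fun G _ _ _ m nse z _ hz M _ hM hH => by
  rw [top_inf_eq] at hH
  obtain ⟨S, hS, zS⟩ := exists_syl_ge Nat.prime_two (pg2 hz) (le_top (a := zpowers z))
  let A : Subgroup G :=
    { carrier := {x | x ∈ S ∧ x * x = 1}
      one_mem' := ⟨one_mem _, mul_one _⟩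
      mul_mem' := fun {x y} hx hy => ⟨mul_mem hx.1 hy.1, by
        rw [mul_assoc, ← mul_assoc y, m.ab.comm hS hy.1 hx.1, mul_assoc, hy.2, mul_one, hx.2]⟩
      inv_mem' := fun {x} hx => by rwa [inv_eq_of_mul_eq_one_right hx.2] }
  have h : Gl S A := ⟨m, rig, hS, fun _ => Iff.rfl, nse⟩
  have zA : z ∈ A := ⟨zS (mem_zpowers z), sq1 hz⟩
  refine h.inO2 zA hM hH fun q hq hq2 => by_contra fun h0 => ?_
  obtain ⟨W, X, M', k⟩ := h.bd hq hq2 zA (piCoreOf_isPGroup hq M)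
    (hH.trans (self_le_norm_piCoreOf _ _)) h0
  exact k.false

end Cfsg.Agent.WA
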