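import Cfsg.Agent.WA.Def
import Mathlib.LinearAlgebra.Projectivization.PSL.PSL2

/-! Facts about `L₂(q)`, `q ≡ 3, 5 (mod 8)`. -/

set_option autoImplicit false
set_option linter.unusedSectionVars false

namespace Cfsg.Agent.WA.JS

open Matrix Cfsg Cfsg.Agent.Cl Subgroup Cfsg.Agent.GT Cfsg.Agent.Cls Cfsg.Agent.GW Cfsg.Agent.GWP
open scoped MatrixGroups

universe u
variable {F : Type} [Field F] {L : Type u} [Group L] {π : SL(2, F) →* L} {D : F} {g : SL(2, F)}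

theorem not_comm (h : PH π ⊤) (h2 : (2 : F) ≠ 0) : ¬ IsMulCommutative L := fun c => by
  obtain ⟨a, e⟩ := h.cent_X h2 (g := Y 1) (c.1.1 _ _)
  rcases h.eq_iff.1 e with e | e <;> simpa [neg_ap] using congrArg (fun g : SL(2, F) => g.1 1 0) e

theorem exists_ps (h : L2o L) : ∃ (F : Type) (_ : Field F) (_ : Fintype F) (π : SL(2, F) →* L),
    (Fintype.card F % 8 = 3 ∨ Fintype.card F % 8 = 5) ∧ 3 < Fintype.card F ∧ PS π ⊤ ∧ IsSimpleGroup L := by
  obtain ⟨F, _, _, h8, h3, ⟨e⟩⟩ := h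
  have := ProjectiveSpecialLinearGroup.rank_two_simple (F := F) (by rw [Nat.card_eq_fintype_card]; omega)
  have s : IsSimpleGroup L := e.isSimpleGroup
  let π : SL(2, F) →* L := e.symm.toMonoidHom.comp (QuotientGroup.mk' _)
  have p : PH π ⊤ := ⟨fun x => ⟨fun _ => (e.symm.surjective.comp (QuotientGroup.mk'_surjective _)) x, fun _ => trivial⟩,
    fun g => by
      rw [← Cl.sl2_mem_center_iff, ← QuotientGroup.eq_one_iff]
      exact MulEquiv.map_eq_one_iff e.symm⟩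
  refine ⟨F, _, _, π, h8, h3, ⟨p, inferInstance, ?_⟩, s⟩
  rw [cent_top]
  exact (s.eq_bot_or_eq_top_of_normal _ inferInstance).resolve_right fun c =>
    not_comm p (two_ne_zero_of_odd_card (Nat.odd_iff.2 (by omega))) (center_eq_top_iff.1 c)

theorem conj_Tt (h2 : (2 : F) ≠ 0) (h3 : (3 : F) ≠ 0) (ht : g.1 0 0 + g.1 1 1 = -1) :
    ∃ (B : GL (Fin 2) F) (k : SL(2, F)), k ∈ Tt (-3 : F) ∧ k.1 1 0 ≠ 0 ∧ k.1 0 0 ≠ 0 ∧ sg B 1 k = g := by
  have hd := sl2_det g
  have h11 : g.1 1 1 = -1 - g.1 0 0 := by linear_combination ht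
  rw [h11] at hd
  let k : SL(2, F) := sl2mk (-1 / 2) (-3 / 2) (1 / 2) (-1 / 2) (by field_simp; norm_num)
  suffices H : ∃ B : GL (Fin 2) F, sg B 1 k = g from H.imp fun B e =>
    ⟨k, ⟨rfl, by simp only [k, sl2mk01, sl2mk10]; ring⟩, by simp [k, h2], by simp [k, h2], e⟩
  by_cases c0 : g.1 1 0 = 0
  · by_cases b0 : g.1 0 1 = 0
    · have a0 : 2 * g.1 0 0 + 1 ≠ 0 := fun a0 => h3 (by
        linear_combination -(2 * g.1 0 0 + 1) * a0 - 4 * hd - 4 * g.1 0 1 * c0)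
      refine ⟨gl2mk 1 (2 * g.1 0 0 + 1) 1 (-(2 * g.1 0 0 + 1)) fun h0 => mul_ne_zero h2 a0 (by linear_combination -h0), ?_⟩
      rw [sg_eq_iff, map_one']
      ext i j; fin_cases i <;> fin_cases j <;> simp [Matrix.mul_apply, Fin.sum_univ_two, k, b0, c0, h11] <;> field_simp
      · ring
      · linear_combination 4 * hd + 4 * g.1 0 1 * c0
      · ring
      · linear_combination 4 * hd + 4 * g.1 0 1 * c0
    · refine ⟨gl2mk 0 (2 * g.1 0 1) 1 (-(2 * g.1 0 0 + 1)) (by simpa [h2] using b0), ?_⟩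
      rw [sg_eq_iff, map_one']
      ext i j; fin_cases i <;> fin_cases j <;> simp [Matrix.mul_apply, Fin.sum_univ_two, k, h11] <;> field_simp
      · ring
      · ring
      · linear_combination 4 * hd
  · refine ⟨gl2mk 1 (2 * g.1 0 0 + 1) 0 (2 * g.1 1 0) (by simpa [h2] using c0), ?_⟩
    rw [sg_eq_iff, map_one']
    ext i j; fin_cases i <;> fin_cases j <;> simp [Matrix.mul_apply, Fin.sum_univ_two, k, h11] <;> field_simp
    · ring
    · linear_combination 4 * hd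
    · ring

variable [Finite L]

theorem cent_T [Fintype F] (h : PS π ⊤) (h2 : (2 : F) ≠ 0) (hD : D ≠ 0) (hg : g ∈ Tt D) (hb : g.1 1 0 ≠ 0)
    (ha : g.1 0 0 ≠ 0) : C1[π g] = (Tt D).map π := by
  refine le_antisymm (fun y hc => ?_) ?_
  · obtain ⟨k, rfl⟩ := (h.rng y).1 trivial
    rw [mem_T h]
    have hc' := mem_cent1.1 hc
    rw [← map_mul, ← map_mul, h.eq_iff] at hc'
    rcases hc' with e | e
    · rw [sl2_eq_iff] at e
      simp only [sl2_mul, hg.1, hg.2] at e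
      constructor
      · apply mul_left_cancel₀ hb; linear_combination e.2.2.1
      · apply mul_left_cancel₀ hb; linear_combination e.1
    · have e' : k * g * k⁻¹ = -g := by rw [e]; simp
      have := tr_conj g k
      rw [e', neg_ap, neg_ap, hg.1] at this
      exact absurd (by linear_combination -this) (mul_ne_zero (mul_ne_zero h2 h2) ha)
  · rintro _ ⟨k, hk, rfl⟩
    rw [mem_cent1, ← map_mul, ← map_mul,
      isMulCommutative_iff_forall.1 (isMulCommutative_of_isCyclic (Tt_cyc h2 hD)) _ hk _ hg]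

theorem tr3 (h : PH π ⊤) {y : L} (hy : orderOf y = 3) : ∃ g, π g = y ∧ g ≠ 1 ∧ g.1 0 0 + g.1 1 1 = -1 := by
  obtain ⟨g, rfl, e⟩ : ∃ g, π g = y ∧ g ^ 3 = 1 := by
    obtain ⟨g, rfl⟩ := (h.rng y).1 trivial
    rcases (h.ker (g ^ 3)).1 (by rw [map_pow, ← hy, pow_orderOf_eq_one]) with e | e
    exacts [⟨g, rfl, e⟩, ⟨-g, h.neg g, by rw [Odd.neg_pow (by decide), e, neg_neg]⟩]
  have n : ¬ (g = 1 ∨ g = -1) := fun c => by rw [(h.ker g).2 c] at hy; simp at hy
  refine ⟨g, rfl, fun c => n (.inl c), by_contra fun c => n ?_⟩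
  have hd := sl2_det g
  replace c : g.1 0 0 + g.1 1 1 + 1 ≠ 0 := fun k => c (by linear_combination k)
  rw [pow_succ, sq, mul_eq_one_iff_eq_inv, sl2_eq_iff] at e
  simp only [sl2_mul, sl2_inv00, sl2_inv01, sl2_inv10, sl2_inv11] at e
  have b0 : g.1 0 1 = 0 := mul_left_cancel₀ c (by linear_combination e.2.1)
  have c0 : g.1 1 0 = 0 := mul_left_cancel₀ c (by linear_combination e.2.2.1)
  have d0 : g.1 1 1 = g.1 0 0 := mul_left_cancel₀ c (by linear_combination e.2.2.2 - e.1)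
  rw [b0, d0, zero_mul, sub_zero] at hd
  rcases mul_self_eq_one_iff.1 hd with a | a
  exacts [.inl (by apply sl2_ext <;> simp [*]), .inr (by apply sl2_ext <;> simp [*, neg_ap])]

theorem facts (h : L2o L) : ∃ Q : ℤ, Q % 8 = 5 ∧ Q ≠ -3 ∧ IsPrimePow Q.natAbs ∧
    2 * Nat.card L = Q.natAbs * (Q.natAbs ^ 2 - 1) ∧ ¬ 8 ∣ Nat.card L ∧ IsSimpleGroup L ∧ ¬ IsMulCommutative L ∧
    (∀ u : L, orderOf u = 2 → ∃ T, Dih C1[u] T ∧ u ∈ T ∧ 2 * Nat.card T = (Q - 1).natAbs ∧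
      ∀ y ∈ T, y * y ≠ 1 → N[zpowers y] ≤ C1[u]) ∧
    ∀ y : L, orderOf y = 3 → ¬ 3 ∣ (Q - 1).natAbs →
      Nat.card C1[y] = Q.natAbs ∨ 2 * Nat.card C1[y] = (Q + 1).natAbs := by
  obtain ⟨F, _, _, π, h8, h3, h, s⟩ := exists_ps h
  have hF : Odd (Fintype.card F) := Nat.odd_iff.2 (by omega)
  have h2 := two_ne_zero_of_odd_card hF
  obtain ⟨Q, q1, q2, q3⟩ : ∃ Q : ℤ, Q % 8 = 5 ∧ Q.natAbs = Fintype.card F ∧ (IsSquare (-1 : F) ↔ 0 < Q) := by
    rw [FiniteField.isSquare_neg_one_iff]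
    rcases h8 with e | e
    exacts [⟨-Fintype.card F, by omega, by simp, by omega⟩, ⟨Fintype.card F, by omega, by simp, by omega⟩]
  have cL : 2 * Nat.card L = Q.natAbs * (Q.natAbs ^ 2 - 1) := by
    have := card_T (D := 1) h h2
    have e : Nat.card ((⊤ : Subgroup SL(2, F)).map π) * Nat.card ↥(π.ker ⊓ ⊤) = _ := card_map_mul_card_inf_ker π ⊤
    rw [map_top_of_surjective _ fun y => (h.rng y).1 trivial, card_top, card_top, card_sl_two,
      show Nat.card ↥(π.ker ⊓ ⊤) = 2 from ?_] at e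
    · rw [q2, mul_comm, e, mul_assoc, mul_comm _ (_ + 1), ← Nat.sq_sub_sq]
    rw [Nat.card_eq_two_iff]
    refine ⟨1, ⟨-1, (h.ker _).2 (Or.inr rfl), mem_top _⟩, fun e => sl2_neg_one_ne_one h2 (congrArg Subtype.val e).symm, ?_⟩
    ext m
    simp only [Set.mem_insert_iff, Set.mem_singleton_iff, Set.mem_univ, iff_true, Subtype.ext_iff]
    exact (h.ker _).1 m.2.1
  refine ⟨Q, q1, by omega, q2 ▸ Fintype.isPrimePow_card_of_field, cL, fun ⟨c, e⟩ => ?_, s, not_comm h.toPH h2,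
    fun u hu => ?_, fun y hy n => ?_⟩
  · rw [e, q2] at cL
    obtain ⟨k, hk⟩ : ∃ k, Fintype.card F = 8 * k + 3 ∨ Fintype.card F = 8 * k + 5 := ⟨Fintype.card F / 8, by omega⟩
    rcases hk with hk | hk <;> rw [hk] at cL
    · rw [show (8 * k + 3) ^ 2 = 64 * k ^ 2 + 48 * k + 8 + 1 by ring, Nat.add_sub_cancel] at cL
      ring_nf at cL; omega
    · rw [show (8 * k + 5) ^ 2 = 64 * k ^ 2 + 80 * k + 24 + 1 by ring, Nat.add_sub_cancel] at cL
      ring_nf at cL; omega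
  · obtain ⟨g, rfl⟩ := (h.rng u).1 trivial
    obtain ⟨B, D, hD, a⟩ := exists_J h h2 (sq1 hu) (ne1 hu) (Act.of π g)
    have h' := h.comp B 1
    have cT := card_T (D := D) h' h2
    obtain ⟨c1, c2⟩ := Tt_card h2 hD
    refine ⟨_, top_inf_eq C1[π g] ▸ dihT hF h' a, z_mem_T h' h2 a trivial, ?_,
      fun y hy e => top_inf_eq N[zpowers y] ▸ (torY h' h2 a hy e).2⟩
    have hs := (a.of_mem h'.toPH h2 trivial).2
    rw [detJ] at hs
    by_cases e : IsSquare (-1 : F)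
    · have := c1 (by simpa using e.mul hs)
      have := q3.1 e
      omega
    · have := c2 (fun hd => e (by
        have := hs.mul hd.inv
        rwa [neg_mul, mul_inv_cancel₀ hD] at this))
      have := mt q3.2 e
      omega
  obtain ⟨g, rfl, g1, ht⟩ := tr3 h.toPH hy
  by_cases h3 : (3 : F) = 0
  · obtain ⟨B, rfl⟩ := conj_X (ht.trans (by linear_combination -h3)) g1
    have h' := (h.comp B 1).toPH
    have m : ∀ c, π.comp (sg B 1) (X c) ∈ C1[π (sg B 1 (X 1))] := fun c => mem_cent1.2 (by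
      rw [← MonoidHom.comp_apply π, ← map_mul, ← map_mul, ← X_add, ← X_add, add_comm])
    rw [q2, ← Nat.card_eq_fintype_card, Nat.card_eq_of_bijective (fun c => (⟨_, m c⟩ : C1[_]))
      ⟨fun a b e => h'.X_inj h2 (congrArg Subtype.val e), fun z => ?_⟩]
    · exact .inl rfl
    · obtain ⟨k, e⟩ := (h'.rng z).1 trivial
      exact (h'.cent_X h2 (g := k) (e ▸ mem_cent1.1 z.2)).imp fun c n => Subtype.ext (n.symm.trans e)
  · obtain ⟨B, k, k1, k2, k3, rfl⟩ := conj_Tt h2 h3 ht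
    have h' := h.comp B 1
    have e := cent_T h' h2 (neg_ne_zero.2 h3) k1 k2 k3
    have cT := card_T (D := -3) h' h2
    have d := hy ▸ orderOf_dvd_card_of_mem (self_mem_cent1 (π (sg B 1 k)))
    rw [← e, MonoidHom.comp_apply] at cT
    obtain ⟨c1, c2⟩ := Tt_card h2 (neg_ne_zero.2 h3)
    by_cases e : IsSquare (-3 : F)
    exacts [.inr (by have := c1 e; omega), .inr (by have := c2 e; omega)]

end Cfsg.Agent.WA.JS
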