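import Cfsg.Agent.WA.A1
import Cfsg.Agent.WA.JS1

/-! Simple sections `K / O` over subgroups `O` of odd order. -/

set_option autoImplicit false
set_option linter.unusedSectionVars false
set_option linter.unusedVariables false

namespace Cfsg.Agent.WA

open Cfsg Subgroup Cfsg.Agent.GT Cfsg.Agent.Cls Cfsg.Agent.GW Cfsg.Agent.Sig
open scoped commutatorElement

universe u

/-- facts on `L₂(2^a)`. -/
def RIG : Prop := ∀ (G : Type u) [Group G] [Finite G], L2e G →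
  (∀ z : G, orderOf z = 2 → IsPGroup 2 C1[z]) ∧
    ∀ z : G, orderOf z = 2 → ∀ φ : MulAut G, Odd (orderOf φ) → (∀ y ∈ C1[z], φ y = y) → φ = 1

variable {G : Type u} [Group G] [Finite G] {S H K L A D O N X Y P : Subgroup G}
  {a c g n x y z t : G}

theorem L2o.of_equiv {A B : Type u} [Group A] [Group B] (h : L2o A) (e : B ≃* A) : L2o B := by
  obtain ⟨F, _, _, h1, h2, ⟨e'⟩⟩ := h
  exact ⟨F, _, _, h1, h2, ⟨e.trans e'⟩⟩

theorem JR'.conj (h : JR' S t L D) (g : G) :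
    JR' (cj[g] S) (g * t * g⁻¹) (cj[g] L) (cj[g] D) := by
  refine ⟨conj_top g ▸ h.syl.conj g, by rw [card_conj, h.card], h.ab, h.el, ord2_conj h.ord g,
    conj_mem_conj.2 h.mem, conj_cent1 g t ▸ conj_mono g h.le,
    conj_cent1 g t ▸ conj_le_norm_conj_iff.2 h.norm, fun e => h.nmem (conj_mem_conj.1 e),
    h.l2.of_equiv (conjEquiv g L).symm, by rw [card_conj]; exact h.odd, ?_, ?_, ?_, ?_, ?_⟩
  · rw [← conj_centralizer, h.cS, conj_sup]
  · rw [← conj_cent1, h.cent, conj_sup, conj_sup, conj_zpowers]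
  · rw [← conj_centralizer, h.cL, conj_zpowers]
  · rw [← conj_inf, h.inf, conj_bot]
  · rw [← conj_normalizer, ← conj_centralizer]; exact conj_mono g h.nS

theorem not_solv [IsSimpleGroup K] (nc : ¬ IsMulCommutative K) : ¬ Group.IsSolvable K :=
  fun h => nc ⟨⟨IsSimpleGroup.comm_iff_isSolvable.2 h⟩⟩

theorem solv_sup (hH : Group.IsSolvable H) (hK : Group.IsSolvable K) (hn : K ≤ N[H]) :
    Group.IsSolvable ↥(H ⊔ K) := by
  obtain ⟨Q, _, _, f, -, hk⟩ := exists_quo' (H ⊔ K) H le_sup_left (sup_le le_normalizer hn)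
  refine solvable_of_im (f := f) le_rfl (by rwa [hk, inf_eq_right.2 le_sup_left]) ?_
  have := im_kr_sup (f := f) (H := K) le_sup_right
  rw [hk] at this
  rw [this]
  exact solvable_im hK

theorem solv_of_cyc (sK : IsPiHallOf {2} P K) (cy : IsCyclic P) : Group.IsSolvable K := by
  have h1 := cyclic_pdiv_normal_complement Nat.prime_two sK cy fun q hq _ => hq.two_le
  exact h1.1.sup_eq ▸ solv_sup (O_solv K)
    (solvable_of_isPGroup Nat.prime_two (syl_isPGroup Nat.prime_two sK)) (sK.le.trans h1.2)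

theorem aut_fix {φ : MulAut G} (ho : Odd (orderOf φ)) (h : φ (φ x) = x) : φ x = x := by
  obtain ⟨k, hk⟩ := ho
  have h1 : ∀ k : ℕ, (φ ^ (2 * k)) x = x := fun k => by
    induction k with
    | zero => simp
    | succ k ih => rw [mul_add, pow_add, MulAut.mul_apply, mul_one, sq, MulAut.mul_apply, h, ih]
  have := congrArg (fun ψ : MulAut G => ψ x) (pow_orderOf_eq_one φ)
  simp only [hk, MulAut.one_apply] at this
  rwa [pow_succ', MulAut.mul_apply, h1] at this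

theorem good_rig (rig : RIG.{u}) (h : Good G) (h8 : 8 ∣ Nat.card G) (hz : orderOf z = 2) :
    (∀ R : Subgroup G, Odd (Nat.card R) → R ≤ C1[z] → C1[z] ≤ N[R] → R = ⊥) ∧
      ∀ φ : MulAut G, Odd (orderOf φ) → (∀ y ∈ C1[z], φ y = y) → φ = 1 := by
  obtain ⟨t26, el, h | h | ⟨S, t, L, h⟩⟩ := h
  · obtain ⟨h1, h2⟩ := rig G h
    exact ⟨fun R o a _ => eq_bot_of_le_of_coprime le_rfl a (cop2' o (h1 z hz)), h2 z hz⟩
  · obtain ⟨Q, -, -, -, -, e, -⟩ := JS.facts h
    exact absurd h8 e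
  obtain ⟨g, -, rfl⟩ := el.one t (mem_top _) z (mem_top _) h.ord hz
  replace h := h.conj g
  generalize g * t * g⁻¹ = t at h hz
  generalize cj[g] S = S at h
  generalize cj[g] L = L at h
  rw [conj_bot] at h
  obtain ⟨Q, -, -, -, -, -, sim, nc, -⟩ := JS.facts h.l2
  refine ⟨fun R o a b => ?_, fun φ o hφ => ?_⟩
  · have h1 : R ⊓ L = ⊥ := (sub_simple nc inf_le_right (le_norm_inf (h.le.trans b)
      le_normalizer)).resolve_right fun e => not_solv nc (solv_odd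
        (e ▸ odd_card_of_le o inf_le_left))
    have h2 := le_cent_of_norm_of_inf_eq_bot (a.trans h.norm) (h.le.trans b) h1
    rw [h.cL] at h2
    exact eq_bot_of_le_of_coprime le_rfl h2 (cop2 o hz)
  have SC : S ≤ C1[t] := h.ab.c1 h.syl h.mem
  have Ssq : ∀ s ∈ S, s * s = 1 := fun s hs => el.sq s (mem_top _)
    ((syl_isPGroup Nat.prime_two h.syl).to_le (zpowers_le.2 hs))
  set F : Subgroup G := φ.toMonoidHom.eqLocus (MonoidHom.id G) with hF
  have mF : ∀ y, y ∈ F ↔ φ y = y := fun y => Iff.rfl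
  have nF : N[S] ≤ F := fun n hn => by
    have h1 : n⁻¹ * φ n ∈ S := by
      have : n⁻¹ * φ n ∈ C[S] := fun s hs => by
        have e := hφ _ (SC (conj_mem_of_mem_norm hn hs))
        rw [map_mul, map_mul, hφ s (SC hs), map_inv] at e
        calc s * (n⁻¹ * φ n) = n⁻¹ * (n * s * n⁻¹) * φ n := by group
          _ = n⁻¹ * φ n * s := by rw [← e]; group
      rwa [h.cS, sup_bot_eq] at this
    refine (mF n).2 (aut_fix o ?_)
    rw [show φ n = n * (n⁻¹ * φ n) by group, map_mul, hφ _ (SC h1),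
      show φ n * (n⁻¹ * φ n) = n * (n⁻¹ * φ n * (n⁻¹ * φ n)) by group, Ssq _ h1, mul_one]
  by_cases e : F = ⊤
  · exact MulEquiv.ext fun y => (mF y).1 (e ▸ mem_top y)
  exfalso
  have cF : C1[t] ≤ F := fun y hy => (mF y).2 (hφ y hy)
  have h1 := t26 t (mem_top _) hz F le_top e (inf_le_right.trans cF)
  have h2 : S ≤ piCoreOf {2} F := fun s hs => by
    by_cases s1 : s = 1
    · exact s1 ▸ one_mem _
    obtain ⟨g, -, e⟩ := el.one t (mem_top _) s (mem_top _) hz (ord2 (Ssq s hs) s1)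
    obtain ⟨n, hn, e2⟩ := burn1 h.ab h.syl h.mem (mem_top g) (e ▸ hs)
    rw [← e, ← e2]
    exact conj_mem_of_le_norm (self_le_norm_piCoreOf _ _) (nF hn.2) h1
  have h3 := piCoreOf_isPGroup Nat.prime_two F
  have h4 : piCoreOf {2} F = S := syl_eq_of_le Nat.prime_two h.syl h3 le_top h2
  have h5 : L ≤ N[S] := h4 ▸ (h.le.trans cF).trans (self_le_norm_piCoreOf _ _)
  obtain ⟨w, hw, w2⟩ := exists_inv (H := L) (Nat.not_odd_iff_even.1 fun o =>
    not_solv nc (solv_odd o))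
  have h6 : w ∈ S := le_syl_of_le_norm Nat.prime_two h.syl (pg2 w2) le_top
    ((zpowers_le.2 hw).trans h5) (mem_zpowers w)
  rcases sub_simple nc (N := S ⊓ L) inf_le_right (le_norm_inf h5 le_normalizer) with k | k
  · exact ne1 w2 (mem_bot.1 (k ▸ (⟨h6, hw⟩ : w ∈ S ⊓ L)))
  · exact nc (comm_iff_le_cent.2 (k.ge.trans (inf_le_left.trans (h.ab.cent h.syl
      (k.ge.trans inf_le_left)))))

theorem rig_sub (rig : RIG.{u}) [K.Normal] (h : Good K) (h8 : 8 ∣ Nat.card K) (hK : z ∈ K)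
    (hz : orderOf z = 2) (oD : Odd (Nat.card D)) (h1 : D ≤ C1[z]) (h2 : K ⊓ C1[z] ≤ N[D]) :
    D ≤ C[K] := by
  obtain ⟨a1, a2⟩ := good_rig rig h h8 (z := ⟨z, hK⟩) (by rw [← orderOf_coe]; exact hz)
  have m : ∀ y : K, y ∈ C1[(⟨z, hK⟩ : K)] ↔ (y : G) ∈ C1[z] := fun y => by
    rw [mem_cent1, mem_cent1, Subtype.ext_iff]; rfl
  have b1 : (D ⊓ K).subgroupOf K = ⊥ := a1 _ (by
    rw [card_subgroupOf inf_le_right]; exact odd_card_of_le oD inf_le_left)
    (fun y hy => (m y).2 (h1 hy.1)) (le_norm_iff.2 fun y hy w hw =>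
      ⟨conj_mem_of_le_norm h2 ⟨y.2, (m y).1 hy⟩ hw.1, (y * w * y⁻¹).2⟩)
  have b2 : D ⊓ (K ⊓ C1[z]) = ⊥ := eq_bot_iff.2 (by
    rw [← disjoint_iff.1 (subgroupOf_eq_bot.1 b1)]
    exact le_inf (inf_le_inf_left _ inf_le_left) (inf_le_right.trans inf_le_left))
  have b3 := le_cent_of_norm_of_inf_eq_bot (le_norm_inf le_norm_of_normal (le_norm_cent1 h1)) h2 b2
  intro d hd k hk
  have := a2 (MulAut.conjNormal d) ((odd_ord oD hd).of_dvd_nat (orderOf_map_dvd _ d))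
    fun y hy => Subtype.ext (by
      rw [MulAut.conjNormal_apply, ← b3 hd y ⟨y.2, (m y).1 hy⟩, mul_inv_cancel_right])
  have e := congrArg (fun ψ : MulAut K => (ψ ⟨k, hk⟩ : G)) this
  simp only [MulAut.conjNormal_apply, MulAut.one_apply] at e
  exact (mul_inv_eq_iff_eq_mul.1 e).symm

theorem simple_of_sub (h1 : K ≠ ⊥) (h : ∀ N, N ≤ K → K ≤ N[N] → N = ⊥ ∨ N = K) :
    IsSimpleGroup K := by
  have := (nontrivial_iff_ne_bot K).2 h1
  refine ⟨fun N hN => (h _ (map_subtype_le N) (le_norm_map_subtype_iff.2 hN)).imp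
    (map_eq_bot_inj K.subtype_injective).1 (map_subtype_eq_iff_top N).1⟩

theorem norm_cmod (h1 : A ≤ N[O]) (h2 : A ≤ N[K]) : A ≤ N[cmod O K] :=
  le_norm_iff.2 fun a ha g hg => ⟨mul_mem (mul_mem (h1 ha) hg.1) (inv_mem (h1 ha)), fun x hx => by
    rw [show ⁅a * g * a⁻¹, x⁆ = a * ⁅g, a⁻¹ * x * a⁆ * a⁻¹ by
      simp only [commutatorElement_def]; group]
    exact conj_mem_of_le_norm h1 ha (hg.2 _ (conj_mem_of_le_norm' h2 ha hx))⟩

theorem conj_cmod (g : G) : cj[g] (cmod O K) = cmod (cj[g] O) (cj[g] K) := by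
  ext x
  rw [mem_conj]
  refine and_congr (by rw [← conj_normalizer, mem_conj]) ⟨fun h y hy => ?_, fun h y hy => ?_⟩
  · have := h _ (mem_conj.1 hy)
    rw [mem_conj]
    rwa [show g⁻¹ * ⁅x, y⁆ * g = ⁅g⁻¹ * x * g, g⁻¹ * y * g⁆ by
      simp only [commutatorElement_def]; group]
  · have := mem_conj.1 (h _ (conj_mem_conj.2 hy))
    rwa [show g⁻¹ * ⁅x, g * y * g⁻¹⁆ * g = ⁅g⁻¹ * x * g, y⁆ by
      simp only [commutatorElement_def]; group] at this

theorem cent_le_cmod (h : A ≤ N[O]) (hc : A ≤ C[K]) : A ≤ cmod O K :=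
  le_cmod h (by rw [le_cent_iff_commutator_eq_bot.1 hc]; exact bot_le)

/-- `K / O` is simple and non-abelian, `O` has odd order. -/
structure Sc (O K : Subgroup G) : Prop where
  le : O ≤ K
  nO : K ≤ N[O]
  odd : Odd (Nat.card O)
  ns : ¬ Group.IsSolvable K
  sim : ∀ N, O ≤ N → N ≤ K → K ≤ N[N] → N = O ∨ N = K

/-- the automorphisms induced on `K / O`. -/
structure Qd (O K : Subgroup G) {Q : Type u} [Group Q] (f : ↥(N[K] ⊓ N[O]) →* Q) : Prop where
  surj : Function.Surjective f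
  ker : kr f = (N[K] ⊓ N[O]) ⊓ cmod O K
  ab : AB Q
  nrm : (im f K).Normal
  simple : IsSimpleGroup (im f K)
  nc : ¬ IsMulCommutative (im f K)
  cent : C[im f K] = ⊥
  good : Good (im f K)

/-- what the induction gives. -/
structure KR (G : Type u) [Group G] : Prop where
  ab : AB G
  ih : IH.{u} (Nat.card G)
  rig : RIG.{u}

namespace Sc

theorem O_le (h : Sc O K) : O ≤ cmod O K :=
  le_cmod le_normalizer (commutator_le_of_le_norm_left h.nO)

theorem inf (h : Sc O K) : K ⊓ cmod O K = O :=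
  (h.sim _ (le_inf h.le h.O_le) inf_le_left (le_norm_inf le_normalizer
    (norm_cmod h.nO le_normalizer))).resolve_right fun e => h.ns (solv_of_der (solv_of_le
      (solv_odd h.odd) (comm_le_of_le_cmod (e.ge.trans inf_le_right))))

theorem eq1 (h : Sc O K) (hp : IsPGroup 2 (zpowers x)) (h1 : x ∈ K) (h2 : x ∈ cmod O K) : x = 1 :=
  zpowers_eq_bot.1 (eq_bot_of_le_of_coprime (zpowers_le.2 (h.inf ▸ (⟨h1, h2⟩ : x ∈ K ⊓ _))) le_rfl
    (cop2' h.odd hp))

theorem le_sup (h : Sc O K) (h1 : N ≤ K) (h2 : K ≤ N[N ⊔ O]) (hx : x ∈ N) (x2 : orderOf x = 2) :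
    K ≤ N ⊔ O :=
  ((h.sim _ le_sup_right (sup_le h1 h.le) h2).resolve_left fun e => ne1 x2 (h.eq1 (pg2 x2) (h1 hx)
    (h.O_le (e ▸ mem_sup_left hx)))).ge

theorem conj (h : Sc O K) (g : G) : Sc (cj[g] O) (cj[g] K) :=
  ⟨conj_mono g h.le, conj_le_norm_conj_iff.2 h.nO, by rw [card_conj]; exact h.odd,
    fun e => h.ns (isSolvable_conj_iff.1 e), fun N a b c =>
      (h.sim (cj[g⁻¹] N) (conj_le_iff.1 a) (le_conj_iff.1 b) (by
        rw [← conj_normalizer]; exact conj_le_iff.1 c)).imp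
        (fun e => by rw [← e, conj_inv_conj]) (fun e => by rw [← e, conj_inv_conj])⟩

theorem dom (h : Sc O K) : K ≤ N[K] ⊓ N[O] := le_inf le_normalizer h.nO

theorem cov (h : Sc O K) (hA : IsPGroup 2 A) (n : A ≤ N[K]) (c : A ≤ cmod O K) :
    K ≤ O ⊔ (K ⊓ C[A]) :=
  (coprime_sup_cent_of_commutator_le (.inl (solv_odd h.odd)) (fun _ ha => (c ha).1)
    (cop2' h.odd hA) h.le ((commutator_comm _ _).le.trans (comm_le_of_le_cmod c))).ge

theorem cov1 (h : Sc O K) (a2 : orderOf a = 2) (n : a ∈ N[K]) (c : a ∈ cmod O K) :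
    K ≤ O ⊔ (K ⊓ C1[a]) :=
  cent_zpowers a ▸ h.cov (pg2 a2) (zp_norm n) (zpowers_le.2 c)

theorem quo (k : KR G) (h : Sc O K) (hK : K ≠ ⊤) :
    ∃ (Q : Type u) (_ : Group Q) (_ : Finite Q) (f : ↥(N[K] ⊓ N[O]) →* Q), Qd O K f := by
  obtain ⟨Q, _, _, f, hf, hk⟩ := exists_quo' (N[K] ⊓ N[O]) ((N[K] ⊓ N[O]) ⊓ cmod O K) inf_le_left
    (le_norm_inf le_normalizer (norm_cmod inf_le_right inf_le_left))
  have ki : K ⊓ kr f = O := by rw [hk, ← inf_assoc, inf_eq_left.2 h.dom, h.inf]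
  have ns : ¬ Group.IsSolvable (im f K) := fun e =>
    h.ns (solvable_of_im h.dom (by rw [ki]; exact solv_odd h.odd) e)
  have nc : ¬ IsMulCommutative (im f K) := fun e => ns (solvable_of_comm e)
  have sim : IsSimpleGroup (im f K) := simple_of_sub (fun e => ns (e ▸ inferInstance))
    fun N a b => (h.sim (K ⊓ pre f N) (le_inf h.le (ki.ge.trans (inf_le_right.trans kr_le_pre)))
      inf_le_left (le_norm_inf le_normalizer (le_norm_pre h.dom b))).imp (fun e => by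
        rw [← inf_eq_right.2 a, ← im_inf_pre, e]
        exact im_eq_bot_of_le (ki.ge.trans inf_le_right))
      fun e => by rw [← inf_eq_right.2 a, ← im_inf_pre, e]
  have ab := k.ab.of_surj hf
  refine ⟨Q, _, ‹_›, f, hf, hk, ab, normal_iff_top_le_norm.2
    (im_dom_of_surj hf ▸ im_norm inf_le_left), sim, nc, ?_, k.ih _ nc (ab.sub _)
      ((Nat.le_of_dvd (card_pos' K) card_im_dvd).trans_lt (card_lt_of_ne_top hK))⟩
  rw [← im_pre_of_surj hf (X := C[im f K]), im_eq_bot_iff pre_le, hk]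
  have pl : pre f C[im f K] ≤ N[K] ⊓ N[O] := pre_le
  refine le_inf pl (le_cmod (pl.trans inf_le_right) (ki.le.trans' (le_inf
    (commutator_le_of_le_norm_right (pl.trans inf_le_left)) ?_)))
  rw [← im_le_cent_iff pre_le h.dom]
  exact im_pre_le

variable {Q : Type u} [Group Q] [Finite Q] {f : ↥(N[K] ⊓ N[O]) →* Q}

theorem ki (h : Sc O K) (q : Qd O K f) : K ⊓ kr f = O := by
  rw [q.ker, ← inf_assoc, inf_eq_left.2 h.dom, h.inf]

theorem mem_ker (q : Qd O K f) (hx : x ∈ N[K] ⊓ N[O]) : f ⟨x, hx⟩ = 1 ↔ x ∈ cmod O K := by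
  rw [← mem_kr' hx, q.ker]
  exact ⟨fun e => e.2, fun e => ⟨hx, e⟩⟩

theorem S_le (h : Sc O K) (q : Qd O K f) (ab : AB G) (hS : IsPiHallOf {2} S ⊤)
    (hd : S ≤ N[K] ⊓ N[O]) : im f S ≤ im f K := by
  have := q.nrm
  have := q.simple
  have h1 : IsPiHallOf {2} (im f S) ⊤ :=
    im_dom_of_surj q.surj ▸ (hS.of_le hd le_top).im le_rfl
  have hO : O[(⊤ : Subgroup Q)] = ⊥ := by
    have a1 : O[(⊤ : Subgroup Q)] ⊓ im f K = ⊥ := (sub_simple q.nc inf_le_right (le_norm_inf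
      (le_top.trans (O_norm _)) le_normalizer)).resolve_right fun e => not_solv q.nc (solv_odd
        (e ▸ odd_card_of_le (O_odd _) inf_le_left))
    exact eq_bot_iff.2 (q.cent ▸ le_cent_of_norm_of_inf_eq_bot le_norm_of_normal
      (le_top.trans (O_norm _)) a1)
  have h2 : IsPiHallOf {2} (im f S) (im f K ⊔ im f S) := h1.of_le le_sup_right le_top
  refine (WA.cov q.ab h2 le_rfl le_rfl inf_le_right).trans (sup_le ?_ ?_)
  · rw [commutator_comm]
    refine (commutator_mono inf_le_left le_rfl).trans (comm_sup_le le_normalizer le_norm_of_normal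
      (commutator_le_of_le_norm_left le_norm_of_normal) ?_)
    rw [le_cent_iff_commutator_eq_bot.1 (q.ab.syl h1)]
    exact bot_le
  by_contra hn
  obtain ⟨z, hz, z2⟩ := exists_inv_of_le h1 inf_le_left fun e => hn (e.le.trans bot_le)
  -- work in `K S`
  set T := im f K ⊔ im f S with hT
  have zT : z ∈ T := mem_sup_right hz.1
  have h3 : IsPiHallOf {2} ((im f S).subgroupOf T) ⊤ :=
    isPiHallOf_top_iff.2 ((isPiHallOf_iff_subgroupOf le_sup_right).1 h2)
  have h4 : O[(⊤ : Subgroup T)] = ⊥ := by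
    rw [← map_eq_bot_inj T.subtype_injective, piCoreOf_map T.subtype_injective, map_subtype_top]
    have a1 : O[T] ⊓ im f K = ⊥ := (sub_simple q.nc inf_le_right (le_norm_inf
      (le_sup_left.trans (O_norm _)) le_normalizer)).resolve_right fun e => not_solv q.nc (solv_odd
        (e ▸ odd_card_of_le (O_odd _) inf_le_left))
    exact eq_bot_iff.2 (q.cent ▸ le_cent_of_norm_of_inf_eq_bot le_norm_of_normal
      (le_sup_left.trans (O_norm _)) a1)
  have h5 := fix_cent (q.ab.sub T) h3 h4 (z := ⟨z, zT⟩) hz.1 (Subtype.ext (sq1 z2)) fun n hn => by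
    rw [← subgroupOf_norm le_sup_right] at hn
    exact mem_cent1.2 (Subtype.ext (hz.2 n ⟨n.2, hn⟩))
  have : z ∈ C[im f K] := fun y hy =>
    congrArg Subtype.val (mem_cent1.1 (h5 (mem_top (⟨y, mem_sup_left hy⟩ : T))))
  rw [q.cent] at this
  exact ne1 z2 this

theorem sup (k : KR G) (hS : IsPiHallOf {2} S ⊤) (h : Sc O K) (hK : K ≠ ⊤) (nK : S ≤ N[K])
    (nO : S ≤ N[O]) : S ≤ (S ⊓ K) ⊔ (S ⊓ cmod O K) := by
  obtain ⟨Q, _, _, f, q⟩ := h.quo k hK
  have hd := le_inf nK nO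
  have sK : IsPiHallOf {2} (S ⊓ K) K :=
    (hS.of_le le_sup_left le_top : IsPiHallOf {2} S (S ⊔ K)).inf_of_norm le_sup_right (.inl nK)
  have h1 : im f S = im f (S ⊓ K) := syl_eq_of_le Nat.prime_two (sK.im h.dom)
    (isPGroup_im (syl_isPGroup Nat.prime_two hS)) (h.S_le q k.ab hS hd) (im_mono inf_le_left)
  intro s hs
  obtain ⟨u, hu', hu, e⟩ := mem_im.1 (h1 ▸ mem_im_of_mem (f := f) (hd hs) hs)
  have : u⁻¹ * s ∈ cmod O K := (mem_ker q (mul_mem (inv_mem hu') (hd hs))).1 (by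
    rw [← inv_mul_eq_one, ← map_inv, ← map_mul] at e
    exact e)
  rw [show s = u * (u⁻¹ * s) by group]
  exact mul_mem_sup hu (mem_inf.2 ⟨mul_mem (inv_mem (mem_inf.1 hu).1) hs, this⟩)

theorem el (k : KR G) (h : Sc O K) (hK : K ≠ ⊤) : El K := by
  obtain ⟨Q, _, _, f, q⟩ := h.quo k hK
  have el := q.good.2.1
  refine ⟨fun x hx p => ?_, fun z hz w hw z2 w2 => ?_⟩
  · have := el.sq ⟨_, mem_im_of_mem (h.dom hx) hx⟩ (mem_top _) (by
      have : IsPGroup 2 (zpowers (f ⟨x, h.dom hx⟩)) := by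
        rw [← im_zpowers (h.dom hx)]; exact isPGroup_im p
      rw [← isPGroup_map_iff (im f K).subtype_injective, MonoidHom.map_zpowers]
      exact this)
    refine h.eq1 (p.to_le (zpowers_le.2 (mul_mem (mem_zpowers x) (mem_zpowers x))))
      (mul_mem hx hx) ((mem_ker q (mul_mem (h.dom hx) (h.dom hx))).1 ?_)
    exact (map_mul f ⟨x, h.dom hx⟩ ⟨x, h.dom hx⟩).trans (congrArg Subtype.val this)
  have o2 : ∀ {z : G} (hz : z ∈ K), orderOf z = 2 →
      orderOf (⟨_, mem_im_of_mem (f := f) (h.dom hz) hz⟩ : im f K) = 2 := fun {z} hz z2 =>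
    ord2 (Subtype.ext ((map_mul f ⟨z, h.dom hz⟩ ⟨z, h.dom hz⟩).symm.trans (by
      exact (congrArg f (Subtype.ext (sq1 z2))).trans (map_one f)))) fun e =>
      ne1 z2 (h.eq1 (pg2 z2) hz ((mem_ker q _).1 (congrArg Subtype.val e)))
  obtain ⟨⟨g', hg'⟩, -, e⟩ := el.one _ (mem_top _) _ (mem_top _) (o2 hz z2) (o2 hw w2)
  obtain ⟨g, hgd, hg, rfl⟩ := mem_im.1 hg'
  have m : g * z * g⁻¹ * w⁻¹ ∈ K := mul_mem (mul_mem (mul_mem hg hz) (inv_mem hg)) (inv_mem hw)
  have e1 : g * z * g⁻¹ * w⁻¹ ∈ O := h.inf ▸ ⟨m, (mem_ker q (h.dom m)).1 (by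
    have := congrArg Subtype.val e
    rw [← mul_inv_eq_one] at this
    simp only [Subgroup.coe_mul, Subgroup.coe_inv, ← map_mul, ← map_inv] at this
    exact this)⟩
  have s1 : IsPiHallOf {2} (zpowers w) (O ⊔ zpowers w) := isPiHallOf_sup_right
    (π := {2}) (.inr (zp_norm (h.nO hw))) (odd_iff_pi.2 h.odd)
    (isPi_of_isPGroup Nat.prime_two (pg2 w2))
  obtain ⟨c, hc, e2⟩ := syl_exists_conj_le Nat.prime_two s1 (pg2 (ord2_conj z2 g)) (zpowers_le.2 (by
    rw [show g * z * g⁻¹ = g * z * g⁻¹ * w⁻¹ * w by group]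
    exact mul_mem_sup e1 (mem_zpowers w)))
  rw [conj_zpowers, zpowers_le] at e2
  refine ⟨c * g, mul_mem (sup_le h.le (zpowers_le.2 hw) hc) hg, ?_⟩
  rw [show c * g * z * (c * g)⁻¹ = c * (g * z * g⁻¹) * c⁻¹ by group]
  exact eq_of_sq_of_isCyclic inferInstance e2 (mem_zpowers w) (sq1 (ord2_conj (ord2_conj z2 g) c))
    (sq1 w2) (ne1 (ord2_conj (ord2_conj z2 g) c)) (ne1 w2)

theorem syl (hS : IsPiHallOf {2} S ⊤) (nK : S ≤ N[K]) : IsPiHallOf {2} (S ⊓ K) K :=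
  (hS.of_le le_sup_left le_top : IsPiHallOf {2} S (S ⊔ K)).inf_of_norm le_sup_right (.inl nK)

theorem fam (k : KR G) (hS : IsPiHallOf {2} S ⊤) (h : Sc O K) (hK : K ≠ ⊤) (nK : S ≤ N[K])
    (nO : S ≤ N[O]) : Fam S (S ⊓ K) (S ⊓ cmod O K) (K ⊓ N[S]) := by
  have pS := syl_isPGroup Nat.prime_two hS
  have el := h.el k hK
  have sq : ∀ u ∈ S ⊓ K, u * u = 1 := fun u hu => el.sq u hu.2 (pS.to_le (zpowers_le.2 hu.1))
  have sK := syl hS nK
  refine ⟨k.ab, hS, inf_le_left, inf_le_left, eq_bot_iff.2 fun x hx =>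
    h.eq1 (pS.to_le (zpowers_le.2 hx.1.1)) hx.1.2 hx.2.2, h.sup k hS hK nK nO, inf_le_right,
    le_norm_inf inf_le_right (le_norm_self inf_le_left), ?_, sq, ?_, fun u hu v hv u1 v1 => ?_⟩
  · rw [le_cent_iff_commutator_eq_bot']
    refine eq_bot_of_le_of_coprime ((commutator_mono inf_le_right inf_le_left).trans
      (comm_le_of_le_cmod le_rfl)) ((commutator_mono inf_le_left inf_le_right).trans
      (commutator_le_of_le_norm_left le_rfl)) (cop2' h.odd pS)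
  · by_contra hc
    push Not at hc
    obtain ⟨u, hu, u2⟩ := exists_inv_of_le sK le_rfl ((syl_ne_bot_iff Nat.prime_two sK).2
      (even_iff_two_dvd.1 (Nat.not_odd_iff_even.1 fun o => h.ns (solv_odd o))))
    have cy : IsCyclic ↥(S ⊓ K) := isCyclic_of_le (K := zpowers u) inferInstance fun v hv => by
      by_cases v1 : v = 1
      · exact v1 ▸ one_mem _
      · exact hc u hu v hv (ne1 u2) v1 ▸ mem_zpowers u
    exact h.ns (solv_of_cyc sK cy)
  · obtain ⟨g, hg, e⟩ := el.one u hu.2 v hv.2 (ord2 (sq u hu) u1) (ord2 (sq v hv) v1)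
    obtain ⟨n, hn, e2⟩ := burn1 k.ab (hS.of_le le_sup_right le_top : IsPiHallOf {2} S (K ⊔ S)) hu.1
      (mem_sup_left hg) (e ▸ hv.1)
    obtain ⟨a, ha, s, hs, rfl⟩ := (mem_sup_of_le_norm' nK).1 hn.1
    refine ⟨a, ⟨ha, (Subgroup.mul_mem_cancel_right _ (le_normalizer hs)).1 hn.2⟩, ?_⟩
    rw [← e, ← e2, show a * s * u * (a * s)⁻¹ = a * (s * u) * s⁻¹ * a⁻¹ by group,
      k.ab.comm hS hs hu.1]
    group

/-- odd-order subgroups normalized by `C_K(a)` act trivially unless `|S ∩ K| = 4`. -/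
theorem c4 (k : KR G) (hS : IsPiHallOf {2} S ⊤) (h : Sc O K) (hK : K ≠ ⊤) (nK : S ≤ N[K])
    (nO : S ≤ N[O]) (ha : a ∈ S) (a2 : orderOf a = 2) (oD : Odd (Nat.card D)) (h1 : D ≤ C1[a])
    (h2 : D ≤ N[K]) (h3 : D ≤ N[O]) (h4 : K ⊓ C1[a] ≤ N[D])
    (h5 : a ∈ cmod O K ∨ Nat.card ↥(S ⊓ K) ≠ 4) : D ≤ cmod O K := by
  obtain ⟨Q, _, _, f, q⟩ := h.quo k hK
  have := q.nrm
  have := q.simple
  have hd := le_inf nK nO
  have dd := le_inf h2 h3
  have e : im f (K ⊓ C1[a]) = im f K ⊓ C1[f ⟨a, hd ha⟩] :=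
    im_inf_cent1_of_coprime h.dom (hd ha) (nK ha) (by
      rw [h.ki q, a2]; exact Nat.coprime_two_right.2 h.odd)
  have n1 : im f K ⊓ C1[f ⟨a, hd ha⟩] ≤ N[im f D] := e ▸ im_norm h4
  suffices im f D ≤ C[im f K] by
    rw [q.cent, le_bot_iff, im_eq_bot_iff dd, q.ker] at this
    exact this.trans inf_le_right
  by_cases ac : a ∈ cmod O K
  · rw [(mem_ker q _).2 ac, cent1_one, inf_top_eq] at n1
    refine le_cent_of_norm_of_inf_eq_bot le_norm_of_normal n1 ((sub_simple q.nc inf_le_right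
      (le_norm_inf n1 le_normalizer)).resolve_right fun e => not_solv q.nc (solv_odd
        (e ▸ odd_card_of_le (odd_im oD) inf_le_left)))
  have F := h.fam k hS hK nK nO
  refine rig_sub k.rig q.good ?_ (h.S_le q k.ab hS hd (mem_im_of_mem _ ha)) (ord2 (by
    rw [← map_mul, ← map_one f]; exact congrArg f (Subtype.ext (sq1 a2)))
    fun e => ac ((mem_ker q _).1 e)) (odd_im oD) (by
      rw [← cent_zpowers, ← im_zpowers (hd ha)]; exact im_cent (cent_zpowers a ▸ h1)) n1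
  have c1 : Nat.card (im f (S ⊓ K)) = Nat.card ↥(S ⊓ K) :=
    card_im_of_inf_eq_bot (inf_le_left.trans hd) (eq_bot_iff.2 (F.inf ▸ le_inf inf_le_left (le_inf
      (inf_le_left.trans inf_le_left) (inf_le_right.trans (q.ker.le.trans inf_le_right)))))
  refine Dvd.dvd.trans ?_ (card_dvd_of_le (im_mono (f := f) (inf_le_right (a := S))))
  rw [c1]
  have := Fact.mk Nat.prime_two
  obtain ⟨m, hm⟩ := IsPGroup.iff_card.1 ((syl_isPGroup Nat.prime_two hS).to_le
    (inf_le_left (b := K)))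
  have c2 := F.four_le
  have c3 := h5.resolve_left ac
  rw [hm] at c2 c3 ⊢
  refine pow_dvd_pow 2 (show 3 ≤ m from ?_)
  by_contra hm
  have : m ≤ 2 := by omega
  interval_cases m <;> simp at c2 c3

end Sc

end Cfsg.Agent.WA
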