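import Cfsg.Agent.WA.B1A
import Cfsg.Agent.WA.JS1
import Cfsg.Agent.LY.Col

/-! Walter's theorem: involution centralizers in the known groups. -/

set_option autoImplicit false
set_option linter.unusedSectionVars false

namespace Cfsg.Agent.WA

open Cfsg Subgroup Cfsg.Agent.GT Cfsg.Agent.Cls Cfsg.Agent.GW Cfsg.Agent.LY
open scoped MatrixGroups

universe u

variable {G : Type u} [Group G]

theorem eight_dvd [Finite G] {d e b : G} (hd : orderOf d = 2) (he : orderOf e = 2) (hb : orderOf b = 2) (ne : e ≠ d)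
    (c1 : e * d = d * e) (c2 : b * d = d * b) (c3 : b * e = e * b) (n1 : b ≠ d) (n2 : b ≠ e) (n3 : b ≠ d * e) :
    8 ∣ Nat.card G := by
  have sq : ∀ {x : G}, orderOf x = 2 → x ^ 2 = 1 := fun h => h ▸ pow_orderOf_eq_one _
  have ne1 : ∀ {x : G}, orderOf x = 2 → x ≠ 1 := fun h e => by simp [e] at h
  have inv : ∀ {x y : G}, orderOf y = 2 → x * y = 1 → y = x := fun h e =>
    mul_right_cancel (((pow_two _).symm.trans (sq h)).trans e.symm)
  let f := ((cyc d (sq hd)).noncommCoprod (cyc e (sq he)) fun _ _ => (show Commute d e from c1.symm).pow_pow _ _)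
  let g := f.noncommCoprod (cyc b (sq hb)) fun _ _ => (((show Commute d b from c2.symm).pow_left _).mul_left
    ((show Commute e b from c3.symm).pow_left _)).pow_right _
  have : Function.Injective g := (injective_iff_map_eq_one g).2 fun ⟨⟨i, j⟩, k⟩ h => by
    induction i using Multiplicative.rec; induction j using Multiplicative.rec; induction k using Multiplicative.rec
    rename_i i j k
    fin_cases i <;> fin_cases j <;> fin_cases k <;> simp [g, f, cyc] at h ⊢
    exacts [ne1 hb h, ne1 he h, n2 (inv hb h), ne1 hd h, n1 (inv hb h), ne (inv he h), n3 (inv hb h)]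
  simpa using card_dvd_of_injective g this

theorem sl2_two {F : Type} [Field F] (h2 : (2 : F) = 0) {z y : SL(2, F)} (zz : z * z = 1) (z1 : z ≠ 1)
    (c : y * z = z * y) : y * y = 1 := by
  have e := fun (i j : Fin 2) => congrArg (fun m : SL(2, F) => m.1 i j) zz
  have k := fun (i j : Fin 2) => congrArg (fun m : SL(2, F) => m.1 i j) c
  have e00 := e 0 0; have e11 := e 1 1
  have k01 := k 0 1; have k10 := k 1 0
  have dz := z.2; have dy := y.2
  rw [Matrix.det_fin_two] at dz dy
  simp [Matrix.mul_apply, Fin.sum_univ_two] at e00 e11 k01 k10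
  have ad : z.1 0 0 = z.1 1 1 := by
    have : (z.1 0 0 - z.1 1 1) ^ 2 = 0 := by
      linear_combination e00 + e11 - 2 * dz + (- 2 * z.1 0 1 * z.1 1 0) * h2
    exact sub_eq_zero.1 (pow_eq_zero_iff two_ne_zero |>.1 this)
  have ps : y.1 0 0 = y.1 1 1 := by_contra fun n => z1 (by
    have n' := sub_ne_zero.2 n
    have b0 : z.1 0 1 = 0 := (mul_eq_zero.1 (by linear_combination k01 + y.1 0 1 * ad :
      (y.1 0 0 - y.1 1 1) * z.1 0 1 = 0)).resolve_left n'
    have c0 : z.1 1 0 = 0 := (mul_eq_zero.1 (by linear_combination -k10 + y.1 1 0 * ad :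
      (y.1 0 0 - y.1 1 1) * z.1 1 0 = 0)).resolve_left n'
    have a1 : z.1 0 0 = 1 := by
      have : (z.1 0 0 - 1) ^ 2 = 0 := by linear_combination e00 - z.1 1 0 * b0 + (1 - z.1 0 0) * h2
      exact sub_eq_zero.1 (pow_eq_zero_iff two_ne_zero |>.1 this)
    ext i j
    fin_cases i <;> fin_cases j <;> simp [b0, c0, a1, ← ad])
  ext i j
  fin_cases i <;> fin_cases j <;> simp [Matrix.mul_apply, Fin.sum_univ_two]
  · linear_combination dy + y.1 0 0 * ps + y.1 0 1 * y.1 1 0 * h2
  · linear_combination y.1 0 1 * ps + y.1 0 1 * y.1 1 1 * h2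
  · linear_combination y.1 1 0 * ps + y.1 1 0 * y.1 1 1 * h2
  · linear_combination dy - y.1 1 1 * ps + y.1 0 1 * y.1 1 0 * h2

/-- `L₂(2^a)` is `SL₂(2^a)` -/
theorem L2e.sl (h : L2e G) : ∃ a : ℕ, 2 ≤ a ∧ ∃ (F : Type) (_ : Field F) (_ : Fintype F), Fintype.card F = 2 ^ a ∧
    (2 : F) = 0 ∧ Nonempty (G ≃* SL(2, F)) := by
  obtain ⟨a, ha, F, _, _, hF, ⟨e⟩⟩ := h
  have h2 : (2 : F) = 0 := by
    have := FiniteField.cast_card_eq_zero F
    rw [hF] at this
    exact pow_eq_zero_iff (by omega : a ≠ 0) |>.1 (by exact_mod_cast this)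
  have : center SL(2, F) = ⊥ := eq_bot_iff.2 fun g hg => by
    rcases (Cl.sl2_mem_center_iff g).1 hg with rfl | rfl
    · exact one_mem _
    · ext i j
      fin_cases i <;> fin_cases j <;> simp
      all_goals linear_combination -h2
  exact ⟨a, ha, F, inferInstance, inferInstance, hF, h2,
    ⟨e.trans ((QuotientGroup.quotientMulEquivOfEq this).trans QuotientGroup.quotientBot)⟩⟩

theorem L2e.sq (h : L2e G) {z y : G} (hz : orderOf z = 2) (c : y ∈ C1[z]) : y * y = 1 := by
  obtain ⟨a, -, F, _, _, -, h2, ⟨e⟩⟩ := h.sl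
  apply e.injective
  rw [map_mul, map_one]
  refine sl2_two h2 (z := e z)
    (by rw [← map_mul, ← pow_two, show z ^ 2 = 1 from hz ▸ pow_orderOf_eq_one z, map_one])
    (fun k => by simp [(map_eq_one_iff e e.injective).1 k] at hz) (by rw [← map_mul, ← map_mul, mem_cent1.1 c])

theorem g3 : G3.{u} := by
  intro Q _ _ _ ⟨_, el, h⟩
  rcases h with h | h | ⟨S, t, L, h⟩
  · refine .inr fun z hz R o le _ => eq_bot_iff.2 fun y hy => by_contra fun y1 => ?_
    exact not_odd_of_inv (orderOf_eq_prime (by rw [sq, h.sq hz (le hy)]) y1) hy o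
  · obtain ⟨_, -, -, -, -, n8, -⟩ := JS.facts h
    refine .inl fun d e b hd he hb ne c1 c2 c3 => by_contra fun n => ?_
    push Not at n
    exact n8 (eight_dvd hd he hb ne c1 c2 c3 n.1 n.2.1 n.2.2)
  · have k : ∀ R : Subgroup Q, Odd (Nat.card R) → R ≤ C1[t] → C1[t] ≤ N[R] → R = ⊥ := fun R o le n => by
      obtain ⟨Q', q8, q3, -, c, -, s, nc, -⟩ := JS.facts h.l2
      have h1 : R ⊓ L = ⊥ := by
        have : ((R ⊓ L).subgroupOf L).Normal :=
          (normal_subgroupOf_iff_le_normalizer inf_le_right).2 (le_norm_inf (h.le.trans n) le_normalizer)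
        rcases this.eq_bot_or_eq_top with e | e
        · rwa [subgroupOf_eq_bot, disjoint_iff, inf_assoc, inf_idem] at e
        · rw [subgroupOf_eq_top] at e
          obtain ⟨m, hm⟩ := o.of_dvd_nat (card_dvd_of_le (e.trans inf_le_left))
          obtain ⟨k, hk⟩ : Odd Q'.natAbs := Nat.odd_iff.2 (by omega)
          rw [hk, hm, show (2 * k + 1) ^ 2 - 1 = 4 * (k * k + k) from Nat.sub_eq_of_eq_add (by ring),
            mul_left_comm (2 * k + 1)] at c
          omega
      have h2 : R ≤ zpowers t := h.cL ▸ commutator_eq_bot_iff_le_centralizer.1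
        (eq_bot_iff.2 (h1 ▸ le_inf
          (commutator_le_of_le_norm_left (h.le.trans n)) (commutator_le_of_le_norm_right (le.trans h.norm))))
      have h3 := card_dvd_of_le h2
      rw [Nat.card_zpowers, h.ord, Nat.dvd_prime Nat.prime_two] at h3
      exact card_eq_one.1 (h3.resolve_right fun e => by rw [e] at o; exact absurd o (by decide))
    refine .inr fun z hz R o le n => ?_
    obtain ⟨g, -, rfl⟩ := el.one t trivial z trivial h.ord hz
    rw [← conj_cent1] at le n
    refine conj_eq_bot_iff.1 (k (cj[g⁻¹] R) (by rwa [card_conj]) (conj_le_iff.2 (by rwa [inv_inv])) ?_)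
    rwa [← conj_normalizer, ← conj_le_iff]

end Cfsg.Agent.WA
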