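import Cfsg.Agent.WA.G1
import Cfsg.Agent.WA.G3
import Cfsg.Agent.WA.A2

/-! Walter's theorem, part B2: the final configuration. -/

set_option autoImplicit false
set_option linter.unusedSectionVars false
set_option linter.unusedVariables false

namespace Cfsg.Agent.WA

open Cfsg Subgroup Cfsg.Agent.GT Cfsg.Agent.Cls Cfsg.Agent.GW
open Cfsg.Agent.TT (QS Cmp SN layerOf fstarOf)
open scoped commutatorElement

universe u

variable {G : Type u} [Group G] [Finite G] {S J V K U : Subgroup G} {t a b c : G}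

theorem fa_idx (le : V ≤ S) (h : Nat.card S = 2 * Nat.card V) (ha : a ∈ S) (hb : b ∈ S) (na : a ∉ V)
    (nb : b ∉ V) : a * b ∈ V := by
  have i : (V.subgroupOf S).index = 2 := Nat.eq_of_mul_eq_mul_right (card_pos' V) (by
    rw [← h, ← (V.subgroupOf S).index_mul_card, Nat.card_congr (subgroupOfEquivOfLe le).toEquiv])
  exact (mul_mem_iff_of_index_two i (a := ⟨a, ha⟩) (b := ⟨b, hb⟩)).2 (iff_of_false na nb)

theorem fa_fix (ab : AB G) (hS : IsPiHallOf {2} S ⊤) (le : V ≤ S) (h : Nat.card S = 2 * Nat.card V)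
    (hc : c ∈ N[S]) (cV : V ≤ C1[c]) : c ∈ C[S] := mem_cent_iff.2 fun x hx => by
  by_cases m : x ∈ V
  · exact cV m
  have hy := conj_mem_of_mem_norm hc hx
  have e := mem_cent1.1 (cV (fa_idx le h hx hy m fun e => m (by
    have := mem_cent1.1 (cV e)
    rw [inv_mul_cancel_right, mul_right_inj] at this
    rw [this]; exact e)))
  refine mem_cent1.2 (mem_cent1.1 (odd_mem hS ⟨trivial, hc⟩ (ab.c1 hS hx) (mem_cent1.2 ?_))).symm
  rw [ab.comm hS hx hy] at e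
  calc c * c * x = (c * x * c⁻¹)⁻¹ * (c * (x * (c * x * c⁻¹))) * c := by group
    _ = _ := by rw [ab.comm hS hx hy, ← e]; group

theorem fa_Q [K.Normal] [IsSimpleGroup K] (nc : ¬ IsMulCommutative K) (cent : C[K] = ⊥)
    (hU : IsPiHallOf {2} U ⊤) (c4 : Nat.card U = 4) (sq : ∀ x ∈ U, x * x = 1) (UK : U ≤ K) :
    L2o K ∧ ⁅(⊤ : Subgroup G), (⊤ : Subgroup G)⁆ ≤ K ∧ (∀ y ∈ K, Odd (orderOf y) → y ∈ C[U] → y = 1) ∧
    ∀ z ∈ U, z ≠ 1 → ∀ Y : Subgroup G, Odd (Nat.card Y) → Y ≤ C[U] → C1[z] ≤ N[Y] → Y = ⊥ := by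
  obtain ⟨z, hz, oz⟩ := exists_inv (H := U) (by rw [c4]; decide)
  have dg := dg_of_dih (S := U) (A := zpowers z) ⟨inferInstance, zpowers_le.2 hz, by rw [c4, Nat.card_zpowers, oz],
    fun s hs _ => by rw [pow_two, sq s hs]⟩ hU
  have n8 : ¬ 8 ∣ Nat.card K := fun d => absurd (hU.dvd_card ((piNat_single_iff Nat.prime_two (by decide)).2 ⟨3, rfl⟩)
    (d.trans (card_dvd_of_le le_top))) (by rw [c4]; decide)
  obtain ⟨F, _, _, ho, h3, ⟨e⟩⟩ := (GW.good nc (dg.sub K)).2.resolve_right fun h => n8 (by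
    have := (h.1 ⟨z, UK hz⟩ trivial (by rwa [orderOf_mk])).1
    exact (show 8 ∣ 24 by decide).trans (this ▸ card_subgroup_dvd_card _))
  obtain ⟨n, r, lt⟩ := lt_of_psl dg K cent ho h3 e
  have cU : U ≤ C[U] := fun x hx => mem_cent_iff.2 fun y hy => mem_cent1.2 (by
    rw [← inv_eq_of_mul_eq_one_right (sq _ (mul_mem hy hx)), mul_inv_rev, inv_eq_of_mul_eq_one_right (sq _ hx),
      inv_eq_of_mul_eq_one_right (sq _ hy)])
  have oe : ∀ y ∈ K, Odd (orderOf y) → y ∈ C[U] → y = 1 := fun y hy o c => by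
    obtain ⟨T, d, -⟩ := lt.tor z oz
    have uz : U ≤ K ⊓ C1[z] := le_inf UK (cU.trans (cent_le_cent1 hz))
    by_cases m : y ∈ T
    swap; · exact eq1_of_odd o (by rw [← pow_two]; exact d.sq y ⟨hy, cent_le_cent1 hz c⟩ m)
    obtain ⟨v, hv, nv⟩ : ∃ v ∈ U, v ∉ T := by
      by_contra k
      push Not at k
      obtain ⟨g, hg⟩ := (cyc_of_le d.cyc k).exists_ofOrder_eq_natCard
      have := orderOf_dvd_of_pow_eq_one (show g ^ 2 = 1 from Subtype.ext (by rw [pow_two]; exact sq g g.2))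
      rw [hg, c4] at this
      exact absurd this (by decide)
    exact eq1_of_inv_fix o (d.inv (uz hv) nv m) (cent_le_cent1 hv c)
  refine ⟨⟨F, _, _, ?_, h3, ⟨e⟩⟩, lt.comm, oe, fun z hz z1 Y o c n => by_contra fun Y1 => ?_⟩
  · have c := Cl.gcd_mul_card_psl_two (F := F)
    rw [Nat.gcd_eq_left (by obtain ⟨k, hk⟩ := ho; omega), ← Nat.card_congr e.toEquiv] at c
    by_contra k
    refine n8 (Nat.dvd_of_mul_dvd_mul_left two_pos (c ▸ ?_))
    obtain ⟨k, hk⟩ : ∃ k, Fintype.card F = 8 * k + 1 ∨ Fintype.card F = 8 * k + 7 :=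
      ⟨Fintype.card F / 8, by obtain ⟨k, hk⟩ := ho; omega⟩
    rcases hk with hk | hk <;> rw [hk]
    · exact ⟨(8 * k + 1) * k * (4 * k + 1), by rw [Nat.add_sub_cancel]; ring⟩
    · exact ⟨(8 * k + 7) * (4 * k + 3) * (k + 1), by rw [show 8 * k + 7 - 1 = 8 * k + 6 from rfl]; ring⟩
  · obtain ⟨p, hp, P1⟩ := exists_piCoreOf_single_ne_bot (solv_odd o) Y1
    have le := piCoreOf_le {p} Y
    have p2 : p ≠ 2 := fun e => P1 (by
      subst e; exact (piCoreOf_isPi _ _).eq_bot (odd_iff_pi.2 (odd_card_of_le o le)))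
    have := lt.l4 z (ord2 (sq z hz) z1) p hp p2 _ (piCoreOf_isPGroup hp Y) (le.trans (c.trans (cent_le_cent1 hz)))
      (le_norm_piCoreOf n)
    exact P1 (eq_bot_iff.2 fun y hy => oe y (this hy) (odd_ord o (le hy)) (c (le hy)))

theorem fin_a [IsSimpleGroup G] (m : Mn G) (nse : ∀ H : Subgroup G, ¬ SE H) (t26 : T26 (⊤ : Subgroup G))
    (hS : IsPiHallOf {2} S ⊤) (t2 : orderOf t = 2) (ht : t ∈ S) (c8 : Nat.card S = 8) (sq : ∀ x ∈ S, x * x = 1)
    (tr : ∀ x ∈ S, x ≠ 1 → ∃ n ∈ N[S], n * t * n⁻¹ = x) (hJ : Cmp J C1[t]) (c4 : Nat.card ↥(S ⊓ J) = 4)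
    (hW : S ≤ C[O[C1[t]]]) : ∃ L D, JR' S t L D := by
  have ab := m.ab
  have tt := sq1 t2
  have pS := syl_isPGroup Nat.prime_two hS
  have SH : S ≤ C1[t] := ab.c1 hS ht
  have sH : IsPiHallOf {2} S C1[t] := hS.of_le SH le_top
  have nt : ∀ {J'}, Cmp J' C1[t] → t ∉ J' := fun h k => ab.nc h.toQS k t2 (mem_cent_iff.2 h.le)
  have sy : ∀ {J'}, Cmp J' C1[t] → IsPiHallOf {2} (S ⊓ J') J' := fun h =>
    Sc.syl hS (ab.normS h pS (SH.trans le_normalizer))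
  have tC : t ∈ C[J] := mem_cent_iff.2 hJ.le
  have dec : ∀ s ∈ S, s ∈ J ∨ t * s ∈ J := fun s hs => or_iff_not_imp_left.2 fun n =>
    (fa_idx (V := S ⊓ J) inf_le_left (by rw [c8, c4]) ht hs (fun k => nt hJ k.2) fun k => n k.2).2
  have j1 : ∀ s ∈ J, s * s = 1 → s ∈ C[J] → s = 1 := fun s hs e c => by_contra fun n =>
    ab.nc hJ.toQS hs (ord2 e n) c
  have cS1 : ∀ s ∈ S, s ∈ C[J] → s = 1 ∨ s = t := fun s hs c => (dec s hs).imp (fun k => j1 s k (sq s hs) c)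
    fun k => by rw [eq_inv_of_mul_eq_one_right (j1 _ k (sq _ (mul_mem ht hs)) (mul_mem tC c)), inv2 t2]
  have nJ : C1[t] ≤ N[J] := fun x hx => conj_eq_self_iff.1 (by
    have h := hJ.conj (le_normalizer hx)
    refine (h.eq_or_cent hJ).resolve_right fun c => ?_
    obtain ⟨k, hk, ok⟩ := qs_inv h.toQS
    obtain ⟨g, -, e⟩ := conj_into (sy h) (sq1 ok) hk
    rcases cS1 _ e.1 (c e.2) with a | a
    · exact cne (ne1 ok) g a
    · exact nt h (a ▸ e.2))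
  have nR : C1[t] ≤ N[C1[t] ⊓ C[J]] := le_norm_inf le_normalizer (le_norm_cent nJ)
  have zle : ∀ {X : Subgroup G}, (∀ s ∈ X, s = 1 ∨ s = t) → X ≤ zpowers t := fun h s hs => by
    rcases h s hs with rfl | rfl
    exacts [one_mem _, mem_zpowers _]
  have sR : IsPiHallOf {2} (zpowers t) (C1[t] ⊓ C[J]) := by
    have := Sc.syl hS (SH.trans nR)
    rwa [le_antisymm (zle (X := S ⊓ (C1[t] ⊓ C[J])) fun s hs => cS1 s hs.1 hs.2.2)
      (zpowers_le.2 ⟨ht, self_mem_cent1 t, tC⟩)] at this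
  have bR : (C1[t] ⊓ C[J]) ⊓ N[zpowers t] ≤ C[zpowers t] := by rw [cent_zpowers]; exact inf_le_left.trans inf_le_left
  have OR : O[C1[t] ⊓ C[J]] ≤ O[C1[t]] := piCoreOf_le_of_normal inf_le_left nR
  obtain ⟨Q, _, _, f, hf, hk⟩ := exists_quo' C1[t] _ inf_le_left nR
  have kC : kr f ≤ C[J] := hk ▸ inf_le_right
  have tk : t ∈ kr f := hk ▸ ⟨self_mem_cent1 t, tC⟩
  have : (im f J).Normal := normal_iff_top_le_norm.2 (im_dom_of_surj hf ▸ im_norm nJ)
  have : IsSimpleGroup (im f J) := simple_of_sub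
    (fun e => hJ.not_le_cent (((im_eq_bot_iff hJ.le).1 e).trans kC)) fun N a b =>
      (hJ.max (J ⊓ pre f N) inf_le_left (le_norm_inf le_normalizer (le_norm_pre hJ.le b))).imp (fun e => by
        rw [← inf_eq_right.2 a, ← im_inf_pre]
        exact im_eq_bot_of_le (hk ▸ le_inf (inf_le_left.trans hJ.le) e))
      fun e => by rw [← inf_eq_right.2 a, ← im_inf_pre, e]
  have UH : S ⊓ J ≤ C1[t] := inf_le_left.trans SH
  obtain ⟨l2, cm, oe, oY⟩ := fa_Q (K := im f J) (U := im f (S ⊓ J))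
    (fun e => hJ.not_le_cent (hJ.perf.ge.trans (((comm_im_iff hJ.le).1 e).trans kC))) (by
      rw [← im_pre_of_surj hf (X := C[im f J]), im_eq_bot_iff pre_le, hk]
      exact le_inf pre_le (qs_cent hJ.toQS (((im_le_cent_iff hJ.le pre_le).1 (le_cent_symm im_pre_le)).trans kC)))
    (by
      have := sH.im (f := f) le_rfl
      rwa [im_dom_of_surj hf, le_antisymm ((im_le_im_iff SH UH).2 fun s hs => ?_) (im_mono inf_le_left)] at this
      rcases dec s hs with k | k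
      · exact mem_sup_left ⟨hs, k⟩
      · exact (mul_mem_cancel_left (mem_sup_right tk)).1 (mem_sup_left ⟨mul_mem ht hs, k⟩))
    (by rw [card_im_of_inf_eq_bot UH (eq_bot_iff.2 fun s hs => j1 s hs.1.2 (sq s hs.1.1) (kC hs.2)), c4])
    (by rintro _ ⟨x, hx, rfl⟩; rw [← map_mul, ← map_one f]; exact congrArg f (Subtype.ext (sq x hx.1)))
    (im_mono inf_le_right)
  have cjW : ∀ n, cj[n] O[C1[t]] = O[C1[n * t * n⁻¹]] := fun n => by rw [conj_piCoreOf, conj_cent1]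
  have W1 : ∀ s ∈ S, s ≠ 1 → O[C1[s]] = O[C1[t]] := fun s hs s1 => by
    obtain ⟨n, hn, e⟩ := tr s hs s1
    have c1 : O[C1[s]] ≤ C[S] := by
      rw [← e, ← cjW, ← conj_eq_self hn]; exact conj_le_cent_conj_iff.2 (le_cent_symm hW)
    have c2 := c1.trans (cent_le_cent1 ht)
    refine eq_of_le_of_card_ge ?_ (by rw [← e, ← cjW, card_conj])
    by_cases st : s = t
    · rw [st]
    obtain ⟨u, hu, u1, hc⟩ : ∃ u ∈ S ⊓ J, u ≠ 1 ∧ C1[t] ⊓ C1[u] ≤ C1[s] := by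
      rcases dec s hs with k | k
      · exact ⟨s, ⟨hs, k⟩, s1, inf_le_right⟩
      · exact ⟨_, ⟨mul_mem ht hs, k⟩, fun e => st (by rw [eq_inv_of_mul_eq_one_right e, inv2 t2]),
          fun x hx => GW.tt tt s ▸ c1_mul hx.1 hx.2⟩
    have := oY (f ⟨u, UH hu⟩) (mem_im_of_mem _ hu) (fun e => u1 (j1 u hu.2 (sq u hu.1) (kC ((mem_kr' _).2 e))))
      (im f O[C1[s]]) (odd_im (O_odd _)) (im_cent (c1.trans (cent_anti inf_le_left))) fun z hz => by
        obtain ⟨x, rfl⟩ := hf z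
        refine im_norm (A := C1[t] ⊓ C1[u]) (hc.trans (O_norm _)) (mem_im_of_mem x.2 ⟨x.2, mem_cent1.2 ?_⟩)
        have hk := conj_mem_of_mem_norm (nJ x.2) hu.2
        refine mul_inv_eq_iff_eq_mul.1 (ab.uniq hJ.toQS hk hu.2 (sq_conj (sq u hu.1) _) (sq u hu.1)
          (kC ((mem_kr' (mul_mem (hJ.le hk) (UH hu))).2 ?_)))
        rw [show (⟨_, mul_mem (hJ.le hk) (UH hu)⟩ : C1[t]) = x * ⟨u, UH hu⟩ * x⁻¹ * ⟨u, UH hu⟩ from rfl, map_mul,
          map_mul, map_mul, mem_cent1.1 hz, map_inv, mul_inv_cancel_right, ← map_mul, ← map_one f]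
        exact congrArg f (Subtype.ext (sq u hu.1))
    exact ((Burnside_hall Nat.prime_two sR bR).le_of_normal (O_norm _) (hk ▸ (im_eq_bot_iff c2).1 this)
      (piCoreOf_isPi _ _)).trans OR
  have W0 : O[C1[t]] = ⊥ := by_contra fun W0 => by
    have SN := SH.trans (O_norm C1[t])
    have sN := hS.of_le SN le_top
    refine nse N[O[C1[t]]] ⟨norm_ne_top W0 (O_solv _) m.nc, ⟨t, SN ht, t2⟩, fun z hz z2 x hx => ?_,
      fun S' hS' le x hx => ?_⟩
    · obtain ⟨g, hg, e⟩ := conj_into sN (sq1 z2) hz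
      have : g * x * g⁻¹ ∈ N[O[C1[t]]] := W1 _ e (cne (ne1 z2) g) ▸ O_norm _ (conj_cent1 g z ▸ conj_mem_conj.2 hx)
      exact (mul_mem_cancel_left hg).1 ((mul_mem_cancel_right (inv_mem hg)).1 this)
    · obtain ⟨g, hg, rfl⟩ := syl_exists_conj Nat.prime_two sN (hS'.of_le le le_top)
      have h1 : g⁻¹ * x * g ∈ N[S] := by rwa [← conj_normalizer, mem_conj] at hx
      have : g⁻¹ * x * g ∈ N[O[C1[t]]] := conj_eq_self_iff.1
        ((cjW _).trans (W1 _ (conj_mem_of_mem_norm h1 ht) (cne (ne1 t2) _)))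
      exact (mul_mem_cancel_left (inv_mem hg)).1 ((mul_mem_cancel_right hg).1 this)
  have Rt : C1[t] ⊓ C[J] = zpowers t := by
    rw [← (Burnside_normal_complement Nat.prime_two sR bR).sup_eq, le_bot_iff.1 (OR.trans W0.le), bot_sup_eq]
  rw [Rt] at hk
  have Jk : J ⊓ kr f = ⊥ := eq_bot_iff.2 fun s hs =>
    (zp2' tt (hk ▸ hs.2)).resolve_right fun e => nt hJ (e ▸ hs.1)
  obtain ⟨e⟩ := nonempty_equiv_im hJ.le Jk
  have JT : J ≠ ⊤ := fun e => c1_ne_top m.nc (ne1 t2) (top_le_iff.1 (e ▸ hJ.le))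
  have NJ : N[J] ≤ C1[t] := fun x hx => by
    have t0 := t26 t trivial t2 N[J] le_top (Cl.normalizer_ne_top_of_simple hJ.ne JT) (inf_le_right.trans nJ)
    have y0 := conj_mem_of_mem_norm (self_le_norm_piCoreOf {2} N[J] hx) t0
    refine mem_cent1.2 (mul_inv_eq_iff_eq_mul.1 ((cS1 _ (piCoreOf_le_hall (hS.of_le (SH.trans nJ) le_top) y0)
      ((qs_or hJ.toQS (le_normalizer.trans (self_le_norm_piCoreOf _ _)) (piCoreOf_le _ _)).resolve_left
        (hJ.not_le_of_solvable (solvable_of_isPGroup Nat.prime_two (piCoreOf_isPGroup Nat.prime_two _))) y0)).resolve_left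
      (cne (ne1 t2) x)))
  have sD := Burnside_normal_complement Nat.prime_two (hS.of_le (ab.syl hS) le_top) inf_le_left
  have DS := O_le C[S]
  have DH := DS.trans (cent_le_cent1 ht)
  have Dk : ∀ d (hd : d ∈ O[C[S]]), f ⟨d, DH hd⟩ ∈ im f J → d = 1 := fun d hd k => by
    have o := odd_ord (O_odd _) hd
    have := (mem_kr' _).2 (oe _ k (o.of_dvd_nat (orderOf_mk d (DH hd) ▸ orderOf_map_dvd f _))
      (im_cent (DS.trans (cent_anti inf_le_left)) (mem_im_of_mem _ hd)))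
    exact (zp2' tt (hk ▸ this)).resolve_right fun e => absurd (t2 ▸ e ▸ o) (by decide)
  have kg : KG G (Nat.card G) := ⟨ab, m.ih, g3⟩
  have nS : ∀ x ∈ C1[t], x ∈ N[S ⊓ J] → x ∈ N[S] := fun x hx hn => mem_normalizer_of_conj_le (by
    rintro _ ⟨s, hs, rfl⟩
    change x * s * x⁻¹ ∈ S
    rcases dec s hs with k | k
    · exact (conj_mem_of_mem_norm hn ⟨hs, k⟩).1
    · have := (conj_mem_of_mem_norm hn ⟨mul_mem ht hs, k⟩).1
      rw [← conj_mul, mem_cent1.1 hx, mul_inv_cancel_right] at this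
      exact (mul_mem_cancel_left ht).1 this)
  have rot : ∀ a ∈ S ⊓ J, ∀ b ∈ S ⊓ J, a ≠ 1 → b ≠ 1 → ∃ j ∈ J, j ∈ N[S] ∧ j * a * j⁻¹ = b := by
    intro a ha b hb a1 b1
    obtain ⟨g, hg, rfl⟩ := kg.one hJ.toQS (card_lt_of_ne_top JT) ha.2 hb.2 (ord2 (sq a ha.1) a1) (ord2 (sq b hb.1) b1)
    obtain ⟨j, hj, e⟩ := ab.fus (sy hJ) ha hg hb
    exact ⟨j, hj.1, nS j (hJ.le hj.1) hj.2, e⟩
  obtain ⟨u, hu, ou⟩ := exists_inv (H := S ⊓ J) (by rw [c4]; decide)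
  have ut : u ≠ t := fun e => nt hJ (e ▸ hu.2)
  have nD : N[S] ≤ N[O[C[S]]] := le_norm_piCoreOf (norm_le_norm_cent S)
  have sa : ∀ n ∈ N[S], n ∈ C1[t] → n ∈ C[O[C[S]]] := fun n hn hc => mem_cent_iff.2 fun d hd => mem_cent1.2 (by
    have := Dk _ (mul_mem hd (conj_mem_of_mem_norm (nD hn) (inv_mem hd))) (by
      rw [show (⟨_, DH (mul_mem hd (conj_mem_of_mem_norm (nD hn) (inv_mem hd)))⟩ : C1[t]) =
        ⁅(⟨d, DH hd⟩ : C1[t]), ⟨n, hc⟩⁆ from Subtype.ext (by simp [commutatorElement_def, mul_assoc]),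
        map_commutatorElement]
      exact cm (commutator_mem_commutator trivial trivial))
    rwa [← mul_assoc, ← mul_assoc, mul_inv_eq_one, mul_inv_eq_iff_eq_mul] at this)
  refine ⟨J, O[C[S]], hS, c8, ab, ⟨fun x _ hx => ?_, fun z _ w _ z2 w2 => ?_⟩, t2, ht, hJ.le, nJ, nt hJ,
    l2.of_equiv e, O_odd _, sD.sup_eq.symm.trans (sup_comm _ _), le_antisymm (fun x hx => ?_)
      (sup_le (sup_le (zpowers_le.2 (self_mem_cent1 t)) hJ.le) DH),
    by rw [← Rt, inf_eq_right.2 ((cent_le_norm J).trans NJ)],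
    eq_bot_iff.2 fun d hd => Dk d hd.1 (mem_im_of_mem _ hd.2), ?_⟩
  · obtain ⟨g, -, k⟩ := syl_exists_conj_le Nat.prime_two hS hx le_top
    have := sq _ (k (conj_mem_conj.2 (mem_zpowers x)))
    rwa [conj_mul, conj_eq_one_iff] at this
  · obtain ⟨g, -, k⟩ := conj_into hS (sq1 z2) trivial
    obtain ⟨g', -, k'⟩ := conj_into hS (sq1 w2) trivial
    obtain ⟨n, -, a⟩ := tr _ k (cne (ne1 z2) g)
    obtain ⟨n', -, a'⟩ := tr _ k' (cne (ne1 w2) g')
    refine ⟨g'⁻¹ * n' * n⁻¹ * g, trivial, ?_⟩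
    calc _ = g'⁻¹ * (n' * (n⁻¹ * (g * z * g⁻¹) * n) * n'⁻¹) * g' := by group
      _ = _ := by rw [← a, show n⁻¹ * (n * t * n⁻¹) * n = t by group, a']; group
  · obtain ⟨k, hk', n, hn, rfl⟩ := frattini_arg_exists Nat.prime_two (sy hJ) (nJ hx)
    have nH := (mul_mem_cancel_left (hJ.le hk')).1 hx
    obtain ⟨j, hj, jS, e⟩ := rot u hu _ (conj_mem_of_mem_norm hn hu) (ne1 ou) (cne (ne1 ou) n)
    have := fa_fix (V := zpowers t ⊔ zpowers u) ab hS (V_le ht hu.1)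
      (by rw [c8, E4.card_V t2 ou ut (ab.comm hS hu.1 ht)]) (mul_mem (inv_mem jS) (nS n nH hn))
      (V_le (mem_cent1.2 (mem_cent1.1 (mul_mem (inv_mem (hJ.le hj)) nH)).symm) (mem_cent1.2 (by
        calc u * (j⁻¹ * n) = j⁻¹ * (j * u * j⁻¹) * n := by group
          _ = _ := by rw [e]; group)))
    have JL : J ≤ (zpowers t ⊔ J) ⊔ O[C[S]] := le_sup_right.trans le_sup_left
    refine mul_mem (JL hk') ((mul_mem_cancel_left (inv_mem (JL hj))).1 ((sD.sup_eq.ge.trans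
      (sup_le le_sup_right fun s hs => ?_)) this))
    rcases dec s hs with k | k
    · exact JL k
    · exact (mul_mem_cancel_left (mem_sup_left (mem_sup_left (mem_zpowers t)))).1 (JL k)
  have i7 : (MulAction.stabilizer N[S] (⟨t, ht⟩ : S)).index = 7 := by
    have e : MulAction.orbit N[S] (⟨t, ht⟩ : S) = {1}ᶜ := by
      ext c
      refine ⟨?_, fun n => ?_⟩
      · rintro ⟨n, rfl⟩ e
        exact ne1 t2 (congrArg Subtype.val ((smul_eq_iff_eq_inv_smul _).1 e |>.trans (smul_one _)))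
      · obtain ⟨n, hn, e⟩ := tr c c.2 fun e => n (Subtype.ext e)
        exact ⟨⟨n, hn⟩, Subtype.ext e⟩
    have := MulAction.index_stabilizer N[S] (⟨t, ht⟩ : S)
    have c := Set.ncard_add_ncard_compl ({1} : Set S)
    rw [c8, Set.ncard_singleton, ← e, ← this] at c
    omega
  have le : MulAction.stabilizer N[S] (⟨t, ht⟩ : S) ≤ C[O[C[S]]].subgroupOf N[S] := fun n hn =>
    sa n n.2 (mem_cent1.2 (mul_inv_eq_iff_eq_mul.1 (congrArg Subtype.val hn)))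
  have i := relIndex_mul_index le
  rw [i7] at i
  rcases (Nat.dvd_prime (by decide)).1 (Dvd.intro_left _ i) with k | k
  · exact subgroupOf_eq_top.1 (index_eq_one.1 k)
  exfalso
  rw [k] at i
  obtain ⟨v, hv, vu⟩ : ∃ v ∈ S ⊓ J, v ∉ zpowers u := by
    by_contra k
    push Not at k
    have := card_le_of_le (show S ⊓ J ≤ zpowers u from k)
    rw [c4, Nat.card_zpowers, ou] at this
    omega
  obtain ⟨j, hj, jS, e⟩ := rot u hu v hv (ne1 ou) (by rintro rfl; exact vu (one_mem _))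
  obtain ⟨n, hn, a⟩ := tr u hu.1 (ne1 ou)
  have le' : C[O[C[S]]].subgroupOf N[S] ≤ MulAction.stabilizer N[S] (⟨t, ht⟩ : S) := relIndex_eq_one.1 (by omega)
  have : n⁻¹ * j * n⁻¹⁻¹ * t * (n⁻¹ * j * n⁻¹⁻¹)⁻¹ = t := congrArg Subtype.val (MulAction.mem_stabilizer_iff.1 <| le'
    (show (⟨_, cj_mem (inv_mem hn) jS⟩ : N[S]) ∈ C[O[C[S]]].subgroupOf N[S] from
      conj_mem_of_mem_norm (inv_mem (norm_le_norm_cent _ (nD hn))) (sa j jS (hJ.le hj))))
  refine vu ?_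
  rw [← e, ← a, show j * (n * t * n⁻¹) * j⁻¹ = n * (n⁻¹ * j * n⁻¹⁻¹ * t * (n⁻¹ * j * n⁻¹⁻¹)⁻¹) * n⁻¹ by group, this]
  exact mem_zpowers _

end Cfsg.Agent.WA
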