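import Cfsg.Agent.Sig.L
import Cfsg.Agent.GW.Base

/-! Fixed points of a noncyclic abelian group of operators in the commutator subgroup. -/

set_option autoImplicit false
set_option linter.unusedSectionVars false

namespace Cfsg.Agent.WA

open Cfsg Subgroup Cfsg.Agent.GT Cfsg.Agent.Sig

universe u

namespace GL2

variable {G : Type u} [Group G] [Finite G] {W N E V : Subgroup G} {x : G}

structure Hy (W N E : Subgroup G) : Prop where
  sol : Group.IsSolvable W
  ab : IsMulCommutative E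
  nc : ¬ IsCyclic E
  nE : E ≤ N[W]
  cop : (Nat.card W).Coprime (Nat.card E)
  nN : W ⊓ C[E] ≤ N[N]
  hx : ∀ x ∈ E, x ≠ 1 → ⁅W ⊓ C1[x], E⁆ ⊓ C[E] ≤ N

namespace Hy

variable (h : Hy W N E)
include h

theorem Ec (hx : x ∈ E) : E ≤ C1[x] := (isMulCommutative_iff_le_cent.1 h.ab).trans (cent_le_cent1 hx)

theorem nx (hx : x ∈ E) : E ≤ N[W ⊓ C1[x]] := le_norm_inf h.nE (le_norm_self (h.Ec hx))

theorem Wx_le (hx : x ∈ E) : ⁅W ⊓ C1[x], E⁆ ≤ W ⊓ C1[x] := commutator_le_of_le_norm_left (h.nx hx)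

theorem Y_inf (hN : N ≤ W ⊓ C[E]) (hx : x ∈ E) (x1 : x ≠ 1) : (⁅W ⊓ C1[x], E⁆ ⊔ N) ⊓ C[E] ≤ N := by
  rintro _ ⟨hy, hc⟩
  obtain ⟨w, hw, n, hn, rfl⟩ := (mem_sup_of_le_norm' (K := N) ((hN.trans (inf_le_inf_left _ (cent_le_cent1 hx))).trans
    (normalizer_commutator_ge_left _ _))).1 hy
  exact mul_mem (h.hx x hx x1 ⟨hw, (C[E].mul_mem_cancel_right (hN hn).2).1 hc⟩) hn

theorem inf_le (hN : N ≤ W ⊓ C[E]) (hV : V ≤ W) (nV : E ≤ N[V]) (ab : IsMulCommutative V) :
    (⁅V, E⁆ ⊔ (V ⊓ N)) ⊓ C[E] ≤ N := by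
  rintro _ ⟨hy, hc⟩
  obtain ⟨w, hw, n, hn, rfl⟩ := (mem_sup_of_le_norm' (K := V ⊓ N)
    (inf_le_left.trans (normalizer_commutator_ge_left _ _))).1 hy
  have : w ∈ ⁅V, E⁆ ⊓ C[E] := ⟨hw, (C[E].mul_mem_cancel_right (hN hn.2).2).1 hc⟩
  rw [coprime_comm_commutator_inf_cent ab nV (coprime_card_of_le h.cop hV le_rfl), mem_bot] at this
  rw [this, one_mul]
  exact hn.2

theorem norm (hN : N ≤ W ⊓ C[E]) (hV : V ≤ W) (nW : W ≤ N[V]) (nV : E ≤ N[V]) (ab : IsMulCommutative V) :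
    ⁅W, E⁆ ≤ N[⁅V, E⁆ ⊔ (V ⊓ N)] := by
  refine comm_le_of_gen h.sol h.ab h.nc h.nE h.nE (isMulCommutative_iff_le_cent.1 h.ab) h.cop h.cop fun x hx x1 => ?_
  have hX : zpowers x ≤ E := zpowers_le.2 hx
  have cV := coprime_card_of_le h.cop hV le_rfl
  have nY : E ≤ N[V ⊓ (⁅W ⊓ C1[x], E⁆ ⊔ N)] := le_norm_inf nV (le_norm_sup (normalizer_commutator_ge_right _ _)
    (le_norm_of_cent (le_cent_symm (hN.trans inf_le_right))))
  have nT : ∀ {A T : Subgroup G}, A ≤ V → T ≤ V → A ≤ N[T] := fun hA hT =>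
    le_norm_of_cent (hA.trans ((isMulCommutative_iff_le_cent.1 ab).trans (centralizer_le hT)))
  have l1 : ⁅V, zpowers x⁆ ≤ V := commutator_le_of_le_norm_left (hX.trans nV)
  have e : ⁅V, E⁆ ⊔ (V ⊓ N) = ⁅V, zpowers x⁆ ⊔ (V ⊓ (⁅W ⊓ C1[x], E⁆ ⊔ N)) := by
    refine le_antisymm (sup_le ?_ ((inf_le_inf_left _ le_sup_right).trans le_sup_right))
      (sup_le ((commutator_mono le_rfl hX).trans le_sup_left) ?_)
    · nth_rw 1 [← coprime_commutator_sup_cent (.inl (solvable_of_comm ab)) (hX.trans nV)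
        (coprime_card_of_le cV le_rfl hX)]
      refine comm_sup_le (nT l1 (sup_le l1 inf_le_left)) (nT inf_le_left (sup_le l1 inf_le_left))
        ((commutator_le_of_le_norm_left (le_norm_commutator nV (le_norm_of_cent ?_))).trans le_sup_left)
        ((le_inf ((commutator_mono inf_le_left le_rfl).trans (commutator_le_of_le_norm_left nV))
          ((commutator_mono ?_ le_rfl).trans le_sup_left)).trans le_sup_right)
      · rw [cent_zpowers]; exact h.Ec hx
      · rw [cent_zpowers]; exact inf_le_inf_right _ hV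
    · rw [← coprime_commutator_sup_cent (.inr (solvable_of_comm h.ab)) nY (coprime_card_of_le cV inf_le_left le_rfl)]
      refine sup_le_sup (commutator_mono inf_le_left le_rfl) ?_
      rw [inf_assoc]
      exact inf_le_inf_left _ (h.Y_inf hN hx x1)
  rw [e]
  exact le_norm_sup (le_norm_commutator ((h.Wx_le hx).trans (inf_le_left.trans nW))
    (le_norm_of_cent (by rw [cent_zpowers]; exact (h.Wx_le hx).trans inf_le_right)))
    (le_norm_inf ((h.Wx_le hx).trans (inf_le_left.trans nW)) (le_norm_self le_sup_left))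

end Hy

theorem aux (n : ℕ) : ∀ {G : Type u} [Group G] [Finite G] {W N E : Subgroup G}, Nat.card W = n → Hy W N E →
    ⁅W, E⁆ ⊓ C[E] ≤ N := by
  induction n using Nat.strong_induction_on with
  | _ n ih =>
  intro G _ _ W N E hn h
  have lK : ⁅W, E⁆ ≤ W := commutator_le_of_le_norm_left h.nE
  by_cases hK : ⁅W, E⁆ ≠ W
  · rw [← coprime_commutator_commutator (.inl h.sol) h.nE h.cop]
    exact ih _ (hn ▸ card_lt_of_lt (lK.lt_of_ne hK)) rfl ⟨solv_of_le h.sol lK, h.ab, h.nc,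
      normalizer_commutator_ge_right _ _, coprime_card_of_le h.cop lK le_rfl, (inf_le_inf_right _ lK).trans h.nN,
      fun x hx x1 => (inf_le_inf_right _ (commutator_mono (inf_le_inf_right _ lK) le_rfl)).trans (h.hx x hx x1)⟩
  rw [not_not] at hK
  rw [hK]
  suffices key : ∀ N : Subgroup G, N ≤ W ⊓ C[E] → Hy W N E → W ⊓ C[E] ≤ N from
    (key (N ⊓ (W ⊓ C[E])) inf_le_right ⟨h.sol, h.ab, h.nc, h.nE, h.cop, le_norm_inf h.nN le_normalizer,
      fun x hx x1 => le_inf (h.hx x hx x1) (inf_le_inf_right _ ((h.Wx_le hx).trans inf_le_left))⟩).trans inf_le_left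
  clear h N
  intro N hN h
  have quo : ∀ V : Subgroup G, V ≠ ⊥ → V ≤ W → W ≤ N[V] → E ≤ N[V] → W ⊓ C[E] ≤ N ⊔ V := fun V V0 hV nW nE => by
    obtain ⟨Q, _, _, f, -, hk⟩ := exists_quo' (W ⊔ E) V (hV.trans le_sup_left) (sup_le nW nE)
    have dW : W ≤ W ⊔ E := le_sup_left
    have dE : E ≤ W ⊔ E := le_sup_right
    have hBk : E ⊓ kr f = ⊥ := by
      rw [hk]; exact inf_eq_bot_of_coprime_card (coprime_card_of_le h.cop hV le_rfl).symm
    have e1 := im_inf_cent_of_coprime' (f := f) dW dE h.nE (.inl h.sol) h.cop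
    have := ih _ (hn ▸ card_im_lt dW (by rw [hk, inf_eq_right.2 hV]; exact V0)) (W := im f W) (N := im f N)
      (E := im f E) rfl ⟨solvable_im h.sol, comm_im h.ab, fun hc => h.nc (by
        obtain ⟨e⟩ := nonempty_equiv_im dE hBk
        exact isCyclic_of_surjective e.symm e.symm.surjective), im_norm h.nE, coprime_im h.cop,
        e1 ▸ im_norm h.nN, fun y hy h1 => by
          obtain ⟨b, hbD, hb, rfl⟩ := mem_im.1 hy
          have hb1 : b ≠ 1 := by
            rintro rfl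
            exact h1 (map_one f)
          have l := (h.Wx_le hb).trans inf_le_left
          rw [← im_inf_cent1_of_coprime dW hbD (h.nE hb)
            ((Nat.Coprime.coprime_dvd_left (card_dvd_of_le inf_le_left) h.cop).coprime_dvd_right
              (orderOf_dvd_card_of_mem hb)), ← im_commutator (inf_le_left.trans dW) dE,
            ← im_inf_cent_of_coprime' (l.trans dW) dE (normalizer_commutator_ge_right _ _)
              (.inr (solvable_of_comm h.ab)) (coprime_card_of_le h.cop l le_rfl)]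
          exact im_mono (h.hx b hb hb1)⟩
    rwa [← im_commutator dW dE, hK, ← e1, im_le_im_iff (inf_le_left.trans dW) ((hN.trans inf_le_left).trans dW),
      hk] at this
  by_contra hc
  have abel : ∀ V : Subgroup G, V ≤ W → W ≤ N[V] → E ≤ N[V] → IsMulCommutative V →
      V ≤ C[E] ∧ V ≤ C[W] ∧ V ⊓ N = ⊥ := fun V hV nW nE ab => by
    have n1 := h.norm hN hV nW nE ab
    rw [hK] at n1
    have : ⁅V, E⁆ ⊔ (V ⊓ N) = ⊥ := by_contra fun V0 => hc fun c hc => by
      obtain ⟨m, hm, v, hv, rfl⟩ := (mem_sup_of_le_norm ((hN.trans inf_le_left).trans n1)).1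
        (quo _ V0 (sup_le ((commutator_le_of_le_norm_left nE).trans hV) (inf_le_left.trans hV)) n1
          (le_norm_sup (normalizer_commutator_ge_right _ _) (le_norm_inf nE
            (le_norm_of_cent (le_cent_symm (hN.trans inf_le_right))))) hc)
      exact mul_mem hm (h.inf_le hN hV nE ab ⟨hv, (C[E].mul_mem_cancel_left (hN hm).2).1 hc.2⟩)
    rw [sup_eq_bot_iff, commutator_eq_bot_iff_le_centralizer] at this
    exact ⟨this.1, le_cent_symm (hK ▸ commutator_le_cent_of_norm_of_cent nW (le_cent_symm this.1)), this.2⟩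
  have W0 : W ≠ ⊥ := fun e => hc (by rw [e, bot_inf_eq]; exact bot_le)
  have nZ : W ≤ N[W ⊓ C[W]] := le_norm_inf le_normalizer (le_norm_cent le_normalizer)
  have nZ' : E ≤ N[W ⊓ C[W]] := le_norm_inf h.nE (le_norm_cent h.nE)
  obtain ⟨z1, -, z3⟩ := abel _ inf_le_left nZ nZ'
    (isMulCommutative_iff_le_cent.2 (inf_le_right.trans (centralizer_le inf_le_left)))
  have Z0 : W ⊓ C[W] ≠ ⊥ := by
    obtain ⟨V, t, hV, mV, -, he⟩ := exists_minNormal_elementary W0 (sup_le (le_norm_self le_rfl) h.nE) h.sol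
    exact fun e => mV.ne_bot (le_bot_iff.1 (e ▸ le_inf hV
      (abel V hV (le_sup_left.trans mV.norm) (le_sup_right.trans mV.norm) he.1).2.1))
  have hC := quo _ Z0 inf_le_left nZ nZ'
  obtain ⟨V, ⟨hV, nW, nE, nz⟩, mV⟩ := exists_minimal_of_wellFoundedLT
    (fun V : Subgroup G => V ≤ W ∧ W ≤ N[V] ∧ E ≤ N[V] ∧ ¬ V ≤ W ⊓ C[W]) ⟨W, le_rfl, le_normalizer, h.nE, fun e =>
      hc ((inf_le_left.trans (hK.ge.trans (commutator_eq_bot_iff_le_centralizer.2 (e.trans z1)).le)).trans bot_le)⟩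
  have dV : ⁅V, V⁆ ≤ W ⊓ C[W] := by_contra fun e =>
    (commutator_lt_of_solvable (solv_of_le h.sol hV) fun k => nz (k.le.trans bot_le)).not_ge
      (mV ⟨(der1_le V).trans hV, le_norm_commutator nW nW, le_norm_commutator nE nE, e⟩ (der1_le V))
  have cV := coprime_card_of_le h.cop hV le_rfl
  refine nz (le_inf hV (abel V hV nW nE (isMulCommutative_iff_le_cent.2
    (coprime_abelian_gen_cent1 h.ab h.nc nE cV fun x hx x1 => ?_))).2.1)
  have hX : zpowers x ≤ E := zpowers_le.2 hx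
  have lY : ⁅W ⊓ C1[x], E⁆ ⊔ N ≤ W := sup_le ((h.Wx_le hx).trans inf_le_left) (hN.trans inf_le_left)
  have l1 : V ⊓ C1[x] ≤ (⁅W ⊓ C1[x], E⁆ ⊔ N) ⊔ (W ⊓ C[W]) := by
    refine (inf_le_inf_right _ hV).trans ?_
    nth_rw 1 [← coprime_commutator_sup_cent (.inr (solvable_of_comm h.ab)) (h.nx hx)
      (coprime_card_of_le h.cop inf_le_left le_rfl)]
    rw [sup_assoc]
    exact sup_le_sup_left ((inf_le_inf_right _ inf_le_left).trans hC) _
  have l2 : ⁅V ⊓ C1[x], V ⊓ C1[x]⁆ ≤ ⁅W ⊓ C1[x], E⁆ ⊔ N := by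
    refine (commutator_mono l1 l1).trans ?_
    rw [commutator_sup_cent_eq (.inl (lY.trans nZ)) (inf_le_right.trans (centralizer_le (sup_le lY inf_le_left))),
      commutator_comm, commutator_sup_cent_eq (.inl (lY.trans nZ)) (inf_le_right.trans (centralizer_le lY))]
    exact der1_le _
  have l3 : V ⊓ C1[x] ≤ C[V ⊓ C1[x]] := commutator_eq_bot_iff_le_centralizer.1 (le_bot_iff.1 (z3 ▸ by
    have := (commutator_mono (inf_le_left (b := C1[x])) (inf_le_left (b := C1[x]))).trans dV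
    exact le_inf this ((le_inf l2 (this.trans z1)).trans (h.Y_inf hN hx x1))))
  refine le_cent_symm ?_
  nth_rw 1 [← coprime_commutator_sup_cent (.inr (solv_of_le (solvable_of_comm h.ab) hX)) (hX.trans nE)
    (coprime_card_of_le cV le_rfl hX)]
  refine sup_le ?_ (by rwa [cent_zpowers])
  rw [commutator_comm]
  refine commutator_le_cent_of_le_cent ((commutator_mono le_rfl inf_le_left).trans
    (dV.trans (z1.trans (centralizer_le hX)))) ((commutator_eq_bot_iff_le_centralizer.2 ?_).le.trans bot_le)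
  rw [cent_zpowers]; exact inf_le_right

end GL2

theorem gl2 {G : Type u} [Group G] [Finite G] {W N : Subgroup G} {b c : G} (hb : orderOf b = 2) (hc : orderOf c = 2)
    (ne : c ≠ b) (cm : c * b = b * c) (ho : Odd (Nat.card W)) (nb : b ∈ N[W]) (nc : c ∈ N[W])
    (hn : W ⊓ C[zpowers b ⊔ zpowers c] ≤ N[N])
    (h : ∀ x ∈ zpowers b ⊔ zpowers c, x ≠ 1 →
      ⁅W ⊓ C1[x], zpowers b ⊔ zpowers c⁆ ⊓ C[zpowers b ⊔ zpowers c] ≤ N) :
    ⁅W, zpowers b ⊔ zpowers c⁆ ⊓ C[zpowers b ⊔ zpowers c] ≤ N := by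
  have bb : b * b = 1 := by rw [← sq, ← hb, pow_orderOf_eq_one]
  have cc : c * c = 1 := by rw [← sq, ← hc, pow_orderOf_eq_one]
  have lb : zpowers b ⊔ zpowers c ≤ C1[b] := sup_le (zpowers_le.2 (mem_cent1.2 rfl)) (zpowers_le.2 (mem_cent1.2 cm))
  have lc : zpowers b ⊔ zpowers c ≤ C1[c] :=
    sup_le (zpowers_le.2 (mem_cent1.2 cm.symm)) (zpowers_le.2 (mem_cent1.2 rfl))
  have ab : zpowers b ⊔ zpowers c ≤ C[zpowers b ⊔ zpowers c] :=
    sup_le (zpowers_le.2 (mem_cent_iff_le_cent1.2 lb)) (zpowers_le.2 (mem_cent_iff_le_cent1.2 lc))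
  have k : ∀ {z y : G}, z * z = 1 → y ∈ zpowers z → y * y = 1 := by
    rintro z _ e ⟨n, rfl⟩
    rw [← (Commute.refl z).mul_zpow, e, one_zpow]
  have s2 : ∀ y ∈ zpowers b ⊔ zpowers c, y ^ 2 = 1 := fun y hy => by
    obtain ⟨u, hu, v, hv, rfl⟩ := (mem_sup_of_le_norm (le_norm_of_cent (le_sup_left.trans
      (ab.trans (centralizer_le (le_sup_right : zpowers c ≤ zpowers b ⊔ zpowers c)))))).1 hy
    have : Commute v u := ab (mem_sup_left hu) v (mem_sup_right hv)
    rw [sq, this.mul_mul_mul_comm, k bb hu, k cc hv, mul_one]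
  refine GL2.aux _ rfl ⟨GW.solv_odd ho, isMulCommutative_iff_le_cent.2 ab, fun cy => ?_,
    sup_le (zpowers_le.2 nb) (zpowers_le.2 nc), ?_, hn, h⟩
  · obtain ⟨g, hg⟩ := cy.exists_generator
    have k2 : ∀ y ∈ zpowers b ⊔ zpowers c, orderOf y = 2 → y = g := fun y hy o => by
      obtain ⟨n, hn⟩ := hg ⟨y, hy⟩
      have e : (g : G) ^ n = y := congrArg Subtype.val hn
      have g2 : (g : G) ^ (2 : ℤ) = 1 := by exact_mod_cast s2 g g.2
      rcases Int.even_or_odd' n with ⟨m, rfl | rfl⟩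
      · rw [zpow_mul, g2, one_zpow] at e
        simp [← e] at o
      · rw [← e, zpow_add_one, zpow_mul, g2, one_zpow, one_mul]
    exact ne ((k2 c (mem_sup_right (mem_zpowers c)) hc).trans (k2 b (mem_sup_left (mem_zpowers b)) hb).symm)
  · obtain ⟨n, hn⟩ := IsPGroup.exists_card_eq (p := 2) (G := ↥(zpowers b ⊔ zpowers c)) fun y =>
      ⟨1, Subtype.ext (by simpa using s2 y y.2)⟩
    rw [hn]
    exact (Nat.coprime_two_right.2 ho).pow_right _

end Cfsg.Agent.WA
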