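import Cfsg.Agent.WA.A2
import Cfsg.Agent.GW.P1

/-! Facts on `L₂(2^a)`. -/

set_option autoImplicit false
set_option linter.unusedSectionVars false
set_option linter.unusedVariables false

namespace Cfsg.Agent.WA.EV

open Cfsg Subgroup Cfsg.Agent.GT Cfsg.Agent.Cls Cfsg.Agent.GW Cfsg.Agent.GWP Cfsg.Agent.Cl
open scoped MatrixGroups

universe u

variable {F : Type} [Field F] {g k : SL(2, F)}

theorem gen {M : Subgroup SL(2, F)} (hx : ∀ c, X c ∈ M) (hy : ∀ c, Y c ∈ M) (g : SL(2, F)) :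
    g ∈ M := by
  have key : ∀ g : SL(2, F), g.1 1 0 ≠ 0 → g ∈ M := by
    intro g hc
    have hd := sl2_det g
    have : g = X ((g.1 0 0 - 1) / g.1 1 0) * Y (g.1 1 0) * X ((g.1 1 1 - 1) / g.1 1 0) := by
      apply sl2_ext <;> simp only [sl2_mul, X00, X01, X10, X11, Y00, Y01, Y10, Y11] <;> field_simp
      · ring
      · linear_combination -hd
      · ring
      · ring
    rw [this]
    exact mul_mem (mul_mem (hx _) (hy _)) (hx _)
  by_cases hc : g.1 1 0 = 0
  · have h0 : g.1 0 0 ≠ 0 := by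
      intro h0; have hd := sl2_det g; rw [hc, h0] at hd; simp at hd
    exact (mul_mem_cancel_left (hy 1)).1 (key (Y 1 * g) (by simp [sl2_mul, hc, h0]))
  · exact key g hc

theorem gen' {M : Subgroup SL(2, F)} (hx : ∀ c, X c ∈ M) (hg : g ∈ M) (hc : g.1 1 0 ≠ 0)
    (k : SL(2, F)) : k ∈ M := by
  refine gen hx (fun s => ?_) k
  have hd := sl2_det g
  obtain ⟨w, hw⟩ : ∃ w, w = X (-g.1 0 0 / g.1 1 0) * g * X (-g.1 1 1 / g.1 1 0) := ⟨_, rfl⟩
  have wM : w ∈ M := hw ▸ mul_mem (mul_mem (hx _) hg) (hx _)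
  have : Y s * w = w * X (-s / g.1 1 0 ^ 2) := by
    rw [hw]
    apply sl2_ext <;> simp only [sl2_mul, X00, X01, X10, X11, Y00, Y01, Y10, Y11] <;> field_simp
    · ring
    · ring
    · ring
    · linear_combination (-s * g.1 1 0) * hd
  exact (mul_mem_cancel_right wM).1 (this ▸ mul_mem wM (hx _))

variable (h2 : (2 : F) = 0)
include h2

theorem sq_inj {a b : F} (h : a * a = b * b) : a = b := by
  have : (a - b) ^ 2 = 0 := by linear_combination h + (b * b - a * b) * h2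
  exact sub_eq_zero.1 (pow_eq_zero_iff two_ne_zero |>.1 this)

theorem sq_iff : g * g = 1 ↔ g.1 1 1 = g.1 0 0 := by
  have hd := sl2_det g
  rw [sl2_eq_iff]
  simp only [sl2_mul, Matrix.SpecialLinearGroup.coe_one, Matrix.one_apply_eq, ne_eq, zero_ne_one,
    one_ne_zero, not_false_eq_true, Matrix.one_apply_ne]
  constructor
  · rintro ⟨e1, -, -, e4⟩
    exact sq_inj h2 (by linear_combination e4 - e1)
  · intro e
    rw [e] at hd ⊢
    refine ⟨?_, ?_, ?_, ?_⟩
    · linear_combination hd + g.1 0 1 * g.1 1 0 * h2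
    · linear_combination g.1 0 1 * g.1 0 0 * h2
    · linear_combination g.1 1 0 * g.1 0 0 * h2
    · linear_combination hd + g.1 0 1 * g.1 1 0 * h2

theorem sq4 (h : g * g * (g * g) = 1) : g * g = 1 := by
  rw [sq_iff h2] at h ⊢
  simp only [sl2_mul] at h
  exact sq_inj h2 (by linear_combination h)

theorem cent (e : g * X 1 = X 1 * g) : ∃ c, g = X c := by
  have hd := sl2_det g
  rw [sl2_eq_iff] at e
  simp only [sl2_mul, X00, X01, X10, X11] at e
  obtain ⟨e1, e2, -, -⟩ := e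
  have h10 : g.1 1 0 = 0 := by linear_combination -e1
  have h01 : g.1 1 1 = g.1 0 0 := by linear_combination -e2
  rw [h10, h01] at hd
  have h0 : g.1 0 0 = 1 := sq_inj h2 (by linear_combination hd)
  exact ⟨g.1 0 1, by apply sl2_ext <;> simp only [X00, X01, X10, X11, h10, h01, h0]⟩

theorem XX (c : F) : X c * X c = 1 := (sq_iff h2).2 rfl
theorem YY (c : F) : Y c * Y c = 1 := (sq_iff h2).2 rfl

theorem conj (sq : ∀ a : F, IsSquare a) (h : g * g = 1) (h1 : g ≠ 1) : ∃ k, k * X 1 * k⁻¹ = g := by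
  have hd := sl2_det g
  rw [sq_iff h2] at h
  obtain ⟨b, hb⟩ := sq (g.1 0 1)
  obtain ⟨c, hc⟩ := sq (g.1 1 0)
  rw [h, hb, hc] at hd
  have ha : g.1 0 0 = 1 + b * c := sq_inj h2 (by linear_combination hd - (b * c) * h2)
  have key : ∀ k : SL(2, F), k.1 0 0 = b → k.1 1 0 = c → k * X 1 * k⁻¹ = g := by
    intro k k0 k1
    have hk := sl2_det k
    rw [k0, k1] at hk
    rw [mul_inv_eq_iff_eq_mul]
    apply sl2_ext <;> simp only [sl2_mul, X00, X01, X10, X11, k0, k1, h, ha, hb, hc]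
    · linear_combination (-b * b * c) * h2
    · linear_combination (-b) * hk - (b * c * k.1 0 1) * h2
    · linear_combination (-b * c * c) * h2
    · linear_combination (-c) * hk - (c * c * k.1 0 1) * h2
  by_cases b0 : b = 0
  · have c0 : c ≠ 0 := fun c0 => h1 (by
      apply sl2_ext <;> simp [h, ha, hb, hc, b0, c0])
    exact ⟨sl2mk b (-c⁻¹) c 0 (by field_simp; ring), key _ rfl rfl⟩
  · exact ⟨sl2mk b 0 c b⁻¹ (by field_simp; ring), key _ rfl rfl⟩

theorem braid {c : F} (hc : c ≠ 0) : X c⁻¹ * Y c * X c⁻¹ = Y c * X c⁻¹ * Y c := by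
  apply sl2_ext <;> simp only [sl2_mul, X00, X01, X10, X11, Y00, Y01, Y10, Y11] <;> field_simp
  · ring
  · linear_combination h2
  · linear_combination (-c) * h2
  · ring

theorem braid' {c : F} (hc : c ≠ 0) (h : g * g = 1) (e : X c⁻¹ * g * X c⁻¹ = g * X c⁻¹ * g) :
    (∃ s, g = X s) ∨ ∃ s, g = X s * Y c * X s := by
  have hd := sl2_det g
  rw [sq_iff h2] at h
  have e := congrArg (fun g : SL(2, F) => g.1 1 0) e
  simp only [sl2_mul, X00, X01, X10, X11, h] at e
  rw [h] at hd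
  have : g.1 1 0 * (g.1 1 0 - c) = 0 := by
    field_simp at e
    linear_combination -e - (g.1 1 0 * g.1 0 0 * c) * h2
  rcases mul_eq_zero.1 this with h0 | h0
  · rw [h0] at hd
    have : g.1 0 0 = 1 := sq_inj h2 (by linear_combination hd)
    exact Or.inl ⟨g.1 0 1, by apply sl2_ext <;> simp only [X00, X01, X10, X11, h, h0, this]⟩
  · rw [sub_eq_zero] at h0
    rw [h0] at hd
    refine Or.inr ⟨(g.1 0 0 - 1) / c, ?_⟩
    apply sl2_ext <;> simp only [sl2_mul, X00, X01, X10, X11, Y00, Y01, Y10, Y11, h, h0] <;>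
      field_simp
    · ring
    · linear_combination -hd
    · ring
    · ring

omit h2 in
theorem exists_pi {G : Type u} [Group G] (h : L2e G) :
    ∃ (F : Type) (_ : Field F) (π : SL(2, F) ≃* G), (2 : F) = 0 ∧ ∀ a : F, IsSquare a := by
  obtain ⟨a, ha, F, _, _, hc, ⟨e⟩⟩ := h
  have c : ringChar F = 2 := FiniteField.even_card_iff_char_two.2 (by
    obtain ⟨b, rfl⟩ := Nat.exists_eq_add_of_le ha
    rw [hc, pow_add]; omega)
  have h2 : (2 : F) = 0 := by exact_mod_cast (ringChar.spec F 2).2 (c ▸ dvd_rfl)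
  have i : Function.Bijective (QuotientGroup.mk' (center SL(2, F))) := by
    refine ⟨(injective_iff_map_eq_one _).2 fun g hg => ?_, QuotientGroup.mk'_surjective _⟩
    rcases (Cl.sl2_mem_center_iff g).1 ((QuotientGroup.eq_one_iff _).1 hg) with e | e
    · exact e
    · rw [e]
      apply sl2_ext <;> simp [neg_ap, neg_eq_iff_add_eq_zero, one_add_one_eq_two, h2]
  exact ⟨F, _, (MulEquiv.ofBijective _ i).trans e.symm, h2, FiniteField.isSquare_of_char_two c⟩

omit h2 in
theorem exists_pi' {G : Type u} [Group G] [Finite G] (h : L2e G) {z : G} (hz : orderOf z = 2) :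
    ∃ (F : Type) (_ : Field F) (π : SL(2, F) ≃* G), (2 : F) = 0 ∧ π (X 1) = z := by
  obtain ⟨F, _, π, h2, sq⟩ := exists_pi h
  obtain ⟨g, rfl⟩ := π.surjective z
  obtain ⟨k, rfl⟩ := conj h2 sq (g := g) (π.injective (by rw [map_mul, sq1 hz, map_one]))
    fun e => ne1 hz (by rw [e, map_one])
  exact ⟨F, _, (MulAut.conj k).trans π, h2, rfl⟩

variable {G : Type u} [Group G] [Finite G] (π : SL(2, F) ≃* G)

theorem mem_c {x : G} : x ∈ C1[π (X 1)] ↔ ∃ c, π (X c) = x := by
  obtain ⟨g, rfl⟩ := π.surjective x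
  rw [mem_cent1, ← map_mul, ← map_mul, π.apply_eq_iff_eq]
  refine ⟨fun e => (cent h2 e).imp fun c e => by rw [e], ?_⟩
  rintro ⟨c, e⟩
  rw [← π.injective e, ← X_add, ← X_add, add_comm]

theorem pc : IsPGroup 2 C1[π (X 1)] := fun x => ⟨1, Subtype.ext (by
  obtain ⟨c, e⟩ := (mem_c h2 π).1 x.2
  simp only [pow_one, pow_two, coe_mul, ← e, ← map_mul, XX h2, map_one, coe_one])⟩

end Cfsg.Agent.WA.EV

namespace Cfsg.Agent.WA

open Cfsg Subgroup Cfsg.Agent.GT Cfsg.Agent.Cls Cfsg.Agent.GW Cfsg.Agent.GWP Cfsg.Agent.Cl EV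
open scoped MatrixGroups

universe u

theorem l2E : L2E.{u} := by
  intro G _ _ h
  refine ⟨fun z _ hz M _ M1 hM => ?_, fun x _ hx => ?_, fun z _ w _ hz hw => ?_⟩
  · obtain ⟨F, _, π, h2, rfl⟩ := exists_pi' h hz
    rw [top_inf_eq] at hM
    have hx : ∀ c, X c ∈ M.comap π.toMonoidHom := fun c => hM ((mem_c h2 π).2 ⟨c, rfl⟩)
    refine le_piCoreOf hM (le_norm_iff.2 fun a ha x hx' => ?_)
      (isPi_of_isPGroup Nat.prime_two (pc h2 π)) (mem_cent1.2 rfl)
    obtain ⟨g, rfl⟩ := π.surjective a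
    obtain ⟨c, rfl⟩ := (mem_c h2 π).1 hx'
    have hc : g.1 1 0 = 0 := by
      by_contra hc
      refine M1 (eq_top_iff.2 fun y _ => ?_)
      obtain ⟨k, rfl⟩ := π.surjective y
      exact gen' hx (g := g) ha hc k
    refine (mem_c h2 π).2 ⟨g.1 0 0 ^ 2 * c, ?_⟩
    rw [← map_inv, ← map_mul, ← map_mul, π.apply_eq_iff_eq, eq_mul_inv_iff_mul_eq]
    have hd := sl2_det g
    rw [hc] at hd
    apply sl2_ext <;> simp only [sl2_mul, X00, X01, X10, X11, hc]
    · ring
    · linear_combination (g.1 0 0 * c) * hd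
    · ring
    · ring
  · obtain ⟨F, _, π, h2, -⟩ := exists_pi h
    obtain ⟨g, rfl⟩ := π.surjective x
    obtain ⟨n, hn⟩ := hx ⟨_, mem_zpowers _⟩
    replace hn : g ^ 2 ^ n = 1 := π.injective (by simpa using congrArg Subtype.val hn)
    rw [← map_mul, ← map_one π]
    congr 1
    clear hx
    induction n generalizing g with
    | zero => simp_all
    | succ n ih => exact sq4 h2 (ih (g * g) (mem_top _) (by rw [← pow_two, ← pow_mul, ← pow_succ', hn]))
  · obtain ⟨F, _, π, h2, sq⟩ := exists_pi h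
    have key : ∀ z : G, orderOf z = 2 → IsConj (π (X 1)) z := fun z hz => by
      obtain ⟨g, rfl⟩ := π.surjective z
      obtain ⟨k, e⟩ := conj h2 sq (g := g) (π.injective (by rw [map_mul, sq1 hz, map_one]))
        fun e => ne1 hz (by rw [e, map_one])
      exact isConj_iff.2 ⟨π k, by rw [← e, map_mul, map_mul, map_inv]⟩
    obtain ⟨g, e⟩ := isConj_iff.1 ((key z hz).symm.trans (key w hw))
    exact ⟨g, mem_top g, e⟩

theorem l2e_rig : RIG.{u} := by
  intro G _ _ h
  refine ⟨fun z hz => ?_, fun z hz φ ho hφ => ?_⟩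
  · obtain ⟨F, _, π, h2, rfl⟩ := exists_pi' h hz
    exact pc h2 π
  obtain ⟨F, _, π, h2, rfl⟩ := exists_pi' h hz
  have hx : ∀ c, φ (π (X c)) = π (X c) := fun c => hφ _ ((mem_c h2 π).2 ⟨c, rfl⟩)
  have hy : ∀ c, φ (π (Y c)) = π (Y c) := by
    intro c
    by_cases hc : c = 0
    · rw [hc, Y_zero, map_one, map_one]
    obtain ⟨g, hg⟩ := π.surjective (φ (π (Y c)))
    have e1 : g * g = 1 := π.injective (by
      rw [map_mul, hg, ← map_mul, ← map_mul, YY h2, map_one, map_one])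
    have e2 : X c⁻¹ * g * X c⁻¹ = g * X c⁻¹ * g := π.injective (by
      simp only [map_mul, hg]
      rw [← hx c⁻¹]
      simp only [← map_mul, braid h2 hc])
    rcases braid' h2 hc e1 e2 with ⟨s, rfl⟩ | ⟨s, rfl⟩
    · rw [← hx s, φ.apply_eq_iff_eq, π.apply_eq_iff_eq] at hg
      exact (hc (by simpa using (congrArg (fun g : SL(2, F) => g.1 1 0) hg).symm)).elim
    · refine aut_fix ho ?_
      rw [← hg, map_mul, map_mul, map_mul, map_mul, hx, ← hg, ← map_mul, ← map_mul]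
      congr 1
      calc _ = (X s * X s) * Y c * (X s * X s) := by group
        _ = _ := by rw [XX h2]; group
  ext x
  obtain ⟨g, rfl⟩ := π.surjective x
  exact hom_ext_XY (φ := φ.toMonoidHom.comp π.toMonoidHom) (ψ := π.toMonoidHom) hx hy g

end Cfsg.Agent.WA
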