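import Cfsg.Agent.WA.A7
import Cfsg.Agent.WA.GL2
import Cfsg.Agent.WA.FA
import Cfsg.Agent.WA.L2E

/-! Part B2 of Walter's theorem. -/

set_option autoImplicit false

namespace Cfsg.Agent.WA

universe u

theorem b2 : B2.{u} :=
  b2_of l2e_rig (fun _ _ _ _ _ _ _ h1 h2 h3 h4 h5 h6 h7 h8 h9 => gl2 h1 h2 h3 h4 h5 h6 h7 h8 h9)
    (fun _ _ _ _ _ _ _ _ _ h1 h2 h3 h4 h5 h6 h7 h8 h9 h10 h11 h12 h13 h14 h15 =>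
      g1 h1 h2 h3 h4 h5 h6 h7 h8 h9 h10 h11 h12 h13 h14 h15)
    fun _ _ _ _ _ _ _ h1 h2 h3 h4 h5 h6 h7 h8 h9 h10 h11 h12 =>
      fin_a h1 h2 h3 h4 h5 h6 h7 h8 h9 h10 h11 h12

end Cfsg.Agent.WA
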