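import Cfsg.Agent.WA.DDef

/-! Vanishing of `H¹` for a Frobenius complement. -/

set_option autoImplicit false
set_option linter.unusedSectionVars false
set_option linter.unusedVariables false

namespace Cfsg.Agent.WA

open Cfsg Subgroup Cfsg.Agent.GT
open scoped Classical

universe u

theorem h1_mod {Γ V : Type*} [Group Γ] [Fintype Γ] [CommGroup V] [Finite V] (ρ : Γ →* MulAut V) {K E : Subgroup Γ}
    (nK : E ≤ N[K]) (sr : ∀ a ∈ E, ∀ k ∈ K, Commute a k → a = 1 ∨ k = 1) (fx : ∀ v, (∀ k ∈ K, ρ k v = v) → v = 1)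
    (cop : (Nat.card V).Coprime (Nat.card K)) (B : Subgroup V) (hB : ∀ a ∈ E, ∀ v, v⁻¹ * ρ a v ∈ B) {y : V}
    (hy : ∏ a : E, ρ a y = 1) : y ∈ B := by
  let π := QuotientGroup.mk' B
  have hπ : ∀ a ∈ E, ∀ v, π (ρ a v) = π v := fun a ha v => (QuotientGroup.eq.2 (hB a ha v)).symm
  let F : K → V ⧸ B := fun k => ∏ a : E, π (ρ (k * a * (k : Γ)⁻¹) y)
  have c1 : ∏ k, F k = π y ^ Nat.card K := by
    rw [Finset.prod_comm, Finset.prod_eq_single (1 : E) (fun a _ a1 => ?_) (by simp)]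
    · simp
    let φ : K → K := fun k => ⟨k * (a * (k : Γ)⁻¹ * (a : Γ)⁻¹), mul_mem k.2 (conj_mem_of_mem_norm (nK a.2) (inv_mem k.2))⟩
    have inj : Function.Injective φ := fun k k' e => by
      have e := congrArg Subtype.val e
      refine Subtype.ext (inv_mul_eq_one.1 ((sr a a.2 _ (mul_mem (inv_mem k'.2) k.2) ?_).resolve_left
        fun e => a1 (Subtype.ext e))).symm
      change (k : Γ) * (a * (k : Γ)⁻¹ * (a : Γ)⁻¹) = k' * (a * (k' : Γ)⁻¹ * (a : Γ)⁻¹) at e
      calc (a : Γ) * ((k' : Γ)⁻¹ * k) = (k' : Γ)⁻¹ * (k' * (a * (k' : Γ)⁻¹ * (a : Γ)⁻¹)) * a * k := by group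
        _ = _ := by rw [← e]; group
    rw [Finset.prod_congr rfl (g := fun k => π (ρ (φ k) (ρ a y))) fun k _ => by
      rw [← MulAut.mul_apply, ← map_mul]; simp [φ, mul_assoc],
      Fintype.prod_bijective φ (Finite.injective_iff_bijective.1 inj) _ (fun k : K => π (ρ k (ρ a y))) fun _ => rfl,
      ← map_prod, fx (∏ k : K, ρ k (ρ a y)) fun k hk => ?_, map_one]
    rw [map_prod]
    exact Fintype.prod_equiv (Equiv.mulLeft (⟨k, hk⟩ : K)) _ _ fun j => by simp
  let R : Setoid K := ⟨fun k k' => ∃ a ∈ E, (k : Γ) = a * k' * a⁻¹, fun k => ⟨1, one_mem _, by simp⟩,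
    fun ⟨a, ha, e⟩ => ⟨a⁻¹, inv_mem ha, by rw [e]; group⟩,
    fun ⟨a, ha, e⟩ ⟨b, hb, e'⟩ => ⟨a * b, mul_mem ha hb, by rw [e, e']; group⟩⟩
  have c2 : ∏ k, F k = 1 := Finset.prod_cancels_of_partition_cancels R fun x _ => by
    by_cases x1 : x = 1
    · refine Finset.prod_eq_one fun k hk => ?_
      obtain ⟨a, -, e⟩ := (Finset.mem_filter.1 hk).2
      rw [x1, coe_one, mul_one, mul_inv_cancel] at e
      simp only [F, e, one_mul, inv_one, mul_one, ← map_prod, hy, map_one]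
    let ψ : E → K := fun a => ⟨a * x * (a : Γ)⁻¹, conj_mem_of_mem_norm (nK a.2) x.2⟩
    rw [← Finset.prod_bij (s := Finset.univ) (f := fun a => F (ψ a)) (fun a _ => ψ a)
      (fun a _ => Finset.mem_filter.2 ⟨Finset.mem_univ _, a, a.2, rfl⟩) (fun a _ b _ e => ?_)
      (fun k hk => ?_) fun _ _ => rfl]
    · rw [Finset.prod_congr rfl (g := fun b : E => ∏ a : E, π (ρ (x * a * (x : Γ)⁻¹) (ρ (b⁻¹ : E) y))) fun b _ => ?_,
        Finset.prod_comm]
      · refine Finset.prod_eq_one fun a _ => ?_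
        rw [← map_prod, ← map_prod, Fintype.prod_equiv (Equiv.inv E) (fun b : E => ρ (b⁻¹ : E) y) (fun b : E => ρ b y) fun _ => rfl, hy,
          map_one, map_one]
      · refine (Fintype.prod_equiv (MulAut.conj b).toEquiv _ _ fun a => ?_).symm
        rw [← hπ b b.2, ← MulAut.mul_apply, ← MulAut.mul_apply, ← map_mul, ← map_mul]
        simp [ψ, mul_assoc]
    · have e : (a : Γ) * x * (a : Γ)⁻¹ = b * x * (b : Γ)⁻¹ := congrArg Subtype.val e
      refine Subtype.ext (inv_mul_eq_one.1 ((sr _ (mul_mem (inv_mem b.2) a.2) x x.2 ?_).resolve_right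
        fun e => x1 (Subtype.ext e))).symm
      calc (b : Γ)⁻¹ * a * x = (b : Γ)⁻¹ * (a * x * (a : Γ)⁻¹) * a := by group
        _ = _ := by rw [e]; group
    · obtain ⟨a, ha, e⟩ := (Finset.mem_filter.1 hk).2
      exact ⟨⟨a, ha⟩, Finset.mem_univ _, Subtype.ext e.symm⟩
  exact (QuotientGroup.eq_one_iff y).1 ((pow_eq_one_iff_of_coprime cop).1
    ⟨by rw [← QuotientGroup.mk_pow, pow_card_eq_one', QuotientGroup.mk_one], c1.symm.trans c2⟩)

theorem pH1 : PH1.{u} := by
  intro G _ _ K W e y pW hK KW eW eK hC sr hy ye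
  have := Fintype.ofFinite G
  induction hn : Nat.card W using Nat.strong_induction_on generalizing W y with
  | _ n ih =>
  by_cases W1 : W = ⊥
  · subst W1; exact ⟨1, one_mem _, by simp [mem_bot.1 hy]⟩
  have sW := solvable_of_isPGroup Nat.prime_three pW
  have lt := commutator_lt_of_solvable sW W1
  have nW : N[W] ≤ N[⁅W, W⁆] := le_norm_commutator le_rfl le_rfl
  have cop : (Nat.card W).Coprime (Nat.card K) := by
    obtain ⟨k, hk⟩ := (haveI := Fact.mk Nat.prime_three; IsPGroup.iff_card.1 pW)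
    rw [hk]; exact ((Nat.prime_three.coprime_iff_not_dvd).2 hK).pow_left k
  obtain ⟨Q, _, _, f, hf, hk⟩ := exists_quo' N[W] _ (lt.le.trans le_normalizer) nW
  have : (im f W).Normal := normal_iff_top_le_norm.2 (im_dom_of_surj hf ▸ im_norm le_rfl)
  have cm : IsMulCommutative (im f W) := (comm_im_iff le_normalizer).2 hk.ge
  let : CommGroup (im f W) := { (inferInstance : Group (im f W)) with mul_comm := cm.1.1 }
  let ρ : N[W] →* MulAut (im f W) := MulAut.conjNormal.comp f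
  let e' : N[W] := ⟨e, eW⟩
  let y' : im f W := ⟨f ⟨y, le_normalizer hy⟩, mem_im_of_mem _ hy⟩
  let δ : im f W →* im f W := (MonoidHom.id _)⁻¹ * (ρ e').toMonoidHom
  obtain ⟨⟨_, ⟨c, cW⟩, hc, rfl⟩, k⟩ : y' ∈ δ.range := by
    refine h1_mod ρ (K := K.subgroupOf N[W]) (E := zpowers e') (zpowers_le.2 (mem_normalizer_fintype fun k hk =>
      mem_subgroupOf.2 (conj_mem_of_mem_norm eK (mem_subgroupOf.1 hk)))) (fun a ⟨i, ha⟩ k hk c => (sr a ⟨i, congrArg Subtype.val ha⟩ k hk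
        (congrArg Subtype.val c)).imp Subtype.ext Subtype.ext) (fun v hv => Subtype.ext ?_)
      (by rw [Nat.card_congr (subgroupOfEquivOfLe KW).toEquiv]; exact cop.coprime_dvd_left card_im_dvd) _
      (fun a ha v => ?_) ?_
    · have : (v : Q) ∈ im f W ⊓ C[im f K] := ⟨v.2, by
        rintro _ ⟨k, hk, rfl⟩
        exact mul_inv_eq_iff_eq_mul.1 (congrArg Subtype.val (hv k hk))⟩
      rwa [← im_inf_cent_of_coprime' le_normalizer KW KW (.inl sW) cop, hC, im_bot] at this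
    · obtain ⟨i, rfl⟩ := mem_powers_iff_mem_zpowers.2 ha
      induction i with
      | zero => simp
      | succ i ih =>
        have := mul_mem (ih (pow_mem (mem_zpowers _) _)) (show δ (ρ (e' ^ i) v) ∈ δ.range from ⟨_, rfl⟩)
        simpa [δ, pow_succ'] using this
    · have p : ∀ n, (y' * f e' : Q) ^ n = (∏ i ∈ Finset.range n, ρ (e' ^ i) y' : im f W) * f e' ^ n := fun n => by
        induction n with
        | zero => simp
        | succ n ih => rw [pow_succ, ih, Finset.prod_range_succ]; simp [ρ, -map_pow, ← map_pow f, pow_succ, mul_assoc]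
      have p1 := p (orderOf e')
      rw [← map_pow, pow_orderOf_eq_one, map_one, mul_one, ← map_mul, ← map_pow,
        show (⟨y, le_normalizer hy⟩ * e') ^ orderOf e' = 1 from Subtype.ext (by rw [orderOf_mk]; exact ye), map_one,
        Finset.prod_range, eq_comm, OneMemClass.coe_eq_one] at p1
      rw [← p1]
      exact (Fintype.prod_equiv (finEquivZPowers (isOfFinOrder_of_finite e')) _ _ fun i => rfl).symm
  have m : c * y * (e * c⁻¹ * e⁻¹) ∈ ⁅W, W⁆ := by
    have k : (f ⟨c, cW⟩)⁻¹ * (f e' * f ⟨c, cW⟩ * (f e')⁻¹) = f ⟨y, le_normalizer hy⟩ := congrArg Subtype.val k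
    rw [← hk, mem_kr' (mul_mem (mul_mem cW (le_normalizer hy)) (mul_mem (mul_mem eW (inv_mem cW)) (inv_mem eW)))]
    change f (⟨c, cW⟩ * ⟨y, le_normalizer hy⟩ * (e' * ⟨c, cW⟩⁻¹ * e'⁻¹)) = 1
    simp only [map_mul, map_inv, ← k]; group
  have ee : c * y * (e * c⁻¹ * e⁻¹) * e = c * (y * e) * c⁻¹ := by group
  obtain ⟨d, hd, k⟩ := ih _ (hn ▸ card_lt_of_lt lt) _ _ (pW.to_le lt.le) (KW.trans nW) (nW eW)
    (eq_bot_iff.2 (hC ▸ inf_le_inf_right _ lt.le)) m (by rw [ee, conj_pow, ye, mul_one, mul_inv_cancel]) rfl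
  exact ⟨d * c, mul_mem (lt.le hd) hc, Eq.trans (by rw [ee]; group) k⟩

end Cfsg.Agent.WA
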