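import Cfsg.Agent.WA.DB
import Cfsg.Agent.WA.DH1

/-! Groups of Janko-Ree type, `D = 1`: case (A), `3 ∣ |D|`. -/

set_option autoImplicit false
set_option linter.unusedSectionVars false
set_option linter.unusedVariables false

namespace Cfsg.Agent.WA

open Cfsg Subgroup Cfsg.Agent.GT Cfsg.Agent.GW

universe u

theorem aa_ker {A : Type*} [AddCommGroup A] [Finite A] (φ : AddMonoid.End A) (n : ℕ) :
    Nat.card (φ ^ n).ker ≤ Nat.card φ.ker ^ n := by
  induction n with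
  | zero =>
    rw [pow_zero, pow_zero, show (1 : AddMonoid.End A).ker = ⊥ from (AddMonoidHom.ker_eq_bot_iff _).2 fun _ _ e => e]
    simp
  | succ n ih =>
    let ψ : (φ ^ (n + 1)).ker →+ (φ ^ n).ker :=
      (AddMonoidHom.comp φ (φ ^ (n + 1)).ker.subtype).codRestrict (φ ^ n).ker fun v => by
        exact (DFunLike.congr_fun (pow_succ φ n) v.1).symm.trans v.2
    rw [AddSubgroup.card_eq_card_quotient_mul_card_addSubgroup ψ.ker, Nat.pow_succ]
    refine Nat.mul_le_mul (le_trans ?_ ih) ?_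
    · exact Nat.card_le_card_of_injective _ (QuotientAddGroup.kerLift_injective ψ)
    · exact Nat.card_le_card_of_injective (fun v => ⟨v.1.1, congrArg Subtype.val v.2⟩) fun a b e =>
        Subtype.ext (Subtype.ext (Subtype.mk.inj e))

theorem aa_frob {R : Type*} [Ring R] (h3 : (3 : R) = 0) (j : ℕ) (σ : R) : (σ - 1) ^ 3 ^ j = σ ^ 3 ^ j - 1 := by
  induction j generalizing σ with
  | zero => simp
  | succ j ih =>
    have : (σ - 1) ^ 3 = σ ^ 3 - 1 := by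
      rw [show (σ - 1) ^ 3 = σ ^ 3 - 1 - 3 * (σ ^ 2 - σ) by noncomm_ring, h3, zero_mul, sub_zero]
    rw [pow_succ', pow_mul, pow_mul, this, ih]

variable {G : Type u} [Group G] [Finite G] {S L D E V X U T P : Subgroup G} {t u a c e g y : G} {q : ℕ}

theorem aa_fix (cm : V ≤ C[V]) (ex : ∀ a ∈ V, a ^ 3 = 1) (hc : c ∈ N[V]) {j : ℕ} (o : c ^ 3 ^ j = 1) :
    Nat.card V ≤ Nat.card ↥(V ⊓ C1[c]) ^ 3 ^ j := by
  let _ : CommGroup V := { (inferInstance : Group V) with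
    mul_comm := fun a b => Subtype.ext (le_cent_iff.1 cm _ b.2 _ a.2) }
  let σ : AddMonoid.End (Additive V) := MonoidHom.toAdditive (V.normalizerMonoidHom ⟨c, hc⟩).toMonoidHom
  have hσ : ∀ (n : ℕ) (v : Additive V), (((σ ^ n) v).toMul : G) = c ^ n * v.toMul * (c ^ n)⁻¹ := fun n v => by
    induction n with
    | zero => simp
    | succ n ih =>
      rw [pow_succ', AddMonoid.End.coe_mul, Function.comp_apply]
      change c * (((σ ^ n) v).toMul : G) * c⁻¹ = _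
      rw [ih, pow_succ']; group
  have h3 : (3 : AddMonoid.End (Additive V)) = 0 := AddMonoidHom.ext fun v => by
    change (3 : ℕ) • v = 0
    exact Additive.toMul.injective (Subtype.ext (ex _ v.toMul.2))
  have k := aa_ker (σ - 1) (3 ^ j)
  rw [aa_frob h3, show σ ^ 3 ^ j = 1 from AddMonoidHom.ext fun v => Additive.toMul.injective (Subtype.ext (
    (hσ _ v).trans (by rw [o, one_mul, inv_one, mul_one]; rfl))), sub_self, show (0 : AddMonoid.End (Additive V)).ker = ⊤ from AddMonoidHom.ker_zero,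
    AddSubgroup.card_top] at k
  have m : ∀ v : (σ - 1).ker, (v.1.toMul : G) ∈ V ⊓ C1[c] := fun v => by
    have := congrArg (fun w : Additive V => (w.toMul : G)) (sub_eq_zero.1 (show σ v.1 - v.1 = 0 from v.2))
    change c * (v.1.toMul : G) * c⁻¹ = v.1.toMul at this
    exact ⟨v.1.toMul.2, mem_cent1.2 (mul_inv_eq_iff_eq_mul.1 this).symm⟩
  exact k.trans (Nat.pow_le_pow_left (Nat.card_le_card_of_injective (fun v => (⟨_, m v⟩ : ↥(V ⊓ C1[c])))
    fun a b e => Subtype.ext (Additive.toMul.injective (Subtype.ext (Subtype.mk.inj e)))) _)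

theorem aa_pow (hc : c ∈ N[P]) (hy : y ∈ P) (n : ℕ) : (y * c) ^ n * (c ^ n)⁻¹ ∈ P := by
  induction n with
  | zero => simpa using one_mem P
  | succ n ih =>
    rw [pow_succ', pow_succ', show y * c * (y * c) ^ n * (c * c ^ n)⁻¹ = y * (c * ((y * c) ^ n * (c ^ n)⁻¹) * c⁻¹) by group]
    exact mul_mem hy (conj_mem_of_mem_norm hc ih)

theorem aa_le (hX : IsPGroup 3 X) {b n : ℕ} (d : Nat.card X ∣ 3 ^ b * n) (hn : ¬ 3 ∣ n) : Nat.card X ≤ 3 ^ b := by
  have := Fact.mk Nat.prime_three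
  obtain ⟨k, hk⟩ := hX.exists_card_eq
  exact Nat.le_of_dvd (by positivity) ((hk ▸ ((Nat.prime_three.coprime_iff_not_dvd.2 hn).pow_left k)).dvd_of_dvd_mul_right d)

/-- a nontrivial 3-group normalized by `T` has order at least `q`. -/
theorem W4.q_le (h : B3 S t u L D U T q) (w : W4 t D U T P) (le : V ≤ P) (n : T ≤ N[V]) (ne : V ≠ ⊥) :
    q ≤ Nat.card V := by
  have := Fact.mk Nat.prime_three
  obtain ⟨v, hv, v1⟩ := exists_ne_one_of_ne_bot ne
  have k : Nat.card T ≤ Nat.card V := Nat.card_le_card_of_injective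
    (fun y : T => (⟨y * v * (y : G)⁻¹, conj_mem_of_le_norm n y.2 hv⟩ : V)) fun a b e => by_contra fun ab => by
      have e : (a : G) * v * (a : G)⁻¹ = b * v * (b : G)⁻¹ := congrArg Subtype.val e
      refine v1 (mem_bot.1 (W4.fp h w (mul_mem (inv_mem b.2) a.2) (fun e => ab (Subtype.ext (inv_mul_eq_one.1 e).symm)) ▸
        (⟨le hv, mem_cent1.2 ?_⟩ : v ∈ P ⊓ C1[(b : G)⁻¹ * a])))
      calc v * ((b : G)⁻¹ * a) = (b : G)⁻¹ * (b * v * (b : G)⁻¹) * a := by group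
        _ = _ := by rw [← e]; group
  obtain ⟨j, hj⟩ := (w.pg.to_le le).exists_card_eq
  obtain ⟨m, -, e⟩ := h.q3
  have := h.q27
  have := h.cardT
  rw [hj] at k ⊢
  rw [e]
  refine Nat.pow_le_pow_right (by norm_num) (Nat.succ_le_of_lt ((Nat.pow_lt_pow_iff_right (a := 3) (by norm_num)).1 ?_))
  rw [pow_succ] at e
  omega

/-- `E` is elementary and consists of conjugates of elements of `U`, or of real elements. -/
structure AE (U E : Subgroup G) : Prop where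
  cm : E ≤ C[E]
  ex : ∀ a ∈ E, a ^ 3 = 1
  alt : (∀ a ∈ E, ∃ g, g * a * g⁻¹ ∈ U) ∨ ∀ a ∈ E, ∃ g, g * a * g⁻¹ = a⁻¹

theorem AE.conj (h : AE U E) (g : G) : AE U cj[g] E := by
  refine ⟨conj_centralizer g E ▸ conj_mono g h.cm, fun a ha => ?_, h.alt.imp (fun k a ha => ?_) fun k a ha => ?_⟩ <;>
    obtain ⟨b, hb, rfl⟩ := mem_conj_iff_exists.1 ha
  · rw [conj_pow, h.ex b hb, mul_one, mul_inv_cancel]
  · obtain ⟨c, hc⟩ := k b hb
    exact ⟨c * g⁻¹, by rwa [show c * g⁻¹ * (g * b * g⁻¹) * (c * g⁻¹)⁻¹ = c * b * c⁻¹ by group]⟩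
  · obtain ⟨c, hc⟩ := k b hb
    exact ⟨g * c * g⁻¹, by rw [conj_inv, conj_mul, conj_mul, hc, conj_inv]⟩

theorem AE.le (h : AE U E) (le : X ≤ E) : AE U X :=
  ⟨le.trans (h.cm.trans (cent_anti le)), fun a ha => h.ex a (le ha),
    h.alt.imp (fun k a ha => k a (le ha)) fun k a ha => k a (le ha)⟩

theorem AE.inf (h : B3 S t u L D U T q) (k : AE U E) : E ⊓ D = ⊥ := eq_bot_iff.2 fun a ha => by
  rcases k.alt with r | r <;> obtain ⟨g, hg⟩ := r a ha.1
  · have := h.jr.f1L ha.2 (h.jr.le (h.UL hg))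
    exact h.jr.inf ▸ ⟨ha.2, L.inv_mem_iff.1 ((mul_mem_cancel_left (h.UL hg)).1 this)⟩
  · exact h.ni a t g ((PG.isPGroup_of_forall_pow k.ex).to_le (zpowers_le.2 ha.1)) h.jr.ord (mem_cent1.1 (h.jr.Dt ha.2)) hg

theorem JR'.card_CC (h : JR' S t L D) (he : e ∈ D) :
    Nat.card ↥(C1[t] ⊓ C1[e]) ∣ 2 * Nat.card ↥(L ⊓ C1[e]) * Nat.card D := by
  have De : D ≤ C1[e] := h.DD.trans (cent_le_cent1 he)
  have te : t ∈ C1[e] := mem_cent1_comm.1 (h.Dt he)
  have n : zpowers t ≤ N[L ⊓ C1[e]] := le_norm_inf (zp_norm (h.norm (self_mem_cent1 t))) (le_norm_cent1 (zpowers_le.2 te))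
  refine (card_dvd_of_le (K := (zpowers t ⊔ (L ⊓ C1[e])) ⊔ D) fun c hc => ?_).trans ((card_sup_dvd (.inr (le_norm_sup
    (le_norm_of_cent (cent_zpowers t ▸ h.Dt)) (le_norm_inf h.DL (le_norm_cent1 De))))).trans
    (Nat.mul_dvd_mul_right ((card_sup_dvd (.inl n)).trans (by rw [Nat.card_zpowers, h.ord])) _))
  obtain ⟨l, hl, k, hk, rfl | rfl⟩ := h.dec hc.1
  · exact mul_mem_sup (mem_sup_right ⟨hl, (mul_mem_cancel_right (De hk)).1 hc.2⟩) hk
  · rw [← mul_assoc]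
    exact mul_mem_sup (mul_mem_sup (mem_zpowers t)
      ⟨hl, (mul_mem_cancel_right (De hk)).1 ((mul_mem_cancel_left te).1 hc.2)⟩) hk

/-- the numerical data -/
structure AN (t e : G) (U : Subgroup G) (q1 n : ℕ) : Prop where
  pg : IsPGroup 3 (zpowers e)
  ord : orderOf e = 3 * n
  three : 3 ≤ q1
  c1 : ∀ X : Subgroup G, IsPGroup 3 X → X ≤ C1[t] ⊓ C1[e] → Nat.card X ≤ q1 * orderOf e
  c2 : ∀ X : Subgroup G, IsPGroup 3 X → X ≤ C1[e] → Nat.card X ≤ q1 ^ 3 * orderOf e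

theorem aa_big (h : B3 S t u L D U T q) (he : e ∈ D) {q1 n : ℕ} (a : AN t e U q1 n) (k : AE U E) (le : E ≤ C1[e])
    (cE : q1 ^ 3 ≤ Nat.card E) : False := by
  have p3 := Nat.prime_three
  have := Fact.mk p3
  have te : t ∈ C1[e] := mem_cent1_comm.1 (h.jr.Dt he)
  have key : ∀ E : Subgroup G, AE U E → E ≤ C1[e] → IsPGroup 3 ↥(E ⊔ zpowers e) ∧ IsMulCommutative ↥(E ⊔ zpowers e) ∧
      Nat.card ↥(E ⊔ zpowers e) = Nat.card E * orderOf e := fun E k le => by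
    have c : E ≤ C[zpowers e] := cent_zpowers e ▸ le
    exact ⟨(PG.isPGroup_of_forall_pow k.ex).to_sup_of_normal_right' a.pg (le_norm_of_cent c),
      isMulCommutative_sup (comm_iff_le_cent.2 k.cm) (PG.isMulCommutative_zpowers e) c,
      by rw [card_sup_of_inf_eq_bot (.inl (le_norm_of_cent c)) (eq_bot_iff.2 ((inf_le_inf_left _ (zpowers_le.2 he)).trans
        (k.inf h).le)), Nat.card_zpowers]⟩
  obtain ⟨u0, hu0, u1⟩ := exists_ne_one_of_ne_bot (inf_cent_ne_bot_of_isPGroup p3 h.pU a.pg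
    ((zpowers_le.2 he).trans h.DU) (ne_bot_iff_one_lt_card.2 (by have := h.q27; rw [h.cardU]; omega)))
  rw [cent_zpowers] at hu0
  have pu : IsPGroup 3 (zpowers u0) := h.pU.to_le (zpowers_le.2 hu0.1)
  have tu : t ∈ C1[u0] := mem_cent1_comm.1 (h.jr.le (h.UL hu0.1))
  have sy : IsPiHallOf {2} (zpowers t) (C1[e] ⊓ C1[u0]) := syl_zp h.jr.two h.jr.ord ⟨te, tu⟩ fun s hs os c =>
    by_contra fun ne => by
      have K : ∀ l ∈ L, l * l = 1 → l ∈ C1[u0] → l = 1 := fun l hl ll c => eq1_of_odd (odd_ord h.oUT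
        (h.ti u0 hu0.1 u1 l hl (by rw [mem_cent1.1 c, mul_inv_cancel_right]; exact hu0.1))) ll
      rcases h.jr.memK.1 (h.jr.mem_K (mem_cent1.2 c.eq) (os ▸ Nat.coprime_two_left.2 h.jr.odd)) with m | m
      · exact ne1 os (K s m (sq1 os) hs.2)
      · exact ne (by rw [← GW.tt h.jr.tt s, K _ m (TT.mul_self_of_commute h.jr.tt (sq1 os) c.symm) (mul_mem tu hs.2),
          mul_one])
  obtain ⟨R', sR', uR'⟩ := exists_syl_ge p3 pu (zpowers_le.2 hu0.2)
  obtain ⟨pA, cA, kA⟩ := key E k le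
  have sA := syl_of_card_le p3 sR' pA (sup_le le (zpowers_le.2 (self_mem_cent1 e)))
    ((a.c2 _ (syl_isPGroup p3 sR') sR'.le).trans (kA ▸ Nat.mul_le_mul_right _ cE))
  obtain ⟨c1, hc1, rfl⟩ := syl_exists_conj p3 sA sR'
  have RO : cj[c1] (E ⊔ zpowers e) ≤ O[C1[e] ⊓ C1[u0]] := fun y hy => mem_O_of_odd sy ⟨sR'.le hy, cent_le_cent1
    (uR' (mem_zpowers u0)) ((conj_centralizer c1 _ ▸ conj_mono c1 (comm_iff_le_cent.1 cA)) hy)⟩
    (odd_ord (odd_p p3 (by decide) (syl_isPGroup p3 sR')) hy)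
  have tn : zpowers t ≤ N[O[C1[e] ⊓ C1[u0]]] := zpowers_le.2 (O_norm _ ⟨te, tu⟩)
  obtain ⟨R, sR, tR, uR⟩ := coprime_exists_syl_ge p3 (.inl (O_solv _)) tn (cop2 (O_odd _) h.jr.ord)
    (uR'.trans RO) pu (le_norm_of_cent (zpowers_le.2 (cent_zpowers u0 ▸ tu)))
  obtain ⟨c2, hc2, rfl⟩ := syl_exists_conj p3 (syl_of_le sR' RO ((O_le _).trans inf_le_left)) sR
  have hc : c2 * c1 ∈ C1[e] := mul_mem (O_le _ hc2).1 hc1
  rw [← mul_conj, conj_sup, conj_zpowers, mem_cent1.1 hc, mul_inv_cancel_right] at tR uR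
  have le' := conj_le_of_mem hc le
  have k' := k.conj (c2 * c1)
  rw [← card_conj (c2 * c1)] at cE
  generalize cj[c2 * c1] E = F at tR uR le' k' cE
  obtain ⟨pR, cR, kR⟩ := key F k' le'
  have dec : ∀ z ∈ F ⊔ zpowers e, ∃ b ∈ F, ∃ j : ℤ, z = b * e ^ j := fun z hz => by
    obtain ⟨b, hb, _, ⟨j, rfl⟩, rfl⟩ := (mem_sup_of_le_norm (le_norm_of_cent (cent_zpowers e ▸ le'))).1 hz
    exact ⟨b, hb, j, rfl⟩
  have pb : ∀ b ∈ F, IsPGroup 3 (zpowers b) := fun b hb => (PG.isPGroup_of_forall_pow k'.ex).to_le (zpowers_le.2 hb)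
  rcases k'.alt with r | r
  swap
  · obtain ⟨b, hb, j, e'⟩ := dec u0 (uR (mem_zpowers u0))
    obtain ⟨g, hg⟩ := r b hb
    have m := zpow_mem he j
    rw [h.ni b t g (pb b hb) h.jr.ord (mem_cent1.1 ((mul_mem_cancel_right (h.jr.Dt m)).1
      (e' ▸ h.jr.le (h.UL hu0.1)))) hg, one_mul] at e'
    exact u1 (mem_bot.1 (h.jr.inf ▸ ⟨e' ▸ m, h.UL hu0.1⟩))
  have oR := odd_p p3 (by decide) pR
  have co := cop2 oR h.jr.ord
  have i0 := coprime_comm_commutator_inf_cent cR tR co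
  have i1 := coprime_commutator_sup_cent (.inl (solv_odd oR)) tR co
  have i2 := commutator_le_of_le_norm_left tR
  have i3 := zpowers_le.1 (normalizer_commutator_ge_right (F ⊔ zpowers e) (zpowers t))
  rw [cent_zpowers] at i0 i1
  generalize ⁅F ⊔ zpowers e, zpowers t⁆ = I at i0 i1 i2 i3
  have RR := comm_iff_le_cent.1 cR
  have c9 : q1 ^ 3 * orderOf e ≤ Nat.card I * (q1 * orderOf e) := by
    refine (Nat.mul_le_mul_right _ cE).trans (kR ▸ i1 ▸ (Nat.le_of_dvd (Nat.mul_pos (card_pos' _) (card_pos' _))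
      (card_sup_dvd (.inl (le_norm_of_cent (i2.trans (RR.trans (cent_anti inf_le_left))))))).trans
      (Nat.mul_le_mul_left _ (a.c1 _ (pR.to_le inf_le_left) (le_inf inf_le_right (inf_le_left.trans
        (sup_le le' (zpowers_le.2 (self_mem_cent1 e))))))))
  have IF : I ⊓ F = ⊥ := eq_bot_iff.2 fun b hb => by
    obtain ⟨g, hg⟩ := r b hb.2
    refine h.ni b (g⁻¹ * t * g⁻¹⁻¹) t (pb b hb.2) (ord2_conj h.jr.ord _) ((TT.commute_conj_iff g).1 ?_)
      (inv_of_fpf h.jr.tt i3 (oR.of_dvd_nat (card_dvd_of_le i2)) i0 hb.1)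
    rw [show g * (g⁻¹ * t * g⁻¹⁻¹) * g⁻¹ = t by group]
    exact mem_cent1.1 (h.jr.le (h.UL hg))
  have n0 : n ≠ 0 := fun z => (orderOf_pos e).ne' (by rw [a.ord, z])
  have Ile : I ≤ F ⊔ zpowers (e ^ n) := fun z hz => by
    obtain ⟨b, hb, j, rfl⟩ := dec z (i2 hz)
    have m := pow_mem hz 3
    rw [((Commute.zpow_right (mem_cent1.1 (le' hb)) j)).mul_pow, k'.ex b hb, one_mul] at m
    have := mem_bot.1 (i0 ▸ ⟨m, h.jr.Dt (pow_mem (zpow_mem he j) 3)⟩ : (e ^ j) ^ 3 ∈ (⊥ : Subgroup G))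
    rw [← zpow_natCast, ← zpow_mul, ← orderOf_dvd_iff_zpow_eq_one, a.ord] at this
    obtain ⟨i, hi⟩ := this
    exact mul_mem_sup hb ⟨i, by
      change (e ^ n) ^ i = e ^ j
      rw [← zpow_natCast, ← zpow_mul, show (n : ℤ) * i = j by push_cast at hi; linarith]⟩
  have c3 : Nat.card I * Nat.card F ≤ Nat.card F * 3 := by
    rw [← card_sup_of_inf_eq_bot (.inl (le_norm_of_cent (i2.trans (RR.trans (cent_anti le_sup_left))))) IF]
    refine (card_le_of_le (sup_le Ile le_sup_left)).trans (Nat.le_of_dvd (Nat.mul_pos (card_pos' _) (by norm_num))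
      ((card_sup_dvd (.inl (le_norm_of_cent (cent_zpowers (e ^ n) ▸ le'.trans (cent1_pow_ge e n))))).trans
      (Nat.mul_dvd_mul_left _ ?_)))
    rw [Nat.card_zpowers]
    exact orderOf_dvd_of_pow_eq_one (by rw [← pow_mul, mul_comm, ← a.ord, pow_orderOf_eq_one])
  rw [mul_comm, Nat.mul_le_mul_left_iff (card_pos' _)] at c3
  have := a.three
  have := orderOf_pos e
  have : q1 ^ 3 * orderOf e ≤ 3 * (q1 * orderOf e) := c9.trans (Nat.mul_le_mul_right _ c3)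
  rw [← mul_assoc, Nat.mul_le_mul_right_iff (orderOf_pos e), pow_succ, Nat.mul_le_mul_right_iff (by omega)] at this
  nlinarith

theorem aa_an (h : B3 S t u L D U T q) (he : e ∈ D) (e1 : e ≠ 1) (pe : IsPGroup 3 (zpowers e))
    (nd : ¬ 3 * orderOf e ∣ Nat.card D) {q1 : ℕ} (hq : q = q1 ^ orderOf e)
    (cL : 2 * Nat.card ↥(L ⊓ C1[e]) = q1 * (q1 ^ 2 - 1)) (hi : C1[t].relIndex C1[e] ∣ q1 ^ 2 * (q1 ^ 2 - q1 + 1)) :
    ∃ j, AN t e U q1 (3 ^ j) := by
  have p3 := Nat.prime_three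
  have := Fact.mk p3
  obtain ⟨a, ha⟩ := pe.exists_card_eq
  rw [Nat.card_zpowers] at ha
  obtain ⟨j, rfl⟩ : ∃ j, a = j + 1 := Nat.exists_eq_succ_of_ne_zero fun z => e1 (orderOf_eq_one_iff.1 (by rw [ha, z]; rfl))
  obtain ⟨m, -, hm⟩ := h.q3
  obtain ⟨b, -, rfl⟩ := (Nat.dvd_prime_pow p3).1 (hm ▸ hq ▸ dvd_pow_self q1 (orderOf_pos e).ne' : q1 ∣ 3 ^ (2 * m + 1))
  obtain ⟨c, hc⟩ : 3 ∣ 3 ^ b := p3.dvd_of_dvd_pow (hq ▸ h.q27.2.2.1)
  have c0 : 0 < c := Nat.pos_of_mul_pos_left (hc ▸ Nat.pow_pos (by norm_num) : 0 < 3 * c)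
  obtain ⟨r, hr⟩ := orderOf_dvd_card_of_mem he
  have r3 : ¬ 3 ∣ r := fun d => nd (by rw [hr, mul_comm 3]; exact Nat.mul_dvd_mul_left _ d)
  have d := h.jr.card_CC he
  rw [cL, hr, ha, show 3 ^ b * ((3 ^ b) ^ 2 - 1) * (3 ^ (j + 1) * r) = 3 ^ (b + (j + 1)) * (((3 ^ b) ^ 2 - 1) * r) by ring] at d
  have n1 : ¬ 3 ∣ ((3 ^ b) ^ 2 - 1) * r := fun d => (p3.dvd_mul.1 d).elim (fun d => by
    rw [hc, show (3 * c) ^ 2 = 3 * (3 * (c * c)) by ring] at d
    have := Nat.mul_pos c0 c0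
    omega) r3
  have n2 : ¬ 3 ∣ (3 ^ b) ^ 2 - 3 ^ b + 1 := fun d => by
    rw [hc, show (3 * c) ^ 2 = 3 * (3 * (c * c)) by ring] at d
    have := Nat.le_mul_self c
    omega
  refine ⟨j, pe, by rw [ha, pow_succ'], by omega, fun X pX le => ?_, fun X pX le => ?_⟩
  · rw [ha, ← pow_add]
    exact aa_le pX ((card_dvd_of_le le).trans d) n1
  · rw [ha, ← pow_mul, ← pow_add]
    refine aa_le pX ((card_dvd_of_le le).trans (card_inf_mul_relIndex C1[t] C1[e] ▸ (Nat.mul_dvd_mul d hi).trans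
      (dvd_of_eq (by ring)))) fun d => (p3.dvd_mul.1 d).elim n1 n2

/-- the large elementary subgroup of `Z(P)` -/
theorem aa_V (h : B3 S t u L D U T q) (w : W4 t D U T P) :
    ∃ V, V ≤ P ⊓ C[P] ∧ D ≤ N[V] ∧ q ≤ Nat.card V ∧ AE U V := by
  have p3 := Nat.prime_three
  let Ω : Subgroup G :=
    { carrier := {z | z ∈ P ⊓ C[P] ∧ z ^ 3 = 1}
      mul_mem' := fun {a b} ha hb => ⟨mul_mem ha.1 hb.1, by
        rw [(show Commute a b from mem_centralizer_iff.1 hb.1.2 a ha.1.1).mul_pow, ha.2, hb.2, one_mul]⟩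
      one_mem' := ⟨one_mem _, one_pow _⟩
      inv_mem' := fun {a} ha => ⟨inv_mem ha.1, by rw [inv_pow, ha.2, inv_one]⟩ }
  have le : Ω ≤ P ⊓ C[P] := fun _ m => m.1
  have n : N[P] ≤ N[Ω] := le_norm_iff.2 fun a ha z hz => ⟨conj_mem_of_le_norm
    (le_norm_inf le_rfl (norm_le_norm_cent P)) ha hz.1, by rw [conj_pow, hz.2, mul_one, mul_inv_cancel]⟩
  have cm : Ω ≤ C[Ω] := (le.trans inf_le_right).trans (cent_anti (le.trans inf_le_left))
  have pZ : IsPGroup 3 ↥(P ⊓ C[P]) := w.pg.to_le inf_le_left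
  by_cases c : Ω ⊓ C1[t] = ⊥
  · refine ⟨Ω, le, w.DP.trans n, w.q_le h (le.trans inf_le_left) (w.TP.trans n) ?_, cm, fun _ m => m.2, .inr fun a ha =>
      ⟨t, inv_of_fpf h.jr.tt (n w.tP) (odd_p p3 (by decide) (pZ.to_le le)) c ha⟩⟩
    obtain ⟨z, hz, o⟩ := exists_mem_orderOf_eq p3 (prime_dvd_card_of_isPGroup p3 pZ (center_ne_bot_of_nilpotent
      (nilpotent_of_isPGroup p3 w.pg) (ne_bot_of_le (ne_bot_iff_one_lt_card.2 (by have := h.q27; rw [h.cardU]; omega)) w.le)))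
    exact ne_bot_of_mem (x := z) ⟨hz, o ▸ pow_orderOf_eq_one z⟩ fun e => by simp [e] at o
  · exact ⟨Ω ⊓ C1[t], inf_le_left.trans le, le_norm_inf (w.DP.trans n) (le_norm_cent1 h.jr.Dt),
      w.q_le h (inf_le_left.trans (le.trans inf_le_left)) (le_norm_inf (w.TP.trans n)
        (le_norm_cent1 (h.TL.trans h.jr.le))) c, inf_le_left.trans (cm.trans (cent_anti inf_le_left)), fun _ m => m.1.2,
      .inl fun a ha => ⟨1, by rw [one_mul, inv_one, mul_one, ← w.ct]; exact ⟨(le ha.1).1, ha.2⟩⟩⟩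

theorem pAA : PAA.{u} := fun G _ _ _ S L D U T P t u e q q1 h w he e1 pe nd hq cL hi => by
  have p3 := Nat.prime_three
  have := Fact.mk p3
  obtain ⟨j, an⟩ := aa_an h he e1 pe nd hq cL hi
  have PD : ∀ a ∈ P, a ∈ D → a = 1 := fun a ha hd =>
    mem_bot.1 (h.jr.inf ▸ ⟨hd, h.UL (w.ct ▸ ⟨ha, h.jr.Dt hd⟩)⟩)
  have eP : zpowers e ≤ N[P] := (zpowers_le.2 he).trans w.DP
  have dec : ∀ x ∈ P ⊔ zpowers e, ∃ y ∈ P, ∃ i : ℕ, x = y * e ^ i := fun x hx => by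
    obtain ⟨y, hy, c, hc, rfl⟩ := (mem_sup_of_le_norm' eP).1 hx
    obtain ⟨i, rfl⟩ := (mem_powers_iff_mem_zpowers.2 hc : c ∈ Submonoid.powers e)
    exact ⟨y, hy, i, rfl⟩
  have o3 : orderOf (e ^ 3 ^ j) = 3 := by
    rw [orderOf_pow_of_dvd (by positivity) (an.ord ▸ dvd_mul_left _ _), an.ord, Nat.mul_div_cancel _ (by positivity)]
  have mK : e ^ (P ⊔ zpowers e).index ∈ P ⊔ zpowers (e ^ 3) := by
    refine tl h.jr.nc (sup_le (le_norm_self le_sup_left) (le_norm_sup eP (le_norm_of_cent (cent_zpowers (e ^ 3) ▸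
      (zpowers_le.2 (self_mem_cent1 e)).trans (cent1_pow_ge e 3))))) (commutator_le.2 fun a ha b hb => ?_)
      (mem_sup_right (mem_zpowers e)) fun k g m => ?_
    · obtain ⟨l, hl, i, rfl⟩ := dec a ha
      obtain ⟨m, hm, k, rfl⟩ := dec b hb
      have n := fun i : ℕ => w.DP (pow_mem he i)
      rw [commutatorElement_def, show l * e ^ i * (m * e ^ k) * (l * e ^ i)⁻¹ * (m * e ^ k)⁻¹ =
        l * (e ^ i * m * (e ^ i)⁻¹) * (e ^ k * l⁻¹ * (e ^ k)⁻¹) * m⁻¹ by group]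
      exact mem_sup_left (mul_mem (mul_mem (mul_mem hl (conj_mem_of_mem_norm (n i) hm))
        (conj_mem_of_mem_norm (n k) (inv_mem hl))) (inv_mem hm))
    obtain ⟨y, hy, i, ex⟩ := dec _ m
    suffices i ≡ k [MOD 3] by
      obtain ⟨c, hc⟩ := this.symm.dvd
      rw [ex, mul_assoc]
      exact mul_mem_sup hy ⟨c, by
        change (e ^ 3) ^ c = _
        rw [← zpow_natCast, ← zpow_mul, ← hc, zpow_sub, zpow_natCast, zpow_natCast]⟩
    by_cases i3 : 3 ∣ i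
    · by_contra ik
      have k3 : ¬ 3 ∣ k := fun d => ik ((Nat.modEq_zero_iff_dvd.2 i3).trans (Nat.modEq_zero_iff_dvd.2 d).symm)
      obtain ⟨V, le, n, cV, ae⟩ := aa_V h w
      have fx := aa_fix ae.cm ae.ex (n (pow_mem he i)) (j := j) (by
        obtain ⟨c, rfl⟩ := i3
        rw [← pow_mul, mul_right_comm, ← an.ord, pow_mul, pow_orderOf_eq_one, one_pow])
      refine aa_big h he an ((ae.le (inf_le_left (b := C1[e ^ i]))).conj g) (fun a ha => ?_) ?_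
      · have ek : e ∈ zpowers (e ^ k) := mem_zpowers_pow_iff.2 (by
          rw [an.ord, ← pow_succ']; exact ((p3.coprime_iff_not_dvd.2 k3).symm.pow_right _))
        refine cent_le_cent1 ek (cent_zpowers (e ^ k) ▸ ?_)
        rw [show e ^ k = g * (g⁻¹ * e ^ k * g) * g⁻¹ by group, ← conj_cent1, ex]
        exact conj_mono g (H := V ⊓ C1[e ^ i]) (fun v hv => c1_mul (cent_le_cent1 hy (le hv.1).2) hv.2) ha
      · rw [card_conj, ← Nat.pow_le_pow_iff_left (n := 3 ^ j) (by positivity), ← pow_mul, ← an.ord, ← hq]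
        exact cV.trans fx
    generalize hf : e ^ 3 ^ j = f at o3
    have fD : f ∈ D := hf ▸ pow_mem he _
    have fT : zpowers f ≤ N[T] := (zpowers_le.2 fD).trans h.DT
    have KT := commutator_le_of_le_norm_left fT
    have co : (Nat.card T).Coprime (Nat.card (zpowers f)) := by
      rw [Nat.card_zpowers, o3]; exact (p3.coprime_iff_not_dvd.2 h.T3).symm
    obtain ⟨y0, hy0, y1⟩ := exists_ne_one_of_ne_bot (H := ⁅T, zpowers f⁆) fun b => by
      have := h.fT f fD (zpowers_le.1 (le_cent_iff_commutator_eq_bot'.2 b))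
      simp [this] at o3
    have m' := aa_pow (w.DP (pow_mem he i)) hy (3 ^ j)
    rw [← ex, ← pow_mul e, mul_comm i, pow_mul, hf] at m'
    have xn : (g⁻¹ * e ^ k * g) ^ 3 ^ j = g⁻¹ * f ^ k * g := by
      rw [← hf, ← pow_mul, mul_comm _ k, pow_mul]
      simpa using conj_pow (a := g⁻¹) (b := e ^ k) (i := 3 ^ j)
    rw [xn] at m'
    have zi : zpowers (f ^ i) ≤ zpowers f := zpowers_le.2 (pow_mem (mem_zpowers f) i)
    obtain ⟨c, -, hc⟩ := pH1 G ⁅T, zpowers f⁆ P (f ^ i) _ w.pg (fun d => h.T3 (d.trans (card_dvd_of_le KT)))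
      (KT.trans w.TP) (w.DP (pow_mem fD i)) (normalizer_commutator_ge_right T _ (pow_mem (mem_zpowers f) i))
      (eq_bot_iff.2 ((inf_le_inf_left _ (cent_le_cent1 hy0)).trans (w.fp h (KT hy0) y1).le))
      (fun a ha b hb cm => or_iff_not_imp_left.2 fun a1 => mem_bot.1
        (coprime_comm_commutator_inf_cent (isMulCommutative_of_isCyclic h.cycT) fT co ▸ ⟨hb, by
          rw [cent_eq_cent1_of_card_prime (by rw [Nat.card_zpowers, o3]; exact p3) (zi ha) a1]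
          exact mem_cent1.2 cm.symm.eq⟩)) m' (by
        rw [inv_mul_cancel_right, (o3 ▸ p3.coprime_iff_not_dvd.2 i3 : (orderOf f).Coprime i).orderOf_pow,
          show g⁻¹ * f ^ k * g = g⁻¹ * f ^ k * g⁻¹⁻¹ by rw [inv_inv], conj_pow, ← pow_mul, mul_comm k, pow_mul,
          pow_orderOf_eq_one, one_pow, mul_one, mul_inv_cancel])
    rw [inv_mul_cancel_right, show c * (g⁻¹ * f ^ k * g) * c⁻¹ = c * g⁻¹ * f ^ k * (c * g⁻¹)⁻¹ by group] at hc
    exact o3 ▸ pow_eq_pow_iff_modEq.1 (hc.symm.trans (h.jr.f1 (pow_mem fD k) (hc ▸ pow_mem fD i)))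
  have le : P ⊔ zpowers e ≤ P ⊔ D := sup_le_sup_left (zpowers_le.2 he) P
  have i3 : ¬ 3 ∣ (P ⊔ zpowers e).index := fun d => by
    rw [← relIndex_mul_index le] at d
    refine (p3.dvd_mul.1 d).elim (fun d => nd ?_) w.syl
    have b : P ⊓ D = ⊥ := eq_bot_iff.2 fun a ha => PD a ha.1 ha.2
    have := card_mul_relIndex le
    rw [card_sup_of_inf_eq_bot (.inr w.DP) b, card_sup_of_inf_eq_bot (.inr eP)
      (eq_bot_iff.2 ((inf_le_inf_left _ (zpowers_le.2 he)).trans b.le)), mul_assoc, Nat.mul_right_inj (card_pos' _).ne',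
      Nat.card_zpowers] at this
    rw [← this, mul_comm 3]
    exact Nat.mul_dvd_mul_left _ d
  obtain ⟨y, hy, _, ⟨c, rfl⟩, ex⟩ := (mem_sup_of_le_norm' ((zpowers_le.2 (pow_mem he 3)).trans w.DP)).1 mK
  rw [PD y hy ((mul_mem_cancel_right (zpow_mem (pow_mem he 3) c)).1 (ex ▸ pow_mem he _)), one_mul] at ex
  change _ = (e ^ 3) ^ c at ex
  rw [← zpow_natCast, ← zpow_natCast, ← zpow_mul, zpow_eq_zpow_iff_modEq, an.ord] at ex
  obtain ⟨z, hz⟩ := ex.dvd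
  exact i3 (Int.natCast_dvd_natCast.1 ⟨c - 3 ^ j * z, by push_cast at hz ⊢; linarith⟩)

end Cfsg.Agent.WA
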