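import Cfsg.Agent.WA.DM1
import Cfsg.Agent.WA.L2E

/-! Groups of Janko-Ree type, `D = 1`: the Borel subgroup of `L`. -/

set_option autoImplicit false
set_option linter.unusedSectionVars false

namespace Cfsg.Agent.WA.D3

open Cfsg Subgroup Cfsg.Agent.GT Cfsg.Agent.GW Cfsg.Agent.GWP Cfsg.Agent.Cl Matrix
open scoped MatrixGroups

universe u

variable {F : Type} [Field F] {G : Type u} [Group G] {π : SL(2, F) →* G} {L : Subgroup G} {d u : G} {s : F ≃+* F}
  {g : SL(2, F)}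

def Xh : Multiplicative F →* SL(2, F) := MonoidHom.mk' (fun c => X c.toAdd) fun _ _ => X_add _ _

def Hh : Fˣ →* SL(2, F) := MonoidHom.mk' (fun a => sl2mk a 0 0 a⁻¹ (by simp)) fun a b => by
  apply sl2_ext <;> simp [sl2_mul, mul_comm]

def Wm (c : Fˣ) : SL(2, F) := sl2mk 0 (-c⁻¹) c 0 (by simp)

theorem H00 (a : Fˣ) : (Hh a).1 0 0 = a := rfl
theorem H01 (a : Fˣ) : (Hh a).1 0 1 = 0 := rfl
theorem H10 (a : Fˣ) : (Hh a).1 1 0 = 0 := rfl
theorem H11 (a : Fˣ) : (Hh a).1 1 1 = (a : F)⁻¹ := rfl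

theorem HX (a : Fˣ) (c : F) : Hh a * X c * (Hh a)⁻¹ = X (a ^ 2 * c) := by
  apply sl2_ext <;> simp [sl2_mul, sl2_inv00, sl2_inv01, sl2_inv10, sl2_inv11, H00, H01, H10, H11]
  ring

theorem WH (c a : Fˣ) : Wm c * Hh a * (Wm c)⁻¹ = (Hh a)⁻¹ := by
  apply sl2_ext <;> simp [sl2_mul, sl2_inv00, sl2_inv01, sl2_inv10, sl2_inv11, H00, H01, H10, H11, Wm] <;> field_simp

theorem sgH (a : Fˣ) : sg 1 s (Hh a) = Hh (Units.map (s : F →* F) a) := by
  apply sl2_ext <;> simp [DM.sg1, H00, H01, H10, H11]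

theorem diag (h1 : g.1 1 0 = 0) (h2 : g.1 0 1 = 0) : ∃ a, Hh a = g := by
  have hd := sl2_det g
  rw [h1, mul_zero, sub_zero] at hd
  exact ⟨Units.mk0 _ (left_ne_zero_of_mul_eq_one hd), sl2_ext rfl h2.symm h1.symm (inv_eq_of_mul_eq_one_right hd)⟩

theorem H1 (p : PH π L) {a : Fˣ} : π (Hh a) = 1 ↔ (a : F) = 1 ∨ (a : F) = -1 := by
  rw [p.ker]
  refine or_congr ⟨fun e => congrArg (fun g : SL(2, F) => g.1 0 0) e, fun e => ?_⟩
    ⟨fun e => congrArg (fun g : SL(2, F) => g.1 0 0) e, fun e => ?_⟩ <;>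
    apply sl2_ext <;> simp [H00, H01, H10, H11, e, neg_ap]

theorem anti (p : PH π L) (h2 : (2 : F) ≠ 0) (ns : ¬ IsSquare (-1 : F)) (a : Act π d 1 s) (o : Odd (orderOf s))
    (uL : u ∈ L) (uu : u * u = 1) (u1 : u ≠ 1) (ud : u ∈ C1[d]) :
    ∃ (ρ : SL(2, F) →* G) (c : Fˣ), PH ρ L ∧ Act ρ d 1 s ∧ ρ (Wm c) = u := by
  obtain ⟨g, rfl⟩ := (p.rng u).1 uL
  have fx := (DM.mem_cent p h2 a o).1 ud
  have hd := sl2_det g
  have gg : g * g = -1 := ((p.ker _).1 (by rwa [map_mul])).resolve_left fun e => u1 ((p.ker g).2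
    (or_iff_not_imp_left.2 fun n => sl2_involution h2 g n e))
  rw [sl2_eq_iff] at gg
  simp only [sl2_mul, neg_ap, sl2_one00, sl2_one01, sl2_one10, sl2_one11] at gg
  have c0 : g.1 1 0 ≠ 0 := fun e => ns ⟨g.1 0 0, by linear_combination -gg.1 + g.1 0 1 * e⟩
  have tr : g.1 1 1 = -g.1 0 0 := mul_left_cancel₀ c0 (by linear_combination gg.2.2.1)
  set k := X (g.1 0 0 / g.1 1 0) with hk
  have sk : sg 1 s k = k := by rw [hk, sg_one_X, map_div₀, fx, fx]
  refine ⟨π.comp (MulAut.conj k).toMonoidHom, Units.mk0 _ c0, ⟨fun x => (p.rng x).trans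
    ⟨fun ⟨g, e⟩ => ⟨k⁻¹ * g * k, by simpa [mul_assoc] using e⟩, fun ⟨g, e⟩ => ⟨_, e⟩⟩, fun g => ?_⟩, fun g => ?_, ?_⟩
  · rw [← p.ker]; simp
  · exact (a _).trans (by simp [sk])
  · refine congrArg π (mul_inv_eq_iff_eq_mul.2 ?_)
    rw [tr] at hd
    apply sl2_ext <;> simp [sl2_mul, Wm, hk, tr] <;> field_simp
    · linear_combination hd
    · ring

end Cfsg.Agent.WA.D3

namespace Cfsg.Agent.WA

open Cfsg Subgroup Cfsg.Agent.GT Cfsg.Agent.GW Cfsg.Agent.GWP Cfsg.Agent.Cl Matrix D3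
open scoped MatrixGroups

universe u

theorem pB3 : PB3.{u} := by
  intro G _ _ S L D t d0 u q m h m1 hq cop uS uL u1
  obtain ⟨F, _, _, π0, s, d, hF, p0, rfl, a0, o⟩ := DM.model h.toJR'
  have h2 := two_ne_zero_of_odd_card hF
  have cF : Fintype.card F = q := by
    have e := (DM.card_ph p0 h2).symm.trans h.cardL
    have k : ∀ a b : ℕ, a < b → 0 < a * (a ^ 2 - 1) → a * (a ^ 2 - 1) < b * (b ^ 2 - 1) := fun a b l z =>
      Nat.mul_lt_mul_of_lt_of_le l (Nat.sub_le_sub_right (Nat.pow_le_pow_left l.le 2) 1)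
        ((Nat.pos_of_mul_pos_left z).trans_le (Nat.sub_le_sub_right (Nat.pow_le_pow_left l.le 2) 1))
    have z : 0 < q * (q ^ 2 - 1) := by rw [← h.cardL]; have := Nat.card_pos (α := L); omega
    exact le_antisymm (not_lt.1 fun l => (k _ _ l z).ne e.symm) (not_lt.1 fun l => (k _ _ l (e ▸ z)).ne e)
  have os : Odd (orderOf s) := o ▸ h.oD (mem_zpowers d)
  have uu := h.Ssq uS
  obtain ⟨π, c, p, a, rfl⟩ := anti p0 h2 (by
    rw [FiniteField.isSquare_neg_one_iff, cF, hq, pow_succ, pow_mul]; simp [Nat.mul_mod, Nat.pow_mod]) a0 os uL uu u1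
    (mem_cent1.2 (h.DS (mem_zpowers d) u uS))
  have h3 : (3 : F) = 0 := by
    have := FiniteField.cast_card_eq_zero F
    rw [cF, hq] at this
    exact pow_eq_zero_iff (n := 2 * m + 1) (by omega) |>.1 (by exact_mod_cast this)
  have xU : ∀ c, π (X c) ∈ (π.comp Xh).range := fun c => ⟨.ofAdd c, rfl⟩
  have hT : ∀ a, π (Hh a) ∈ (π.comp Hh).range := fun a => ⟨a, rfl⟩
  have up : ∀ g : SL(2, F), g.1 1 0 = 0 → π g ∈ (π.comp Xh).range ⊔ (π.comp Hh).range := fun g e => by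
    have hd := sl2_det g
    obtain ⟨b, hb⟩ := diag (g := X (-(g.1 0 1 * g.1 0 0)) * g) (by simp [sl2_mul, e])
      (by simp [sl2_mul]; linear_combination -g.1 0 1 * hd - g.1 0 1 ^ 2 * e)
    refine (mul_mem_cancel_left (mem_sup_left (xU (-(g.1 0 1 * g.1 0 0))))).1 ?_
    rw [← map_mul, ← hb]
    exact mem_sup_right (hT b)
  have e1 : ∀ k : ℕ, (∀ y : Fˣ, (s ^ k) y = y) → d ^ k = 1 := fun k e => by
    rw [← orderOf_dvd_iff_pow_eq_one, ← o, orderOf_dvd_iff_pow_eq_one]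
    ext y
    by_cases y0 : y = 0
    · simp [y0]
    · exact e (Units.mk0 y y0)
  have : Finite (F ≃+* F) := Finite.of_injective (fun r : F ≃+* F => (r : F → F)) DFunLike.coe_injective
  refine ⟨(π.comp Xh).range, (π.comp Hh).range, h.toJR', inferInstance, uS, uL, u1, ⟨m, m1, hq⟩, h.cardL, cop,
    ?_, ?_, ?_, ?_, isCyclic_of_surjective _ (MonoidHom.rangeRestrict_surjective _), ?_, ?_, ?_, ?_, ?_, ?_, ?_, ?_, ?_,
    ?_, ?_, fun Y h1 h2 o y hy => ?_⟩
  · rintro _ ⟨x, rfl⟩; exact p.mem _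
  · rintro _ ⟨x, rfl⟩; exact p.mem _
  · rw [← Nat.card_congr (MonoidHom.ofInjective (f := π.comp Xh) fun a b e => p.X_inj h2 e).toEquiv, ← cF]
    exact Nat.card_eq_fintype_card (α := F)
  · have e := (π.comp Hh).ker.card_mul_index
    rw [index_ker, Nat.card_units, Nat.card_eq_fintype_card (α := F), cF, show Nat.card (π.comp Hh).ker = 2 from ?_] at e
    · have : 0 < q := hq ▸ pow_pos (by decide) _
      omega
    rw [Nat.card_eq_two_iff]
    refine ⟨1, ⟨-1, (H1 p).2 (.inr rfl)⟩, fun e => h2 ?_, ?_⟩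
    · have : (1 : F) = -1 := congrArg (fun a : (π.comp Hh).ker => (a.1 : F)) e
      linear_combination this
    · ext m
      simp only [Set.mem_insert_iff, Set.mem_singleton_iff, Set.mem_univ, iff_true, Subtype.ext_iff, Units.ext_iff]
      exact (H1 p).1 m.2
  · rintro _ ⟨x, rfl⟩ _ ⟨y, rfl⟩
    rw [← map_mul, ← map_mul, mul_comm]
  · rintro _ ⟨x, rfl⟩
    change π (X _) ^ 3 = 1
    rw [← map_pow, X_pow, Nat.cast_ofNat, h3, zero_mul, X_zero, map_one]
  · refine le_norm_iff.2 ?_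
    rintro _ ⟨b, rfl⟩ _ ⟨x, rfl⟩
    change π _ * π (X _) * (π _)⁻¹ ∈ _
    rw [← map_inv, ← map_mul, ← map_mul, HX]
    exact xU _
  · refine zpowers_le.2 (mem_normalizer_fintype ?_)
    rintro _ ⟨x, rfl⟩
    change d * π (X _) * d⁻¹ ∈ _
    rw [a, sg_one_X]
    exact xU _
  · refine zpowers_le.2 (mem_normalizer_fintype ?_)
    rintro _ ⟨x, rfl⟩
    change d * π _ * d⁻¹ ∈ _
    rw [a, sgH]
    exact hT _
  · rintro _ ⟨b, rfl⟩
    change _ * π _ * _ = (π _)⁻¹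
    rw [← map_inv, ← map_mul, ← map_mul, WH, map_inv]
  · rintro _ ⟨x, rfl⟩ x1 l hl ⟨y, e⟩
    obtain ⟨g, rfl⟩ := (p.rng l).1 hl
    have x0 : x.toAdd ≠ 0 := fun z => x1 (by rw [show x = 1 from z, map_one])
    change π (X _) = π g * π (X _) * _ at e
    rw [← map_inv, ← map_mul, ← map_mul, p.eq_iff] at e
    refine up g (pow_eq_zero_iff two_ne_zero |>.1 (mul_left_cancel₀ x0 ?_))
    rcases e with e | e <;> have := congrArg (fun g : SL(2, F) => g.1 1 0) e <;>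
      simp only [sl2_mul, neg_ap, sl2_inv00, sl2_inv10, X00, X01, X10, X11] at this
    · linear_combination this
    · linear_combination -this
  · rintro _ ⟨b, rfl⟩ _ ⟨x, rfl⟩ e
    have e : π (Hh b) * π (X x.toAdd) * (π (Hh b))⁻¹ = π (X x.toAdd) := mul_inv_eq_iff_eq_mul.2 e
    rw [← map_inv, ← map_mul, ← map_mul, HX] at e
    rcases mul_eq_zero.1 (show ((b : F) ^ 2 - 1) * x.toAdd = 0 by linear_combination p.X_inj h2 e) with k | k
    · exact .inl ((H1 p).2 (mul_self_eq_one_iff.1 (sq (b : F) ▸ sub_eq_zero.1 k)))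
    · exact .inr (by rw [show x = 1 from k, map_one])
  · rintro _ ⟨b, rfl⟩ b1 l hl ⟨y, e⟩
    obtain ⟨g, rfl⟩ := (p.rng l).1 hl
    have b0 : (b : F) - (b : F)⁻¹ ≠ 0 := fun z => b1 ((H1 p).2 (mul_self_eq_one_iff.1 (by
      nth_rewrite 2 [sub_eq_zero.1 z]; simp)))
    change π _ = π g * π _ * _ at e
    rw [← map_inv, ← map_mul, ← map_mul, p.eq_iff] at e
    have hd := sl2_det g
    have k : g.1 0 0 * g.1 0 1 = 0 ∧ g.1 1 0 * g.1 1 1 = 0 := by
      rcases e with e | e <;> have k1 := congrArg (fun g : SL(2, F) => g.1 0 1) e <;>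
        have k2 := congrArg (fun g : SL(2, F) => g.1 1 0) e <;>
        simp only [sl2_mul, neg_ap, sl2_inv00, sl2_inv01, sl2_inv10, sl2_inv11, H00, H01, H10, H11] at k1 k2
      · exact ⟨mul_left_cancel₀ b0 (by linear_combination k1), mul_left_cancel₀ b0 (by linear_combination -k2)⟩
      · exact ⟨mul_left_cancel₀ b0 (by linear_combination -k1), mul_left_cancel₀ b0 (by linear_combination k2)⟩
    by_cases z : g.1 0 0 = 0
    · have z' : g.1 1 1 = 0 := by linear_combination -g.1 1 1 * hd - g.1 0 1 * k.2 + g.1 1 1 ^ 2 * z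
      obtain ⟨y, e⟩ := diag (g := Wm c * g) (by simp [sl2_mul, Wm, z]) (by simp [sl2_mul, Wm, z'])
      exact .inr (by rw [← map_mul, ← e]; exact hT y)
    · have z1 := (mul_eq_zero.1 k.1).resolve_left z
      obtain ⟨y, e⟩ := diag (g := g) (by linear_combination -g.1 1 0 * hd + g.1 0 0 * k.2 - g.1 1 0 ^ 2 * z1) z1
      exact .inl (e ▸ hT y)
  · rintro _ ⟨b, rfl⟩ e he m
    obtain ⟨k, rfl⟩ := PG.exists_nat_pow_of_mem_zpowers he
    have f : ∀ y : F, (b : F) ^ 2 * (s ^ k) y = y := fun y => p.X_inj h2 (by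
      rw [← HX, map_mul, map_mul, map_inv, ← sg_one_X, ← DM.act_pow a k]
      have := m _ (xU y)
      change _ * (π _ * _) = π _ * _ * _ at this
      rw [show ∀ a b c : G, a * (b * c * b⁻¹) * a⁻¹ = a * b * c * (a * b)⁻¹ from fun _ _ _ => by group, ← this,
        mul_inv_cancel_right])
    have b1 : (b : F) ^ 2 = 1 := by simpa using f 1
    exact ⟨(H1 p).2 (mul_self_eq_one_iff.1 (sq (b : F) ▸ b1)), e1 k fun y => by simpa [b1] using f y⟩
  · intro e he m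
    obtain ⟨k, rfl⟩ := PG.exists_nat_pow_of_mem_zpowers he
    refine e1 k fun y => (DM.mem_cent p h2 (DM.act_pow a k) (os.of_dvd_nat (orderOf_pow_dvd k))).1
      (mem_cent1.2 (m _ (hT y))) 0 0
  · obtain ⟨g, rfl⟩ := (p.rng y).1 (h2 hy)
    refine up g (by_contra fun n => u1 (eq1_of_odd (odd_ord o ?_) uu))
    exact EV.gen' (M := Y.comap π) (fun c => h1 (mem_sup_left (xU c))) hy n _

end Cfsg.Agent.WA
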