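import Cfsg.Agent.WA.DM1

/-! Groups of Janko-Ree type: `D = 1`, assembly of the pieces. -/

set_option autoImplicit false
set_option linter.unusedSectionVars false
set_option linter.unusedVariables false

namespace Cfsg.Agent.WA

open Cfsg Subgroup Cfsg.Agent.GT Cfsg.Agent.GW

universe u

/-- the twisted block -/
def PTW : Prop := ∀ (G : Type u) [Group G] [Finite G] [IsSimpleGroup G] (S L D : Subgroup G) (t u g w x a : G)
  (Q : ℤ), JT S t u g w x L D Q → 27 ≤ |Q| → (Nat.card D).Coprime (orderOf x) → ¬ 3 ∣ orderOf x → a ∈ zpowers x →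
  a ∈ C[D] → ¬ Commute g a → D = ⊥

namespace DA

theorem mono {x y : ℕ} (hy : 2 ≤ y) (e : x * (x ^ 2 - 1) = y * (y ^ 2 - 1)) : x = y := by
  have k : ∀ a b : ℕ, a < b → 2 ≤ b → a * (a ^ 2 - 1) < b * (b ^ 2 - 1) := fun a b l h =>
    mul_lt_mul_of_lt_of_le_of_nonneg_of_pos l (Nat.sub_le_sub_right (Nat.pow_le_pow_left l.le 2) 1) (Nat.zero_le _)
      (by have := Nat.pow_le_pow_left h 2; omega)
  rcases lt_trichotomy x y with l | l | l
  exacts [absurd e (k _ _ l hy).ne, l, absurd e (k _ _ l (by omega)).ne']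

theorem ix {a i q : ℕ} (h : Ix a i) (e : 2 * a = q * (q ^ 2 - 1)) :
    (q = 5 ∧ i = 1463) ∨ ∃ m, q = 3 ^ (2 * m + 1) ∧ i ∣ q ^ 2 * (q ^ 2 - q + 1) := by
  rcases h with ⟨rfl, h⟩ | ⟨rfl, h⟩ | ⟨m, r, m1, hr, h, hi⟩
  · obtain rfl : q = 3 := mono (by norm_num) e.symm
    exact .inr ⟨0, rfl, by rcases h with rfl | rfl <;> norm_num⟩
  · exact .inl ⟨mono (by norm_num) e.symm, h⟩
  · obtain rfl : q = r := mono (hr ▸ (Nat.le_self_pow (by omega) 3).trans' (by norm_num)) (e.symm.trans h)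
    exact .inr ⟨m, hr, hi ▸ dvd_rfl⟩

theorem cast_m {l q : ℕ} (q0 : 0 < q) (h : l ∣ q ^ 2 - q + 1) : (q : ZMod l) ^ 2 - q + 1 = 0 := by
  have := (ZMod.natCast_eq_zero_iff _ _).2 h
  rwa [Nat.cast_add, Nat.cast_sub (Nat.le_self_pow two_ne_zero q), Nat.cast_pow, Nat.cast_one] at this

theorem cop {l m : ℕ} (hl : l.Prime) (h : l ∣ (3 ^ (m + 1)) ^ 2 * ((3 ^ (m + 1)) ^ 2 - 3 ^ (m + 1) + 1)) :
    ¬ l ∣ ((3 ^ (m + 1)) ^ l) ^ 2 - 1 := fun d => by
  have := Fact.mk hl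
  have n3 : l ≠ 3 := by
    rintro rfl
    have : 3 ∣ ((3 ^ (m + 1)) ^ 3) ^ 2 := dvd_pow (dvd_pow (dvd_pow_self 3 (by omega)) (by omega)) (by omega)
    have : 0 < ((3 ^ (m + 1)) ^ 3) ^ 2 := by positivity
    omega
  rcases hl.dvd_mul.1 h with h | h
  · exact n3 ((Nat.prime_dvd_prime_iff_eq hl Nat.prime_three).1 (hl.dvd_of_dvd_pow (hl.dvd_of_dvd_pow h)))
  have e1 := cast_m (by positivity) h
  have e2 := (ZMod.natCast_eq_zero_iff _ _).2 d
  rw [Nat.cast_sub (Nat.one_le_iff_ne_zero.2 (by positivity)), Nat.cast_pow, Nat.cast_pow, ZMod.pow_card,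
    Nat.cast_one] at e2
  refine n3 ((Nat.prime_dvd_prime_iff_eq hl Nat.prime_three).1 ((ZMod.natCast_eq_zero_iff 3 l).1 ?_))
  generalize ((3 ^ (m + 1) : ℕ) : ZMod l) = z at e1 e2
  rw [Nat.cast_ofNat]
  linear_combination (z + 2) * e1 - (z + 1) * e2

theorem z13 : (3 : ZMod 13) ^ 3 = 1 ∧ (1 : ZMod 13) ≠ -1 := by decide

theorem seven {n k : ℕ} (n1 : n ≠ 1) (o : Odd n) (n3 : ¬ 3 ∣ n) (e : n = n.minFac * k)
    (h : n.minFac ∣ (3 ^ k) ^ 2 * ((3 ^ k) ^ 2 - 3 ^ k + 1)) : 7 ∣ n := by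
  have hl := Nat.minFac_prime n1
  have := Fact.mk hl
  have l3 : n.minFac ≠ 3 := fun e => n3 (e ▸ n.minFac_dvd)
  have l2 : n.minFac ≠ 2 := fun e => (Nat.not_even_iff_odd.2 o) (even_iff_two_dvd.2 (e ▸ n.minFac_dvd))
  rcases hl.dvd_mul.1 h with h | h
  · exact absurd ((Nat.prime_dvd_prime_iff_eq hl Nat.prime_three).1 (hl.dvd_of_dvd_pow (hl.dvd_of_dvd_pow h))) l3
  have e1 := cast_m (by positivity) h
  rw [Nat.cast_pow, Nat.cast_ofNat] at e1
  have e3 : ((3 : ZMod n.minFac) ^ k) ^ 3 = -1 := by linear_combination (3 ^ k + 1) * e1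
  have z : (3 : ZMod n.minFac) ≠ 0 := fun z => l3 ((Nat.prime_dvd_prime_iff_eq hl Nat.prime_three).1
    ((ZMod.natCast_eq_zero_iff 3 _).1 z))
  have d1 : orderOf (3 : ZMod n.minFac) ∣ 6 * k := orderOf_dvd_of_pow_eq_one (by
    rw [show 6 * k = k * 3 * 2 by ring, pow_mul, pow_mul, e3]; simp)
  have d2 := ZMod.orderOf_dvd_card_sub_one z
  have c : (n.minFac - 1).Coprime k := Nat.coprime_of_dvd fun p hp a b => by
    have := Nat.minFac_le_of_dvd hp.two_le (b.trans ⟨_, e.trans (mul_comm _ _)⟩)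
    have := Nat.le_of_dvd (by have := hl.two_le; omega) a
    have := hl.two_le
    omega
  have e6 := orderOf_dvd_iff_pow_eq_one.1 ((c.coprime_dvd_left d2).dvd_of_dvd_mul_right d1)
  have d : n.minFac ∣ 2 ^ 3 * (7 * 13) := (ZMod.natCast_eq_zero_iff _ _).1 (by push_cast; linear_combination e6)
  rcases hl.dvd_mul.1 d with d | d
  · exact absurd ((Nat.prime_dvd_prime_iff_eq hl Nat.prime_two).1 (hl.dvd_of_dvd_pow d)) l2
  rcases hl.dvd_mul.1 d with d | d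
  · exact (Nat.prime_dvd_prime_iff_eq hl (by norm_num)).1 d ▸ n.minFac_dvd
  have := (Nat.prime_dvd_prime_iff_eq hl (by norm_num)).1 d
  generalize n.minFac = l at *
  subst this
  rw [← pow_mul, mul_comm, pow_mul, z13.1, one_pow] at e3
  exact (z13.2 e3).elim

theorem not49 {k : ℕ} (h7 : ¬ 7 ∣ k) : ¬ 7 ^ 2 ∣ (3 ^ k) ^ 2 * ((3 ^ k) ^ 2 - 3 ^ k + 1) := fun d => by
  have e := cast_m (by positivity) ((((by norm_num : (7 ^ 2).Coprime 3).pow_right k).pow_right 2).dvd_of_dvd_mul_left d)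
  rw [Nat.cast_pow, Nat.cast_ofNat, ← Nat.div_add_mod k 42, pow_add, pow_mul,
    show (3 : ZMod (7 ^ 2)) ^ 42 = 1 by decide, one_pow, one_mul] at e
  have : ∀ r < 42, ((3 : ZMod (7 ^ 2)) ^ r) ^ 2 - 3 ^ r + 1 = 0 → 7 ∣ r := by decide
  have := this _ (Nat.mod_lt k (by norm_num)) e
  omega

theorem root {a b c : ℕ} (c0 : c ≠ 0) (e : (3 ^ a) ^ c = 3 ^ (c * b)) : a = b := by
  rw [← pow_mul, mul_comm a] at e
  exact Nat.eq_of_mul_eq_mul_left (by omega) (Nat.pow_right_injective (by norm_num) e)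

variable {G : Type u} [Group G] [Finite G] {S L D : Subgroup G} {t d e x z : G} {q l : ℕ}

theorem card_Ce (h : JR' S t L D) (he : e ∈ D) :
    Nat.card C1[e] = 2 * Nat.card ↥(L ⊓ C1[e]) * Nat.card D * C1[t].relIndex C1[e] := by
  have De : D ≤ C1[e] := h.DD.trans (cent_le_cent1 he)
  have te : t ∈ C1[e] := mem_cent1_comm.1 (h.Dt he)
  have n : D ≤ N[L ⊓ C1[e]] := le_norm_inf h.DL (le_norm_self De)
  have tn : t ∈ N[L ⊓ C1[e]] := cent_le_norm _ (GW.mem_cent_iff.2 (inf_le_left.trans h.le))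
  have n' : D ≤ N[L ⊓ C1[e] ⊔ zpowers t] := le_norm_sup n (le_norm_of_cent (cent_zpowers t ▸ h.Dt))
  have : C1[t] ⊓ C1[e] = (L ⊓ C1[e] ⊔ zpowers t) ⊔ D := by
    refine le_antisymm (fun c hc => ?_) (sup_le (sup_le (inf_le_inf_right _ h.le)
      (zpowers_le.2 ⟨self_mem_cent1 t, te⟩)) (le_inf h.Dt De))
    obtain ⟨l, hl, k, hk, rfl | rfl⟩ := h.dec hc.1
    · exact mul_mem (mem_sup_left (mem_sup_left ⟨hl, (mul_mem_cancel_right (De hk)).1 hc.2⟩)) (mem_sup_right hk)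
    · exact mul_mem (mem_sup_left (mem_sup_right (mem_zpowers t))) (mul_mem (mem_sup_left (mem_sup_left
        ⟨hl, (mul_mem_cancel_right (De hk)).1 ((mul_mem_cancel_left te).1 hc.2)⟩)) (mem_sup_right hk))
  rw [← card_inf_mul_relIndex C1[t], this, card_sup_of_inf_eq_bot (.inr n') (eq_bot_iff.2 fun y m => mem_bot.2
    (h.KD ((sup_le (inf_le_left.trans le_sup_right) le_sup_left : _ ≤ zpowers t ⊔ L) m.1) m.2)),
    PG.card_sup_zpowers Nat.prime_two tn (by rw [sq, h.tt]; exact one_mem _) fun m => h.nmem m.1]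

theorem exists_syl_gen (hl : l.Prime) (hd : l ∣ orderOf d) : ∃ e ∈ zpowers d, e ≠ 1 ∧ IsPGroup l (zpowers e) ∧
    ∃ k, ¬ l ∣ k ∧ orderOf d = orderOf e * k := by
  obtain ⟨a, k, n, e⟩ := Nat.exists_eq_pow_mul_and_not_dvd (orderOf_pos d).ne' l hl.ne_one
  have k0 : k ≠ 0 := by rintro rfl; simp at n
  have o : orderOf (d ^ k) = l ^ a := by
    rw [orderOf_pow_of_dvd k0 ⟨_, e.trans (mul_comm _ _)⟩, e, Nat.mul_div_cancel _ (by omega)]
  refine ⟨d ^ k, npow_mem_zpowers d k, fun z => n ?_, PG.isPGroup_of_card_eq_pow (by rw [Nat.card_zpowers, o]),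
    k, n, o ▸ e⟩
  rwa [e, ← o, z, orderOf_one, one_mul] at hd

theorem exists_prime_ord (hd : l ∣ orderOf d) : ∃ f ∈ zpowers d, orderOf f = l :=
  ⟨_, npow_mem_zpowers d _, orderOf_pow_orderOf_div (orderOf_pos d).ne' hd⟩

theorem lc (h : JR' S t L D) (hl : l.Prime) (l5 : 5 ≤ l) (he : e ∈ D) (e1 : e ≠ 1) (pe : IsPGroup l (zpowers e))
    {k : ℕ} (hk : ¬ l ∣ k) (cD : Nat.card D = orderOf e * k) (hL : ¬ l ∣ Nat.card L)
    (hi : ¬ l ^ 2 ∣ C1[t].relIndex C1[e]) (ox : orderOf x = l) (oz : Odd (orderOf z)) (xd : Commute x e)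
    (zd : Commute z e) (zx : z * x * z⁻¹ ∈ zpowers x) (nc : ¬ Commute z x) : LC l e x z := by
  have l2 : ¬ l ∣ 2 := fun d => by have := Nat.le_of_dvd two_pos d; omega
  refine ⟨hl, l5, e1, pe, ox, oz, xd, zd, zx, nc, fun d => hi ?_, fun a ha g m =>
    h.f1 (zpowers_le.2 he ha) (zpowers_le.2 he m), fun y s py os c => ?_, h.two⟩
  · rw [card_Ce h he, cD, show ∀ a b c d : ℕ, 2 * a * (b * c) * d = 2 * (a * c) * d * b from fun _ _ _ _ => by ring,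
      Nat.mul_dvd_mul_iff_right (orderOf_pos e)] at d
    refine (Nat.Coprime.pow_left 2 ((Nat.Prime.coprime_iff_not_dvd hl).2 ?_)).dvd_of_dvd_mul_left d
    exact hl.not_dvd_mul l2 (hl.not_dvd_mul (fun d => hL (d.trans (card_dvd_of_le inf_le_left))) hk)
  · obtain ⟨g, rfl⟩ := h.cj os
    have sy : IsPiHallOf {l} (zpowers e) C1[g * s * g⁻¹] := syl_mk hl (zpowers_le.2 (h.Dt he)) pe fun d => by
      have := card_mul_relIndex (zpowers_le.2 (h.Dt he))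
      rw [h.card_C, cD, Nat.card_zpowers, show ∀ a b c : ℕ, 2 * a * (b * c) = b * (2 * (a * c)) from
        fun _ _ _ => by ring, Nat.mul_right_inj (orderOf_pos e).ne'] at this
      exact hl.not_dvd_mul l2 (hl.not_dvd_mul hL hk) (this ▸ d)
    obtain ⟨c, -, le⟩ := syl_exists_conj_le hl sy (Q := zpowers (g * y * g⁻¹))
      (conj_zpowers g y ▸ PG.isPGroup_conj_iff.2 py) (zpowers_le.2 (mem_cent1.2 ((TT.commute_conj_iff g).2 c).eq))
    exact ⟨c * g, by simpa [mul_assoc] using le (conj_mem_conj.2 (mem_zpowers _))⟩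

end DA

open DA

theorem jro_of (idx : PIdx.{u}) (inv : PInv.{u}) (j1 : PJ1.{u}) (sv : PSeven.{u}) (loc : PLoc.{u}) (b3 : PB3.{u})
    (jt : PJT.{u}) (nb : PNB.{u}) (cta : PCTA.{u}) (aa : PAA.{u}) (tw : PTW.{u}) : JRO.{u} := by
  intro G _ _ _ S t L D h ih
  suffices e : D = ⊥ from ⟨e, jro0 (e ▸ h)⟩
  by_contra ne
  obtain ⟨q, d, H⟩ := pMod G S L D t h ih ne
  have gen := H.gen
  have cD : Nat.card D = orderOf d := by rw [gen, Nat.card_zpowers]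
  have dD : d ∈ D := gen ▸ mem_zpowers d
  have o1 : orderOf d ≠ 1 := by simpa using H.ne
  have K : ∀ e ∈ D, e ≠ 1 → ∃ q1, q = q1 ^ orderOf e ∧ 2 * Nat.card ↥(L ⊓ C1[e]) = q1 * (q1 ^ 2 - 1) ∧
      ((q1 = 5 ∧ C1[t].relIndex C1[e] = 1463) ∨
        ∃ m, q1 = 3 ^ (2 * m + 1) ∧ C1[t].relIndex C1[e] ∣ q1 ^ 2 * (q1 ^ 2 - q1 + 1)) := fun e he e1 =>
    (H.fix e he).imp fun q1 k => ⟨k.1, k.2, ix (idx G S L D t d e q H he e1) k.2⟩
  have P : ∀ {l}, l ∣ orderOf d → ∃ f ∈ D, orderOf f = l := fun hl => gen ▸ exists_prime_ord hl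
  have ne1 : ∀ {f : G} {l}, l.Prime → orderOf f = l → f ≠ 1 := fun hl o e => hl.ne_one (by rw [← o, e, orderOf_one])
  have n35 : ∀ {a b c : ℕ}, b ≠ 0 → (3 ^ (a + 1)) ^ b ≠ 5 ^ c := fun b0 e => absurd (Nat.prime_three.dvd_of_dvd_pow
    (e ▸ dvd_pow (dvd_pow_self 3 (by omega)) b0)) (by norm_num)
  obtain ⟨x7, hx7, z7, hz7, s1, s2, s3, s4⟩ := sv G S L D t h
  obtain ⟨q0, e0, c0, ⟨rfl, i0⟩ | ⟨m, rfl, i0⟩⟩ := K d dD H.ne
  · have hl := Nat.minFac_prime o1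
    obtain ⟨f, hf, o⟩ := P (orderOf d).minFac_dvd
    obtain ⟨q1, e1, -, ⟨rfl, -⟩ | ⟨m, rfl, -⟩⟩ := K f hf (ne1 hl o)
    swap
    · exact n35 (orderOf_pos f).ne' (e1.symm.trans e0)
    rw [← o, ← Nat.pow_right_injective (by norm_num) (e0.symm.trans e1)] at hl
    have d1 := h.step1 hl dD rfl
    have cL := H.cardL
    rw [i0, show 1463 = 7 * (11 * 19) from rfl, hl.dvd_mul, hl.dvd_mul, Nat.prime_dvd_prime_iff_eq hl (by norm_num),
      Nat.prime_dvd_prime_iff_eq hl (by norm_num), Nat.prime_dvd_prime_iff_eq hl (by norm_num)] at d1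
    obtain ⟨x, z, a1, a2, a3, a4, a5, a6⟩ : ∃ x z : G, orderOf x = orderOf d ∧ Odd (orderOf z) ∧ Commute x d ∧
        Commute z d ∧ z * x * z⁻¹ ∈ zpowers x ∧ ¬ Commute z x := d1.elim (fun e =>
      ⟨x7, z7, e ▸ s1, s2, mem_cent1.1 (h.NS dD hx7), mem_cent1.1 (h.NS dD hz7), s3, s4⟩)
      (j1 G S L D t d q _ H (by omega))
    refine loc G _ d x z (lc h hl (by omega) dD H.ne (isPGroup_of_card_eq_prime (Nat.card_zpowers d)) (k := 1)
      hl.not_dvd_one (by omega) ?_ ?_ a1 a2 a3 a4 a5 a6)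
    · rcases d1 with e | e | e <;> rw [e] at e0 ⊢ <;> rw [e0] at cL <;> norm_num at cL <;> omega
    · rcases d1 with e | e | e <;> rw [e, i0] <;> norm_num
  have K' : ∀ e ∈ D, e ≠ 1 → ∃ k, q = (3 ^ (k + 1)) ^ orderOf e ∧
      2 * Nat.card ↥(L ⊓ C1[e]) = 3 ^ (k + 1) * ((3 ^ (k + 1)) ^ 2 - 1) ∧
      C1[t].relIndex C1[e] ∣ (3 ^ (k + 1)) ^ 2 * ((3 ^ (k + 1)) ^ 2 - 3 ^ (k + 1) + 1) := fun e he e1 => by
    obtain ⟨q1, a, b, ⟨rfl, -⟩ | ⟨m, rfl, c⟩⟩ := K e he e1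
    exacts [absurd (e0.symm.trans a) (n35 (orderOf_pos d).ne'), ⟨_, a, b, c⟩]
  have cp : (Nat.card D).Coprime (q ^ 2 - 1) := Nat.coprime_of_dvd fun l hl a b => by
    obtain ⟨f, hf, o⟩ := P (cD ▸ a)
    obtain ⟨k, e1, -, i1⟩ := K' f hf (ne1 hl o)
    exact cop hl ((h.step1 hl hf o).trans i1) (by rwa [e1, o] at b)
  obtain ⟨n, hn⟩ := h.oD dD
  obtain ⟨u, g, w, x, Q, J⟩ := jt G S L D t h h.cyc
  have n1 : 1 ≤ 2 * m * n + m + n := by omega
  have hq : q = 3 ^ (2 * (2 * m * n + m + n) + 1) := by rw [e0, ← pow_mul, hn]; congr 1; ring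
  obtain ⟨U, T, B⟩ := b3 G S L D t d u q _ H n1 hq cp J.uS J.uL J.u1
  obtain ⟨b1, b2, b3', -⟩ := B.q27
  rcases Nat.eq_zero_or_pos m with rfl | m0
  swap
  · have hQ : Q.natAbs = q := mono (by omega) (J.card.symm.trans H.cardL)
    have ox := J.ord
    have := J.q8
    have : 4 * orderOf x = q + 1 := by omega
    obtain ⟨a, ha, ad, ga⟩ := inv G S L D t d u g w x q Q H J (by
      have : 27 ≤ 3 ^ (2 * m + 1) := Nat.pow_le_pow_right (n := 3) (i := 3) (by norm_num) (by omega)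
      have := Nat.mul_le_mul this (Nat.sub_le_sub_right (Nat.pow_le_pow_left this 2) 1)
      omega)
    refine ne (tw G S L D t u g w x a Q J (by rw [Int.abs_eq_natAbs]; omega) (cp.coprime_dvd_right ?_) (by omega) ha
      (by rw [gen, cent_zpowers]; exact mem_cent1.2 ad.eq) ga)
    exact ⟨4 * (q - 1), by rw [← mul_assoc, mul_comm _ 4, this, ← Nat.sq_sub_sq]⟩
  by_cases d3 : 3 ∣ orderOf d
  · obtain ⟨f, hf, o⟩ := P d3
    obtain ⟨k, e1, c1, i1⟩ := K' f hf (ne1 Nat.prime_three o)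
    obtain ⟨y, hy, py, cy⟩ := cta G S L D U T t u g w x f q _ Q B J ih hf o (o ▸ e1) c1 i1 fun e => by
      refine (eq_of_le_of_card_ge (zpowers_le.2 hf) ?_).symm
      rw [e, e0, mul_zero, zero_add, pow_one] at e1
      rw [cD, Nat.card_zpowers, Nat.pow_right_injective (by norm_num) e1]
    obtain ⟨P, W⟩ := nb G S L D U T t u y q B hy py cy
    obtain ⟨e, he, e1, pe, k, nk, ok⟩ := exists_syl_gen Nat.prime_three d3
    obtain ⟨k', a, b, c⟩ := K' e (gen ▸ he) e1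
    refine aa G S L D U T P t u e q _ B W (gen ▸ he) e1 pe (fun d => nk ?_) a b c
    rwa [cD, ok, mul_comm, Nat.mul_dvd_mul_iff_left (orderOf_pos e)] at d
  have d7 : 7 ∣ orderOf d := by
    have hl := Nat.minFac_prime o1
    obtain ⟨f, hf, o⟩ := P (orderOf d).minFac_dvd
    obtain ⟨k, e1, -, i1⟩ := K' f hf (ne1 hl o)
    obtain ⟨j, hj⟩ := (orderOf d).minFac_dvd
    have : k + 1 = j := root hl.ne_zero (by rw [← hj, ← o, ← e1, e0, mul_zero, zero_add, pow_one])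
    exact seven o1 (h.oD dD) d3 hj (this ▸ (h.step1 hl hf o).trans i1)
  obtain ⟨e, he, e1, pe, k, nk, ok⟩ := exists_syl_gen (by norm_num) d7
  rw [← gen] at he
  obtain ⟨k', a, -, c⟩ := K' e he e1
  have : k' + 1 = k := root (orderOf_pos e).ne' (by rw [← ok, ← a, e0, mul_zero, zero_add, pow_one])
  refine loc G 7 e x7 z7 (lc h (by norm_num) (by norm_num) he e1 pe nk (cD ▸ ok) (fun d => ?_)
    (fun d => not49 nk (this ▸ d.trans c)) s1 s2 (mem_cent1.1 (h.NS he hx7)) (mem_cent1.1 (h.NS he hz7)) s3 s4)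
  rcases (Nat.Prime.dvd_mul (by norm_num)).1 (H.cardL ▸ d.mul_left 2) with d | d
  · exact absurd (Nat.Prime.dvd_of_dvd_pow (by norm_num) (hq ▸ d)) (by norm_num)
  · exact absurd (Nat.eq_one_of_dvd_coprimes cp (cD ▸ d7) d) (by norm_num)

end Cfsg.Agent.WA
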