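import Cfsg.Agent.WA.PU
import Cfsg.Agent.BS.ZStar

/-! Walter's theorem, part B1: abelian Sylow 2-subgroups and components. -/

set_option autoImplicit false
set_option linter.unusedSectionVars false
set_option linter.unusedVariables false

namespace Cfsg.Agent.WA

open Cfsg Subgroup Cfsg.Agent.GT Cfsg.Agent.Cls Cfsg.Agent.GW
open Cfsg.Agent.TT (QS Cmp SN layerOf fstarOf)
open scoped commutatorElement

universe u

/-- rank 2, or involution centralizers have no normal subgroup of odd order. -/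
def G3 : Prop := ∀ (Q : Type u) [Group Q] [Finite Q] [IsSimpleGroup Q], Good Q →
  (∀ d e b : Q, orderOf d = 2 → orderOf e = 2 → orderOf b = 2 → e ≠ d → e * d = d * e →
    b * d = d * b → b * e = e * b → b = d ∨ b = e ∨ b = d * e) ∨
  (∀ z : Q, orderOf z = 2 → ∀ R : Subgroup Q, Odd (Nat.card R) → R ≤ C1[z] → C1[z] ≤ N[R] → R = ⊥)

structure KG (G : Type u) [Group G] (n : ℕ) : Prop where
  ab : AB G
  ih : IH.{u} n
  g3 : G3.{u}

variable {G : Type u} [Group G] [Finite G] {p q n : ℕ}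
  {A B D E H J K L M P R S T U W X Y Γ : Subgroup G} {a b c d e g k k' s t v w x y z : G}

theorem pg_sup (hp : p.Prime) (hP : IsPGroup p P) (hR : IsPGroup p R) (hn : P ≤ N[R] ∨ R ≤ N[P]) :
    IsPGroup p ↥(P ⊔ R) :=
  (isPiSubgroup_single_iff hp).1 ((isPi_of_isPGroup hp hP).sup (isPi_of_isPGroup hp hR) hn)

theorem sq_conj (h : c * c = 1) (g : G) : g * c * g⁻¹ * (g * c * g⁻¹) = 1 := by
  rw [conj_mul, h]; group

theorem cj_mem (hg : g ∈ H) (hx : x ∈ H) : g * x * g⁻¹ ∈ H := mul_mem (mul_mem hg hx) (inv_mem hg)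

theorem zp2' (h : c * c = 1) (hy : y ∈ zpowers c) : y = 1 ∨ y = c := by
  by_cases e : c = 1
  · subst e; exact Or.inl (by simpa using hy)
  · exact zp2 (ord2 h e) hy

theorem pg2' (h : c * c = 1) : IsPGroup 2 (zpowers c) := by
  by_cases e : c = 1
  · subst e; rw [zpowers_one_eq_bot]; exact IsPGroup.of_bot
  · exact pg2 (ord2 h e)

theorem comm_zp_le (h : c * c = 1) (hx : ∀ x ∈ K, ⁅x, c⁆ ∈ X) : ⁅K, zpowers c⁆ ≤ X :=
  commutator_le.2 fun x h1 y h2 => by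
    rcases zp2' h h2 with rfl | rfl
    · simp
    · exact hx x h1

theorem le_c1 (ht : t * t = 1) (hn : t ∈ N[W]) (ho : Odd (Nat.card W))
    (h : ⁅W, zpowers t⁆ ≤ C1[t]) : W ≤ C1[t] := by
  rw [← cent_zpowers] at h ⊢
  exact coprime_le_cent_of_commutator_le_cent (zp_norm hn) (cop2' ho (pg2' ht)) h

theorem not_odd_of_inv (ht : orderOf t = 2) (h : t ∈ W) (ho : Odd (Nat.card W)) : False :=
  ne1 ht (eq1_of_odd (odd_ord ho h) (sq1 ht))

theorem AB.cm (h : AB G) (hP : IsPGroup 2 P) (hx : x ∈ P) (hy : y ∈ P) : x * y = y * x :=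
  le_cent_iff.1 (h P hP) y hy x hx

theorem AB.pcent (h : AB G) (hP : IsPGroup 2 P) (hR : IsPGroup 2 R) (hn : P ≤ N[R] ∨ R ≤ N[P]) :
    P ≤ C[R] :=
  le_sup_left.trans ((h _ (pg_sup Nat.prime_two hP hR hn)).trans (cent_anti le_sup_right))

theorem AB.pc1 (h : AB G) (hP : IsPGroup 2 P) (ht : t * t = 1) (hn : t ∈ N[P]) : P ≤ C1[t] := by
  rw [← cent_zpowers]; exact h.pcent hP (pg2' ht) (Or.inr (zp_norm hn))

theorem AB.sc (h : AB G) (hS : IsPiHallOf {2} S H) : S ≤ C[S] := h S (syl_isPGroup Nat.prime_two hS)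

theorem AB.sc1 (h : AB G) (hS : IsPiHallOf {2} S H) (hx : x ∈ S) : S ≤ C1[x] :=
  (h.sc hS).trans (cent_le_cent1 hx)

theorem AB.fus (h : AB G) (hS : IsPiHallOf {2} S H) (hx : x ∈ S) (hg : g ∈ H)
    (hy : g * x * g⁻¹ ∈ S) : ∃ m ∈ H ⊓ N[S], m * x * m⁻¹ = g * x * g⁻¹ := by
  obtain ⟨m, hm, c, hc, rfl⟩ := syl_fusion_cent Nat.prime_two hS hg (Y := {x})
    (by rintro _ rfl; exact h.sc hS hx) (by rintro _ rfl; exact h.sc hS hy)
  refine ⟨m, hm, ?_⟩
  have := mem_cent1.1 (show c ∈ C1[x] from hc.2)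
  rw [show m * c * x * (m * c)⁻¹ = m * (c * x) * c⁻¹ * m⁻¹ by group, this]; group

theorem conj_into (hS : IsPiHallOf {2} S H) (hz : z * z = 1) (zH : z ∈ H) :
    ∃ g ∈ H, g * z * g⁻¹ ∈ S := by
  obtain ⟨g, hg, h⟩ := syl_exists_conj_le Nat.prime_two hS (pg2' hz) (zpowers_le.2 zH)
  exact ⟨g, hg, h (conj_mem_conj.2 (mem_zpowers z))⟩

theorem zstar_rel (hz : z * z = 1) (hC : z ∈ H)
    (h : ∀ g ∈ H, z * (g * z * g⁻¹) = g * z * g⁻¹ * z → g * z * g⁻¹ = z) (hg : g ∈ H) :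
    z * (g * z * g⁻¹) ∈ O[H] := by
  have h1 := BS.zstar (G := H) (t := ⟨_, hC⟩) (Subtype.ext hz)
    (fun g hg => Subtype.ext (h g g.2 (congrArg Subtype.val hg))) ⟨g, hg⟩
  rwa [← piCoreOf_subgroupOf_self, mem_subgroupOf] at h1

theorem AB.zst (h : AB G) (hS : IsPiHallOf {2} S H) (hc : c ∈ S) (c2 : c * c = 1)
    (hn : H ⊓ N[S] ≤ C1[c]) (hg : g ∈ H) : c * (g * c * g⁻¹) ∈ O[H] := by
  refine zstar_rel c2 (hS.le hc) (fun g hg e => ?_) hg
  obtain ⟨x, hx, h1⟩ := conj_into (z := g * c * g⁻¹) (syl_of_le hS (le_inf hS.le (h.sc1 hS hc))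
    inf_le_left) (sq_conj c2 g) ⟨cj_mem hg (hS.le hc), mem_cent1.2 e.symm⟩
  obtain ⟨m, hm, h2⟩ := h.fus hS hc (mul_mem hx.1 hg) (by
    rwa [show x * g * c * (x * g)⁻¹ = x * (g * c * g⁻¹) * x⁻¹ by group])
  rw [mem_cent1.1 (hn hm), mul_inv_cancel_right] at h2
  calc g * c * g⁻¹ = x⁻¹ * (x * g * c * (x * g)⁻¹) * x := by group
    _ = c := by rw [← h2, mul_assoc, ← mem_cent1.1 hx.2]; group

theorem AB.co (h : AB G) (hS : IsPiHallOf {2} S H) (hΓ : Γ ≤ H ⊓ N[S]) (hB : B ≤ S)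
    (hn : Γ ≤ N[B]) :
    (∀ x ∈ B, ∃ m ∈ ⁅B, Γ⁆, ∃ c ∈ B ⊓ C[Γ], x = m * c) ∧ ⁅B, Γ⁆ ⊓ C[Γ] = ⊥ := by
  have hN : Γ ≤ N[S] := hΓ.trans inf_le_right
  have h1 : IsPiHallOf {2} S (Γ ⊔ S) :=
    syl_of_le hS le_sup_right (sup_le (hΓ.trans inf_le_left) hS.le)
  obtain ⟨E, hE⟩ := h1.exists_isComplIn (sup_le hN le_normalizer)
  have ho : Odd (Nat.card E) := odd_iff_pi.1 (h1.compl hE).isPi
  have SB : S ≤ C[B] := (h.sc hS).trans (cent_anti hB)
  have e0 : E ⊔ S = Γ ⊔ S := by rw [sup_comm]; exact hE.sup_eq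
  have EN : E ≤ N[S] := hE.right_le.trans (sup_le hN le_normalizer)
  have e1 : ⁅B, E⁆ = ⁅B, Γ⁆ := by
    rw [commutator_comm B, commutator_comm B, ← commutator_sup_cent_eq (Or.inl EN) SB, e0,
      commutator_sup_cent_eq (Or.inl hN) SB]
  have nE : E ≤ N[B] := hE.right_le.trans (sup_le hn (le_norm_of_cent SB))
  have pB : IsPGroup 2 B := (syl_isPGroup Nat.prime_two hS).to_le hB
  have hc := (cop2' ho pB).symm
  have cB : IsMulCommutative B := comm_iff_le_cent.2 (h B pB)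
  have c1 : B ⊓ C[E] ≤ C[Γ] := inf_le_inf (le_cent_symm SB) le_rfl |>.trans (by
    rw [← cent_sup, sup_comm, e0]; exact cent_anti le_sup_left)
  refine ⟨fun x hx => ?_, le_bot_iff.1 ?_⟩
  · obtain ⟨m, hm, c, hc, e⟩ := coprime_exists_mul (Or.inl (solvable_of_comm cB)) nE hc hx
    exact ⟨m, e1 ▸ hm, c, ⟨hc.1, c1 hc⟩, e⟩
  · rw [← coprime_comm_commutator_inf_cent cB nE hc, e1]
    refine fun x hx => ⟨hx.1, ?_⟩
    have : x ∈ C[Γ ⊔ S] := by
      rw [cent_sup]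
      exact ⟨hx.2, le_cent_symm SB (commutator_le_of_le_norm_left hn hx.1)⟩
    exact cent_anti hE.right_le this

/-! ### quasisimple subgroups -/

theorem qs_cent (hK : QS K) (h : ⁅K, A⁆ ≤ C[K]) : A ≤ C[K] := by
  have := commutator_le_cent_of_le_cent (H := K) (K := A) (L := K) h (commutator_comm K A ▸ h)
  rw [hK.perf] at this
  exact le_cent_symm this

theorem qs_le (hK : QS K) (hn : K ≤ N[X]) (hx : x ∈ K) (hX : x ∈ X) (h : x ∉ C[K]) : K ≤ X := by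
  rcases hK.max (K ⊓ X) inf_le_left (le_norm_inf le_normalizer hn) with e | e
  · exact absurd (e ⟨hx, hX⟩) h
  · exact inf_eq_left.1 e

/-- a subgroup normalized by `K` and normalizing `K` contains or centralizes `K`. -/
theorem qs_or (hK : QS K) (h1 : K ≤ N[X]) (h2 : X ≤ N[K]) : K ≤ X ∨ X ≤ C[K] := by
  rcases hK.max ⁅K, X⁆ (commutator_le_of_le_norm_left h2) (normalizer_commutator_ge_left _ _)
    with e | e
  · exact Or.inr (qs_cent hK e)
  · exact Or.inl (e ▸ commutator_le_of_le_norm_right h1)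

theorem qs_comm (hK : QS K) (hn : t ∈ N[K]) (h : t ∉ C[K]) : ⁅K, zpowers t⁆ = K := by
  rcases hK.max ⁅K, zpowers t⁆ (commutator_le_of_le_norm_left (zp_norm hn))
    (normalizer_commutator_ge_left _ _) with e | e
  · exact absurd (qs_cent hK e (mem_zpowers t)) h
  · exact e

theorem qs_inv (hK : QS K) : ∃ k ∈ K, orderOf k = 2 :=
  exists_inv (Nat.not_odd_iff_even.1 fun e => hK.not_solvable (solv_odd e))

theorem AB.zodd (h : AB G) (hK : QS K) : Odd (Nat.card ↥(K ⊓ C[K])) := by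
  by_contra h0
  obtain ⟨z, hz, oz⟩ := exists_inv (Nat.not_odd_iff_even.1 h0)
  obtain ⟨T, hT, h1⟩ := exists_syl_ge Nat.prime_two (pg2 oz) (zpowers_le.2 hz.1)
  have := inf_cent_inf_commutator_eq_bot hT.le (comm_iff_le_cent.2 (h.sc hT)) hT.coprime
  rw [hK.perf] at this
  exact ne1 oz (mem_bot.1 (this ▸ ⟨⟨h1 (mem_zpowers z), hz.2⟩, hz.1⟩))

theorem AB.nc (h : AB G) (hK : QS K) (hk : k ∈ K) (ok : orderOf k = 2) : k ∉ C[K] := fun e =>
  not_odd_of_inv ok (mem_inf.2 ⟨hk, e⟩) (h.zodd hK)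

theorem AB.uniq (h : AB G) (hK : QS K) (hk : k ∈ K) (hk' : k' ∈ K) (k2 : k * k = 1)
    (k2' : k' * k' = 1) (e : k * k' ∈ C[K]) : k = k' := by
  have h1 := mem_cent1.1 (cent_le_cent1 hk e)
  have h2 : k * k' * (k * k') = 1 := by
    rw [← mul_assoc, h1, ← mul_assoc, k2, one_mul, k2']
  have h3 := eq1_of_odd (odd_ord (h.zodd hK) ⟨mul_mem hk hk', e⟩) h2
  rw [← one_mul k', ← k2, mul_assoc, h3, mul_one]

theorem AB.inner (h : AB G) (hK : QS K) (ht : t * t = 1) (hn : t ∈ N[K]) :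
    ∃ k ∈ K, k * k = 1 ∧ t * k ∈ C[K] := by
  have hY : K ⊔ zpowers t ≤ N[K] := sup_le le_normalizer (zp_norm hn)
  obtain ⟨T, hT, h1⟩ := exists_syl_ge Nat.prime_two (pg2' ht) (le_sup_right (a := K))
  obtain ⟨h2, h3⟩ := h.co hT le_rfl le_rfl inf_le_right
  obtain ⟨m, hm, c, hc, e⟩ := h2 t (h1 (mem_zpowers t))
  have mT : m ∈ T := commutator_le_of_le_norm_left inf_le_right hm
  have cm := h.cm (syl_isPGroup Nat.prime_two hT) mT hc.1
  have e2 : m * m = (c * c)⁻¹ := eq_inv_of_mul_eq_one_left (by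
    rw [← ht, e, mul_assoc m c, ← mul_assoc c m, ← cm]; simp only [mul_assoc])
  have m2 : m * m = 1 := mem_bot.1 (h3 ▸ mem_inf.2 ⟨mul_mem hm hm,
    e2 ▸ inv_mem (mul_mem (mem_inf.1 hc).2 (mem_inf.1 hc).2)⟩)
  have c2 : c * c = 1 := by rw [m2] at e2; exact inv_eq_one.1 e2.symm
  have mK : m ∈ K := by
    refine ((commutator_mono hT.le inf_le_left).trans ?_) hm
    exact PG.commutator_sup_le le_normalizer (zp_norm hn) (commutator_le_of_le_norm_left hY)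
      (PG.commutator_sup_le' le_normalizer (zp_norm hn) (commutator_le_of_le_norm_right (zp_norm hn))
        (by rw [le_cent_iff_commutator_eq_bot.1 (comm_iff_le_cent.1 inferInstance)]; exact bot_le))
  have hO : K ≤ C[O[K ⊔ zpowers t]] := (Cmp.mk hK (SN.of_norm le_sup_left hY)).le_cent_of_solvable
    (SN.of_norm (O_le _) (O_norm _)) (O_solv _)
  have cK : c ∈ C[K] := qs_cent hK (comm_zp_le c2 fun x hx => by
    have := h.zst hT hc.1 c2 (mem_cent_iff.1 hc.2) (mem_sup_left (T := zpowers t) hx)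
    have h4 := inv_mem (le_cent_symm hO this)
    rwa [show (c * (x * c * x⁻¹))⁻¹ = x * c⁻¹ * x⁻¹ * c⁻¹ by group,
      show x * c⁻¹ = x * c by rw [inv_eq_of_mul_eq_one_right c2]] at h4) (mem_zpowers c)
  exact ⟨m, mK, m2, by rwa [e, cm, mul_assoc, m2, mul_one]⟩

theorem AB.four (h : AB G) (hK : QS K) (hk : k ∈ K) (ok : orderOf k = 2) :
    ∃ g ∈ K, k * (g * k * g⁻¹) = g * k * g⁻¹ * k ∧ g * k * g⁻¹ ≠ k := by
  by_contra h0
  push Not at h0
  refine h.nc hK hk ok (mem_cent_iff.2 fun g hg => mem_cent1.2 (mul_inv_eq_iff_eq_mul.1 ?_))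
  refine (h.uniq hK hk (mul_mem (mul_mem hg hk) (inv_mem hg)) (sq1 ok) (sq1 (ord2_conj ok g))
    (((hK.max _ (O_le K) (O_norm K)).resolve_right fun e => hK.not_solvable (e ▸ O_solv K))
      (zstar_rel (sq1 ok) hk h0 hg))).symm

theorem AB.norm2 (h : AB G) (hK : Cmp K U) (hs : IsPGroup 2 (zpowers s)) (hn : s ∈ N[U]) :
    s ∈ N[K] := by
  have hK' : Cmp K (U ⊔ zpowers s) :=
    hK.trans (SN.of_norm le_sup_left (sup_le le_normalizer (zp_norm hn)))
  obtain ⟨T, hT, h1⟩ := exists_syl_ge Nat.prime_two hs (le_sup_right (a := U))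
  have h2 := syl_inf_normal Nat.prime_two (syl_inf_normal Nat.prime_two hT (TT.layerOf_le _)
    (TT.le_norm_layerOf _)) hK'.le_layerOf hK'.layerOf_le_norm
  obtain ⟨k, hk, ok⟩ := qs_inv hK.toQS
  obtain ⟨g, hg, h3⟩ := conj_into h2 (sq1 ok) hk
  rcases (hK.conj hn).eq_or_cent hK with e | e
  · exact conj_eq_self_iff.1 e
  · refine absurd (e ?_) (h.nc hK.toQS h3.2 (ord2_conj ok g))
    have := conj_mem_conj (g := s).2 h3.2
    rwa [h.cm (syl_isPGroup Nat.prime_two hT) (h1 (mem_zpowers s)) h3.1.1, mul_inv_cancel_right] at this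

theorem AB.norm2' (h : AB G) (hK : Cmp K U) (hs : s * s = 1) (hn : s ∈ N[U]) : s ∈ N[K] :=
  h.norm2 hK (pg2' hs) hn

theorem AB.normS (h : AB G) (hK : Cmp K U) (hS : IsPGroup 2 S) (hn : S ≤ N[U]) : S ≤ N[K] :=
  fun _ hs => h.norm2 hK (hS.to_le (zpowers_le.2 hs)) (hn hs)

theorem AB.normW (h : AB G) (hK : Cmp K U) (ho : Odd (Nat.card W)) (hn : W ≤ N[U]) (hk : k ∈ K)
    (ok : orderOf k = 2) (kW : k ∈ N[W]) : W ≤ N[K] := fun w hw => by
  rcases (hK.conj (hn hw)).eq_or_cent hK with e | e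
  · exact conj_eq_self_iff.1 e
  have h1 := e (conj_mem_conj.2 hk)
  have h2 := mem_cent1.1 (cent_le_cent1 hk h1)
  have h3 : w * k * w⁻¹ * k ∈ W := by
    have := mul_mem hw (conj_mem_of_mem_norm kW (inv_mem hw))
    rwa [inv2 ok, ← mul_assoc, ← mul_assoc] at this
  have h4 := eq1_of_odd (odd_ord ho h3) (by
    rw [mul_assoc, ← mul_assoc k, ← h2, mul_assoc _ k k, sq1 ok, mul_one, sq1 (ord2_conj ok w)])
  refine absurd ?_ (h.nc hK.toQS hk ok)
  rwa [eq_inv_of_mul_eq_one_left h4, inv2 ok] at h1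

/-- the involution of `K` inducing `t` is centralized by `N(K) ∩ C(t)`. -/
theorem AB.fix (h : AB G) (hK : QS K) (hk : k ∈ K) (k2 : k * k = 1) (e : t * k ∈ C[K])
    (hx : x ∈ N[K]) (xt : x ∈ C1[t]) : x ∈ C1[k] := by
  refine mem_cent1.2 (mul_inv_eq_iff_eq_mul.1 (h.uniq hK (conj_mem_of_mem_norm hx hk) hk
    (sq_conj k2 x) k2 ?_))
  have h1 := conj_mem_of_mem_norm (norm_le_norm_cent K hx) e
  rw [← conj_mul, mem_cent1.1 xt, mul_inv_cancel_right] at h1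
  have := mul_mem (inv_mem h1) e
  rwa [show (t * (x * k * x⁻¹))⁻¹ * (t * k) = x * k⁻¹ * x⁻¹ * k by group,
    inv_eq_of_mul_eq_one_right k2] at this

theorem c1_of_inner (hk : k ∈ K) (k2 : k * k = 1) (e : t * k ∈ C[K]) (hx : x ∈ K) :
    x ∈ C1[t] ↔ x ∈ C1[k] := by
  have h1 : x ∈ C1[t * k] := mem_cent_iff.1 e hx
  refine ⟨fun h => ?_, fun h => ?_⟩
  · have := mul_mem (inv_mem (mem_cent1_comm.1 h)) (mem_cent1_comm.1 h1)
    rw [inv_mul_cancel_left] at this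
    exact mem_cent1_comm.1 this
  · have := c1_mul h1 h
    rwa [mul_assoc, k2, mul_one] at this

theorem KG.quo (h : KG G n) (hK : QS K) (hc : Nat.card K < n) :
    ∃ (Q : Type u) (_ : Group Q) (_ : Finite Q) (f : K →* Q), Function.Surjective f ∧
      kr f = K ⊓ C[K] ∧ IsSimpleGroup Q ∧ Good Q := by
  obtain ⟨Q, _, _, f, hf, hk⟩ := exists_quo' K (K ⊓ C[K]) inf_le_left
    (le_norm_inf le_normalizer (le_norm_cent le_normalizer))
  have nc : ¬ IsMulCommutative Q := fun hc => hK.not_le_cent (by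
    have := (comm_im_iff (f := f) le_rfl).1 inferInstance
    rw [hK.perf, hk] at this
    exact this.trans inf_le_right)
  have : Nontrivial Q := by
    by_contra h0
    have := not_nontrivial_iff_subsingleton.1 h0
    exact nc ⟨⟨fun a b => Subsingleton.elim _ _⟩⟩
  have hs : IsSimpleGroup Q := ⟨fun N hN => by
    rcases hK.max (pre f N) pre_le (dom_le_norm_pre le_norm_of_normal) with e | e
    · left
      rw [← im_pre_of_surj (X := N) hf, im_eq_bot_iff pre_le, hk]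
      exact le_inf pre_le e
    · right
      rw [← im_pre_of_surj (X := N) hf, e, im_dom_of_surj hf]⟩
  exact ⟨Q, _, inferInstance, f, hf, hk, hs, h.ih Q nc (h.ab.of_surj hf)
    ((Nat.card_le_card_of_surjective f hf).trans_lt hc)⟩

theorem AB.eq_of_f (h : AB G) (hK : QS K) {Q : Type u} [Group Q] {f : K →* Q}
    (hf : kr f = K ⊓ C[K]) (hk : k ∈ K) (hk' : k' ∈ K) (k2 : k * k = 1) (k2' : k' * k' = 1)
    (e : f ⟨k, hk⟩ = f ⟨k', hk'⟩) : k = k' :=
  h.uniq hK hk hk' k2 k2' (by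
    have : k * k' ∈ kr f := (mem_kr' (mul_mem hk hk')).2 (by
      rw [show (⟨k * k', _⟩ : K) = ⟨k, hk⟩ * ⟨k', hk'⟩ from rfl, map_mul, e, ← map_mul, ← map_one f]
      exact congrArg f (Subtype.ext k2'))
    exact (hf ▸ this).2)

theorem KG.one (h : KG G n) (hK : QS K) (hc : Nat.card K < n) (hk : k ∈ K) (hk' : k' ∈ K)
    (ok : orderOf k = 2) (ok' : orderOf k' = 2) : ∃ g ∈ K, g * k * g⁻¹ = k' := by
  obtain ⟨Q, _, _, f, hf, hr, hs, hG⟩ := h.quo hK hc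
  have ho : Odd (Nat.card (kr f)) := hr ▸ h.ab.zodd hK
  obtain ⟨g, -, e⟩ := hG.2.1.one _ (mem_top _) _ (mem_top _) (im_ord2 ho ok hk) (im_ord2 ho ok' hk')
  obtain ⟨⟨g, hg⟩, rfl⟩ := hf g
  refine ⟨g, hg, h.ab.eq_of_f hK hr (mul_mem (mul_mem hg hk) (inv_mem hg)) hk'
    (sq1 (ord2_conj ok g)) (sq1 ok') ?_⟩
  rw [← e, ← map_inv, ← map_mul, ← map_mul]; rfl

theorem KG.t26 (h : KG G n) (hK : QS K) (hc : Nat.card K < n) (hk : k ∈ K) (ok : orderOf k = 2)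
    (hJ : J ≤ K) (hn : K ⊓ C1[k] ≤ N[J]) :
    K ≤ J ∨ (Group.IsSolvable ↥⁅J, zpowers k⁆ ∧ (Odd (Nat.card J) → J ≤ C1[k])) := by
  obtain ⟨Q, _, _, f, hf, hr, hs, hG⟩ := h.quo hK hc
  have ho : Odd (Nat.card (kr f)) := hr ▸ h.ab.zodd hK
  have kJ : k ∈ N[J] := hn ⟨hk, self_mem_cent1 k⟩
  have hJ1 : ⁅J, zpowers k⁆ ≤ J := commutator_le_of_le_norm_left (zp_norm kJ)
  suffices hs : K ≤ J ∨ IsPGroup 2 (im f ⁅J, zpowers k⁆) from hs.imp_right fun h2 =>
    ⟨solvable_of_im (hJ1.trans hJ) (solv_of_le (solv_odd ho) inf_le_right)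
      (solvable_of_isPGroup Nat.prime_two h2), fun oJ => le_c1 (sq1 ok) kJ oJ (by
        have := eq_bot_of_le_of_coprime (im_mono hJ1) le_rfl (cop2' (odd_im oJ) h2)
        rw [im_eq_bot_iff (hJ1.trans hJ), hr] at this
        exact this.trans (inf_le_right.trans (cent_le_cent1 hk)))⟩
  rw [im_commutator hJ (zpowers_le.2 hk), im_zpowers hk]
  by_cases e : N[im f J] = ⊤
  · rcases hs.eq_bot_or_eq_top_of_normal _ (normal_iff_top_le_norm.2 e.ge) with e | e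
    · right; rw [e, commutator_bot_left]; exact IsPGroup.of_bot
    · left
      have := (im_le_im_iff (f := f) le_rfl hJ).1 (e ▸ le_top)
      rw [hr] at this
      exact hK.le_of_le_sup this (inf_le_right.trans (cent_anti (sup_le hJ inf_le_left)))
  · right
    have := hG.1 _ (mem_top _) (im_ord2 ho ok hk) _ le_top e (by
      rw [top_inf_eq, ← im_cent1 hf ho ok hk]; exact im_norm hn)
    exact (piCoreOf_isPGroup Nat.prime_two _).to_le ((commutator_mono le_rfl (zpowers_le.2 this)).trans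
      (commutator_le_of_le_norm_right (le_normalizer.trans (self_le_norm_piCoreOf _ _))))

theorem KG.t26a (h : KG G n) (hK : QS K) (hc : Nat.card K < n) (hk : k ∈ K) (ok : orderOf k = 2)
    (hJ : J ≤ K) (hn : K ⊓ C1[k] ≤ N[J]) (ho : Odd (Nat.card J)) : J ≤ C1[k] :=
  ((h.t26 hK hc hk ok hJ hn).resolve_left (hK.not_le_of_solvable (solv_odd ho))).2 ho

theorem KG.g3' (h : KG G n) (hK : QS K) (hc : Nat.card K < n) :
    (∀ d ∈ K, ∀ e ∈ K, ∀ b ∈ K, orderOf d = 2 → orderOf e = 2 → orderOf b = 2 → e ≠ d →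
      e * d = d * e → b * d = d * b → b * e = e * b → b = d ∨ b = e ∨ b = d * e) ∨
    (∀ z ∈ K, orderOf z = 2 → ∀ R : Subgroup G, Odd (Nat.card R) → R ≤ K ⊓ C1[z] →
      K ⊓ C1[z] ≤ N[R] → R ≤ C[K]) := by
  obtain ⟨Q, _, _, f, hf, hr, hs, hG⟩ := h.quo hK hc
  have ho : Odd (Nat.card (kr f)) := hr ▸ h.ab.zodd hK
  refine (h.g3 Q hG).imp (fun H d hd e he b hb od oe ob ne c1 c2 c3 => ?_)
    fun H z hz oz R oR h1 h2 => ?_
  · have cm : ∀ {x y : G} (hx : x ∈ K) (hy : y ∈ K), x * y = y * x →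
        f ⟨x, hx⟩ * f ⟨y, hy⟩ = f ⟨y, hy⟩ * f ⟨x, hx⟩ := fun hx hy e => by
      rw [← map_mul, ← map_mul]; exact congrArg f (Subtype.ext e)
    refine (H _ _ _ (im_ord2 ho od hd) (im_ord2 ho oe he) (im_ord2 ho ob hb)
      (fun e1 => ne (h.ab.eq_of_f hK hr he hd (sq1 oe) (sq1 od) e1)) (cm he hd c1) (cm hb hd c2)
      (cm hb he c3)).imp (h.ab.eq_of_f hK hr hb hd (sq1 ob) (sq1 od)) (Or.imp
        (h.ab.eq_of_f hK hr hb he (sq1 ob) (sq1 oe)) fun e1 => h.ab.eq_of_f hK hr hb (mul_mem hd he)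
          (sq1 ob) (sq1 (ord2_mul od oe ne c1)) (by rw [e1, ← map_mul]; rfl))
  · have := H _ (im_ord2 ho oz hz) (im f R) (odd_im oR) (by
      rw [← im_cent1 hf ho oz hz]; exact im_mono h1) (by
      rw [← im_cent1 hf ho oz hz]; exact im_norm h2)
    rw [im_eq_bot_iff (h1.trans inf_le_left), hr] at this
    exact this.trans inf_le_right

end Cfsg.Agent.WA
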