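import Cfsg.Agent.WA.SZ1
import Cfsg.Agent.WA.SB1
import Cfsg.Agent.WA.B1A

/-! Walter's theorem, part SEA: the point stabilisers are 2-closed modulo the odd core. -/

set_option autoImplicit false
set_option linter.unusedSectionVars false

namespace Cfsg.Agent.WA

open Cfsg Subgroup MulAction Cfsg.Agent.GT Cfsg.Agent.GW

universe u

namespace SZ

variable {X : Type u} [Group X] [Finite X] {E S D T K : Subgroup X} {x z : X}

theorem rk8 (h : Rk3 X) : ∃ E : Subgroup X, Nat.card E = 8 ∧ ∀ x ∈ E, x * x = 1 := by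
  obtain ⟨a, b, c, oa, ob, oc, ab, ac, bc, n1, n2, n3, n4⟩ := h
  have a2 := BS.mul_self_of_orderOf oa
  have b2 := BS.mul_self_of_orderOf ob
  have c2 := BS.mul_self_of_orderOf oc
  have c1 : zpowers a ≤ C[zpowers b] := by rw [cent_zpowers, zpowers_le]; exact mem_cent1.2 ab
  have c3 : zpowers a ⊔ zpowers b ≤ C[zpowers c] := by
    rw [cent_zpowers, sup_le_iff, zpowers_le, zpowers_le]; exact ⟨mem_cent1.2 ac, mem_cent1.2 bc⟩
  have m : ∀ x ∈ zpowers a ⊔ zpowers b, x = 1 ∨ x = a ∨ x = b ∨ x = a * b := fun x hx => by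
    obtain ⟨y, hy, w, hw, rfl⟩ := (mem_sup_of_le_norm (le_norm_of_cent c1)).1 hx
    rcases zp2' a2 hy with rfl | rfl <;> rcases zp2' b2 hw with rfl | rfl <;> simp
  refine ⟨(zpowers a ⊔ zpowers b) ⊔ zpowers c, ?_, fun x hx => ?_⟩
  · rw [card_sup_of_inf_eq_bot (.inl (le_norm_of_cent c3)) (eq_bot_iff.2 fun x hx => ?_),
      card_sup_of_inf_eq_bot (.inl (le_norm_of_cent c1)) (eq_bot_iff.2 fun x hx => ?_), Nat.card_zpowers,
      Nat.card_zpowers, Nat.card_zpowers, oa, ob, oc]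
    · rcases zp2' b2 hx.2 with e | e
      · exact e
      exact (zp2' a2 hx.1).resolve_right (e ▸ n1)
    · rcases zp2' c2 hx.2 with e | e
      · exact e
      rcases m x hx.1 with k | k | k | k
      exacts [k, absurd (e.symm.trans k) n2, absurd (e.symm.trans k) n3, absurd (e.symm.trans k) n4]
  obtain ⟨y, hy, w, hw, rfl⟩ := (mem_sup_of_le_norm (le_norm_of_cent c3)).1 hx
  have : y * y = 1 := by
    rcases m y hy with rfl | rfl | rfl | rfl
    exacts [one_mul 1, a2, b2, by rw [(Commute.symm ab).mul_mul_mul_comm, a2, b2, one_mul]]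
  rw [(show Commute w y from c3 hy w hw).mul_mul_mul_comm, this, one_mul]
  rcases zp2' c2 hw with rfl | rfl
  exacts [one_mul 1, c2]

theorem ex_inv (hO : O[T] = ⊥) (le : K ≤ T) (n : T ≤ N[K]) (ne : K ≠ ⊥) : ∃ x ∈ K, orderOf x = 2 :=
  exists_mem_orderOf_eq Nat.prime_two (by_contra fun e => ne (eq_bot_iff.2 (hO ▸ le_piCoreOf le n
    ((isPiSubgroup_single_compl_iff Nat.prime_two).2 e))))

theorem closedA (ab : AB X) (hO : O[(⊤ : Subgroup X)] = ⊥)
    (tr : ∀ y y' : X, orderOf y = 2 → orderOf y' = 2 → ∃ d, d * y * d⁻¹ = y') (hS : IsPiHallOf {2} S ⊤)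
    (ne : piCoreOf {2} (⊤ : Subgroup X) ≠ ⊥) : ⊤ ≤ N[S] := by
  have nQ := self_le_norm_piCoreOf {2} (⊤ : Subgroup X)
  have le := piCoreOf_le_hall hS
  obtain ⟨z, hz, o⟩ := ex_inv hO le_top nQ ne
  generalize piCoreOf {2} (⊤ : Subgroup X) = Q at *
  have hS' := syl_of_le hS (ab.cent hS le) le_top
  have c := (ab.co hS' le_rfl le_rfl inf_le_right).2
  have b := Burnside_normal_complement Nat.prime_two hS' (le_cent_iff_commutator_eq_bot'.2 (by_contra fun h => by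
    obtain ⟨y, hy, oy⟩ := exists_inv_of_le hS (commutator_le_of_le_norm_left inf_le_right) h
    obtain ⟨d, e⟩ := tr z y o oy
    have : y ∈ ⁅S, C[Q] ⊓ N[S]⁆ ⊓ C[C[Q] ⊓ N[S]] := ⟨hy, le_cent_symm inf_le_left
      (e ▸ conj_mem_of_le_norm nQ (mem_top d) hz)⟩
    rw [c, mem_bot] at this
    exact BS.ne_one_of_orderOf_two oy this))
  have := b.1.sup_eq
  rw [piCoreOf_eq_bot_of_normal le_top (le_norm_cent nQ) hO, bot_sup_eq] at this
  exact this ▸ le_norm_cent nQ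

theorem simple (hO : O[(⊤ : Subgroup X)] = ⊥) (h2 : piCoreOf {2} (⊤ : Subgroup X) = ⊥)
    (tr : ∀ y y' : X, orderOf y = 2 → orderOf y' = 2 → ∃ d, d * y * d⁻¹ = y') (hT : MinNormal T ⊤) :
    IsSimpleGroup T ∧ ¬ IsMulCommutative T := by
  have O1 := piCoreOf_eq_bot_of_normal le_top hT.norm hO
  have O2 := piCoreOf_eq_bot_of_normal le_top hT.norm h2
  have nc : ∀ K ≤ T, T ≤ N[K] → K ≠ ⊥ → ¬ K ≤ C[K] := fun K le n ne c => by
    obtain ⟨x, hx, o⟩ := ex_inv O1 le n ne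
    have := le_piCoreOf_single Nat.prime_two (zpowers_le.2 hx) (le_norm_of_cent (c.trans (cent_anti
      (zpowers_le.2 hx)))) (pg2' (BS.mul_self_of_orderOf o)) (mem_zpowers x)
    rw [piCoreOf_eq_bot_of_normal le n O2, mem_bot] at this
    exact BS.ne_one_of_orderOf_two o this
  refine ⟨simple_of_sub hT.ne_bot fun N le n => or_iff_not_imp_left.2 fun ne => ?_,
    fun c => nc T le_rfl le_normalizer hT.ne_bot (isMulCommutative_iff_le_cent.1 c)⟩
  obtain ⟨K, l1, hK⟩ := exists_minNormal_le ne n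
  refine le_antisymm le (le_of_eq_of_le (hT.eq_of_ne_bot (l1.trans le) (fun g _ => ?_) hK.ne_bot).symm l1)
  replace l1 := l1.trans le
  have k : ∀ g : X, cj[g] K = K ∨ cj[g] K ⊓ K = ⊥ ∧ cj[g] K ≤ C[K] := fun g => by
    have e := conj_eq_self (hT.norm (mem_top g))
    have n : T ≤ N[cj[g] K] := by rw [← conj_normalizer, ← e]; exact conj_mono g hK.norm
    refine (hK.le_or_inf_eq_bot n).imp (fun h => (eq_of_le_of_card_ge h (card_conj g K).le).symm) fun h => ?_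
    rw [inf_comm] at h
    exact ⟨h, le_cent_of_norm_of_inf_eq_bot ((e ▸ conj_mono g l1).trans hK.norm) (l1.trans n) h⟩
  refine conj_eq_self_iff.1 ((k g).resolve_right fun ⟨i, c⟩ => ?_)
  obtain ⟨x, hx, o⟩ := ex_inv O1 l1 hK.norm hK.ne_bot
  have x2 := BS.mul_self_of_orderOf o
  have hy : g * x * g⁻¹ ∈ cj[g] K := conj_mem_conj.2 hx
  have ny : g * x * g⁻¹ ∉ K := fun h => by
    have : g * x * g⁻¹ ∈ cj[g] K ⊓ K := ⟨hy, h⟩
    rw [i, mem_bot] at this
    exact cne (BS.ne_one_of_orderOf_two o) g this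
  obtain ⟨d, e⟩ := tr x (x * (g * x * g⁻¹)) o (BS.orderOf_eq_two_of (by
    rw [(show Commute (g * x * g⁻¹) x from (c hy x hx).symm).mul_mul_mul_comm, x2, sq_conj x2, one_mul])
    fun e => ny ((mul_mem_cancel_left hx).1 (e ▸ one_mem K)))
  have hd : x * (g * x * g⁻¹) ∈ cj[d] K := e ▸ conj_mem_conj.2 hx
  rcases k d with h | ⟨-, h⟩
  · exact ny ((mul_mem_cancel_left hx).1 (h ▸ hd))
  refine nc K l1 hK.norm hK.ne_bot (hK.le_of_inf_ne_bot (le_norm_cent hK.norm) (ne_bot_of_mem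
    ⟨hx, (mul_mem_cancel_right (c hy)).1 (h hd)⟩ (BS.ne_one_of_orderOf_two o)))

theorem closed (ab : AB X) (hO : O[(⊤ : Subgroup X)] = ⊥) (od : Odd (Nat.card D))
    (tr : ∀ y y' : X, orderOf y = 2 → orderOf y' = 2 → ∃ d ∈ D, d * y * d⁻¹ = y') (c8 : Nat.card E = 8)
    (sq : ∀ x ∈ E, x * x = 1) {n : ℕ} (ih : IH.{u} n) (hn : Nat.card X < n)
    (nj : ∀ T : Subgroup X, T.Normal → IsSimpleGroup T → JR T → False) (hS : IsPiHallOf {2} S ⊤) : ⊤ ≤ N[S] := by
  have tr' : ∀ y y' : X, orderOf y = 2 → orderOf y' = 2 → ∃ d, d * y * d⁻¹ = y' := fun y y' o o' =>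
    (tr y y' o o').imp fun _ h => h.2
  refine closedA ab hO tr' hS fun h2 => ?_
  obtain ⟨T, -, hT⟩ := exists_minNormal_le (H := (⊤ : Subgroup X)) (A := ⊤) (fun e => by
    rw [eq_bot_iff.2 (e ▸ le_top : E ≤ ⊥), card_bot] at c8; omega) le_normalizer
  obtain ⟨s, nc⟩ := simple hO h2 tr' hT
  have := normal_iff_top_le_norm.2 hT.norm
  obtain ⟨z, hz, o⟩ := ex_inv hO le_top hT.norm hT.ne_bot
  obtain ⟨-, el, h | h | h⟩ := ih T nc (ab.sub T) ((card_le_card_group T).trans_lt hn)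
  · exact l2e_kill ab h el hz o od tr
  · obtain ⟨Q, -, -, -, -, e, -⟩ := JS.facts h
    refine e (c8 ▸ card_dvd_of_le fun x hx => ?_)
    by_cases x1 : x = 1
    · exact x1 ▸ one_mem T
    obtain ⟨d, e⟩ := tr' z x o (BS.orderOf_eq_two_of (sq x hx) x1)
    exact e ▸ this.conj_mem z hz d
  · exact nj T this s h

end SZ

theorem p0 (nj : NJ.{u}) : P0.{u} := by
  intro G Ω _ _ _ _ m A a S hS le
  obtain ⟨b, ne⟩ := @exists_ne _ A.nt a
  set f := QuotientGroup.mk' (piCore ({2} : Set ℕ)ᶜ (stabilizer G a))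
  have sj : Function.Surjective f := QuotientGroup.mk'_surjective _
  have hk : kr f = O[stabilizer G a] := kr_mk' _
  have ok : Odd (Nat.card (kr f)) := Nat.not_even_iff_odd.1 fun e => (isPiSubgroup_single_compl_iff Nat.prime_two).1
    (hk ▸ piCoreOf_isPi _ _) (even_iff_two_dvd.1 e)
  have lift : ∀ y, orderOf y = 2 → ∃ s : stabilizer G a, orderOf (s : G) = 2 ∧ f s = y := fun y o => by
    obtain ⟨s, rfl⟩ := sj y
    obtain ⟨k, hk⟩ := B84.odd_of_mem ok ((mem_kr' (s * s).2).2 (show f (s * s) = 1 by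
      rw [map_mul, BS.mul_self_of_orderOf o]))
    have e : f (s ^ (2 * k + 1)) = f s := by
      rw [map_pow, pow_succ, pow_mul, sq, BS.mul_self_of_orderOf o, one_pow, one_mul]
    refine ⟨s ^ (2 * k + 1), BS.orderOf_eq_two_of ?_ fun n => BS.ne_one_of_orderOf_two o ?_, e⟩
    · rw [coe_pow, ← (Commute.refl _).mul_pow, ← hk, ← coe_mul, pow_orderOf_eq_one]
    · rw [← e, show s ^ (2 * k + 1) = 1 from Subtype.ext n, map_one]
  obtain ⟨E, c8, sq⟩ := SZ.rk8 m.rk
  have p2 : IsPGroup 2 E := IsPGroup.of_card (n := 3) c8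
  obtain ⟨g, -, e⟩ := syl_exists_conj_le Nat.prime_two hS p2 le_top
  have h := SZ.closed (S := im f S) (D := im f (stabilizer G a ⊓ stabilizer G b)) (E := im f (cj[g] E))
    (m.ab.of_surj sj) (im_dom_of_surj sj ▸ piCoreOf_im_eq_bot le_rfl hk) (odd_im (A.odd ne.symm))
    (fun y y' o o' => by
      obtain ⟨s, os, rfl⟩ := lift y o
      obtain ⟨s', os', rfl⟩ := lift y' o'
      obtain ⟨k, hk, e⟩ := A.tr_inv ne.symm os os' s.2 s'.2
      exact ⟨_, mem_im_of_mem hk.1 hk, by rw [← map_inv, ← map_mul, ← map_mul]; exact congrArg f (Subtype.ext e)⟩)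
    (by
      rw [card_im_of_inf_eq_bot (e.trans le) (GT.inf_eq_bot_of_coprime (by
        rw [card_conj, c8]; exact (Nat.Coprime.pow_right 3 (Nat.coprime_two_right.2 ok)).symm)), card_conj, c8])
    (fun x hx => by
      obtain ⟨y, hy, h, rfl⟩ := mem_im.1 hx
      obtain ⟨y, h', rfl⟩ := mem_conj_iff_exists.1 h
      rw [← map_mul, ← map_one f]
      exact congrArg f (Subtype.ext (sq_conj (sq y h') g)))
    m.ih ((Nat.card_le_card_of_surjective f sj).trans_lt (card_lt_of_ne_top fun e => by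
      obtain ⟨g, h⟩ := A.tr a b
      exact ne (h.symm.trans (e ▸ mem_top g : g ∈ stabilizer G a))))
    (nj G Ω m A a) (im_dom_of_surj sj ▸ IsPiHallOf.im (syl_of_le hS le le_top) le_rfl)
  rw [← im_dom_of_surj sj, im_le_norm_iff le_rfl le, hk, sup_comm] at h
  exact h

end Cfsg.Agent.WA
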