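import Cfsg.Agent.WA.DB
import Cfsg.Agent.WA.SZ0

/-! Groups of Janko-Ree type, `D = 1`: the centralizers of the elements of `R`. -/

set_option autoImplicit false
set_option linter.unusedSectionVars false
set_option linter.unusedVariables false

namespace Cfsg.Agent.WA

open Cfsg Subgroup Cfsg.Agent.GT Cfsg.Agent.GW Cfsg.Agent.B84H

universe u

namespace CN

theorem sixty {T : Type u} [Group T] [Finite T] (h : Good T) (n8 : ¬ 8 ∣ Nat.card T) {t : T} (ot : orderOf t = 2)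
    (c : ∀ s ∈ C1[t], ∀ y ∈ C1[t], s * s = 1 → s * y = y * s) : Nat.card T = 60 := by
  rcases h.2.2 with h | h | ⟨S, t, L, h⟩
  · obtain ⟨-, a, a2, e⟩ := SZ.l2e_facts h
    obtain rfl : a = 2 := le_antisymm (not_lt.1 fun l => n8 (e ▸ (pow_dvd_pow 2 (show 3 ≤ a from l)).mul_right _)) a2
    exact e
  · obtain ⟨Q, q8, q3, -, e, -, -, -, k, -⟩ := JS.facts h
    obtain ⟨A, d, -, cA, -⟩ := k t ot
    obtain ⟨s, hs, n⟩ := d.ex
    obtain ⟨τ, rfl⟩ := PG.isCyclic_iff_exists.1 d.cyc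
    have := d.inv hs n (mem_zpowers τ)
    rw [c s hs τ (d.le (mem_zpowers τ)) (sq1 (d.ord hs n)), mul_inv_cancel_right, eq_inv_iff_mul_eq_one] at this
    have := Nat.le_of_dvd two_pos (orderOf_dvd_of_pow_eq_one (sq τ ▸ this))
    rw [Nat.card_zpowers] at cA
    obtain rfl : Q = 5 := by omega
    norm_num at e; omega
  · exact absurd (h.card ▸ card_subgroup_dvd_card S) n8

theorem abs {X : Type u} [Group X] [Finite X] {n : ℕ} (ih : IH.{u} n) (lt : Nat.card X < n)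
    (two : ∀ (s : X) (k : ℕ), s ^ 2 ^ k = 1 → s * s = 1) {t u y i : X} (ot : orderOf t = 2) (ou : orderOf u = 2)
    (ne : u ≠ t) (ut : u * t = t * u) (cw : ∀ v ∈ zpowers t ⊔ zpowers u, v ≠ 1 → C1[v] ≤ C[zpowers t ⊔ zpowers u])
    (iw : ∀ s ∈ C1[t], s * s = 1 → s ∈ zpowers t ⊔ zpowers u) (ii : i * i = 1) (r : i * y * i⁻¹ = y⁻¹)
    (oy : Odd (orderOf y)) : orderOf y ∣ 15 := by
  have ab := ab_of_two two
  have mV := fun x => mem_V (x := x) ot ou ut
  have otu := ord2_mul ot ou ne ut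
  set W := zpowers t ⊔ zpowers u with hW
  have tW : t ∈ W := mem_sup_left (mem_zpowers t)
  have uW : u ∈ W := mem_sup_right (mem_zpowers u)
  have sy : IsPiHallOf {2} W ⊤ := syl_of_maximal Nat.prime_two (V_pg ot ou ut) le_top fun P hP le _ =>
    le_antisymm (fun s hs => iw s (mem_cent1.2 (ab.cm hP hs (le tW))) (two_of two hP hs)) le
  have OW : O[(⊤ : Subgroup X)] ≤ C[W] := gen3 ot ou ne ut (O_odd _) (O_norm _ trivial) (O_norm _ trivial)
    (inf_le_right.trans (cw t tW (ne1 ot))) (inf_le_right.trans (cw u uW (ne1 ou)))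
    (inf_le_right.trans (cw _ (mul_mem tW uW) (ne1 otu)))
  have fin : ∀ k, y ^ k ∈ O[(⊤ : Subgroup X)] → y ^ k = 1 := fun k m => by
    obtain ⟨g, -, e⟩ := conj_into sy ii trivial
    exact eq1_of_inv_fix (oy.of_dvd_nat (orderOf_pow_dvd k)) (inv_zp r (npow_mem_zpowers y k)) (mem_cent1.2
      ((TT.commute_conj_iff g).1 (OW (conj_mem_of_mem_norm (O_norm _ trivial) m) _ e).symm).eq)
  by_cases b : ⊤ ⊓ N[W] ≤ C[W]
  · have h1 := Burnside_hall Nat.prime_two sy b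
    have := fin 1 (by
      rw [pow_one]
      exact zpowers_le.1 (PG.le_of_normal_of_piNat_relIndex (π := ({2} : Set ℕ)ᶜ) le_top
        (odd_iff_pi.2 (by rwa [Nat.card_zpowers])) (O_norm _) h1.idx))
    rw [pow_one] at this
    simp [this]
  obtain ⟨m, ⟨-, hm⟩, nm⟩ := SetLike.not_le_iff_exists.1 b
  have mv : ∀ v ∈ W, v ≠ 1 → m * v * m⁻¹ ≠ v := fun v hv v1 e =>
    nm (cw v hv v1 (mem_cent1.2 (TT.commute_iff_conj.2 e).eq))
  have tr1 : ∀ s ∈ W, s ≠ 1 → ∃ d, d * t * d⁻¹ = s := fun s hs s1 => by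
    have a1 := conj_mem_of_mem_norm hm tW
    have a2 := conj_mem_of_mem_norm hm a1
    have n1 := mv t tW (ne1 ot)
    have n2 := mv _ a1 (cne (ne1 ot) m)
    have n3 : m * (m * t * m⁻¹) * m⁻¹ ≠ t := fun e => mv _ (mul_mem tW a1) (fun z => n1 (by
      rw [← GW.tt (sq1 ot) (m * t * m⁻¹), z, mul_one])) (by
        rw [← conj_mul, e, ab.cm (V_pg ot ou ut) a1 tW])
    have e2 : m * m * t * (m * m)⁻¹ = m * (m * t * m⁻¹) * m⁻¹ := by group
    rcases (mV _).1 hs with rfl | rfl | rfl | rfl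
    · exact absurd rfl s1
    · exact ⟨1, by simp⟩
    all_goals
      rcases (mV _).1 a1 with e | e | e | e <;> rcases (mV _).1 a2 with e' | e' | e' | e' <;>
        first
        | exact ⟨m, e⟩
        | exact ⟨m * m, e2.trans e'⟩
        | exact absurd e (cne (ne1 ot) m)
        | exact absurd e n1
        | exact absurd e' (cne (cne (ne1 ot) m) m)
        | exact absurd e' n3
        | exact absurd (e'.trans e.symm) n2
  have tr : ∀ s, orderOf s = 2 → ∃ d, d * t * d⁻¹ = s := fun s os => by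
    obtain ⟨g, -, e⟩ := conj_into sy (sq1 os) trivial
    obtain ⟨d, e'⟩ := tr1 _ e (cne (ne1 os) g)
    exact ⟨g⁻¹ * d, by rw [show g⁻¹ * d * t * (g⁻¹ * d)⁻¹ = g⁻¹ * (d * t * d⁻¹) * g by group, e']; group⟩
  obtain ⟨Q, _, _, f, sj, hk⟩ := exists_quo' ⊤ O[(⊤ : Subgroup X)] le_top (O_norm _)
  have hO : O[(⊤ : Subgroup Q)] = ⊥ := im_dom_of_surj sj ▸ piCoreOf_im_eq_bot le_rfl hk
  let φ : X →* Q := f.comp topEquiv.symm.toMonoidHom
  have φe : ∀ x, φ x = f ⟨x, mem_top x⟩ := fun _ => rfl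
  have k1 : ∀ x, φ x = 1 ↔ x ∈ O[(⊤ : Subgroup X)] := fun x => by rw [φe, ← mem_kr' (mem_top x), hk]
  have o2 : ∀ s, orderOf s = 2 → orderOf (φ s) = 2 := fun s os => ord2 (by rw [← map_mul, sq1 os, map_one])
    fun z => absurd (os ▸ odd_ord (O_odd _) ((k1 s).1 z)) (by decide)
  have lift : ∀ c, φ c * φ c = 1 → ∃ k, c ^ k * c ^ k = 1 ∧ φ (c ^ k) = φ c := fun c e => by
    obtain ⟨k, hk⟩ := odd_ord (O_odd _) ((k1 (c * c)).1 (by rwa [map_mul]))
    exact ⟨2 * k + 1, by rw [← (Commute.refl c).mul_pow, ← hk, pow_orderOf_eq_one],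
      by rw [map_pow, pow_succ, pow_mul, sq, e, one_pow, one_mul]⟩
  have sj' : Function.Surjective φ := fun z => (sj z).elim fun x e => ⟨x.1, e⟩
  have trQ : ∀ s, orderOf s = 2 → ∃ d, d * φ t * d⁻¹ = s := fun s os => by
    obtain ⟨c, rfl⟩ := sj' s
    obtain ⟨k, e, e'⟩ := lift c (sq1 os)
    obtain ⟨d, hd⟩ := tr _ (ord2 e fun z => ne1 os (by rw [← e', z, map_one]))
    exact ⟨φ d, by rw [← e', ← hd]; simp⟩
  have trQ' : ∀ s s' : Q, orderOf s = 2 → orderOf s' = 2 → ∃ d, d * s * d⁻¹ = s' := fun s s' o o' => by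
    obtain ⟨d, rfl⟩ := trQ s o
    obtain ⟨d', rfl⟩ := trQ s' o'
    exact ⟨d' * d⁻¹, by group⟩
  have abQ : AB Q := ab.of_surj sj
  suffices H : orderOf (φ y) ∣ 15 from
    (orderOf_dvd_of_pow_eq_one (fin _ ((k1 _).1 (by rw [map_pow, pow_orderOf_eq_one])))).trans H
  have oy' : Odd (orderOf (φ y)) := oy.of_dvd_nat (orderOf_map_dvd φ y)
  have my : ∀ N : Subgroup Q, ⊤ ≤ N[N] → φ t ∈ N → φ y ∈ N := fun N hN tN => by
    have iN : φ i ∈ N := by
      by_cases i1 : i = 1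
      · rw [i1, map_one]; exact one_mem _
      obtain ⟨d, e⟩ := trQ _ (o2 i (ord2 ii i1))
      exact e ▸ conj_mem_of_mem_norm (hN trivial) tN
    refine PG.mem_of_sq_mem_of_odd oy' ?_
    have := mul_mem (conj_mem_of_mem_norm (hN (mem_top (φ y))) iN) (inv_mem iN)
    rwa [← map_inv, ← map_inv, ← map_mul, ← map_mul, ← map_mul, show y * i * y⁻¹ * i⁻¹ = y * (i * y * i⁻¹)⁻¹ by group,
      r, inv_inv, map_mul] at this
  by_cases h2 : piCoreOf {2} (⊤ : Subgroup Q) = ⊥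
  swap
  · obtain ⟨P, hP, le⟩ := exists_syl_ge Nat.prime_two (pg2 (o2 t ot)) le_top
    rw [eq1_of_odd oy' (two_of (fun s k e => ?_) (syl_isPGroup Nat.prime_two hP)
      (my P (SZ.closedA abQ hO trQ' hP h2) (le (mem_zpowers _)))), orderOf_one]
    · exact one_dvd _
    obtain ⟨c, rfl⟩ := sj' s
    obtain ⟨j, hj⟩ := odd_ord (O_odd _) ((k1 (c ^ 2 ^ k)).1 (by rwa [map_pow]))
    have := congrArg φ (two (c ^ (2 * j + 1)) k (by rw [← pow_mul, mul_comm, pow_mul, ← hj, pow_orderOf_eq_one]))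
    rw [map_mul, map_pow, ← (Commute.refl _).mul_pow, map_one] at this
    exact TT.eq_one_of_pow_coprime (m := 2 * j + 1) (n := 2 ^ k) (Nat.Coprime.pow_right k
      (Nat.coprime_two_right.2 ⟨j, rfl⟩)) this (by rw [(Commute.refl _).mul_pow, e, one_mul])
  obtain ⟨T, -, hT⟩ := exists_minNormal_le (H := (⊤ : Subgroup Q)) (A := ⊤)
    (ne_bot_of_mem trivial (ne1 (o2 t ot))) le_normalizer
  obtain ⟨s, nc⟩ := SZ.simple hO h2 trQ' hT
  obtain ⟨z, hz, o⟩ := SZ.ex_inv hO le_top hT.norm hT.ne_bot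
  obtain ⟨d, e⟩ := trQ' z _ o (o2 t ot)
  have tT : φ t ∈ T := e ▸ conj_mem_of_mem_norm (hT.norm trivial) hz
  have dv := (card_subgroup_dvd_card T).trans (card_dvd_of_surjective φ sj')
  have cQ : ∀ s, s * φ t = φ t * s → ∃ c ∈ C1[t], φ c = s := fun s e => by
    have := im_inf_cent1_of_coprime (f := f) (H := ⊤) (a := t) le_rfl trivial (le_normalizer trivial) (by
      rw [hk, top_inf_eq, ot]; exact Nat.coprime_two_right.2 (O_odd _))
    rw [im_dom_of_surj sj, top_inf_eq, top_inf_eq] at this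
    obtain ⟨c, _, hc, e⟩ := mem_im.1 (this.ge (mem_cent1.2 e))
    exact ⟨c, hc, e⟩
  have c60 := sixty (ih T nc (abQ.sub T) ((Nat.le_of_dvd Nat.card_pos dv).trans_lt lt)) (fun d8 => ?_)
    (t := ⟨_, tT⟩) ((orderOf_coe _).symm.trans (o2 t ot)) fun a ha b hb aa => ?_
  · exact (Nat.Coprime.pow_right 2 (Nat.coprime_two_right.2 oy')).dvd_of_dvd_mul_left
      (show _ ∣ 60 from c60 ▸ orderOf_dvd_card_of_mem (my T hT.norm tT))
  · have e := card_mul_relIndex (le_top (a := W))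
    have c4 : Nat.card W = 4 := by
      rw [hW, PG.card_sup_zpowers Nat.prime_two (cent_le_norm _ (cent_zpowers t ▸ mem_cent1.2 ut))
        (by rw [sq, sq1 ou]; exact one_mem _) fun m => (zp2' (sq1 ot) m).elim (ne1 ou) ne, Nat.card_zpowers, ot]
    have := syl_not_dvd Nat.prime_two sy
    have := d8.trans dv
    rw [card_top, c4] at e
    omega
  · obtain ⟨c, hc, e⟩ := cQ a.1 (congrArg Subtype.val (mem_cent1.1 ha))
    obtain ⟨c', hc', e'⟩ := cQ b.1 (congrArg Subtype.val (mem_cent1.1 hb))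
    obtain ⟨k, k1, k2⟩ := lift c (e ▸ congrArg Subtype.val aa)
    refine Subtype.ext (show a.1 * b.1 = b.1 * a.1 from ?_)
    rw [← e, ← e', ← k2, ← map_mul, ← map_mul, cw t tW (ne1 ot) hc' _ (iw _ (pow_mem hc k) k1)]

end CN

namespace JT

variable {G : Type u} [Group G] [Finite G] {S L D : Subgroup G} {t u g w x a c s : G} {Q : ℤ}
  (h : JT S t u g w x L D Q)
include h

theorem gR (ha : a ∈ zpowers x) : g * a * g⁻¹ ∈ zpowers x := conj_mem_of_mem_norm (norm_zp h.gx) ha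

theorem gR' (ha : a ∈ zpowers x) : g⁻¹ * a * g ∈ zpowers x := by
  simpa using conj_mem_of_mem_norm (inv_mem (norm_zp h.gx)) ha

theorem ct_u (ha : a ∈ zpowers x) (a1 : a ≠ 1) (c1 : Commute c t) (c2 : Commute c a) : Commute c u :=
  h.nrm a ha a1 c c1 (TT.commute_iff_conj.1 c2 ▸ ha :)

theorem cu_t (ha : a ∈ zpowers x) (a1 : a ≠ 1) (c1 : Commute c u) (c2 : Commute c a) : Commute c t := by
  have e1 : Commute (g⁻¹ * c * g) t := (TT.commute_conj_iff g).1 (by rw [h.g1]; simpa [mul_assoc] using c1)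
  have e2 : Commute (g⁻¹ * c * g) (g⁻¹ * a * g) := by simpa using (TT.commute_conj_iff g⁻¹).2 c2
  have := (TT.commute_conj_iff g).2 (e1.mul_right (h.ct_u (h.gR' ha) (cne' a1 g) e1 e2))
  rw [h.g3] at this
  simpa [mul_assoc] using this

theorem cv_t (ha : a ∈ zpowers x) (a1 : a ≠ 1) (c1 : Commute c (t * u)) (c2 : Commute c a) : Commute c t := by
  have e1 : Commute (g * c * g⁻¹) t := h.g3 ▸ (TT.commute_conj_iff g).2 c1
  have := h.ct_u (h.gR ha) (cne a1 g) e1 ((TT.commute_conj_iff g).2 c2)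
  rw [← h.g1] at this
  exact (TT.commute_conj_iff g).1 this

theorem oRD : Odd (Nat.card ↥(zpowers x ⊔ D)) :=
  (Odd.mul (Nat.card_zpowers x ▸ h.odd) h.jr.odd).of_dvd_nat (card_sup_dvd (.inr h.Dx))

theorem WRD {e y k : G} (he : e ∈ h.ψ.range) (hy : y ∈ zpowers x) (hk : k ∈ D) : Commute (y * k) e :=
  h.toQ3.cU ((zc h.xt hy).mul_left (mem_cent1.1 (h.jr.Dt hk)))
    ((zc h.xu hy).mul_left (h.jr.DS hk u h.uS).symm) he

theorem inW (ha : a ∈ zpowers x) (a1 : a ≠ 1) (ss : s * s = 1) (c1 : Commute s t) (c2 : Commute s a) :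
    s ∈ h.ψ.range := by
  obtain ⟨e, he, y, hy, k, hk, n | n⟩ := h.cU s c1 (h.ct_u ha a1 c1 c2)
  all_goals have m : y * k ∈ zpowers x ⊔ D := mul_mem (mem_sup_left hy) (mem_sup_right hk)
  · rw [n, mul_assoc e, (h.WRD he hy hk).mul_mul_mul_comm, h.toQ3.sqU he, one_mul] at ss
    rwa [n, mul_assoc, eq1_of_odd (odd_ord h.oRD m) ss, mul_one]
  have oa : Odd (orderOf a) := h.odd.of_dvd_nat (orderOf_dvd_of_mem_zpowers ha)
  have r : y * k * a⁻¹ * (y * k)⁻¹ = a := by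
    have c := (h.toQ3.cU (zc h.xt ha) (zc h.xu ha) he).inv_right.symm.mul_left c2
    rw [n, show e⁻¹ * (e * y * k * w) = y * k * w by group] at c
    calc y * k * a⁻¹ * (y * k)⁻¹ = y * k * w * a * (y * k * w)⁻¹ := by rw [← inv_zp h.wx ha]; group
      _ = a := TT.commute_iff_conj.1 c
  refine absurd (JH.odd_inv (odd_ord h.oRD m) oa ?_) a1
  exact inv_eq_iff_eq_inv.1 (by rw [conj_inv, r])

end JT

theorem pCN : PCN.{u} := fun G _ _ _ S L D t u g w x v y i Q h ih hv v1 yv iv ii r oy => by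
  have tv : t ∈ C1[v] := mem_cent1.2 (zc h.xt hv).symm.eq
  have uv : u ∈ C1[v] := mem_cent1.2 (zc h.xu hv).symm.eq
  have ot : orderOf (⟨t, tv⟩ : C1[v]) = 2 := (orderOf_coe _).symm.trans h.jr.ord
  have ou : orderOf (⟨u, uv⟩ : C1[v]) = 2 := (orderOf_coe _).symm.trans (ord2 h.uu h.u1)
  have ut : (⟨u, uv⟩ : C1[v]) * ⟨t, tv⟩ = ⟨t, tv⟩ * ⟨u, uv⟩ := Subtype.ext h.tu.eq.symm
  have := CN.abs (X := C1[v]) ih (card_lt_of_ne_top (c1_ne_top h.jr.nc v1))
    (fun s k e => Subtype.ext (h.jr.two s.1 k (congrArg Subtype.val e))) (y := ⟨y, mem_cent1.2 yv.eq⟩)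
    (i := ⟨i, mem_cent1.2 iv.eq⟩) ot ou (fun e => h.ne (congrArg Subtype.val e)) ut (fun z hz z1 c hc => ?_)
    (fun s hs ss => ?_) (Subtype.ext ii) (Subtype.ext r) (by rwa [← orderOf_coe])
  · rwa [← orderOf_coe] at this
  · have cv : Commute c.1 v := mem_cent1.1 c.2
    have cz : Commute c.1 z.1 := congrArg Subtype.val (mem_cent1.1 hc)
    have ct : Commute c.1 t := by
      rcases (mem_V ot ou ut).1 hz with rfl | rfl | rfl | rfl
      exacts [absurd rfl z1, cz, h.cu_t hv v1 cz cv, h.cv_t hv v1 cz cv]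
    rw [cent_V]
    exact ⟨mem_cent1.2 (Subtype.ext ct.eq), mem_cent1.2 (Subtype.ext (h.ct_u hv v1 ct cv).eq)⟩
  · rw [mem_V ot ou ut]
    simp only [Subtype.ext_iff]
    exact h.mem_U.1 (h.inW hv v1 (congrArg Subtype.val ss) (congrArg Subtype.val (mem_cent1.1 hs)) (mem_cent1.1 s.2))

end Cfsg.Agent.WA
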