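import Cfsg.Agent.WA.DCT1
import Cfsg.Agent.WA.DCN
import Cfsg.Agent.WA.DH1
import Cfsg.Agent.WA.DAll

/-! Groups of Janko-Ree type, `q = 3 ^ n`, `3 ∣ |D|`: an element of `T` with centralizer in `C(t)`. -/

set_option autoImplicit false
set_option linter.unusedSectionVars false
set_option linter.unusedVariables false

namespace Cfsg.Agent.WA

open Cfsg Subgroup Cfsg.Agent.GT Cfsg.Agent.GW
open scoped commutatorElement

universe u

variable {G : Type u} [Group G] [Finite G] {S L D U T V X Y Z P H K M : Subgroup G}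
  {t u a b c e f g l s v w x y z : G} {p q n : ℕ} {Q : ℤ}

theorem ne1p (hp : p.Prime) (h : orderOf v = p) : v ≠ 1 := fun e => hp.one_lt.ne' (by rw [← h, e, orderOf_one])

theorem c1_prime (hp : (orderOf y).Prime) (hz : z ∈ zpowers y) (z1 : z ≠ 1) : C1[z] = C1[y] := by
  rw [← cent_zpowers, ← eq_zpowers_of_card_prime (Nat.card_zpowers y ▸ hp) hz z1, cent_zpowers]

theorem wt_zp (h : f * y * f⁻¹ = y ^ n) (hz : z ∈ zpowers y) : f * z * f⁻¹ = z ^ n := by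
  obtain ⟨k, rfl⟩ := mem_zpowers_iff.1 hz
  rw [← conj_zpow, h, ← zpow_natCast, ← zpow_natCast, zpow_comm]

theorem nzO : N[zpowers y] ≤ N[O[C1[y]]] :=
  (norm_le_norm_cent _).trans (cent_zpowers y ▸ norm_le_norm_piCoreOf _ _)

namespace B3

variable (h : B3 S t u L D U T q)
include h

theorem exT (hp : p.Prime) (hd : p ∣ Nat.card T) (hf : f ∈ D) (dz : p ∣ Nat.card ↥(L ⊓ C1[f])) :
    ∃ y ∈ T, orderOf y = p ∧ y ∈ C1[f] := by
  obtain ⟨z, hz, oz⟩ := exists_mem_orderOf_eq hp dz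
  obtain ⟨l, hl, k⟩ := h.toT hp hd (pg_ord oz) (zpowers_le.2 (h.jr.le hz.1))
  have hy := k (conj_mem_conj.2 (mem_zpowers z))
  have c := c1_conj (mem_cent1_comm.1 hz.2) l
  obtain ⟨τ, hτ, d, hd, e⟩ := h.nH_odd hy (cne (ne1p hp oz) l) (cj_mem (h.jr.le hl) (h.jr.Dt hf))
    (by rwa [mem_cent1.1 c, mul_inv_cancel_right]) (by rw [orderOf_conj]; exact h.jr.oD hf)
  have e4 : d * f⁻¹ = 1 := h.jr.KD (mem_sup_right ((Subgroup.mul_mem_cancel_left _ (h.TL hτ)).1 (by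
    rw [← mul_assoc, ← e]; exact h.jr.comm_L (h.jr.le hl) (h.jr.Dt hf)))) (mul_mem hd (inv_mem hf))
  obtain rfl := mul_inv_eq_one.1 e4
  rw [e] at c
  exact ⟨_, hy, (orderOf_conj _ _).trans oz, mem_cent1_comm.1
    ((Subgroup.mul_mem_cancel_left _ (cent_le_cent1 hy (h.TT hτ))).1 c)⟩

theorem big [IsSimpleGroup G] (j : JT S t u g w x L D Q) (ih : IH.{u} (Nat.card G)) (hf : f ∈ D)
    (f3 : orderOf f = 3) (hp : p.Prime) (hd : p ∣ Nat.card T) (dz : p ∣ Nat.card ↥(L ⊓ C1[f]))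
    (hi : ¬ p ∣ C1[t].relIndex C1[f]) : ∃ y ∈ T, (orderOf y).Prime ∧ C1[y] ≤ C1[t] := by
  obtain ⟨y, hy, oy, yf⟩ := h.exT hp hd hf dz
  refine ⟨y, hy, oy ▸ hp, by_contra fun hn => ?_⟩
  have y1 := ne1p hp oy
  obtain ⟨s, hs, v, vy, ov, vs⟩ := h.sym pCN j ih hy (oy ▸ hp) hn
  obtain ⟨v, vy, ov, vs, fv⟩ := h.finv hy y1 hs hp hd (ov.trans oy) vy vs hf f3
  obtain ⟨n, hn, e⟩ := h.align hs hp hd ov vs hf fv
  have cy := (Nat.card_zpowers y).trans oy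
  have m : n * v * n⁻¹ ∈ zpowers y := by
    rw [PG.eq_of_isCyclic_of_card_eq hp h.cycT (zpowers_le.2 hy) (zpowers_le.2 hn) cy
      ((Nat.card_zpowers _).trans ((orderOf_conj n v).trans ov))]
    exact mem_zpowers _
  rw [← mem_cent1.1 (zpowers_le.2 yf m), mul_inv_cancel_right, mul_left_inj, mul_right_inj] at e
  have pX := pg_sup hp (pg_ord oy) (pg_ord ov) (.inr (le_norm_of_cent (cent_zpowers y ▸ zpowers_le.2 vy)))
  obtain ⟨c, -, k⟩ := conj_into_idx hp (inf_le_right : C1[t] ⊓ C1[f] ≤ C1[f]) (by rwa [inf_relIndex_right])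
    pX (V_le yf (mem_cent1.2 (eq_mul_inv_iff_mul_eq.1 e)))
  obtain ⟨l, -, k'⟩ := h.toT hp hd (X := cj[c] _) (pX.map _) (k.trans inf_le_left)
  exact y1 (eq1_of_inv_fix (odd_ord h.oT hy) (h.sT hs hy) (zpowers_le.2 vs
    (PG.eq_of_isCyclic_of_card_eq hp (isCyclic_conj_iff.1 (isCyclic_conj_iff.1 (cyc_of_le h.cycT k')))
      le_sup_left le_sup_right cy ((Nat.card_zpowers v).trans ov) ▸ mem_zpowers y)))

theorem toS (hs : s = u ∨ s = t * u) (hp : p.Prime) (hd : p ∣ Nat.card T) (pY : IsPGroup p Y)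
    (hY : Y ≤ C1[s]) : ∃ n, n * s * n⁻¹ = t ∧ cj[n] Y ≤ T := by
  obtain ⟨m, hm, e1⟩ := h.fusS hs
  obtain ⟨l, hl, k⟩ := h.toT hp hd (X := cj[m] Y) (pY.map _) (e1 ▸ conj_cent1 m s ▸ conj_mono m hY)
  exact ⟨l * m, by rw [show l * m * s * (l * m)⁻¹ = l * (m * s * m⁻¹) * l⁻¹ by group, e1,
    mem_cent1.1 (h.jr.le hl), mul_inv_cancel_right], mul_conj l m Y ▸ k⟩

variable (gT : T = zpowers y) (py : (orderOf y).Prime)
include gT py

theorem yT : y ∈ T := gT ▸ mem_zpowers y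

theorem cdT : Nat.card T = orderOf y := by rw [gT, Nat.card_zpowers]

theorem fz (he : e ∈ D) (hz : z ∈ T) (c : e ∈ C1[z]) : e = 1 ∨ z = 1 := or_iff_not_imp_right.2 fun z1 =>
  h.fT e he (by rwa [gT, cent_zpowers, ← c1_prime py (gT ▸ hz) z1])

theorem oT1 (hc : c ∈ C1[y]) (ct : c ∈ C1[t]) (o : Odd (orderOf c)) : c ∈ T := by
  have hy := h.yT gT py
  obtain ⟨τ, hτ, k, hk, rfl⟩ := h.nH_odd hy (ne1p py rfl) ct
    (by rwa [mem_cent1.1 hc, mul_inv_cancel_right]) o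
  rwa [(h.fz gT py hk hy ((Subgroup.mul_mem_cancel_left _ (cent_le_cent1 hy (h.TT hτ))).1 hc)).resolve_right
    (ne1p py rfl), mul_one]

theorem OT (ha : a ∈ O[C1[y]] ⊓ C1[t]) : a ∈ T := h.oT1 gT py (O_le _ ha.1) ha.2 (odd_ord (O_odd _) ha.1)

theorem TO : T ≤ O[C1[y]] := fun a ha => h.memO (h.yT gT py) (ne1p py rfl)
  (cent_le_cent1 (h.yT gT py) (h.TT ha)) (odd_ord h.oT ha)

theorem OcT (ha : a ∈ O[C1[y]]) (hz : z ∈ T) : Commute z a :=
  mem_cent1.1 (zpowers_le.2 (mem_cent1_comm.1 (O_le _ ha)) (gT ▸ hz :))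

theorem NOt (hc : c ∈ N[O[C1[y]]]) (ct : c ∈ C1[t]) : c * y * c⁻¹ ∈ T :=
  h.OT gT py ⟨conj_mem_of_mem_norm hc (h.TO gT py (h.yT gT py)), cj_mem ct (h.Tt (h.yT gT py))⟩

theorem DO : D ≤ N[O[C1[y]]] := h.DT.trans ((h.normT (h.yT gT py)).trans nzO)

theorem cmT (ha : a ∈ O[C1[y]]) (hb : b ∈ O[C1[y]]) : ⁅a, b⁆ ∈ T := by
  have k : ∀ x ∈ O[C1[y]], t * x⁻¹ * t⁻¹ * x⁻¹ ∈ T := fun x hx => by
    obtain ⟨c, hc, a, ha, ia, e⟩ := dec2 h.jr.tt (h.nO (h.yT gT py) (mem_sup_left (mem_zpowers t)))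
      (O_odd _) (inv_mem hx)
    have cT := h.OT gT py hc
    have aO : a ∈ O[C1[y]] := (Subgroup.mul_mem_cancel_left _ hc.1).1 (e ▸ inv_mem hx)
    rw [e, ← conj_mul, ia, ← mem_cent1.1 hc.2, mul_inv_cancel_right, (h.OcT gT py aO cT).eq,
      ← mul_assoc, inv_mul_cancel_right]
    exact mul_mem cT cT
  have k1 := k a ha
  have k2 := k b hb
  have := mul_mem (inv_mem (mul_mem k1 k2)) (k _ (mul_mem hb ha))
  have c := (h.OcT gT py ha k2).eq
  generalize hz : t * b⁻¹ * t⁻¹ * b⁻¹ = z at this c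
  rw [show (t * a⁻¹ * t⁻¹ * a⁻¹ * z)⁻¹ * (t * (b * a)⁻¹ * t⁻¹ * (b * a)⁻¹) =
    z⁻¹ * (a * (t * b⁻¹ * t⁻¹ * b⁻¹)) * (b * a⁻¹ * b⁻¹) by group, hz, ← c] at this
  rwa [show ⁅a, b⁆ = z⁻¹ * (z * a) * (b * a⁻¹ * b⁻¹) by rw [commutatorElement_def]; group]

theorem cm (hf : f ∈ D) (f1 : f ≠ 1) (e : f * y * f⁻¹ = y ^ n) (ha : a ∈ O[C1[y]]) (hb : b ∈ O[C1[y]])
    (ea : f * a * f⁻¹ = a ^ n) (eb : f * b * f⁻¹ = b ^ n) : a ∈ C1[b] := by
  have hz := h.cmT gT py ha hb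
  have e1 := wt_zp e (gT ▸ hz :)
  have e2 := wt_zp e (gT ▸ pow_mem hz n :)
  have e3 : f * ⁅a, b⁆ * f⁻¹ = (⁅a, b⁆ ^ n) ^ n := by
    rw [show f * ⁅a, b⁆ * f⁻¹ = ⁅f * a * f⁻¹, f * b * f⁻¹⁆ by simp only [commutatorElement_def]; group,
      ea, eb, commutatorElement_pow_right_of_commute (h.OcT gT py hb (h.cmT gT py (pow_mem ha n) hb)),
      ← commutatorElement_inv, commutatorElement_pow_right_of_commute (h.OcT gT py ha (h.cmT gT py hb ha)),
      ← inv_pow, commutatorElement_inv]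
  rw [← e2, mul_left_inj, mul_right_inj] at e3
  exact mem_cent1.2 (commutatorElement_eq_one_iff_mul_comm.1 ((h.fz gT py hf hz
    (mem_cent1.2 (mul_inv_eq_iff_eq_mul.1 (e1.trans e3.symm)))).resolve_left f1))

theorem sW : IsPiHallOf {2} (zpowers t ⊔ zpowers u) N[O[C1[y]]] :=
  syl_of_maximal Nat.prime_two (V_pg h.jr.ord h.ou h.ut) (h.nO (h.yT gT py)) fun P hP le PM =>
    le_antisymm (fun c hc => by
      have ct := mem_cent1.2 (h.jr.ab.cm hP hc (le (mem_sup_left (mem_zpowers t))))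
      obtain ⟨v, hv, τ, hτ, k, hk, rfl⟩ := h.nH (h.yT gT py) (ne1p py rfl) ct (h.NOt gT py (PM hc) ct)
      rw [mul_assoc] at hc ⊢
      rwa [eq1_of_odd (odd_ord h.oTD (mul_mem (mem_sup_left hτ) (mem_sup_right hk)))
        (two_of h.jr.two hP ((Subgroup.mul_mem_cancel_left _ (le hv)).1 hc)), mul_one]) le

theorem Mf (hf : f ∈ D) : N[O[C1[y]]] ⊓ N[zpowers t ⊔ zpowers u] ≤ C1[f] := fun m hm => by
  have c := conj_mem_of_mem_norm (norm_le_norm_cent _ hm.2)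
    (show f ∈ C[zpowers t ⊔ zpowers u] by rw [cent_V]; exact ⟨h.jr.Dt hf, h.Du hf⟩)
  rw [cent_V] at c
  obtain ⟨τ, hτ, k, hk, e⟩ := h.nH_odd (h.yT gT py) (ne1p py rfl) c.1
    (h.NOt gT py (cj_mem hm.1 (h.DO gT py hf)) c.1) (by rw [orderOf_conj]; exact h.jr.oD hf)
  rw [eq1_of_inv_fix (odd_ord h.oT hτ) (h.uT τ hτ) ((Subgroup.mul_mem_cancel_right _ (h.Du hk)).1
    (e ▸ c.2)), one_mul] at e
  exact mem_cent1.2 (mul_inv_eq_iff_eq_mul.1 (h.jr.f1 hf (e ▸ hk)))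

theorem no3 (ha : a ∈ C1[y]) (a3 : orderOf a = 3) : False := by
  obtain ⟨c, hc, k⟩ := h.cy h.ni Nat.prime_three (by decide) (h.yT gT py) (ne1p py rfl) (pg_ord a3)
    (zpowers_le.2 ha)
  exact (h.fz gT py (k (conj_mem_conj.2 (mem_zpowers a))) (h.yT gT py) (cj_mem hc ha)).elim
    (cne (ne1p Nat.prime_three a3) c) (ne1p py rfl)

theorem fin (gD : D = zpowers f) (f3 : orderOf f = 3) (hi : ¬ orderOf y ∣ Nat.card C1[f])
    (pX : IsPGroup (orderOf y) X) (lU : l ∈ U) (l3 : orderOf l = 3) (lf : l ∈ C1[f]) (n1 : l ∈ N[X])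
    (n2 : f ∈ N[X]) : X ≤ C1[l] := by
  have := Fact.mk py
  have fD : f ∈ D := gD ▸ mem_zpowers f
  have c : zpowers l ≤ C[zpowers f] := cent_zpowers f ▸ zpowers_le.2 lf
  refine coprime_abelian_gen_cent1 (isMulCommutative_sup (PG.isMulCommutative_zpowers l)
    (PG.isMulCommutative_zpowers f) c) (fun cy => ne1p Nat.prime_three f3 (h.jr.KD (mem_sup_right (h.UL
      (zpowers_le.2 lU (PG.eq_of_isCyclic_of_card_eq Nat.prime_three cy le_sup_left le_sup_right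
        ((Nat.card_zpowers l).trans l3) ((Nat.card_zpowers f).trans f3) ▸ mem_zpowers f)))) fD))
    (V_le n1 n2) ((isPi_of_isPGroup_mem py pX (π := ({3} : Set ℕ)ᶜ) fun e => h.T3 (by
      rw [h.cdT gT py, show orderOf y = 3 from e])).coprime' (isPi_of_isPGroup Nat.prime_three
        (pg_sup Nat.prime_three (pg_ord l3) (pg_ord f3) (.inl (le_norm_of_cent c))))) fun b hb b1 => ?_
  obtain ⟨a, ha, e, he, rfl⟩ := (mem_sup_of_le_norm (le_norm_of_cent c)).1 hb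
  by_cases e1 : e = 1
  · rw [e1, mul_one] at b1 ⊢
    exact c1_prime (l3 ▸ Nat.prime_three) ha b1 ▸ inf_le_right
  have eD : e ∈ D := gD ▸ he
  have aU := zpowers_le.2 lU ha
  have oe : orderOf e = 3 := by
    rw [← Nat.card_zpowers, ← eq_zpowers_of_card_prime (Nat.card_zpowers f ▸ f3 ▸ Nat.prime_three) he e1,
      Nat.card_zpowers, f3]
  obtain ⟨c, -, k⟩ := pH1 G T U e a h.pU h.T3 h.TU (h.DU eD) (h.DT eD)
    (eq_bot_iff.2 fun a ha => mem_bot.2 ((h.sr y (h.yT gT py) a ha.1 (ha.2 y (h.yT gT py))).resolve_left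
      (ne1p py rfl))) (fun a ha k hk c => h.fz gT py (zpowers_le.2 eD ha) hk (mem_cent1.2 c)) aU (by
        rw [Commute.mul_pow (c ha e he).symm, pow_orderOf_eq_one, oe, h.exp a aU, one_mul])
  intro z hz
  by_contra n
  have := c1_conj hz.2 c
  rw [k, c1_prime (f3 ▸ Nat.prime_three) he e1] at this
  exact hi (((Nat.card_zpowers z ▸ PG.dvd_card_of_ne_bot (pX.to_le (zpowers_le.2 hz.1)) fun e =>
    n (by rw [zpowers_eq_bot.1 e]; exact one_mem _)).trans (orderOf_conj c z).symm.dvd).trans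
      (orderOf_dvd_card_of_mem this))

theorem MS (j : JT S t u g w x L D Q) (hf : f ∈ D) (cx : (orderOf x).Coprime (Nat.card ↥(L ⊓ C1[f]))) :
    N[O[C1[y]]] ⊓ N[zpowers t ⊔ zpowers u] ≤ N[S] := fun m hm => by
  refine mem_normalizer_of_conj_le (conj_le_iff_forall.2 fun a ha => ?_)
  have Sf : S ≤ C1[f] := mem_cent_iff_le_cent1.1 (h.jr.DS hf)
  have Df : D ≤ C1[f] := h.jr.DD.trans (cent_le_cent1 hf)
  have c := conj_mem_of_mem_norm (norm_le_norm_cent _ hm.2) (show a ∈ C[zpowers t ⊔ zpowers u] from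
    cent_anti (V_le h.jr.mem h.uS) (h.jr.Sc ha))
  rw [cent_V] at c
  have cf := cj_mem (h.Mf gT py hf hm) (Sf ha)
  refine zpowers_le.1 (le_syl_of_le_norm Nat.prime_two h.jr.syl (pg2' (sq_conj (h.jr.Ssq ha) m)) le_top
    (zp_norm (cent_le_norm _ ?_)))
  obtain ⟨e, he, r, hr, k, hk, n⟩ := j.cU _ (mem_cent1.1 c.1) (mem_cent1.1 c.2)
  have eS : e ∈ S := by
    rcases j.mem_U.1 he with rfl | rfl | rfl | rfl
    exacts [one_mem _, h.jr.mem, h.uS, mul_mem h.jr.mem h.uS]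
  have r1 : e * r * k ∈ C1[f] → r = 1 := fun m => orderOf_eq_one_iff.1 (Nat.eq_one_of_dvd_coprimes cx
    (orderOf_dvd_of_mem_zpowers hr) (orderOf_dvd_card_of_mem ⟨zpowers_le.2 j.xL hr,
      (Subgroup.mul_mem_cancel_left _ (Sf eS)).1 ((Subgroup.mul_mem_cancel_right _ (Df hk)).1 m)⟩))
  rcases n with n | n <;> rw [n] at cf ⊢
  · rw [r1 cf, mul_one]; exact mul_mem (h.jr.Sc eS) (h.jr.DS hk)
  · rw [r1 ((Subgroup.mul_mem_cancel_right _ (Sf j.wS)).1 cf), mul_one]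
    exact mul_mem (mul_mem (h.jr.Sc eS) (h.jr.DS hk)) (h.jr.Sc j.wS)

variable [IsSimpleGroup G] (j : JT S t u g w x L D Q) (ih : IH.{u} (Nat.card G))
include j ih

theorem pO : IsPGroup (orderOf y) O[C1[y]] := by
  have hy := h.yT gT py
  refine (isPiSubgroup_single_iff py).1 fun p hp hd => by_contra fun n => ?_
  have p2 : p ≠ 2 := fun e => (O_odd C1[y]).not_two_dvd_nat (e ▸ hd)
  have pT : ¬ p ∣ Nat.card T := fun e => n ((Nat.prime_dvd_prime_iff_eq hp py).1 (h.cdT gT py ▸ e))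
  obtain ⟨Y, hY, nY⟩ := coprime_exists_syl hp (.inl (O_solv _)) (h.nO hy)
    (cop2' (O_odd C1[y]) (V_pg h.jr.ord h.ou h.ut))
  obtain ⟨a, ha, oa⟩ := exists_mem_orderOf_eq hp (hY.prime_dvd hp rfl hd)
  exact pT (oa ▸ orderOf_dvd_card_of_mem (h.OT gT py ⟨hY.le ha, h.nR pCN j ih hy (ne1p py rfl) hp p2 pT
    (syl_isPGroup hp hY) (hY.le.trans (O_le _)) (nY (mem_sup_left (mem_zpowers t)))
      (nY (mem_sup_right (mem_zpowers u))) ha⟩))

theorem wt (hf : f ∈ D) (e : f * y * f⁻¹ = y ^ n) (hs : s = u ∨ s = t * u) (ha : a ∈ O[C1[y]] ⊓ C1[s]) :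
    f * a * f⁻¹ = a ^ n := by
  by_cases a1 : a = 1
  · simp [a1]
  have hd := (h.cdT gT py).symm.dvd
  have pA : IsPGroup (orderOf y) ↥(O[C1[y]] ⊓ C1[s]) := (h.pO gT py j ih).to_le inf_le_left
  obtain ⟨m, -, k⟩ := h.toS hs py hd pA inf_le_right
  have oa : orderOf a = orderOf y := ((Nat.dvd_prime py).1 (by
    rw [← orderOf_conj m, ← h.cdT gT py]
    exact orderOf_dvd_card_of_mem (k (conj_mem_conj.2 ha)))).resolve_left (mt orderOf_eq_one_iff.1 a1)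
  obtain ⟨m, hm, k⟩ := h.align hs py hd oa ha.2 hf (PG.norm_le_norm_of_isCyclic (h.cycS hs py hd pA
    inf_le_right) (zpowers_le.2 ha) (zpowers_le.1 (le_norm_inf (zp_norm (h.DO gT py hf)) (le_norm_self
      (zpowers_le.2 (cent_le_cent1 (h.sS hs) (h.jr.DS hf)))))))
  rwa [wt_zp e (gT ▸ hm :), conj_pow, mul_left_inj, mul_right_inj, eq_comm] at k

theorem exM (hf : f ∈ D) (f1 : f ≠ 1) (hn : ¬ C1[y] ≤ C1[t]) :
    ¬ N[O[C1[y]]] ⊓ N[zpowers t ⊔ zpowers u] ≤ C1[t] := fun le => by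
  have hy := h.yT gT py
  have y1 := ne1p py rfl
  obtain ⟨s, hs, v, vy, ov, vs⟩ := h.sym pCN j ih hy py hn
  obtain ⟨n, e⟩ := PG.exists_nat_pow_of_mem_zpowers (gT ▸ conj_mem_of_le_norm h.DT hf hy :)
  have vO := h.memO hy y1 vy (ov ▸ odd_ord h.oT hy)
  have k := fun a ha ea => h.cm gT py (a := a) hf f1 e ha vO ea (h.wt gT py j ih hf e hs ⟨vO, vs⟩)
  have mt : t ∈ zpowers t ⊔ zpowers u := mem_sup_left (mem_zpowers t)
  have mu : u ∈ zpowers t ⊔ zpowers u := mem_sup_right (mem_zpowers u)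
  have Ov : O[C1[y]] ≤ C1[v] := gen3 h.jr.ord h.ou h.ne h.ut (O_odd _) (h.nO hy mt) (h.nO hy mu)
    (fun a ha => k a ha.1 (wt_zp e (gT ▸ h.OT gT py ha :)))
    (fun a ha => k a ha.1 (h.wt gT py j ih hf e (.inl rfl) ha))
    fun a ha => k a ha.1 (h.wt gT py j ih hf e (.inr rfl) ha)
  obtain ⟨c, ec, hc⟩ := h.toS hs py (h.cdT gT py).symm.dvd (pg_ord ov) (zpowers_le.2 vs)
  have e1 := c1_prime py (gT ▸ hc (conj_mem_conj.2 (mem_zpowers v)) :) (cne (ne1p py ov) c)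
  obtain ⟨m, hm, em⟩ := h.jr.ab.fus (h.sW gT py) (x := s) (hs.elim (· ▸ mu) (· ▸ mul_mem mt mu))
    (mem_normalizer_of_conj_le (conj_le_iff_forall.2 fun a ha => h.memO hy y1 (e1 ▸ c1_conj (Ov ha) c)
      (by rw [orderOf_conj]; exact odd_ord (O_odd _) ha))) (ec ▸ mt)
  rw [ec, mul_inv_eq_iff_eq_mul, ← mem_cent1.1 (le hm), mul_right_inj] at em
  rcases hs with rfl | rfl
  exacts [h.ne em, h.u1 (mul_eq_left.1 em)]

theorem small (gD : D = zpowers f) (f3 : orderOf f = 3) (c12 : Nat.card ↥(L ⊓ C1[f]) = 12)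
    (cx : (orderOf x).Coprime 12) (hi : ¬ orderOf y ∣ Nat.card C1[f]) : C1[y] ≤ C1[t] := by
  by_contra hn
  have fD : f ∈ D := gD ▸ mem_zpowers f
  have MS := h.MS gT py j fD (c12 ▸ cx)
  obtain ⟨P, hP⟩ := exists_syl Nat.prime_three (N[O[C1[y]]] ⊓ N[zpowers t ⊔ zpowers u])
  have pP := syl_isPGroup Nat.prime_three hP
  obtain ⟨a, ha, n⟩ : ∃ a ∈ P, a ∉ C1[t] := SetLike.not_le_iff_exists.1 fun le =>
    h.exM gT py j ih fD (ne1p Nat.prime_three f3) hn (le_of_forall_syl_le fun p hp hd => by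
      by_cases p3 : p = 3
      · exact ⟨P, p3 ▸ hP, le⟩
      obtain ⟨R, hR⟩ := exists_syl hp (N[O[C1[y]]] ⊓ N[zpowers t ⊔ zpowers u])
      have pR := syl_isPGroup hp hR
      refine ⟨R, hR, ?_⟩
      by_cases p2 : p = 2
      · exact (h.jr.ab.pcent (p2 ▸ pR) (syl_isPGroup Nat.prime_two h.jr.syl) (.inl (hR.le.trans MS))).trans
          (cent_le_cent1 h.jr.mem)
      have := Fact.mk hp
      have c4 : Nat.card ↥(zpowers t ⊔ zpowers u) = 4 := by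
        rw [PG.card_sup_zpowers Nat.prime_two (cent_le_norm _ (cent_zpowers t ▸ mem_cent1.2 h.ut))
          (by rw [sq, h.uu]; exact one_mem _) fun m => (zp2' h.jr.tt m).elim h.u1 h.ne, Nat.card_zpowers,
          h.jr.ord]
      have l := card_le_of_le (inf_le_left : (zpowers t ⊔ zpowers u) ⊓ C[R] ≤ _)
      have p5 := hp.five_le_of_ne_two_of_ne_three p2 p3
      have := (PG.card_modEq_card_inf_cent pR (hR.le.trans inf_le_right)).eq_of_lt_of_lt (by omega) (by omega)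
      exact (le_cent_symm (inf_eq_left.1 (eq_of_le_of_card_ge inf_le_left this.le))).trans
        (cent_le_cent1 (mem_sup_left (mem_zpowers t))))
  have := Fact.mk Nat.prime_three
  obtain ⟨s, hs, s1⟩ := exists_ne_one_of_ne_bot (H := S ⊓ C[P]) fun e => by
    have := PG.card_modEq_card_inf_cent pP (hP.le.trans MS)
    rw [e, card_bot, h.jr.card] at this
    exact absurd this (by decide)
  obtain ⟨m, hm, e⟩ := h.jr.fus hs.1 s1
  have mf := h.jr.NS fD hm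
  have af := cj_mem mf (h.Mf gT py fD (hP.le ha))
  have pa : IsPGroup 3 (zpowers (m * a * m⁻¹)) := conj_zpowers m a ▸ (pP.to_le (zpowers_le.2 ha)).map _
  obtain ⟨l, hl, k, hk, e2⟩ := h.jr.mem_LD (e ▸ c1_conj (mem_cent1.2 (hs.2 a ha)) m)
    (odd_ord (odd3 pa) (mem_zpowers _))
  have kf : k ∈ C1[f] := cent_le_cent1 fD (h.jr.DD hk)
  have lf : l ∈ C1[f] := (Subgroup.mul_mem_cancel_right _ kf).1 (e2 ▸ af)
  have e3 : l = m * a * m⁻¹ * k⁻¹ := eq_mul_inv_of_mul_eq e2.symm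
  have l1 : l ≠ 1 := fun z => n (by
    rw [z, one_mul, mul_inv_eq_iff_eq_mul, ← mem_cent1.1 (h.jr.NS hk hm), mul_right_inj] at e2
    exact e2 ▸ h.jr.Dt hk)
  obtain ⟨c, hc, hU⟩ := conj_into_idx Nat.prime_three (inf_le_inf_right C1[f] h.UL) (fun d => by
    have e := card_mul_relIndex (inf_le_inf_right C1[f] h.UL)
    have := mul_dvd_mul (PG.dvd_card_of_ne_bot h.pU.to_inf_left (cent_zpowers f ▸ PG.inf_cent_ne_bot
      (pg_ord f3) h.pU (zp_norm (h.DU fD)) h.U1)) d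
    rw [e, c12] at this
    exact absurd this (by decide))
    ((pg_sup Nat.prime_three pa (pg_ord f3) (.inl (le_norm_of_cent (cent_zpowers f ▸ zpowers_le.2 af)))).to_le
      (zpowers_le.2 (e3 ▸ mul_mem (mem_sup_left (mem_zpowers _)) (mem_sup_right (inv_mem (gD ▸ hk :))))))
    (zpowers_le.2 ⟨hl, lf⟩)
  have lU := hU (conj_mem_conj.2 (mem_zpowers l))
  have l3 := PG.orderOf_eq_prime' Nat.prime_three (h.exp _ lU.1) (cne l1 c)
  have nf : f ∈ N[cj[m] O[C1[y]]] := by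
    rw [← conj_normalizer, mem_conj, mul_assoc, ← mem_cent1.1 mf, inv_mul_cancel_left]
    exact h.DO gT py fD
  have := h.fin gT py gD f3 hi (X := cj[c] (cj[m] O[C1[y]])) (((h.pO gT py j ih).map _).map _) lU.1 l3 lU.2
    (by
      rw [← conj_normalizer, conj_mem_conj, e3]
      exact mul_mem (conj_normalizer m _ ▸ conj_mem_conj.2 (hP.le ha).1)
        (inv_mem (zpowers_le.2 nf (gD ▸ hk :))))
    (by rwa [← conj_normalizer, mem_conj, mul_assoc, ← mem_cent1.1 hc.2, inv_mul_cancel_left])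
    (conj_mem_conj.2 (conj_mem_conj.2 (h.TO gT py (h.yT gT py))))
  rw [← conj_cent1, conj_mem_conj] at this
  exact h.no3 gT py (a := m⁻¹ * l * m⁻¹⁻¹) (by simpa [mul_assoc] using c1_conj (mem_cent1_comm.1 this) m⁻¹)
    (by rwa [orderOf_conj] at l3 ⊢)

end B3

theorem pCTA : PCTA.{u} := fun G _ _ _ S L D U T t u g w x f q q1 Q h j ih hf f3 hq cf hi hD => by
  have q27 := h.q27
  have cT := h.cardT
  obtain ⟨n, rfl⟩ : Odd q1 := (Nat.odd_pow_iff three_ne_zero).1 (hq ▸ ⟨_, cT.symm⟩)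
  by_cases n1 : n = 1
  · subst n1
    obtain ⟨y, gT⟩ := PG.isCyclic_iff_exists.1 h.cycT
    have oy : orderOf y = 13 := by rw [← Nat.card_zpowers, gT]; omega
    have py : (orderOf y).Prime := oy ▸ (by norm_num)
    have := h.ordx j
    refine ⟨y, h.yT gT.symm py, py, h.small gT.symm py j ih (hD rfl) f3 (by omega)
      (by rw [show orderOf x = 7 by omega]; norm_num) fun d => ?_⟩
    rw [oy, DA.card_Ce h.jr hf, hD rfl, Nat.card_zpowers, f3, show Nat.card ↥(L ⊓ C1[f]) = 12 by omega] at d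
    exact absurd (d.trans (mul_dvd_mul_left _ hi)) (by norm_num)
  obtain ⟨p, hp, hd⟩ := Nat.exists_prime_and_dvd n1
  refine h.big j ih hf f3 hp (hd.trans ⟨4 * n ^ 2 + 6 * n + 3, by nlinarith⟩)
    (hd.trans ⟨(2 * n + 1) * (2 * n + 2), ?_⟩) fun d => hp.one_lt.ne' (Nat.dvd_one.1 ?_)
  · rw [show (2 * n + 1) ^ 2 = 2 * n * (2 * n + 2) + 1 by ring, Nat.add_sub_cancel] at cf
    nlinarith
  · have := d.trans hi
    rw [show (2 * n + 1) ^ 2 - (2 * n + 1) = 2 * n * (2 * n + 1) from Nat.sub_eq_of_eq_add (by ring),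
      show (2 * n + 1) ^ 2 * (2 * n * (2 * n + 1) + 1) = n * (6 + 16 * n + 24 * n ^ 2 + 16 * n ^ 3) + 1 by ring]
      at this
    exact (Nat.dvd_add_right (hd.mul_right _)).1 this

end Cfsg.Agent.WA
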