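import Cfsg.Agent.WA.DCT1
import Cfsg.Agent.WA.DCN

/-! Groups of Janko-Ree type, `q = 3 ^ n`: `C(y) ≤ C(t)` when the order of the group is known. -/

set_option autoImplicit false
set_option linter.unusedSectionVars false
set_option linter.unusedVariables false

namespace Cfsg.Agent.WA

open Cfsg Subgroup Cfsg.Agent.GT Cfsg.Agent.GW

universe u

theorem pCTE : PCTE.{u} := by
  intro G _ _ _ S L D U T t u g w x y q Q h j ih cp hy py
  by_contra hn
  have := Fact.mk py
  obtain ⟨s, hs, v, vy, ov, vs⟩ := h.sym pCN j ih hy py hn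
  have dy := orderOf_dvd_card_of_mem hy
  have pX : IsPGroup (orderOf y) ↥(zpowers y ⊔ zpowers v) :=
    (pg_ord rfl).to_sup_of_normal_left' (pg_ord ov) ((zpowers_le.2 (cent_zpowers y ▸ vy)).trans (cent_le_norm _))
  obtain ⟨l, -, k⟩ := conj_into_idx py (le_top : C1[t] ≤ ⊤)
    (by rw [relIndex_top_right]; exact not_dvd_of_coprime cp.symm py (h.pq dy)) pX le_top
  obtain ⟨m, -, k'⟩ := h.toT py dy (pX.map _) k
  have cy : IsCyclic ↥(zpowers y ⊔ zpowers v) := isCyclic_conj_iff.1 (isCyclic_conj_iff.1 (cyc_of_le h.cycT k'))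
  have e : zpowers y = zpowers v := PG.eq_of_isCyclic_of_card_eq py cy le_sup_left le_sup_right
    (Nat.card_zpowers y) (by rw [Nat.card_zpowers, ov])
  have iv := inv_zp (h.sT hs hy) (e ▸ mem_zpowers v)
  rw [← mem_cent1.1 vs, mul_inv_cancel_right] at iv
  have : orderOf v ∣ 2 := orderOf_dvd_of_pow_eq_one (by rw [sq]; nth_rw 1 [iv]; exact inv_mul_cancel v)
  exact h.p2T dy ((Nat.prime_dvd_prime_iff_eq py Nat.prime_two).1 (ov ▸ this))

end Cfsg.Agent.WA
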