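import Cfsg.Agent.WA.DM1
import Cfsg.Agent.WA.A2

/-! Groups of Janko-Ree type, `D = 1`: the quotient `C(D) / D`. -/

set_option autoImplicit false
set_option linter.unusedSectionVars false

namespace Cfsg.Agent.WA.DI

open Cfsg Subgroup Cfsg.Agent.GT Cfsg.Agent.Cls Cfsg.Agent.GW Cfsg.Agent.B84H

universe u

/-- the part of `JR'` that gives the local data -/
structure JR0 {G : Type u} [Group G] (S : Subgroup G) (t : G) (L : Subgroup G) : Prop where
  syl : IsPiHallOf {2} S ⊤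
  card : Nat.card S = 8
  ab : AB G
  el : El (⊤ : Subgroup G)
  ord : orderOf t = 2
  mem : t ∈ S
  le : L ≤ C1[t]
  norm : C1[t] ≤ N[L]
  nmem : t ∉ L
  l2 : L2o L
  cent : C1[t] = zpowers t ⊔ L

section
open JS (facts tor st)

variable {G : Type u} [Group G] [Finite G] {S L : Subgroup G} {t u g w c : G} (h : JR0 S t L)
include h

theorem dec (hc : Commute c t) : c ∈ L ∨ t * c ∈ L := by
  have := mem_cent1.2 hc
  rw [h.cent] at this
  obtain ⟨a, ha, b, hb, rfl⟩ := (mem_sup_of_le_norm (zpowers_le.2 (h.norm (self_mem_cent1 t)))).1 this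
  rcases (TT.mem_zpowers_of_sq (sq1 h.ord)).1 ha with rfl | rfl
  exacts [.inl (by rwa [one_mul]), .inr (by rwa [tt (sq1 h.ord)])]

theorem Sc : S ≤ C[S] := h.ab S (syl_isPGroup Nat.prime_two h.syl)

theorem Ssq (hc : c ∈ S) : c * c = 1 := h.el.sq c trivial ((syl_isPGroup Nat.prime_two h.syl).to_le (zpowers_le.2 hc))

theorem two (s : G) (k : ℕ) (e : s ^ 2 ^ k = 1) : s * s = 1 := h.el.sq s trivial (PG.isPGroup_zpowers_of_pow_eq_one e)

theorem stL : ∃ (S A : Subgroup L) (t : L), St S A t :=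
  st h.l2 fun s k e => Subtype.ext (two h s k (congrArg Subtype.val e))

theorem fus (hc : c ∈ S) (c1 : c ≠ 1) : ∃ n ∈ N[S], n * c * n⁻¹ = t := by
  obtain ⟨g, -, e⟩ := h.el.one c trivial t trivial (ord2 (Ssq h hc) c1) h.ord
  obtain ⟨n, hn, d, hd, rfl⟩ := syl_fusion_cent Nat.prime_two h.syl (mem_top g) (Y := {c})
    (by rintro _ rfl; exact Sc h hc) (by rintro _ rfl; exact e ▸ Sc h h.mem)
  exact ⟨n, hn.2, by rw [← e, mul_assoc n d, ← hd.2 c rfl]; group⟩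

theorem seven : 7 ∣ Nat.card G := by
  have e : MulAction.orbit N[S] (⟨t, h.mem⟩ : S) = {1}ᶜ := by
    ext c
    refine ⟨?_, fun n => ?_⟩
    · rintro ⟨n, rfl⟩ e
      exact ne1 h.ord (congrArg Subtype.val ((smul_eq_iff_eq_inv_smul _).1 e |>.trans (smul_one _)))
    · obtain ⟨n, hn, e⟩ := fus h c.2 fun e => n (Subtype.ext e)
      exact MulAction.mem_orbit_symm.1 ⟨⟨n, hn⟩, Subtype.ext e⟩
  have := MulAction.index_stabilizer N[S] (⟨t, h.mem⟩ : S)
  have c := Set.ncard_add_ncard_compl ({1} : Set S)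
  rw [h.card, Set.ncard_singleton, ← e, ← this] at c
  exact (show 7 = (MulAction.stabilizer N[S] (⟨t, h.mem⟩ : S)).index by omega) ▸
    (index_dvd_card _).trans (card_subgroup_dvd_card N[S])

theorem build (q : Q3 t u g) (g3 : g ^ 3 = 1) (uL : u ∈ L) (uS : u ∈ S) (wS : w ∈ S) (w1 : w ≠ 1)
    (wg : Commute w g) : ∃ x Q, JD t u g w x L Q := by
  obtain ⟨Q, q1, q2, q3, q4, -, -, -, q5, q6⟩ := facts h.l2
  have ou : orderOf (⟨u, uL⟩ : L) = 2 := by rw [← orderOf_coe]; exact ord2 q.uu q.u1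
  obtain ⟨T, d, uT, cT, nT⟩ := q5 _ ou
  obtain ⟨⟨x, xL⟩, x1, x2, x3, x4, x5⟩ := tor ou d uT (by omega) nT
  replace x1 : 2 * orderOf x = Nat.card T := (orderOf_coe (⟨x, xL⟩ : L)).symm ▸ x1
  have z : ∀ l : L, l ∈ zpowers (⟨x, xL⟩ : L) ↔ l.1 ∈ zpowers x := fun l =>
    ⟨fun ⟨k, e⟩ => ⟨k, congrArg Subtype.val e⟩, fun ⟨k, e⟩ => ⟨k, Subtype.ext e⟩⟩
  simp only [z, Subtype.forall, Commute, SemiconjBy, Subtype.ext_iff, ne_eq, coe_mul, coe_inv, coe_one] at x2 x3 x4 x5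
  have ox : Odd (orderOf x) := Nat.odd_iff.2 (by omega)
  have oV : ∀ {y}, y ∈ zpowers x → Odd (orderOf y) := fun m => ox.of_dvd_nat (orderOf_dvd_of_mem_zpowers m)
  have le : ∀ l ∈ L, Commute l t := fun l m => mem_cent1.1 (h.le m)
  have wt : Commute w t := (Sc h wS t h.mem).symm
  have wu : Commute w u := (Sc h wS u uS).symm
  have tW : t ∈ q.ψ.range := q.mem_U.2 (by simp)
  have uW : u ∈ q.ψ.range := q.mem_U.2 (by simp)
  have wW : w ∉ q.ψ.range := fun m => by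
    have := TT.commute_iff_conj.1 wg.symm
    rcases q.mem_U.1 m with e | e | e | e <;> rw [e] at this
    exacts [w1 e, q.ne (q.g1.symm.trans this), q.t1 (by simpa using q.g2.symm.trans this),
      q.u1 (by simpa using (q.g3.symm.trans this).symm)]
  have dec' : ∀ c, Commute c t → ∃ e ∈ q.ψ.range, e * c ∈ L := fun c hc =>
    (dec h hc).elim (fun m => ⟨1, one_mem _, by rwa [one_mul]⟩) fun m => ⟨t, tW, m⟩
  have P : ∀ {l}, l ∈ zpowers x ∨ u * l ∈ zpowers x → ∃ e ∈ q.ψ.range, e * l ∈ zpowers x := fun m =>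
    m.elim (fun m => ⟨1, one_mem _, by rwa [one_mul]⟩) fun m => ⟨u, uW, m⟩
  have cW : ∀ {c e}, Commute c t → Commute c u → e ∈ q.ψ.range → Commute (e * c) u := fun c1 c2 m =>
    (q.cU q.tu.symm rfl m).symm.mul_left c2
  obtain ⟨e0, he0, w0⟩ := dec' w wt
  have n0 : ¬ (e0 * w ∈ zpowers x ∨ u * (e0 * w) ∈ zpowers x) := fun m => by
    obtain ⟨e, he, m⟩ := P m
    rw [← mul_assoc] at m
    have := eq1_of_odd (oV m) (TT.mul_self_of_commute (q.sqU (mul_mem he he0)) (Ssq h wS)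
      (q.cU wt wu (mul_mem he he0)).symm)
    exact wW ((mul_mem_cancel_left (mul_mem he he0)).1 (this ▸ one_mem _))
  have xW : ∀ {y e}, y ∈ zpowers x → e ∈ q.ψ.range → Commute y e := fun m m' => q.cU (zc (le x xL) m) (zc x2 m) m'
  have wx : w * x * w⁻¹ = x⁻¹ := by
    have := x4 _ w0 (cW wt wu he0) n0
    rwa [show e0 * w * x * (e0 * w)⁻¹ = e0 * (w * x * w⁻¹) * e0⁻¹ by group, mul_inv_eq_iff_eq_mul,
      (xW (inv_mem (mem_zpowers x)) he0).eq, mul_right_inj] at this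
  have cU : ∀ c, Commute c t → Commute c u → ∃ e ∈ q.ψ.range, ∃ y ∈ zpowers x, c = e * y ∨ c = e * y * w := by
    intro c c1 c2
    obtain ⟨e, he, m⟩ := dec' c c1
    by_cases n : e * c ∈ zpowers x ∨ u * (e * c) ∈ zpowers x
    · obtain ⟨e', he', k⟩ := P n
      exact ⟨_, inv_mem (mul_mem he' he), _, k, .inl (by group)⟩
    · obtain ⟨e', he', k⟩ := P (x3 _ m _ w0 (cW c1 c2 he) (cW wt wu he0) n n0)
      refine ⟨_, inv_mem (mul_mem (mul_mem he' he) he0), _, k, .inr ?_⟩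
      rw [mul_assoc e, ← mul_assoc c, (q.cU c1 c2 he0).eq, ← TT.inv_of_sq (Ssq h wS)]
      nth_rewrite 1 [TT.inv_of_sq (Ssq h wS)]
      group
  obtain ⟨S', A, t', s⟩ := stL h
  refine ⟨x, Q, q, g3, Ssq h wS, wt, wu, wg, wW, wx, ox, le x xL, x2, ?_, le, h.nmem, fun c => dec h, uL, xL, cU,
    fun a ha a1 c hc m => ?_, fun s s2 s1 => ?_, two h,
    fun c hc c2 c1 => ?_, q1, q2, q3, by omega, q4, fun y hy o n => ?_, seven h⟩
  · have o : Odd (orderOf (g * x * g⁻¹)) := by rwa [GT.orderOf_conj]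
    obtain ⟨e, he, y, hy, n | n⟩ := cU (g * x * g⁻¹)
      (q.g3 ▸ (TT.commute_conj_iff g).2 ((le x xL).mul_right x2)) (q.g1 ▸ (TT.commute_conj_iff g).2 (le x xL))
    · refine PG.mem_of_sq_mem_of_odd o ?_
      rw [n, mul_assoc, ← mul_assoc y, (xW hy he).eq, ← mul_assoc, ← mul_assoc, q.sqU he, one_mul]
      exact mul_mem hy hy
    · rw [eq1_of_odd o]
      · exact one_mem _
      rw [n, show e * y * w * (e * y * w) = e * y * (w * e) * w⁻¹ * (w * y * w⁻¹) * (w * w) by group, zi wx hy,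
        Ssq h wS, (q.cU wt wu he).eq, mul_assoc e y, ← mul_assoc y, (xW hy he).eq, ← mul_assoc, ← mul_assoc, q.sqU he]
      group
  · obtain ⟨e, he, k⟩ := dec' c hc
    have := x5 a (zpowers_le.2 xL ha) ha a1 _ k (by
      rwa [show e * c * a * (e * c)⁻¹ = e * (c * a * c⁻¹) * e⁻¹ by group, ← (xW m he).eq, mul_inv_cancel_right])
    have := Commute.mul_left (q.cU q.tu.symm rfl (inv_mem he)).symm this
    rwa [inv_mul_cancel_left] at this
  · obtain ⟨k, -, e⟩ := h.el.one t trivial s trivial h.ord (ord2 s2 s1)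
    exact isConj_iff.2 ⟨k, e⟩
  · obtain ⟨a, ea⟩ := s.one _ ou
    obtain ⟨b, eb⟩ := s.one ⟨c, hc⟩ (by rw [← orderOf_coe]; exact ord2 c2 c1)
    exact ⟨_, (b * a⁻¹).2, congrArg Subtype.val (show b * a⁻¹ * ⟨u, uL⟩ * (b * a⁻¹)⁻¹ = ⟨c, hc⟩ by
      rw [← ea, ← eb]; group)⟩
  · rw [inf_comm, ← card_subgroupOf', show C1[y].subgroupOf L = C1[(⟨y, hy⟩ : L)] from Subgroup.ext fun l => by
      rw [mem_subgroupOf, mem_cent1, mem_cent1, Subtype.ext_iff]; rfl]
    exact q6 _ (by rwa [← orderOf_coe]) (by omega)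

end

section
open Cfsg.Agent.GWP Cfsg.Agent.Cl Matrix
open scoped MatrixGroups

theorem l2o_cent {G : Type u} [Group G] [Finite G] {S L D : Subgroup G} {t e : G} (h : JR' S t L D) (he : e ∈ D)
    (big : 12 < Nat.card ↥(L ⊓ C1[e])) : L2o ↥(L ⊓ C1[e]) := by
  classical
  obtain ⟨F, _, _, π, s, d, hF, p0, rfl, a, o⟩ := DM.model h
  have h2 := two_ne_zero_of_odd_card hF
  obtain ⟨k, rfl⟩ := PG.exists_nat_pow_of_mem_zpowers he
  have : Finite (F ≃+* F) := Finite.of_injective (fun r : F ≃+* F => (r : F → F)) DFunLike.coe_injective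
  have o' : Odd (orderOf (s ^ k)) := (o ▸ h.oD (mem_zpowers d)).of_dvd_nat (orderOf_pow_dvd k)
  replace a := DM.act_pow a k
  obtain ⟨Q, q8, -, -, cL, -⟩ := JS.facts h.l2
  generalize s ^ k = s at *
  generalize d ^ k = e at *
  let E := RingHom.eqLocusField (s : F →+* F) (RingHom.id F)
  have := Fintype.ofFinite E
  have inj : ∀ a b : SL(2, E), SpecialLinearGroup.map E.subtype a = SpecialLinearGroup.map E.subtype b → a = b :=
    fun a b e => Subtype.ext (by ext i j; exact congrArg (fun g : SL(2, F) => g.1 i j) e)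
  have p : PH (π.comp (SpecialLinearGroup.map E.subtype)) (L ⊓ C1[e]) := by
    refine ⟨fun x => ⟨fun m => ?_, ?_⟩, fun g => ?_⟩
    · obtain ⟨g, rfl⟩ := (p0.rng x).1 m.1
      have k := (DM.mem_cent p0 h2 a o').1 m.2
      exact ⟨sl2mk ⟨_, k 0 0⟩ ⟨_, k 0 1⟩ ⟨_, k 1 0⟩ ⟨_, k 1 1⟩ (Subtype.ext (sl2_det g)),
        congrArg π (by apply sl2_ext <;> rfl)⟩
    · rintro ⟨g, rfl⟩
      exact ⟨p0.mem _, (DM.mem_cent p0 h2 a o').2 fun i j => (g.1 i j).2⟩
    · rw [MonoidHom.comp_apply, p0.ker]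
      refine or_congr ⟨fun e => inj _ _ (e.trans (map_one _).symm), fun e => e ▸ map_one _⟩
        ⟨fun e => inj _ _ (e.trans ?_), fun e => e ▸ Eq.symm ?_⟩ <;> apply sl2_ext <;> simp [neg_ap]
  have c1 := DM.card_ph p fun z => h2 (congrArg Subtype.val z)
  have c2 : Fintype.card F = Fintype.card E ^ orderOf s := by
    rw [← Nat.card_eq_fintype_card (α := E)]; exact card_fix s
  have c3 : Q.natAbs = Fintype.card F := by
    have e := cL.symm.trans (DM.card_ph p0 h2)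
    have k : ∀ a b : ℕ, a < b → 0 < a * (a ^ 2 - 1) → a * (a ^ 2 - 1) < b * (b ^ 2 - 1) := fun a b l z =>
      Nat.mul_lt_mul_of_lt_of_le l (Nat.sub_le_sub_right (Nat.pow_le_pow_left l.le 2) 1)
        ((Nat.pos_of_mul_pos_left z).trans_le (Nat.sub_le_sub_right (Nat.pow_le_pow_left l.le 2) 1))
    have z : 0 < Q.natAbs * (Q.natAbs ^ 2 - 1) := by rw [← cL]; have := Nat.card_pos (α := L); omega
    exact le_antisymm (not_lt.1 fun l => (k _ _ l (e ▸ z)).ne e.symm) (not_lt.1 fun l => (k _ _ l z).ne e)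
  refine ⟨E, inferInstance, inferInstance, ?_, by_contra fun l => ?_, ⟨((QuotientGroup.quotientMulEquivOfEq
    (Subgroup.ext fun g => sl2_mem_center_iff g |>.trans (p.ker g).symm)).trans
    (QuotientGroup.quotientKerEquivRange _) |>.trans (MulEquiv.subgroupCongr (Subgroup.ext fun x => (p.rng x).symm))).symm⟩⟩
  · obtain ⟨j, hj⟩ := o'
    have : Fintype.card F % 8 = 3 ∨ Fintype.card F % 8 = 5 := by omega
    rw [c2, hj, pow_succ, pow_mul, Nat.mul_mod, Nat.pow_mod, Nat.pow_mod (Fintype.card E)] at this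
    have o2 : Odd (Fintype.card E) := (c2 ▸ hF).of_dvd_nat (dvd_pow_self _ (by omega))
    rw [Nat.odd_iff] at o2
    rcases (by omega : Fintype.card E % 8 = 1 ∨ Fintype.card E % 8 = 3 ∨ Fintype.card E % 8 = 5 ∨
      Fintype.card E % 8 = 7) with e | e | e | e <;> simp [e] at this ⊢
  · generalize Fintype.card E = i at *
    have : i ≤ 3 := by omega
    interval_cases i <;> omega

end

variable {G : Type u} [Group G] [Finite G] {S L D : Subgroup G} {t d a s : G} {X : Type u} [Group X] [Finite X]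
  {f : C1[d] →* X} (h : JR' S t L D) (gen : D = zpowers d) (hk : kr f = D)
include h gen hk

omit hk in
theorem cD (ha : a ∈ C1[d]) (hs : s ∈ D) : Commute a s := by
  subst gen
  obtain ⟨k, rfl⟩ := hs
  exact Commute.zpow_right (mem_cent1.1 ha) k

theorem cm (ha : a ∈ C1[d]) (hs : s ∈ C1[d]) (ss : s * s = 1) (c : Commute (f ⟨a, ha⟩) (f ⟨s, hs⟩)) : Commute a s := by
  have m : a * s * a⁻¹ * s⁻¹ ∈ D := hk ▸ (mem_kr' (mul_mem (cj_mem ha hs) (inv_mem hs))).2 (by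
    change f (⟨a, ha⟩ * ⟨s, hs⟩ * ⟨a, ha⟩⁻¹ * ⟨s, hs⟩⁻¹) = 1
    rw [map_mul, map_mul, map_mul, map_inv, map_inv, c.eq]; simp)
  have e := sq_conj ss a
  have : a * s * a⁻¹ * s⁻¹ = 1 := eq1_of_odd (h.oD m) (by
    rw [show a * s * a⁻¹ = a * s * a⁻¹ * s⁻¹ * s by simp] at e
    rwa [(cD h gen hs m).mul_mul_mul_comm, ss, mul_one] at e)
  exact commutatorElement_eq_one_iff_commute.1 this

theorem lift (sj : Function.Surjective f) {y : X} {k : ℕ} (e : y ^ 2 ^ k = 1) :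
    ∃ s : C1[d], (s : G) * s = 1 ∧ f s = y ^ Nat.card D := by
  obtain ⟨a, rfl⟩ := sj y
  refine ⟨a ^ Nat.card D, h.two _ k ?_, map_pow _ _ _⟩
  rw [coe_pow, ← pow_mul, mul_comm, pow_mul]
  exact congrArg Subtype.val (pow_card_eq_one' (x := (⟨_, hk ▸ (mem_kr' (pow_mem a.2 _)).2 (e ▸ map_pow f a _)⟩ : D)))

theorem jr0 (sj : Function.Surjective f) (big : 12 < Nat.card ↥(L ⊓ C1[d])) :
    JR0 (im f S) (f ⟨t, mem_cent1_comm.1 (h.Dt (gen ▸ mem_zpowers d))⟩) (im f (L ⊓ C1[d])) := by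
  have dD : d ∈ D := gen ▸ mem_zpowers d
  have SM : S ≤ C1[d] := le_normalizer.trans (h.NS dD)
  have tM := SM h.mem
  have one : ∀ {a} (ha : a ∈ C1[d]), f ⟨a, ha⟩ = 1 → a ∈ zpowers t ⊔ L → a = 1 := fun ha e m =>
    h.KD m (hk ▸ (mem_kr' ha).2 e)
  obtain ⟨j, hj⟩ := h.odd
  have lf : ∀ y : X, orderOf y = 2 → ∃ s, ∃ hs : s ∈ C1[d], orderOf s = 2 ∧ f ⟨s, hs⟩ = y := fun y o => by
    obtain ⟨s, e1, e2⟩ := lift h gen hk sj (k := 1) (y := y) (by rw [pow_one, sq, sq1 o])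
    rw [hj, pow_succ, pow_mul, sq, sq1 o, one_pow, one_mul] at e2
    exact ⟨s, s.2, ord2 e1 fun n => ne1 o (by rw [← e2, show s = 1 from Subtype.ext n, map_one]), e2⟩
  have le : im f (L ⊓ C1[d]) ≤ C1[f ⟨t, tM⟩] := fun y hy => by
    obtain ⟨l, hl, m, rfl⟩ := mem_im.1 hy
    exact mem_cent1.2 (by rw [← map_mul, ← map_mul]; exact congrArg f (Subtype.ext (mem_cent1.1 (h.le m.1))))
  have cent : C1[f ⟨t, tM⟩] = zpowers (f ⟨t, tM⟩) ⊔ im f (L ⊓ C1[d]) := by
    refine le_antisymm (fun y hy => ?_) (sup_le (zpowers_le.2 (self_mem_cent1 _)) le)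
    obtain ⟨⟨a, ha⟩, rfl⟩ := sj y
    have DM : D ≤ C1[d] := hk ▸ kr_le
    rw [← im_zpowers, ← im_sup (zpowers_le.2 tM) inf_le_right, mem_im_iff_mem_sup ha
      (sup_le (zpowers_le.2 tM) inf_le_right), hk]
    obtain ⟨l, hl, k, hk', rfl | rfl⟩ := h.dec (mem_cent1.2 (cm h gen hk ha tM h.tt (mem_cent1.1 hy)))
    · exact mul_mem (mem_sup_left (mem_sup_right ⟨hl, (mul_mem_cancel_right (DM hk')).1 ha⟩)) (mem_sup_right hk')
    · exact mul_mem (mem_sup_left (mem_sup_left (mem_zpowers t))) (mul_mem (mem_sup_left (mem_sup_right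
        ⟨hl, (mul_mem_cancel_right (DM hk')).1 ((mul_mem_cancel_left tM).1 ha)⟩)) (mem_sup_right hk'))
  refine ⟨im_dom_of_surj sj ▸ IsPiHallOf.im (syl_of_le h.syl SM le_top) le_rfl, ?_, h.ab.of_surj sj,
    ⟨fun y _ p => ?_, fun y _ y' _ o o' => ?_⟩, ord2 ?_ fun e => ne1 h.ord (one tM e (mem_sup_left (mem_zpowers t))),
    mem_im_of_mem tM h.mem, le, cent.le.trans (sup_le (le_norm_of_cent (le_cent_symm (by rw [cent_zpowers]; exact le))) le_normalizer),
    fun m => ?_, (nonempty_equiv_im inf_le_right (eq_bot_iff.2 fun a ha => h.KD (mem_sup_right ha.1.1)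
      (hk ▸ ha.2))).elim fun e => (l2o_cent h dD big).of_equiv e.symm, cent⟩
  · rw [card_im_of_inf_eq_bot SM (eq_bot_iff.2 fun a ha => eq1_of_odd (h.oD (hk ▸ ha.2)) (h.Ssq ha.1)), h.card]
  · obtain ⟨k, e⟩ := PG.exists_pow_eq_one p (mem_zpowers y)
    obtain ⟨s, e1, e2⟩ := lift h gen hk sj e
    refine mem_bot.1 (PG.mem_of_pow_mem_of_coprime_orderOf (m := Nat.card D) ?_ ?_)
    · rw [(Commute.refl y).mul_pow, ← e2, ← map_mul, show s * s = 1 from Subtype.ext e1, map_one]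
      exact one_mem _
    · exact ((Nat.coprime_two_left.2 h.odd).pow_left k).coprime_dvd_left (orderOf_dvd_of_pow_eq_one (by
        rw [(Commute.refl y).mul_pow, e, one_mul]))
  · obtain ⟨s, hs, os, rfl⟩ := lf y o
    obtain ⟨s', hs', os', rfl⟩ := lf y' o'
    obtain ⟨c, hc, e⟩ := h.fusM (h.NS dD) hs os
    obtain ⟨c', hc', e'⟩ := h.fusM (h.NS dD) hs' os'
    refine ⟨f (⟨c', hc'⟩⁻¹ * ⟨c, hc⟩), trivial, ?_⟩
    rw [← map_inv, ← map_mul, ← map_mul]
    refine congrArg f (Subtype.ext ?_)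
    change c'⁻¹ * c * s * (c'⁻¹ * c)⁻¹ = s'
    rw [show c'⁻¹ * c * s * (c'⁻¹ * c)⁻¹ = c'⁻¹ * (c * s * c⁻¹) * c' by group, e, ← e']
    group
  · rw [← map_mul, ← map_one f]
    exact congrArg f (Subtype.ext h.tt)
  · obtain ⟨l, hl, m, e⟩ := mem_im.1 m
    have := one (mul_mem (inv_mem tM) hl) (by
      change f (⟨t, tM⟩⁻¹ * ⟨l, hl⟩) = 1
      rw [map_mul, map_inv, e, inv_mul_cancel]) (mul_mem (mem_sup_left (inv_mem (mem_zpowers t))) (mem_sup_right m.1))
    exact h.nmem (inv_mul_eq_one.1 this ▸ m.1)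

end Cfsg.Agent.WA.DI

namespace Cfsg.Agent.WA

open Cfsg Subgroup Cfsg.Agent.GT Cfsg.Agent.GW DI

universe u

theorem pInv : PInv.{u} := by
  intro G _ _ _ S L D t d u g w x q Q H J big
  have h := H.toJR'
  have dD : d ∈ D := H.gen ▸ mem_zpowers d
  have NM := h.NS dD
  have SM : S ≤ C1[d] := le_normalizer.trans NM
  obtain ⟨X, _, _, f, sj, hk⟩ := exists_quo' C1[d] D (h.DD.trans (cent_le_cent1 dD))
    (le_norm_of_cent (by rw [H.gen, cent_zpowers]))
  have k := jr0 h H.gen hk sj (by omega)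
  have ext : ∀ {a b : C1[d]}, (a : G) = b → f a = f b := fun e => congrArg f (Subtype.ext e)
  have cm : ∀ {a b : C1[d]}, Commute (a : G) b → Commute (f a) (f b) := fun {a b} e =>
    Commute.map (show a * b = b * a from Subtype.ext e) f
  obtain ⟨y, Q1, k'⟩ := build k (u := f ⟨u, SM J.uS⟩) (g := f ⟨g, NM J.gS⟩) (w := f ⟨w, SM J.wS⟩)
    ⟨sq1 k.ord, ne1 k.ord, cm J.tu, by rw [← map_inv, ← map_mul, ← map_mul]; exact ext J.g1,
      by rw [← map_inv, ← map_mul, ← map_mul, ← map_mul]; exact ext J.g2⟩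
    (by rw [← map_pow, ← map_one f]; exact ext J.g3') (mem_im_of_mem _ ⟨J.uL, SM J.uS⟩) (mem_im_of_mem _ J.uS)
    (mem_im_of_mem _ J.wS) (fun e => J.wW (Set.mem_of_eq_of_mem
      (eq1_of_odd (h.oD (hk ▸ (mem_kr' _).2 e)) (h.Ssq J.wS)) (one_mem J.ψ.range))) (cm J.wg)
  have inf : L ⊓ C1[d] ⊓ kr f = ⊥ := eq_bot_iff.2 fun a ha => h.KD (mem_sup_right ha.1.1) (hk ▸ ha.2)
  obtain ⟨a, ha, m, rfl⟩ := mem_im.1 k'.xL
  have oa : Odd (orderOf a) := by
    have := orderOf_injective _ (imHom_injective inf_le_right inf) ⟨a, m⟩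
    rw [← orderOf_coe, ← orderOf_coe] at this
    exact this ▸ k'.odd
  refine ⟨a, ?_, mem_cent1.1 ha, fun c => ?_⟩
  · have WK : J.ψ.range ≤ zpowers t ⊔ L := fun e he => by
      rcases J.mem_U.1 he with rfl | rfl | rfl | rfl
      exacts [one_mem _, mem_sup_left (mem_zpowers _), mem_sup_right J.uL,
        mul_mem (mem_sup_left (mem_zpowers _)) (mem_sup_right J.uL)]
    have wt : Commute w t := (h.Sc J.wS t h.mem).symm
    have wu : Commute w u := (h.Sc J.wS u J.uS).symm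
    have wK := h.mem_K (mem_cent1.2 wt) ((Nat.coprime_two_left.2 h.odd).coprime_dvd_left
      (orderOf_dvd_of_pow_eq_one (sq w ▸ h.Ssq J.wS)))
    obtain ⟨e, he, z, hz, j, hj, n⟩ := J.cU a (mem_cent1.1 (h.le m.1)) (DI.cm h H.gen hk ha (SM J.uS) J.uu k'.xu)
    have eK := mul_mem (WK he) (mem_sup_right (zpowers_le.2 J.xL hz))
    have aK : a ∈ zpowers t ⊔ L := mem_sup_right m.1
    have ze : Commute z e := by
      obtain ⟨i, rfl⟩ := hz
      exact (J.toQ3.cU J.xt J.xu he).zpow_left i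
    rcases n with n | n
    · rw [h.KD ((mul_mem_cancel_left eK).1 (n ▸ aK)) hj, mul_one] at n
      refine PG.mem_of_sq_mem_of_odd oa ?_
      rw [n, ze.mul_mul_mul_comm, J.toQ3.sqU he, one_mul]
      exact mul_mem hz hz
    · rw [h.KD ((mul_mem_cancel_left eK).1 ((mul_mem_cancel_right wK).1 (n ▸ aK))) hj, mul_one] at n
      rw [eq1_of_odd oa]
      · exact one_mem _
      rw [n, show e * z * w * (e * z * w) = e * z * (w * e) * w⁻¹ * (w * z * w⁻¹) * (w * w) by group, inv_zp J.wx hz,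
        h.Ssq J.wS, (J.toQ3.cU wt wu he).eq, mul_assoc e z, ← mul_assoc z, ze.eq, ← mul_assoc, ← mul_assoc,
        J.toQ3.sqU he]
      group
  · have o := k'.ord
    have c' := k'.card
    have q3 := k'.q3
    rw [k'.jh2 (cm c), orderOf_one] at o
    rw [card_im_of_inf_eq_bot inf_le_right inf, show Q1.natAbs = 5 by omega] at c'
    omega

end Cfsg.Agent.WA
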