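import Cfsg.Agent.WA.DInv
import Cfsg.Agent.WA.DAll

/-! Groups of Janko-Ree type with field automorphisms: Sylow normalizers in `C(D) / D` of order 175560. -/

set_option autoImplicit false
set_option linter.unusedSectionVars false

namespace Cfsg.Agent.WA.DJ

open Cfsg Subgroup Cfsg.Agent.GT Cfsg.Agent.GW DI

universe u

variable {G : Type u} [Group G] [Finite G] {S L D : Subgroup G} {t s x y z c : G} {l p : ℕ}

theorem syl_ord (hp : p.Prime) (o : orderOf y = p) (n : ¬ p * p ∣ Nat.card G) : IsPiHallOf {p} (zpowers y) ⊤ :=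
  syl_mk hp le_top (isPGroup_of_card_eq_prime (by rw [Nat.card_zpowers, o])) fun d => n (by
    rw [← (zpowers y).card_mul_index, Nat.card_zpowers, o]; exact Nat.mul_dvd_mul_left p (by rwa [relIndex_top_right] at d))

theorem ev60 [IsSimpleGroup G] (nc : ¬ IsMulCommutative G) (cG : Nat.card G = 60) (hp : p = 3 ∨ p = 5)
    (o : orderOf y = p) : ∃ s : G, orderOf s = 2 ∧ s * y * s⁻¹ ∈ zpowers y := by
  have pp : p.Prime := by rcases hp with rfl | rfl <;> norm_num
  have := Fact.mk pp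
  obtain ⟨P, e⟩ := exists_sylow_of_syl_top pp (syl_ord pp o (by rcases hp with rfl | rfl <;> simp [cG]))
  have n := Cl.not_normalizer_le_centralizer nc (o ▸ orderOf_dvd_natCard y) P
  have d := PG.relIndex_cent_dvd_of_card_prime pp (by rw [Nat.card_zpowers, o] : Nat.card (zpowers y) = p) le_rfl
  have n1 : C[zpowers y].relIndex N[zpowers y] ≠ 1 := fun k => n (by
    have := relIndex_eq_one.1 k
    rwa [← e] at this)
  obtain ⟨s, hs, os⟩ := exists_mem_orderOf_eq (H := N[zpowers y]) Nat.prime_two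
    (Dvd.dvd.trans (b := C[zpowers y].relIndex N[zpowers y]) (by
      have d4 : C[zpowers y].relIndex N[zpowers y] ∣ 4 := d.trans (by rcases hp with rfl | rfl <;> decide)
      generalize C[zpowers y].relIndex N[zpowers y] = r at *
      have := Nat.le_of_dvd (by decide) d4
      interval_cases r <;> simp_all) (relIndex_dvd_card' _ _))
  exact ⟨s, os, conj_mem_of_mem_norm hs (mem_zpowers y)⟩

theorem lift1 (hl : l.Prime) {k : ℤ} (cy : Commute c y) (zc : Commute z c) (zy : Commute z (y ^ l))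
    (e : z * y * z⁻¹ = c * y ^ k) (nc : ¬ Commute z (z * y * z⁻¹ * y⁻¹)) :
    orderOf (z * y * z⁻¹ * y⁻¹) = l ∧ z * (z * y * z⁻¹ * y⁻¹) * z⁻¹ ∈ zpowers (z * y * z⁻¹ * y⁻¹) := by
  have := Fact.mk hl
  have ex : z * y * z⁻¹ * y⁻¹ = c * y ^ (k - 1) := by rw [e, zpow_sub_one, mul_assoc]
  refine ⟨orderOf_eq_prime ?_ fun e => nc (e ▸ Commute.one_right z), k, ?_⟩
  · rw [Commute.mul_pow (by rw [e]; exact (cy.mul_left (Commute.zpow_self y k)).inv_right), conj_pow, zy.eq,
      inv_pow]; group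
  simp only [ex]
  rw [show z * (c * y ^ (k - 1)) * z⁻¹ = z * c * z⁻¹ * (z * y * z⁻¹) ^ (k - 1) by rw [conj_zpow]; group,
    zc.eq, e, (cy.zpow_right _).mul_zpow, (cy.zpow_right _).mul_zpow, ← zpow_mul, ← zpow_mul,
    mul_comm k, mul_inv_cancel_right, ← mul_assoc, ← zpow_one_add, add_sub_cancel]

variable (h : JR0 S t L) (cL : Nat.card L = 60)
include h cL

theorem c120 (os : orderOf s = 2) : Nat.card C1[s] = 120 := by
  obtain ⟨g, -, rfl⟩ := h.el.one t trivial s trivial h.ord os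
  rw [← conj_cent1, card_conj, h.cent, sup_comm, PG.card_sup_zpowers Nat.prime_two (h.norm (self_mem_cent1 t))
    (by rw [sq, sq1 h.ord]; exact one_mem _) h.nmem, cL]

theorem no35 (cG : Nat.card G = 175560) (hl : l = 11 ∨ l = 19) (ox : orderOf x = l) (hp : p = 3 ∨ p = 5) :
    ¬ p ∣ Nat.card C1[x] := fun d => by
  have pp : p.Prime := by rcases hp with rfl | rfl <;> norm_num
  have pl : l.Prime := by rcases hl with rfl | rfl <;> norm_num
  obtain ⟨y, hy, oy⟩ := exists_mem_orderOf_eq pp d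
  obtain ⟨y', hy', oy'⟩ := exists_mem_orderOf_eq (H := L) pp (by rcases hp with rfl | rfl <;> simp [cL])
  obtain ⟨g, -, le⟩ := syl_exists_conj_le pp (syl_ord pp oy' (by rcases hp with rfl | rfl <;> simp [cG]))
    (isPGroup_of_card_eq_prime (by rw [Nat.card_zpowers, oy]) : IsPGroup p (zpowers y)) le_top
  have yL := zpowers_le.2 hy' (le (conj_mem_conj.2 (mem_zpowers y)))
  have xy : g * x * g⁻¹ ∈ C1[g * y * g⁻¹] := mem_cent1.2 ((TT.commute_conj_iff g).2 (mem_cent1.1 hy).symm).eq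
  rw [← GT.orderOf_conj g] at ox oy
  generalize g * x * g⁻¹ = x at *
  generalize g * y * g⁻¹ = y at *
  obtain ⟨Q, q8, -, -, cQ, -, sL, nc, cv, -⟩ := JS.facts h.l2
  obtain rfl : Q = 5 := by
    have := DA.mono (y := 5) (by norm_num) (cQ.symm.trans (by rw [cL]; rfl))
    omega
  have oy1 : orderOf (⟨y, yL⟩ : L) = p := by rwa [← orderOf_coe]
  obtain ⟨⟨s, sL⟩, os, sy⟩ := ev60 nc cL hp oy1
  replace os : orderOf s = 2 := by rwa [← orderOf_coe] at os
  have sn : s ∈ N[zpowers y] := norm_zp (sy.imp fun _ e => congrArg Subtype.val e)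
  have nv : ∀ v ∈ L, orderOf v = 2 → ¬ Commute y v := fun v hv ov c => by
    obtain ⟨T, d, -, cT, -⟩ := cv ⟨v, hv⟩ (by rwa [← orderOf_coe])
    have := orderOf_dvd_natCard _ (show (⟨y, yL⟩ : L) ∈ C1[(⟨v, hv⟩ : L)] from mem_cent1.2 (Subtype.ext c))
    rw [d.card, cT, oy1] at this
    rcases hp with rfl | rfl <;> simp at this
  have yt : t ∈ C1[y] := mem_cent1_comm.1 (h.le yL)
  have sy := syl_zp (DI.two h) h.ord yt fun v hv ov c => by_contra fun n => by
    have cy : Commute y v := (mem_cent1.1 hv).symm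
    rcases DI.dec h c with m | m
    · exact nv v m ov cy
    · exact nv _ m (ord2_mul h.ord ov n c) ((show Commute y t from mem_cent1.1 (h.le yL)).mul_right cy)
  have st : s * t = t * s := mem_cent1.1 (h.le sL)
  have ne : s ≠ t := fun e => h.nmem (e ▸ sL)
  have n : zpowers t ⊔ zpowers s ≤ N[O[C1[y]]] := (V_le (cent_le_norm _ (cent_zpowers y ▸ yt)) sn).trans
    ((norm_le_norm_cent _).trans (cent_zpowers y ▸ norm_le_norm_piCoreOf _ _))
  obtain ⟨Y, hY, nY⟩ := coprime_exists_syl pl (.inl (O_solv _)) n (cop2' (O_odd _) (V_pg h.ord os st))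
  have pY := syl_isPGroup pl hY
  have k : ∀ v : G, orderOf v = 2 → Y ⊓ C1[v] ≤ ⊥ := fun v ov => le_bot_iff.2 (by_contra fun ne => by
    have := Fact.mk pl
    have := (PG.dvd_card_of_ne_bot (pY.to_le inf_le_left) ne).trans (card_dvd_of_le inf_le_right)
    rw [c120 h cL ov] at this
    rcases hl with rfl | rfl <;> simp at this)
  have l2 : l ≠ 2 := by omega
  have := syl_card_dvd pl hY (isPGroup_of_card_eq_prime (by rw [Nat.card_zpowers, ox]) : IsPGroup l (zpowers x))
    (zpowers_le.2 (mem_O_of_odd sy xy (ox ▸ pl.odd_of_ne_two l2)))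
  rw [le_bot_iff.1 (gen3 h.ord os ne st (odd_p pl l2 pY) (nY (mem_sup_left (mem_zpowers t)))
    (nY (mem_sup_right (mem_zpowers s))) (k _ h.ord) (k _ os) (k _ (ord2_mul h.ord os ne st))), Nat.card_zpowers,
    ox, card_bot] at this
  exact pl.not_dvd_one this

theorem aut (cG : Nat.card G = 175560) (hl : l = 11 ∨ l = 19) :
    ∃ x z : G, orderOf x = l ∧ z ∈ N[zpowers x] ∧ ¬ Commute (z ^ 2) x := by
  have pl : l.Prime := by rcases hl with rfl | rfl <;> norm_num
  have := Fact.mk pl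
  obtain ⟨x, ox⟩ := exists_prime_orderOf_dvd_card' (G := G) l (by rcases hl with rfl | rfl <;> simp [cG])
  refine ⟨x, by_contra fun n => ?_⟩
  obtain ⟨P, e⟩ := exists_sylow_of_syl_top pl (syl_ord pl ox (by rcases hl with rfl | rfl <;> simp [cG]))
  have e4 := card_sylow_modEq_one l G
  rw [P.card_eq_index_normalizer] at e4
  change (N[(P : Subgroup G)]).index ≡ 1 [MOD l] at e4
  rw [e] at e4
  have e1 := card_mul_relIndex (cent_le_norm (zpowers x))
  have e2 := PG.relIndex_cent_dvd_of_card_prime pl (by rw [Nat.card_zpowers, ox] : Nat.card (zpowers x) = l) le_rfl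
  have e3 := (N[zpowers x]).card_mul_index
  have e5 := piNat_relIndex_of_forall_syl_le (π := {2}) (K := C[zpowers x]) (A := N[zpowers x])
    fun q hq q2 Q hQ z hz => PG.mem_of_pow_mem_of_coprime_orderOf (m := 2) (by_contra fun m => n
      ⟨z, ox, hQ.le hz, fun c => m (cent_zpowers x ▸ mem_cent1.2 c.eq)⟩)
      (Nat.coprime_two_right.2 (odd_ord (odd_p hq q2 (syl_isPGroup hq hQ)) hz))
  have r3 : ¬ 3 ∣ C[zpowers x].relIndex N[zpowers x] := fun d => by simpa using e5 3 (by norm_num) d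
  have r5 : ¬ 5 ∣ C[zpowers x].relIndex N[zpowers x] := fun d => by simpa using e5 5 (by norm_num) d
  have c2 : ¬ 2 ∣ Nat.card C1[x] := fun d => by
    obtain ⟨s, hs, os⟩ := exists_mem_orderOf_eq Nat.prime_two d
    have := orderOf_dvd_natCard _ (mem_cent1_comm.1 hs)
    rw [c120 h cL os, ox] at this
    rcases hl with rfl | rfl <;> simp at this
  have c3 := no35 h cL cG hl ox (.inl rfl)
  have c5 := no35 h cL cG hl ox (.inr rfl)
  have cl := orderOf_dvd_natCard _ (self_mem_cent1 x)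
  rw [← e1, cG, cent_zpowers] at e3
  rw [ox] at cl
  rw [cent_zpowers] at e2 r3 r5
  generalize (N[zpowers x]).index = m at *
  generalize (C1[x]).relIndex _ = r at *
  generalize Nat.card C1[x] = c at *
  have d : c ∈ Nat.divisors 1463 := Nat.mem_divisors.2 ⟨(Nat.Coprime.dvd_mul_left (m := 2 ^ 3 * (3 * 5))
    (Nat.Coprime.mul_right (Nat.Coprime.pow_right 3 ((Nat.Prime.coprime_iff_not_dvd (by norm_num)).2 c2).symm)
      (Nat.Coprime.mul_right ((Nat.Prime.coprime_iff_not_dvd (by norm_num)).2 c3).symm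
        ((Nat.Prime.coprime_iff_not_dvd (by norm_num)).2 c5).symm))).1 ⟨r * m, by linarith⟩, by simp⟩
  rw [show Nat.divisors 1463 = {1, 7, 11, 19, 77, 133, 209, 1463} by decide +kernel] at d
  simp only [Finset.mem_insert, Finset.mem_singleton] at d
  have r2 : r = 1 ∨ r = 2 := by
    rcases hl with rfl | rfl <;> have := Nat.le_of_dvd (by decide) e2 <;> interval_cases r <;> simp_all
  unfold Nat.ModEq at e4
  rcases hl with rfl | rfl <;> rcases r2 with rfl | rfl <;>
    rcases d with rfl | rfl | rfl | rfl | rfl | rfl | rfl | rfl <;> omega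

omit h cL in
theorem _root_.Cfsg.Agent.WA.pJ1 (idx : PIdx.{u}) : PJ1.{u} := by
  intro G _ _ _ S L D t d q l H c60 hl
  have h := H.toJR'
  have dD : d ∈ D := H.gen ▸ mem_zpowers d
  have DM : D ≤ C1[d] := h.DD.trans (cent_le_cent1 dD)
  obtain ⟨X, _, _, f, sj, hk⟩ := exists_quo' C1[d] D DM (le_norm_of_cent (by rw [H.gen, cent_zpowers]))
  have k := jr0 h H.gen hk sj (by omega)
  have inf : L ⊓ C1[d] ⊓ kr f = ⊥ := eq_bot_iff.2 fun a ha => h.KD (mem_sup_right ha.1.1) (hk ▸ ha.2)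
  have cX : Nat.card X = 175560 := by
    have e := DA.card_Ce h dD
    obtain ⟨-, i⟩ := (DA.ix (q := 5) (idx G S L D t d d q H dD H.ne) (by rw [c60]; rfl)).resolve_right fun ⟨m, e, _⟩ => by
      have : 3 ∣ 5 := e ▸ dvd_pow_self 3 (by omega)
      omega
    rw [c60, i, ← card_mul_relIndex DM] at e
    rw [← card_top, ← im_dom_of_surj sj, card_im le_rfl, hk]
    exact Nat.eq_of_mul_eq_mul_left Nat.card_pos (e.trans (by ring))
  obtain ⟨x, z, ox, zx, nc⟩ := aut k (by rw [card_im_of_inf_eq_bot inf_le_right inf, c60]) cX hl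
  have pl : l.Prime := by rcases hl with rfl | rfl <;> norm_num
  obtain ⟨y, rfl⟩ := sj x
  obtain ⟨w, rfl⟩ := sj z
  obtain ⟨j, hj⟩ := conj_mem_of_mem_norm (pow_mem zx 2) (mem_zpowers _)
  have cD : ∀ {a : C1[d]} (b : C1[d]), f a = 1 → Commute (b : G) a := fun {a} b e =>
    DI.cD h H.gen b.2 (hk ▸ (mem_kr' a.2).2 e)
  have e1 : f (w ^ 2 * y * (w ^ 2)⁻¹ * (y ^ j)⁻¹) = 1 := by simp only [map_mul, map_inv, map_pow, map_zpow, ← hj]; group
  have n : ¬ Commute ((w : G) ^ 2) (w ^ 2 * y * (w ^ 2)⁻¹ * (y : G)⁻¹) := fun c => nc (by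
    have c' := Commute.map (show w ^ 2 * (w ^ 2 * y * (w ^ 2)⁻¹ * y⁻¹) = _ * w ^ 2 from Subtype.ext c) f
    simp only [map_mul, map_inv, map_pow, ← hj] at c'
    by_cases e : f y ^ j * (f y)⁻¹ = 1
    · exact TT.commute_iff_conj.2 (hj.symm.trans (mul_inv_eq_one.1 e))
    · have m : f y ^ j * (f y)⁻¹ ∈ zpowers (f y) := mul_mem ⟨j, rfl⟩ (inv_mem (mem_zpowers _))
      have := Fact.mk pl
      refine commute_of_mem_zpowers_left ?_ c'.symm |>.symm
      rw [eq_of_le_of_card_ge (zpowers_le.2 m) (by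
        rw [Nat.card_zpowers, Nat.card_zpowers, ox, orderOf_eq_prime (orderOf_dvd_iff_pow_eq_one.1
          (ox ▸ orderOf_dvd_of_mem_zpowers m)) e])]
      exact mem_zpowers _)
  obtain ⟨a, b⟩ := lift1 pl (k := j) (cD y e1).symm (cD (w ^ 2) e1)
    (cD (a := y ^ l) (w ^ 2) (by rw [map_pow, ← ox, pow_orderOf_eq_one])) (by simp) n
  exact ⟨_, _, a, JH.odd_sq h.two w, mem_cent1.1 (w ^ 2 * y * (w ^ 2)⁻¹ * y⁻¹).2, mem_cent1.1 (w ^ 2).2, b, n⟩

end Cfsg.Agent.WA.DJ
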