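import Cfsg.Agent.WA.DB

/-! Groups of Janko-Ree type with field automorphisms: the local data exist. -/

set_option autoImplicit false
set_option linter.unusedSectionVars false

namespace Cfsg.Agent.WA.DJ

open Cfsg Subgroup Cfsg.Agent.GT Cfsg.Agent.Cls Cfsg.Agent.GW Cfsg.Agent.B84H JS

universe u

variable {G : Type u} [Group G] [Finite G] {S L D : Subgroup G} {t u g w c : G} (h : JR' S t L D)
include h

theorem dec2 (hc : Commute c t) (cc : c * c = 1) : c ∈ L ∨ t * c ∈ L :=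
  h.memK.1 (h.mem_K (mem_cent1.2 hc) ((Nat.coprime_two_left.2 h.odd).coprime_dvd_left
    (orderOf_dvd_of_pow_eq_one (sq c ▸ cc))))

theorem stL : ∃ (S A : Subgroup L) (t : L), St S A t :=
  st h.l2 fun s k e => Subtype.ext (h.two s k (congrArg Subtype.val e))

theorem cjL {a b : G} (ha : a ∈ L) (hb : b ∈ L) (oa : orderOf a = 2) (ob : orderOf b = 2) :
    ∃ c ∈ L, c * a * c⁻¹ = b := by
  obtain ⟨S', A, t', s⟩ := stL h
  obtain ⟨x, ea⟩ := s.one ⟨a, ha⟩ (by rwa [← orderOf_coe])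
  obtain ⟨y, eb⟩ := s.one ⟨b, hb⟩ (by rwa [← orderOf_coe])
  exact ⟨_, (y * x⁻¹).2, congrArg Subtype.val (show y * x⁻¹ * ⟨a, ha⟩ * (y * x⁻¹)⁻¹ = ⟨b, hb⟩ by
    rw [← ea, ← eb]; group)⟩

theorem build (cyc : IsCyclic D) (q : Q3 t u g) (g3 : g ^ 3 = 1) (gS : g ∈ N[S]) (uL : u ∈ L) (uS : u ∈ S)
    (wS : w ∈ S) (w1 : w ≠ 1) (wg : Commute w g) : ∃ x Q, JT S t u g w x L D Q := by
  obtain ⟨Q, q1, q2, q3, q4, -, -, -, q5, q6⟩ := facts h.l2
  have ou : orderOf (⟨u, uL⟩ : L) = 2 := by rw [← orderOf_coe]; exact ord2 q.uu q.u1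
  obtain ⟨T, d, uT, cT, nT⟩ := q5 _ ou
  obtain ⟨⟨x, xL⟩, x1, x2, x3, x4, x5⟩ := tor ou d uT (by omega) nT
  replace x1 : 2 * orderOf x = Nat.card T := (orderOf_coe (⟨x, xL⟩ : L)).symm ▸ x1
  have z : ∀ l : L, l ∈ zpowers (⟨x, xL⟩ : L) ↔ l.1 ∈ zpowers x := fun l =>
    ⟨fun ⟨k, e⟩ => ⟨k, congrArg Subtype.val e⟩, fun ⟨k, e⟩ => ⟨k, Subtype.ext e⟩⟩
  simp only [z, Subtype.forall, Commute, SemiconjBy, Subtype.ext_iff, ne_eq, coe_mul, coe_inv, coe_one] at x2 x3 x4 x5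
  have ox : Odd (orderOf x) := Nat.odd_iff.2 (by omega)
  have oV : ∀ {y}, y ∈ zpowers x → Odd (orderOf y) := fun m => ox.of_dvd_nat (orderOf_dvd_of_mem_zpowers m)
  have le : ∀ l ∈ L, Commute l t := fun l m => mem_cent1.1 (h.le m)
  have wt : Commute w t := (h.Sc wS t h.mem).symm
  have wu : Commute w u := (h.Sc wS u uS).symm
  have tW : t ∈ q.ψ.range := q.mem_U.2 (by simp)
  have uW : u ∈ q.ψ.range := q.mem_U.2 (by simp)
  have wW : w ∉ q.ψ.range := fun m => by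
    have := TT.commute_iff_conj.1 wg.symm
    rcases q.mem_U.1 m with e | e | e | e <;> rw [e] at this
    exacts [w1 e, q.ne (q.g1.symm.trans this), q.t1 (by simpa using q.g2.symm.trans this),
      q.u1 (by simpa using (q.g3.symm.trans this).symm)]
  have dec' : ∀ c, c ∈ L ∨ t * c ∈ L → ∃ e ∈ q.ψ.range, e * c ∈ L := fun c hc =>
    hc.elim (fun m => ⟨1, one_mem _, by rwa [one_mul]⟩) fun m => ⟨t, tW, m⟩
  have decD : ∀ c, Commute c t → ∃ k ∈ D, c * k⁻¹ ∈ L ∨ t * (c * k⁻¹) ∈ L := fun c hc => by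
    obtain ⟨l, hl, k, hk, rfl | rfl⟩ := h.dec (mem_cent1.2 hc)
    · exact ⟨k, hk, .inl (by rwa [mul_inv_cancel_right])⟩
    · exact ⟨k, hk, .inr (by rwa [mul_assoc t, GW.tt h.tt, mul_inv_cancel_right])⟩
  have DS : ∀ {k s}, k ∈ D → s ∈ S → Commute k s := fun hk hs => (h.DS hk _ hs).symm
  have P : ∀ {l}, l ∈ zpowers x ∨ u * l ∈ zpowers x → ∃ e ∈ q.ψ.range, e * l ∈ zpowers x := fun m =>
    m.elim (fun m => ⟨1, one_mem _, by rwa [one_mul]⟩) fun m => ⟨u, uW, m⟩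
  have cW : ∀ {c e}, Commute c t → Commute c u → e ∈ q.ψ.range → Commute (e * c) u := fun c1 c2 m =>
    (q.cU q.tu.symm rfl m).symm.mul_left c2
  obtain ⟨e0, he0, w0⟩ := dec' w (dec2 h wt (h.Ssq wS))
  have n0 : ¬ (e0 * w ∈ zpowers x ∨ u * (e0 * w) ∈ zpowers x) := fun m => by
    obtain ⟨e, he, m⟩ := P m
    rw [← mul_assoc] at m
    have := eq1_of_odd (oV m) (TT.mul_self_of_commute (q.sqU (mul_mem he he0)) (h.Ssq wS)
      (q.cU wt wu (mul_mem he he0)).symm)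
    exact wW ((mul_mem_cancel_left (mul_mem he he0)).1 (this ▸ one_mem _))
  have xW : ∀ {y e}, y ∈ zpowers x → e ∈ q.ψ.range → Commute y e := fun m m' => q.cU (zc (le x xL) m) (zc x2 m) m'
  have wx : w * x * w⁻¹ = x⁻¹ := by
    have := x4 _ w0 (cW wt wu he0) n0
    rwa [show e0 * w * x * (e0 * w)⁻¹ = e0 * (w * x * w⁻¹) * e0⁻¹ by group, mul_inv_eq_iff_eq_mul,
      (xW (inv_mem (mem_zpowers x)) he0).eq, mul_right_inj] at this
  have cU : ∀ c, c ∈ L ∨ t * c ∈ L → Commute c t → Commute c u →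
      ∃ e ∈ q.ψ.range, ∃ y ∈ zpowers x, c = e * y ∨ c = e * y * w := by
    intro c c0 c1 c2
    obtain ⟨e, he, m⟩ := dec' c c0
    by_cases n : e * c ∈ zpowers x ∨ u * (e * c) ∈ zpowers x
    · obtain ⟨e', he', k⟩ := P n
      exact ⟨_, inv_mem (mul_mem he' he), _, k, .inl (by group)⟩
    · obtain ⟨e', he', k⟩ := P (x3 _ m _ w0 (cW c1 c2 he) (cW wt wu he0) n n0)
      refine ⟨_, inv_mem (mul_mem (mul_mem he' he) he0), _, k, .inr ?_⟩
      rw [mul_assoc e, ← mul_assoc c, (q.cU c1 c2 he0).eq, ← TT.inv_of_sq (h.Ssq wS)]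
      nth_rewrite 1 [TT.inv_of_sq (h.Ssq wS)]
      group
  have oU : ∀ c ∈ L, Commute c u → Odd (orderOf c) → c ∈ zpowers x := fun c hc cu o => by
    obtain ⟨e, he, y, hy, n | n⟩ := cU c (.inl hc) (le c hc) cu
    · refine PG.mem_of_sq_mem_of_odd o ?_
      rw [n, mul_assoc, ← mul_assoc y, (xW hy he).eq, ← mul_assoc, ← mul_assoc, q.sqU he, one_mul]
      exact mul_mem hy hy
    · rw [eq1_of_odd o]
      · exact one_mem _
      rw [n, show e * y * w * (e * y * w) = e * y * (w * e) * w⁻¹ * (w * y * w⁻¹) * (w * w) by group, zi wx hy,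
        h.Ssq wS, (q.cU wt wu he).eq, mul_assoc e y, ← mul_assoc y, (xW hy he).eq, ← mul_assoc, ← mul_assoc, q.sqU he]
      group
  have Dx : D ≤ N[zpowers x] := fun k hk => norm_zp (oU _ (conj_mem_of_mem_norm (h.DL hk) xL)
    (((DS hk uS).mul_left x2).mul_left (DS hk uS).inv_left) (by rwa [GT.orderOf_conj]))
  refine ⟨x, Q, q, h, cyc, uS, wS, uL, xL, g3, gS, wg, wW, wx, ox, le x xL, x2, ?_, Dx, fun c c1 c2 => ?_,
    fun a ha a1 c hc m => ?_, fun s hs s2 s1 => cjL h uL hs (ord2 q.uu q.u1) (ord2 s2 s1), q1, q2, q3, by omega, q4⟩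
  · have o : Odd (orderOf (g * x * g⁻¹)) := by rwa [GT.orderOf_conj]
    refine oU _ (h.nr (g := w) (mem_cent1.2 (q.g3 ▸ (TT.commute_conj_iff g).2 ((le x xL).mul_right x2)).eq) o ?_).1
      (q.g1 ▸ (TT.commute_conj_iff g).2 (le x xL)) o
    rw [show w * (g * x * g⁻¹) * w⁻¹ = w * g * x * (w * g)⁻¹ by group, wg.eq,
      show g * w * x * (g * w)⁻¹ = g * (w * x * w⁻¹) * g⁻¹ by group, wx, conj_inv]
  · obtain ⟨k, hk, m⟩ := decD c c1
    obtain ⟨e, he, y, hy, n⟩ := cU _ m (c1.mul_left (DS hk h.mem).inv_left) (c2.mul_left (DS hk uS).inv_left)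
    refine ⟨e, he, y, hy, k, hk, n.imp (fun n => by rw [← n]; group) fun n => ?_⟩
    rw [mul_assoc _ k, (DS hk wS).eq, ← mul_assoc, ← n]; group
  · obtain ⟨k, hk, m0⟩ := decD c hc
    obtain ⟨e, he, l⟩ := dec' _ m0
    have ka := conj_mem_of_mem_norm (Dx hk) ha
    have := x5 _ (zpowers_le.2 xL ka) ka (cne a1 k) _ l (by
      rwa [show e * (c * k⁻¹) * (k * a * k⁻¹) * (e * (c * k⁻¹))⁻¹ = e * (c * a * c⁻¹) * e⁻¹ by group, ← (xW m he).eq,
        mul_inv_cancel_right])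
    have := (Commute.mul_left (q.cU q.tu.symm rfl (inv_mem he)).symm this).mul_left (DS hk uS)
    rwa [inv_mul_cancel_left, inv_mul_cancel_right] at this

theorem c4 : Nat.card ↥(L ⊓ S) = 4 := by
  have cV : Nat.card S = 2 * Nat.card ↥(L ⊓ S) := by
    rw [← card_inf_mul_relIndex L S, mul_comm, relIndex_eq_two_iff_exists_notMem_and.2 ⟨t, h.mem, h.nmem, fun b hb =>
      ((dec2 h (h.Sc hb t h.mem).symm (h.Ssq hb)).imp_right fun m => by rwa [← h.Sc hb t h.mem]).symm⟩]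
  have := h.card; omega

theorem exists_jt (cyc : IsCyclic D) : ∃ u g w x Q, JT S t u g w x L D Q := by
  have tt := h.tt
  have c4 := c4 h
  obtain ⟨a, ha, oa⟩ := exists_mem_orderOf_eq (H := L ⊓ S) Nat.prime_two (by rw [c4]; norm_num)
  obtain ⟨b, hb, ba, eV⟩ := PG.exists_eq_sup_zpowers_of_card_eq_mul Nat.prime_two (zpowers_le.2 ha)
    (by rw [c4, Nat.card_zpowers, oa])
  have eS := PG.eq_sup_zpowers_of_card_eq_mul Nat.prime_two inf_le_right (by rw [c4, h.card]) h.mem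
    fun m => h.nmem m.1
  obtain ⟨S', A, t', s⟩ := stL h
  obtain ⟨⟨k, kL⟩, k1, k2⟩ := s.cyc3' (u := ⟨a, ha.1⟩) (v := ⟨b, hb.1⟩) (by rwa [← orderOf_coe])
    (by rw [← orderOf_coe]; exact ord2 (h.Ssq hb.2) (by rintro rfl; exact ba (one_mem _)))
    (fun e => ba (by rw [show b = a from congrArg Subtype.val e]; exact mem_zpowers _)) (Subtype.ext (h.Sc ha.2 b hb.2))
  have q : Q3 a b k := ⟨sq1 oa, ne1 oa, h.Sc hb.2 a ha.2, congrArg Subtype.val k1, congrArg Subtype.val k2⟩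
  have kt : Commute k t := mem_cent1.1 (h.le kL)
  have r : ∀ y, k ^ 3 * y * (k ^ 3)⁻¹ = k * (k * (k * y * k⁻¹) * k⁻¹) * k⁻¹ := fun y => by rw [pow_three]; group
  have k3 : k ^ 3 ∈ S := by
    have : k ^ 3 ∈ S ⊔ D := by
      rw [← h.cS, mem_cent_iff, eS, eV]
      refine sup_le (sup_le ?_ ?_) ?_ <;> refine zpowers_le.2 (mem_cent1.2 (Commute.symm ?_))
      exacts [TT.commute_iff_conj.2 (by rw [r, q.g1, q.g2, q.g3]), TT.commute_iff_conj.2 (by rw [r, q.g2, q.g3, q.g1]),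
        kt.pow_left 3]
    obtain ⟨y, hy, d, hd, e⟩ := (mem_sup_of_le_norm' (le_norm_of_cent h.DS)).1 this
    rwa [e, h.KD ((mul_mem_cancel_left (h.memK.2 (dec2 h (h.Sc hy t h.mem).symm (h.Ssq hy)))).1
      (e ▸ mem_sup_right (pow_mem kL 3))) hd, mul_one]
  have kS : k ∈ N[S] := mem_normalizer_fintype (show S ≤ S.comap (MulAut.conj k).toMonoidHom by
    nth_rw 1 [eS, eV]
    refine sup_le (sup_le ?_ ?_) ?_ <;> refine zpowers_le.2 (show k * _ * k⁻¹ ∈ S from ?_)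
    exacts [q.g1 ▸ hb.2, q.g2 ▸ mul_mem ha.2 hb.2, by rw [kt.eq, mul_inv_cancel_right]; exact h.mem])
  have r4 : ∀ y ∈ S, k ^ 4 * y * (k ^ 4)⁻¹ = k * y * k⁻¹ := fun y hy => by
    rw [pow_succ', mul_assoc k, ← h.Sc k3 y hy]; group
  obtain ⟨n, hn, e⟩ := h.fus ha.2 (ne1 oa)
  have q' : Q3 t (n * b * n⁻¹) (n * k ^ 4 * n⁻¹) := ⟨tt, ne1 h.ord, e ▸ (TT.commute_conj_iff n).2 q.tu,
    by rw [← e, conj_inv, conj_mul, conj_mul, r4 a ha.2, q.g1],
    by rw [← e, conj_inv, conj_mul, conj_mul, conj_mul, r4 b hb.2, q.g2]⟩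
  have g3 : (n * k ^ 4 * n⁻¹) ^ 3 = 1 := by
    rw [conj_pow, ← pow_mul, show 4 * 3 = 3 * 2 * 2 from rfl, pow_mul, pow_mul, sq (k ^ 3), h.Ssq k3]; simp
  have gS := cj_mem hn (pow_mem kS 4)
  have wg : Commute (n * t * n⁻¹) (n * k ^ 4 * n⁻¹) := (TT.commute_conj_iff n).2 (kt.pow_left 4).symm
  have wS := conj_mem_of_mem_norm hn h.mem
  have w1 : n * t * n⁻¹ ≠ 1 := by simpa using ne1 h.ord
  have uS := conj_mem_of_mem_norm hn hb.2
  generalize n * b * n⁻¹ = u at *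
  generalize n * k ^ 4 * n⁻¹ = g at *
  rcases dec2 h q'.tu.symm q'.uu with m | m
  · exact ⟨_, _, _, build h cyc q' g3 gS m uS wS w1 wg⟩
  · exact ⟨_, g⁻¹, _, build h cyc ⟨tt, q'.t1, (Commute.refl t).mul_right q'.tu, by nth_rw 1 [← q'.g3]; group,
      by rw [GW.tt tt, ← q'.g2]; group⟩ (by rw [inv_pow, g3, inv_one]) (inv_mem gS) m (mul_mem h.mem uS) wS w1
      wg.inv_right⟩

omit h in
theorem _root_.Cfsg.Agent.WA.pJT : PJT.{u} := fun _ _ _ _ _ _ _ h c => exists_jt h c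

end Cfsg.Agent.WA.DJ
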