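import Cfsg.Agent.WA.DLoc2

/-! The local argument: the transfer, the cyclic case and subgroups. -/

set_option autoImplicit false
set_option linter.unusedSectionVars false

namespace Cfsg.Agent.WA.Loc

open Cfsg Subgroup Cfsg.Agent.GT

universe u

variable {G : Type u} [Group G] [Finite G] {l a b : ℕ} {M : Subgroup G} {d x z : G}

theorem tr (hl : l.Prime) (dl : d ^ l ^ (a + 1) = 1) (hd : d ∈ M) (ix : ¬ l ∣ M.index) (n : d ^ l ^ a ∉ ⁅M, M⁆)
    (fus : ∀ g, g⁻¹ * d * g ∈ M → ∃ m ∈ M, g⁻¹ * d * g = m⁻¹ * d * m) : d ^ l ^ a ∉ commutator G := fun hc => n (by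
  classical
  let f : M →* Abelianization M := Abelianization.of
  have := Fintype.ofFinite (Quotient (MulAction.orbitRel (zpowers d) (G ⧸ M)))
  have e0 : (f ⟨d, hd⟩ ^ l ^ a) ^ l = 1 := by
    rw [← pow_mul, ← pow_succ, ← map_pow, ← map_one f]; exact congrArg f (Subtype.ext dl)
  have h := Abelianization.commutator_subset_ker (MonoidHom.transfer f) hc
  rw [MonoidHom.mem_ker, map_pow, MonoidHom.transfer_eq_prod_quotient_orbitRel_zpowers_quot, ← Finset.prod_pow,
    Finset.prod_congr rfl (g := fun q => (f ⟨d, hd⟩ ^ l ^ a) ^ Function.minimalPeriod (d • ·) q.out) fun q _ => ?_,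
    Finset.prod_pow_eq_pow_sum, ← index_eq_sum_minimalPeriod] at h
  · have e1 : f (⟨d, hd⟩ ^ l ^ a) = 1 := by
      rw [map_pow, ← orderOf_eq_one_iff]
      exact Nat.eq_one_of_dvd_coprimes ((Nat.Prime.coprime_iff_not_dvd hl).2 ix) (orderOf_dvd_of_pow_eq_one e0)
        (orderOf_dvd_of_pow_eq_one h)
    have e2 : (⟨d, hd⟩ : M) ^ l ^ a ∈ commutator M := by rwa [← Abelianization.ker_of, MonoidHom.mem_ker]
    rw [← M.map_subtype_commutator]
    exact ⟨_, e2, rfl⟩
  · have m := QuotientGroup.out_conj_pow_minimalPeriod_mem M d q.out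
    have dv : Function.minimalPeriod (d • ·) q.out ∣ l ^ (a + 1) :=
      MulAction.pow_smul_eq_iff_minimalPeriod_dvd.1 (by rw [dl, one_smul])
    generalize_proofs p
    generalize Function.minimalPeriod (d • ·) q.out = k at *
    obtain ⟨i, -, rfl⟩ := (Nat.dvd_prime_pow hl).1 dv
    rcases i with _ | i
    · simp only [pow_zero, pow_one] at m ⊢
      obtain ⟨c, hc, e⟩ := fus _ m
      congr 1
      rw [show (⟨_, m⟩ : M) = (⟨c, hc⟩ : M)⁻¹ * ⟨d, hd⟩ * ⟨c, hc⟩ from Subtype.ext e, map_mul, map_mul, map_inv,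
        inv_mul_cancel_comm]
    · rw [show (f ⟨d, hd⟩ ^ l ^ a) ^ l ^ (i + 1) = 1 by rw [pow_succ' l, pow_mul, e0, one_pow], ← map_pow, ← map_one f]
      refine congrArg f (Subtype.ext ?_)
      have := conj_pow (i := l ^ a) (a := (q.out.out : G)⁻¹) (b := d ^ l ^ (i + 1))
      rw [inv_inv, ← pow_mul, show l ^ (i + 1) * l ^ a = l ^ (a + 1) * l ^ i by ring, pow_mul, dl, one_pow, mul_one,
        inv_mul_cancel] at this
      exact this)

theorem H0.base (h : H0 l a d) (n : ¬ l ^ (a + 2) ∣ Nat.card C1[d]) : d ^ l ^ a ∉ commutator G := by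
  have le : zpowers d ≤ C1[d] := zpowers_le.2 (self_mem_cent1 d)
  have s := syl_top_of_norm_le h.pr (syl_mk h.pr le h.pd fun e => n (by
    rw [← card_mul_relIndex le, Nat.card_zpowers, h.od, pow_succ l (a + 1)]; exact mul_dvd_mul_left _ e))
    fun g hg => mem_cent1.2 (TT.commute_iff_conj.2 (h.f1 d (mem_zpowers d) g
      ((mem_normalizer_iff.1 hg d).1 (mem_zpowers d))))
  refine tr h.pr h.dl (mem_zpowers d) (relIndex_top_right (zpowers d) ▸ syl_not_dvd h.pr s) (fun e => h.d0 ?_)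
    fun g hg => ⟨1, one_mem _, ?_⟩
  · rwa [commutator_eq_bot_iff_le_centralizer.2 fun y hy => mem_centralizer_iff.2 fun w hw =>
      (B84H.zc (B84H.zc (Commute.refl d) hy).symm hw).eq, mem_bot] at e
  · have := h.f1 d (mem_zpowers d) g⁻¹ (by rwa [inv_inv])
    rw [inv_inv] at this
    rw [this, inv_one, one_mul, mul_one]

theorem H0.sub (h : H0 l a d) (M : Subgroup G) (hd : d ∈ M) : H0 l a (⟨d, hd⟩ : M) := by
  have z : ∀ {y e : M}, y ∈ zpowers e → (y : G) ∈ zpowers (e : G) := by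
    rintro _ e ⟨k, rfl⟩; exact ⟨k, rfl⟩
  refine ⟨h.pr, h.l2, (orderOf_mk d hd).trans h.od, fun e => h.syl (e.trans ?_),
    fun e he g m => Subtype.ext (h.f1 e (z he) g (z m))⟩
  rw [← card_map_of_injective (f := M.subtype) M.subtype_injective]
  refine card_dvd_of_le ?_
  rintro _ ⟨y, hy, rfl⟩
  exact mem_cent1.2 (congrArg Subtype.val (mem_cent1.1 hy))

theorem H1.sub (h : H1 l a d x z b) (M : Subgroup G) (hd : d ∈ M) (hx : x ∈ M) (hz : z ∈ M) :
    H1 l a (⟨d, hd⟩ : M) ⟨x, hx⟩ ⟨z, hz⟩ b :=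
  ⟨h.toH0.sub M hd, Subtype.ext h.xl, fun ⟨k, e⟩ => h.xn ⟨k, congrArg Subtype.val e⟩, Subtype.ext h.xd.eq,
    Subtype.ext h.zd.eq, Subtype.ext h.zx, h.ob, h.b1⟩

end Cfsg.Agent.WA.Loc
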