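import Cfsg.Agent.WA.DLoc2

/-! The local argument: `N⟨x⟩` contains a Sylow subgroup and controls the fusion of `d`. -/

set_option autoImplicit false
set_option linter.unusedSectionVars false

namespace Cfsg.Agent.WA.Loc

open Cfsg Subgroup Cfsg.Agent.GT

universe u

variable {G : Type u} [Group G] [Finite G] {l a b : ℕ} {T U P : Subgroup G} {d x z c e y g p q v w δ : G}

theorem line2 (hl : l.Prime) (pl : p ^ l = 1) (ql : q ^ l = 1) (qp : Commute q p) (hc : c ∈ zpowers p ⊔ zpowers q)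
    (c1 : c ≠ 1) (vc : Commute v c) (vp : Commute v p) (vq : ¬ Commute v q) : p ∈ zpowers c := by
  obtain ⟨i, j, rfl⟩ := (mem2 qp).1 hc
  have h1 : q ^ j ∈ C1[v] :=
    (mul_mem_cancel_left (mem_cent1.2 (vp.pow_right i).symm)).1 (mem_cent1.2 vc.symm)
  rcases mem_or hl ql h1 with e | e
  · exact (vq (show Commute q v from mem_cent1.1 e).symm).elim
  have e' : q ^ j = 1 := by rw [pow_zm ql (j := 0) (by simpa using e), pow_zero]
  rw [e', mul_one] at c1 ⊢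
  exact (mem_or hl pl (mem_zpowers _)).resolve_right fun e =>
    c1 (by rw [pow_zm pl (j := 0) (by simpa using e), pow_zero])

theorem tr_pow (wδ : Commute w δ) (e : w * x * w⁻¹ = δ * x) (n : ℕ) : w ^ n * x * (w ^ n)⁻¹ = δ ^ n * x := by
  induction n with
  | zero => simp
  | succ n ih => rw [pow_succ' w, show w * w ^ n * x * (w * w ^ n)⁻¹ = w * (w ^ n * x * (w ^ n)⁻¹) * w⁻¹ by group, ih,
      ← conj_mul, e, TT.commute_iff_conj.1 (wδ.pow_right n), pow_succ, mul_assoc]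

theorem lpart (hl : l.Prime) (δl : δ ^ l = 1) (δ1 : δ ≠ 1) (wδ : Commute w δ) (e : w * x * w⁻¹ = δ * x) :
    ∃ m k : ℕ, (w ^ m) ^ l ^ k = 1 ∧ ¬ Commute (w ^ m) x := by
  obtain ⟨k, m, hm, o⟩ := Nat.exists_eq_pow_mul_and_not_dvd (orderOf_pos w).ne' l hl.ne_one
  refine ⟨m, k, by rw [← pow_mul, mul_comm, ← o, pow_orderOf_eq_one], fun c => ?_⟩
  have := tr_pow wδ e m
  rw [TT.commute_iff_conj.1 c] at this
  exact δ1 (eq_one_zm hl δl (i := m) (j := 0) (by simpa using this.symm)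
    (by rw [Nat.cast_zero]; exact fun e => hm ((ZMod.natCast_eq_zero_iff m l).1 e)))

theorem ex_el (hl : l.Prime) (hU : IsPGroup l U) (n : U ≠ ⊥) : ∃ c ∈ U, c ≠ 1 ∧ c ^ l = 1 := by
  obtain ⟨c, hc, o⟩ := exists_mem_orderOf_eq hl (prime_dvd_card_of_isPGroup hl hU n)
  exact ⟨c, hc, fun e => hl.ne_one (by rw [← o, e, orderOf_one]), o ▸ pow_orderOf_eq_one c⟩

theorem cent2 (hp : Commute v p) (hq : Commute v q) : v ∈ C[zpowers p ⊔ zpowers q] := by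
  rw [cent_sup, cent_zpowers, cent_zpowers]
  exact ⟨mem_cent1.2 hp, mem_cent1.2 hq⟩

theorem cent2' (h : v ∈ C[zpowers p ⊔ zpowers q]) : Commute v p ∧ Commute v q := by
  rw [cent_sup, cent_zpowers, cent_zpowers] at h
  exact ⟨mem_cent1.1 h.1, mem_cent1.1 h.2⟩

theorem H1.nOm (h : H1 l a d x z b) (hT : IsPGroup l T) (hd : d ∈ T) (hx : x ∈ T)
    (hc : T ≤ C[zpowers (d ^ l ^ a) ⊔ zpowers x]) (hv : v ∈ N[T]) : v ∈ N[zpowers (d ^ l ^ a) ⊔ zpowers x] :=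
  mem_normalizer_fintype fun y hy => by
    have y1 : y ∈ T := sup_le (zpowers_le.2 (pow_mem hd _)) (zpowers_le.2 hx) hy
    have y2 : v * y * v⁻¹ ∈ C[T] := conj_mem_of_mem_norm (norm_le_norm_cent T hv) (le_cent_symm hc hy)
    exact h.om (h.S hT hd hx (conj_mem_of_mem_norm hv y1) (mem_cent1.1 (cent_le_cent1 hd y2)))
      (by rw [conj_pow, h.oml hy]; simp)

theorem H1.heis (h : H1 l a d x z b) (vP : v ∈ N[zpowers d ⊔ zpowers x]) (v0 : Commute v (d ^ l ^ a))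
    (hδ : δ ∈ zpowers (d ^ l ^ a)) (δ1 : δ ≠ 1) (e : v * x * v⁻¹ = δ * x) : False := by
  haveI := Fact.mk h.pr
  have dd : zpowers (d ^ l ^ a) ≤ zpowers d := zpowers_le.2 (pow_mem (mem_zpowers d) _)
  have pw : ∀ ε ∈ zpowers (d ^ l ^ a), ε ^ l = 1 := fun ε hε => h.oml (mem_sup_left hε)
  have cv : ∀ ε ∈ zpowers (d ^ l ^ a), Commute v ε := fun ε hε => (B84H.zc v0.symm hε).symm
  have cz : ∀ ε ∈ zpowers (d ^ l ^ a), Commute z ε := fun ε hε => (B84H.zc h.zd.symm (dd hε)).symm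
  have cx : ∀ ε ∈ zpowers (d ^ l ^ a), Commute x ε := fun ε hε => (B84H.zc h.xd.symm (dd hε)).symm
  have cd : ∀ ε ∈ zpowers (d ^ l ^ a), Commute d ε := fun ε hε => (B84H.zc (Commute.refl d) (dd hε)).symm
  obtain ⟨k, i, e1⟩ := (mem2 h.xd).1 (conj_mem_of_mem_norm vP (mem_sup_left (mem_zpowers d)))
  have e2 : v * d ^ l * v⁻¹ = (d ^ l) ^ k := by
    rw [← conj_pow, e1, (h.xd.symm.pow_pow k i).mul_pow, ← pow_mul x, mul_comm i, pow_mul x, h.xl, one_pow, mul_one,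
      ← pow_mul, mul_comm, pow_mul]
  have e3 := h.f1 _ (pow_mem (mem_zpowers d) l) v (e2 ▸ pow_mem (mem_zpowers _) k)
  obtain ⟨ε, hε, e4⟩ : ∃ ε ∈ zpowers (d ^ l ^ a), v * d * v⁻¹ = ε * d * x ^ i := by
    obtain ⟨j, hj⟩ := mem_zp.1 (mul_mem (pow_mem (mem_zpowers d) k) (inv_mem (mem_zpowers d)))
    refine ⟨d ^ j, h.toH0.om ?_, by rw [← hj, e1]; group⟩
    rw [← hj, ((Commute.refl d).pow_left k).inv_right.mul_pow, ← pow_mul, mul_comm k, pow_mul, ← e2, e3, inv_pow,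
      mul_inv_cancel]
  have k1 : ∀ n : ℕ, ∃ ε ∈ zpowers (d ^ l ^ a), v ^ n * d * (v ^ n)⁻¹ = ε * d * x ^ (i * n) := fun n => by
    induction n with
    | zero => exact ⟨1, one_mem _, by simp⟩
    | succ n ih =>
      obtain ⟨η, hη, ih⟩ := ih
      refine ⟨η * ε * δ ^ (i * n), mul_mem (mul_mem hη hε) (pow_mem hδ _), ?_⟩
      rw [pow_succ' v, show v * v ^ n * d * (v * v ^ n)⁻¹ = v * (v ^ n * d * (v ^ n)⁻¹) * v⁻¹ by group, ih,
        ← conj_mul, ← conj_mul, ← conj_pow, e, e4, TT.commute_iff_conj.1 (cv η hη), (cx δ hδ).symm.mul_pow,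
        mul_add, mul_one, add_comm, pow_add, mul_assoc (η * ε) _ d, ← ((cd δ hδ).pow_right _).eq]
      simp only [mul_assoc]
      rw [← mul_assoc (x ^ i), ((cx δ hδ).pow_pow _ _).eq, mul_assoc]
  obtain ⟨η, hη, k2⟩ := k1 b
  have zd : z⁻¹ * d * z = d := by rw [h.zd.inv_left.eq]; group
  have k3 : z * v * z⁻¹ * d * (z * v * z⁻¹)⁻¹ = ε * η⁻¹ * (η * d * x ^ (i * b)) := by
    rw [show z * v * z⁻¹ * d * (z * v * z⁻¹)⁻¹ = z * (v * (z⁻¹ * d * z) * v⁻¹) * z⁻¹ by group, zd, e4, ← conj_mul,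
      ← conj_mul, ← conj_pow, h.zx, TT.commute_iff_conj.1 (cz ε hε), TT.commute_iff_conj.1 h.zd, ← pow_mul, mul_comm b]
    group
  have cb : ∀ ε ∈ zpowers (d ^ l ^ a), (v ^ b)⁻¹ * ε * v ^ b = ε := fun ε hε => by
    rw [((cv ε hε).pow_left b).inv_left.eq]; group
  set w := (v ^ b)⁻¹ * (z * v * z⁻¹) with hw
  have k4 : w * d * w⁻¹ = ε * η⁻¹ * d := by
    rw [show w * d * w⁻¹ = (v ^ b)⁻¹ * (z * v * z⁻¹ * d * (z * v * z⁻¹)⁻¹) * v ^ b by rw [hw]; group, k3, ← k2]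
    nth_rw 2 [← cb _ (mul_mem hε (inv_mem hη))]
    group
  have wd : Commute w d := TT.commute_iff_conj.2 (h.f1 d (mem_zpowers d) w
    (k4 ▸ mul_mem (dd (mul_mem hε (inv_mem hη))) (mem_zpowers d)))
  have k5 : v ^ b * x ^ b * (v ^ b)⁻¹ = δ ^ (b * b) * x ^ b := by
    rw [← conj_pow, tr_pow (cv δ hδ) e, ((cx δ hδ).symm.pow_left b).mul_pow, pow_mul]
  have k6 : w * x ^ b * w⁻¹ = δ * (δ ^ (b * b))⁻¹ * x ^ b := by
    have : z * v * z⁻¹ * x ^ b * (z * v * z⁻¹)⁻¹ = δ * (δ ^ (b * b))⁻¹ * (δ ^ (b * b) * x ^ b) := by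
      rw [← h.zx, show z * v * z⁻¹ * (z * x * z⁻¹) * (z * v * z⁻¹)⁻¹ = z * (v * x * v⁻¹) * z⁻¹ by group, e, ← conj_mul,
        TT.commute_iff_conj.1 (cz δ hδ)]
      group
    rw [show w * x ^ b * w⁻¹ = (v ^ b)⁻¹ * (z * v * z⁻¹ * x ^ b * (z * v * z⁻¹)⁻¹) * v ^ b by rw [hw]; group, this, ← k5]
    nth_rw 2 [← cb _ (mul_mem hδ (inv_mem (pow_mem hδ _)))]
    group
  have m6 := mul_mem hδ (inv_mem (pow_mem hδ (b * b)))
  obtain ⟨m, s, ml, mc⟩ := lpart h.pr (pw _ m6) (fun e => δ1 (eq_one_zm h.pr (pw δ hδ) (i := 1) (j := b * b)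
    (by rw [pow_one]; exact mul_inv_eq_one.1 e) fun e => h.bb (by rw [sq]; simpa using e.symm)))
    (B84H.zc wd.symm (dd m6)).symm k6
  have zP : z ∈ N[zpowers d ⊔ zpowers x] := zpowers_le.1 (le_norm_sup
    (zpowers_le.2 (norm_zp (by rw [TT.commute_iff_conj.1 h.zd]; exact mem_zpowers d)))
    (zpowers_le.2 (norm_zp (h.zx ▸ pow_mem (mem_zpowers x) b))))
  have := le_syl_of_le_norm h.pr (h.sy h.xl h.xn h.xd) (pg_zp ml) (zpowers_le.2 (mem_cent1.2 (wd.pow_left m)))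
    (zpowers_le.2 (pow_mem (mul_mem (inv_mem (pow_mem vP b)) (mul_mem (mul_mem zP vP) (inv_mem zP))) m)) (mem_zpowers _)
  exact mc (comm2 h.xd (h.xd.pow_left b) ((Commute.refl x).pow_left b) this).symm

/-- the conclusion of the matrix lemma -/
def PM (l a : ℕ) (d x : G) : Prop :=
  ∀ g ∈ N[zpowers (d ^ l ^ a) ⊔ zpowers x], g * d ^ l ^ a * g⁻¹ * (d ^ l ^ a)⁻¹ ∈ zpowers x

theorem H1.dich (h : H1 l a d x z b) (M : PM l a d x) (hg : g ∈ N[zpowers (d ^ l ^ a) ⊔ zpowers x])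
    (ng : g * x * g⁻¹ ∉ zpowers x) (hv : v ∈ N[zpowers (d ^ l ^ a) ⊔ zpowers x]) : Commute v (d ^ l ^ a) := by
  obtain ⟨k, hk⟩ := mem_zp.1 (M v hv)
  have h1 := M _ (mul_mem hg hv)
  rw [show g * v * d ^ l ^ a * (g * v)⁻¹ * (d ^ l ^ a)⁻¹ = g * (v * d ^ l ^ a * v⁻¹ * (d ^ l ^ a)⁻¹) * g⁻¹ *
    (g * d ^ l ^ a * g⁻¹ * (d ^ l ^ a)⁻¹) by group, mul_mem_cancel_right (M g hg), hk, ← conj_pow] at h1
  have e := (mem_or h.pr (by rw [conj_pow, h.xl]; simp) h1).resolve_left ng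
  rw [pow_zm h.xl (j := 0) (by simpa using e), pow_zero, mul_inv_eq_one] at hk
  exact TT.commute_iff_conj.2 hk

theorem H1.zOm (h : H1 l a d x z b) : z ∈ N[zpowers (d ^ l ^ a) ⊔ zpowers x] := zpowers_le.1 (le_norm_sup
  (zpowers_le.2 (norm_zp (by rw [TT.commute_iff_conj.1 (h.zd.pow_right _)]; exact mem_zpowers _)))
  (zpowers_le.2 (norm_zp (h.zx ▸ pow_mem (mem_zpowers x) b))))

theorem H1.PO (h : H1 l a d x z b) : zpowers d ⊔ zpowers x ≤ C[zpowers (d ^ l ^ a) ⊔ zpowers x] :=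
  sup_le (zpowers_le.2 (cent2 ((Commute.refl d).pow_right _) h.xd.symm))
    (zpowers_le.2 (cent2 (h.xd.pow_right _) (Commute.refl x)))

theorem H1.unip (h : H1 l a d x z b) {k : ℕ} (vl : v ^ l ^ k = 1) (v0 : Commute v (d ^ l ^ a))
    (hv : v * x * v⁻¹ ∈ zpowers (d ^ l ^ a) ⊔ zpowers x) : v * x * v⁻¹ * x⁻¹ ∈ zpowers (d ^ l ^ a) := by
  haveI := Fact.mk h.pr
  obtain ⟨j, i, e⟩ := (mem2 (h.xd.pow_right _)).1 hv
  have key : ∀ n : ℕ, ∃ ε ∈ zpowers (d ^ l ^ a), v ^ n * x * (v ^ n)⁻¹ = ε * x ^ i ^ n := fun n => by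
    induction n with
    | zero => exact ⟨1, one_mem _, by simp⟩
    | succ n ih =>
      obtain ⟨η, hη, ih⟩ := ih
      refine ⟨η * ((d ^ l ^ a) ^ j) ^ i ^ n, mul_mem hη (pow_mem (pow_mem (mem_zpowers _) j) _), ?_⟩
      rw [pow_succ' v, show v * v ^ n * x * (v * v ^ n)⁻¹ = v * (v ^ n * x * (v ^ n)⁻¹) * v⁻¹ by group, ih,
        ← conj_mul, ← conj_pow, e, TT.commute_iff_conj.1 (B84H.zc v0.symm hη).symm,
        ((h.xd.symm.pow_left _).pow_pow j i).mul_pow, ← pow_mul x, pow_succ' i, mul_assoc]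
  obtain ⟨η, hη, e2⟩ := key (l ^ k)
  rw [vl, pow_zm h.xl (j := i) (by rw [Nat.cast_pow, ZMod.pow_card_pow]), one_mul, inv_one, mul_one] at e2
  rw [e, show (d ^ l ^ a) ^ j * x ^ i * x⁻¹ = (d ^ l ^ a) ^ j * η⁻¹ * (η * x ^ i) * x⁻¹ by group, ← e2,
    mul_inv_cancel_right]
  exact mul_mem (pow_mem (mem_zpowers _) j) (inv_mem hη)

theorem H1.pa (h : H1 l a d x z b) (M : PM l a d x) (n : d ^ l ^ a ∉ ⁅N[zpowers x], N[zpowers x]⁆)
    (hg : g ∈ N[zpowers (d ^ l ^ a) ⊔ zpowers x]) : g * x * g⁻¹ ∈ zpowers x := by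
  by_contra ng
  have B := fun v hv => h.dich M hg ng (v := v) hv
  obtain ⟨j, i, e⟩ := (mem2 (h.xd.pow_right _)).1 (conj_mem_of_mem_norm hg (mem_sup_right (mem_zpowers x)))
  set d0 := d ^ l ^ a with hd0
  have j0 : (j : ZMod l) ≠ 0 := fun e0 => ng (by
    rw [e, pow_zm h.d0l (j := 0) (by simpa using e0), pow_zero, one_mul]; exact pow_mem (mem_zpowers x) i)
  have xd : Commute x d0 := h.xd.pow_right _
  have hw : (g * z)⁻¹ * (z * g) ∈ N[zpowers d0 ⊔ zpowers x] := mul_mem (inv_mem (mul_mem hg h.zOm)) (mul_mem h.zOm hg)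
  have m : d0 ^ j * (d0 ^ (j * b))⁻¹ ∈ zpowers d0 :=
    mul_mem (pow_mem (mem_zpowers _) _) (inv_mem (pow_mem (mem_zpowers _) _))
  have e1 : (g * z)⁻¹ * (z * g) * x * ((g * z)⁻¹ * (z * g))⁻¹ = d0 ^ j * (d0 ^ (j * b))⁻¹ * x := by
    have a1 : z * (g * x * g⁻¹) * z⁻¹ = d0 ^ j * (d0 ^ (j * b))⁻¹ * (g * (z * x * z⁻¹) * g⁻¹) := by
      rw [h.zx, ← conj_pow, e, ← conj_mul, TT.commute_iff_conj.1 ((B z h.zOm).pow_right j), ← conj_pow, h.zx,
        (xd.symm.pow_pow j i).mul_pow, ← pow_mul, ← pow_mul, ← pow_mul, mul_comm b]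
      group
    have a2 := TT.commute_iff_conj.1 (B84H.zc (B _ (inv_mem (mul_mem hg h.zOm))).symm m).symm
    rw [show (g * z)⁻¹ * (z * g) * x * ((g * z)⁻¹ * (z * g))⁻¹ = (g * z)⁻¹ * (z * (g * x * g⁻¹) * z⁻¹) * (g * z) by group,
      a1]
    nth_rw 2 [← a2]
    group
  obtain ⟨s, k, wl, wc⟩ := lpart h.pr (h.oml (mem_sup_left m)) (fun e => h.d0 (eq_one_zm h.pr h.d0l
    (mul_inv_eq_one.1 e) fun e => h.b1 (by
      haveI := Fact.mk h.pr
      exact mul_left_cancel₀ j0 (by simpa using e.symm)))) (B84H.zc (B _ hw).symm m).symm e1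
  set w := ((g * z)⁻¹ * (z * g)) ^ s
  have hw : w ∈ N[zpowers d0 ⊔ zpowers x] := pow_mem hw s
  obtain ⟨S, hS, PS⟩ := exists_syl_ge h.pr h.pP (h.PO.trans (cent_le_norm _))
  obtain ⟨m, hm, mS⟩ := syl_exists_conj_le h.pr hS (pg_zp wl) (zpowers_le.2 hw)
  have vS : m * w * m⁻¹ ∈ S := mS (conj_mem_conj.2 (mem_zpowers w))
  have vx : ¬ Commute (m * w * m⁻¹) x := fun c => wc (by
    have := conj_mem_of_mem_norm (norm_le_norm_cent _ (inv_mem hm)) (cent2 (B _ (syl_le hS vS)) c)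
    exact (cent2' (by simpa [mul_assoc] using this)).2)
  generalize m * w * m⁻¹ = v at vS vx
  have pS := syl_isPGroup h.pr hS
  have dS : d ∈ S := PS (mem_sup_left (mem_zpowers d))
  have xS : x ∈ S := PS (mem_sup_right (mem_zpowers x))
  have ST : S ≤ N[S ⊓ C[zpowers d0 ⊔ zpowers x]] := le_norm_inf le_normalizer (le_norm_cent (syl_le hS))
  set T := S ⊓ C[zpowers d0 ⊔ zpowers x] with hT
  have TS : ⁅T, T⁆ ≤ S := (commutator_le_of_le_norm_left le_normalizer).trans inf_le_left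
  have TM : T ≤ N[zpowers x] := fun t ht => norm_zp (by rw [TT.commute_iff_conj.1 (cent2' ht.2).2]; exact mem_zpowers x)
  by_cases ab : ⁅T, T⁆ = ⊥
  · have TP : T = zpowers d ⊔ zpowers x := le_antisymm (fun t ht => h.S pS dS xS ht.1 (mem_cent1.1 (cent_le_cent1
      (H := T) ⟨dS, h.PO (mem_sup_left (mem_zpowers d))⟩ (le_cent_iff_commutator_eq_bot.2 ab ht)))) (le_inf PS h.PO)
    obtain ⟨r, hr⟩ := pg_el pS vS
    exact h.heis (TP ▸ ST vS) (B v (syl_le hS vS)) (h.unip hr (B v (syl_le hS vS))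
      (conj_mem_of_mem_norm (syl_le hS vS) (mem_sup_right (mem_zpowers x))))
      (fun e => vx (TT.commute_iff_conj.2 (mul_inv_eq_one.1 e))) (by group)
  · obtain ⟨c, hc, c1, cl⟩ := ex_el h.pr (pS.to_le (inf_le_left.trans TS))
      (inf_cent_ne_bot_of_isPGroup h.pr (pS.to_le TS) pS (le_norm_commutator ST ST) ab)
    exact n (commutator_mono TM TM (zpowers_le.2 hc.1 (line2 h.pr h.d0l h.xl xd
      (h.om (h.S pS dS xS (TS hc.1) (mem_cent1.1 (cent_le_cent1 dS hc.2))) cl) c1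
      (show Commute c v from mem_cent1.1 (cent_le_cent1 vS hc.2)).symm (B v (syl_le hS vS)) vx)))

/-- the conclusion of `H1.pa` -/
def PA (l a : ℕ) (d x : G) : Prop := ∀ g ∈ N[zpowers (d ^ l ^ a) ⊔ zpowers x], g * x * g⁻¹ ∈ zpowers x

theorem H1.I (h : H1 l a d x z b) (A : PA l a d x) (hP : IsPGroup l P) (hd : d ∈ P) (hx : x ∈ P) : P ≤ C1[x] := by
  by_cases e : P ⊓ C[zpowers (d ^ l ^ a) ⊔ zpowers x] = P
  · exact fun t ht => mem_cent1.2 (cent2' (e.ge ht).2).2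
  obtain ⟨v, hv, nv⟩ := SetLike.exists_of_lt (lt_inf_norm_of_isPGroup h.pr hP (lt_of_le_of_ne inf_le_left e))
  obtain ⟨r, hr⟩ := pg_el hP hv.1
  have vx := comm_of_norm h.pr h.xl hr (A v (h.nOm hP.to_inf_left ⟨hd, h.PO (mem_sup_left (mem_zpowers d))⟩
    ⟨hx, h.PO (mem_sup_right (mem_zpowers x))⟩ inf_le_right hv.2))
  obtain ⟨c, hc, c1, cl⟩ := ex_el h.pr hP.to_inf_left (inf_cent_ne_bot_of_isPGroup h.pr hP hP le_normalizer
    fun e => h.x1 (mem_bot.1 (e ▸ hx)))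
  exact mem_cent_iff_le_cent1.1 (zpowers_le.2 hc.2 (line2 h.pr h.xl h.d0l (h.xd.symm.pow_left _)
    (sup_comm (α := Subgroup G) _ _ ▸ h.om (h.S hP hd hx hc.1 (mem_cent1.1 (cent_le_cent1 hd hc.2))) cl) c1
    (show Commute c v from mem_cent1.1 (cent_le_cent1 hv.1 hc.2)).symm vx fun c => nv ⟨hv.1, cent2 c vx⟩))

theorem c1_le_nzp : C1[x] ≤ N[zpowers x] := cent_zpowers x ▸ cent_le_norm _

theorem H1.idx (h : H1 l a d x z b) (A : PA l a d x) : ¬ l ∣ N[zpowers x].index := fun e => by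
  obtain ⟨P, hP, PP⟩ := exists_syl_ge h.pr h.pP le_top
  refine syl_not_dvd h.pr hP (e.trans ?_)
  rw [relIndex_top_right]
  exact index_dvd_of_le ((h.I A (syl_isPGroup h.pr hP) (PP (mem_sup_left (mem_zpowers d)))
    (PP (mem_sup_right (mem_zpowers x)))).trans c1_le_nzp)

theorem H1.fus (h : H1 l a d x z b) (A : PA l a d x) (hg : g⁻¹ * d * g ∈ N[zpowers x]) :
    ∃ m ∈ N[zpowers x], g⁻¹ * d * g = m⁻¹ * d * m := by
  have c1 := comm_of_norm h.pr h.xl (g := g⁻¹ * d * g) (k := a + 1)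
    (by have := conj_pow (a := g⁻¹) (b := d) (i := l ^ (a + 1)); rw [inv_inv] at this; rw [this, h.dl]; simp)
    (conj_mem_of_mem_norm hg (mem_zpowers x))
  have c2 : Commute (g * x * g⁻¹) d := by
    have := c1.symm.map (MulAut.conj g)
    simpa [mul_assoc] using this
  have l1 : ∀ g : G, (g * x * g⁻¹) ^ l = 1 := fun g => by rw [conj_pow, h.xl]; simp
  obtain ⟨c, hc, e⟩ := syl_exists_conj h.pr (h.sy (l1 g) h.nconj c2) (h.sy h.xl h.xn h.xd)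
  have m1 : c * g * x * (c * g)⁻¹ ∈ zpowers d ⊔ zpowers x := by
    rw [e, show c * g * x * (c * g)⁻¹ = c * (g * x * g⁻¹) * c⁻¹ by group]
    exact conj_mem_conj.2 (mem_sup_right (mem_zpowers _))
  refine ⟨c * g, norm_zp ?_, ?_⟩
  swap
  · rw [show (c * g)⁻¹ * d * (c * g) = g⁻¹ * c⁻¹ * (d * c) * g by group, ← mem_cent1.1 hc]
    group
  generalize c * g = k at m1
  obtain ⟨P, hP, PP⟩ := exists_syl_ge h.pr h.pP (M := C1[k * x * k⁻¹]) (mem_cent_iff_le_cent1.1 (cent2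
    (comm2 h.xd (Commute.refl d) h.xd.symm m1).symm (comm2 h.xd h.xd (Commute.refl x) m1).symm))
  have pP := syl_isPGroup h.pr hP
  have dP := PP (mem_sup_left (mem_zpowers d))
  have xP := PP (mem_sup_right (mem_zpowers x))
  have Px := h.I A pP dP xP
  obtain ⟨c, hc, e⟩ := syl_exists_conj h.pr (syl_of_card_le h.pr hP (pP.map _)
    (conj_cent1 k x ▸ conj_mono k Px) (card_conj k P).ge) hP
  rw [← mul_conj, eq_comm, conj_eq_self_iff] at e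
  obtain ⟨j, i, e1⟩ := (mem2 (h.xd.pow_right _)).1 (h.om m1 (l1 k))
  have m2 : (d ^ l ^ a) ^ j ∈ C[P] := (mul_mem_cancel_right (pow_mem (mem_cent_iff_le_cent1.2 Px) i)).1
    (e1 ▸ mem_cent_iff_le_cent1.2 (syl_le hP))
  rcases mem_or h.pr h.d0l m2 with m3 | m3
  · have := A _ (h.nOm pP dP xP (le_cent_symm (sup_le (zpowers_le.2 m3) (zpowers_le.2 (mem_cent_iff_le_cent1.2 Px)))) e)
    rwa [show c * k * x * (c * k)⁻¹ = c * (k * x * k⁻¹) * c⁻¹ by group, mem_cent1.1 hc, mul_inv_cancel_right] at this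
  · rw [e1, pow_zm h.d0l (j := 0) (by simpa using m3), pow_zero, one_mul]
    exact pow_mem (mem_zpowers x) i

end Cfsg.Agent.WA.Loc
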