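import Cfsg.Agent.WA.DLoc3
import Cfsg.Agent.WA.DLoc5
import Cfsg.Agent.WA.DLoc6

/-! The local argument: the induction. -/

set_option autoImplicit false
set_option linter.unusedSectionVars false

namespace Cfsg.Agent.WA.Loc

open Cfsg Subgroup Cfsg.Agent.GT

universe u

/-- the quotient step -/
def PQ : Prop := ∀ (G : Type u) [Group G] [Finite G] (l a b : ℕ) (d x z : G), H1 l a d x z b → ∀ [(zpowers x).Normal],
  H0 l a (d : G ⧸ zpowers x) ∧
    (¬ l ^ (a + 2) ∣ Nat.card C1[(d : G ⧸ zpowers x)] ∨ ∃ x' z', H1 l a (d : G ⧸ zpowers x) x' z' b)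

theorem ind (quo : PQ.{u}) {l a b : ℕ} (n : ℕ) : ∀ (G : Type u) [Group G] [Finite G] (d x z : G), Nat.card G = n →
    H1 l a d x z b → d ^ l ^ a ∉ _root_.commutator G := by
  induction n using Nat.strong_induction_on with
  | _ n ih =>
  intro G _ _ d x z hn h
  by_cases e : N[zpowers x] = ⊤
  · haveI : (zpowers x).Normal := normalizer_eq_top_iff.1 e
    obtain ⟨h0, alt⟩ := quo G l a b d x z h
    have key : (d : G ⧸ zpowers x) ^ l ^ a ∉ _root_.commutator (G ⧸ zpowers x) := by
      rcases alt with alt | ⟨x', z', h'⟩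
      · exact h0.base alt
      · refine ih _ ?_ _ _ x' z' rfl h'
        rw [← hn, card_eq_card_quotient_mul_card_subgroup (zpowers x), Nat.card_zpowers, h.ox]
        exact lt_mul_of_one_lt_right Nat.card_pos h.pr.one_lt
    intro m
    refine key ?_
    have := mem_map_of_mem (QuotientGroup.mk' (zpowers x)) m
    rw [_root_.commutator_def, map_commutator] at this
    exact commutator_mono le_top le_top this
  · have dM : d ∈ N[zpowers x] := zp_norm h.xd (mem_zpowers d)
    have k := ih _ (hn ▸ card_lt_of_ne_top e) _ _ _ _ rfl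
      (h.sub N[zpowers x] dM (le_normalizer (mem_zpowers x)) (norm_zp (h.zx ▸ pow_mem (mem_zpowers x) b)))
    have k2 : d ^ l ^ a ∉ ⁅N[zpowers x], N[zpowers x]⁆ := fun m => k (by
      rw [← map_subtype_commutator] at m
      obtain ⟨y, hy, e⟩ := m
      exact (show y = ⟨d, dM⟩ ^ l ^ a from Subtype.ext e) ▸ hy)
    have A : PA l a d x := fun g hg => h.pa (fun g hg => h.M hg) k2 hg
    exact tr h.pr h.dl dM (h.idx A) k2 fun g hg => h.fus A hg

theorem pLoc_of (quo : PQ.{u}) : PLoc.{u} := fun G _ _ _ l d x z h => by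
  haveI := Fact.mk h.pr
  obtain ⟨k, hk⟩ := h.pd.exists_card_eq
  rw [Nat.card_zpowers] at hk
  obtain ⟨a, rfl⟩ : ∃ a, k = a + 1 := Nat.exists_eq_succ_of_ne_zero fun e => h.d1 (orderOf_eq_one_iff.1 (by
    rw [hk, e, pow_zero]))
  obtain ⟨b, hb⟩ := mem_zp.1 h.zx
  have xl : x ^ l = 1 := h.ox ▸ pow_orderOf_eq_one x
  have key : ∀ m : ℕ, z ^ m * x * (z ^ m)⁻¹ = x ^ b ^ m := fun m => by
    induction m with
    | zero => simp
    | succ m ih => rw [pow_succ' z, show z * z ^ m * x * (z * z ^ m)⁻¹ = z * (z ^ m * x * (z ^ m)⁻¹) * z⁻¹ by group, ih,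
        ← conj_pow, hb, ← pow_mul, pow_succ']
  have h1 : H1 l a d x z b := ⟨⟨h.pr, fun e => absurd h.five (by omega), hk, fun e => h.syl (by
      rwa [hk, ← pow_add, add_comm 2]), fun e he g m => h.f1 e he g (zpowers_le.2 he m)⟩, xl,
    fun m => h.nc (B84H.zc h.zd.symm m).symm, h.xd, h.zd, hb, ⟨orderOf z, h.oz, by
      by_contra ne
      have := key (orderOf z)
      rw [pow_orderOf_eq_one, one_mul, inv_one, mul_one] at this
      exact h.nc ((eq_one_zm h.pr xl (i := b ^ orderOf z) (j := 1) (by rw [← this, pow_one]) (by simpa using ne)) ▸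
        Commute.one_right z)⟩,
    fun e => h.nc (TT.commute_iff_conj.2 (by rw [hb, pow_zm xl (j := 1) (by simpa using e), pow_one]))⟩
  refine ind quo _ G d x z rfl h1 ?_
  rcases IsSimpleGroup.eq_bot_or_eq_top_of_normal (_root_.commutator G) inferInstance with e | e
  · refine (h.nc (commutatorElement_eq_one_iff_commute.1 (mem_bot.1 (e ▸ ?_)))).elim
    exact commutator_mem_commutator (mem_top z) (mem_top x)
  · exact e ▸ mem_top _

end Cfsg.Agent.WA.Loc
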