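import Cfsg.Agent.WA.DLoc4
import Cfsg.Agent.WA.DLoc7

/-! The local argument. -/

set_option autoImplicit false

namespace Cfsg.Agent.WA

universe u

theorem pLoc : PLoc.{u} := Loc.pLoc_of fun _ _ _ _ _ _ _ _ _ h _ => h.quo

end Cfsg.Agent.WA
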