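import Cfsg.Agent.WA.DNB1
import Cfsg.Agent.BG.S03g

/-! Groups of Janko-Ree type, `q = 3 ^ n`: the Sylow 3-subgroup. -/

set_option autoImplicit false
set_option linter.unusedSectionVars false
set_option linter.unusedVariables false

namespace Cfsg.Agent.WA

open Cfsg Subgroup Cfsg.Agent.GT Cfsg.Agent.GW
open scoped commutatorElement

universe u

variable {G : Type u} [Group G] [Finite G] {S L D U T V X Y Z P H K M R : Subgroup G}
  {t u a c s v x y : G} {q : ℕ} {π : Set ℕ}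

/-- `t` centralizes `Y / O_{3',3}(Y)`. -/
theorem nb_top (oY : Odd (Nat.card Y)) (t2 : orderOf t = 2) (tY : t ∈ N[Y]) (hy : y ∈ Y)
    (py : (orderOf y).Prime) (y3 : orderOf y ≠ 3) (cy : C1[y] ≤ C1[t]) (hK : piCoreOf {3}ᶜ Y ⊓ C1[t] = ⊥)
    (hV : IsPiHallOf {3} V (piCore2Of {3}ᶜ {3} Y)) (yV : y ∈ N[V]) (cV : V ⊓ C1[y] = ⊥) :
    Y ≤ piCore2Of {3}ᶜ {3} Y ⊔ (Y ⊓ C1[t]) := by
  have sY := solv_odd oY
  have MY := piCore2Of_le {3}ᶜ {3} Y
  have nM := self_le_norm_piCore2Of {3}ᶜ {3} Y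
  have tM : zpowers t ≤ N[piCore2Of {3}ᶜ {3} Y] := le_norm_piCore2Of (zp_norm tY)
  have eM := piCoreOf_sup_eq_piCore2Of hV
  have con := inf_cent_le_piCore2Of sY hV
  have pV := syl_isPGroup Nat.prime_three hV
  have cz : Nat.card (zpowers y) = orderOf y := Nat.card_zpowers y
  have c3 : ∀ {n : ℕ}, ¬ 3 ∣ n → (Nat.card V).Coprime n := fun h =>
    PiNat.coprime hV.isPi ((piNat_single_compl_iff Nat.prime_three).2 h)
  have n3 : ¬ 3 ∣ orderOf y := fun e => y3 ((Nat.prime_dvd_prime_iff_eq Nat.prime_three py).1 e).symm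
  have cM : (Nat.card (piCore2Of {3}ᶜ {3} Y)).Coprime (orderOf y) := by
    refine Nat.Coprime.coprime_dvd_left (eM ▸ card_sup_dvd (.inr ((hV.le.trans MY).trans
      (self_le_norm_piCoreOf _ _)))) (Nat.Coprime.mul_left ?_ (c3 n3))
    refine cz ▸ BG.semiregular_coprime (fun x hx x1 => eq_bot_iff.2 (hK ▸ inf_le_inf_left _ ?_))
      (zp_norm (self_le_norm_piCoreOf _ _ hy))
    rw [← cent_eq_cent1_of_card_prime (cz ▸ py) hx x1, cent_zpowers]
    exact cy
  obtain ⟨Q, _, _, f, -, hk⟩ := exists_quo' (Y ⊔ zpowers t) _ (MY.trans le_sup_left) (sup_le nM tM)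
  have yD : y ∈ Y ⊔ zpowers t := mem_sup_left hy
  have tD : t ∈ Y ⊔ zpowers t := mem_sup_right (mem_zpowers t)
  have b3 : piCoreOf {3} (im f Y) = ⊥ := piCoreOf_im_eq_bot_of_coreMod le_sup_left
    (piCoreOf_le _ _) (self_le_norm_piCoreOf _ _) hk
  generalize piCore2Of {3}ᶜ {3} Y = M at *
  have k1 : im f Y ⊓ C1[f ⟨y, yD⟩] ≤ C[im f (zpowers t)] := by
    rw [← im_inf_cent1_of_coprime le_sup_left yD (le_normalizer hy) (by
      rwa [hk, inf_eq_right.2 MY])]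
    exact im_cent (cent_zpowers t ▸ inf_le_right.trans cy)
  have pt : IsPGroup 2 (im f (zpowers t)) := isPGroup_im (pg2 t2)
  have nt : im f (zpowers t) ≤ N[im f Y] := im_norm (zp_norm tY)
  have k2 : im f (zpowers t) ≤ C[im f Y] := by
    refine coprime_le_cent_of_le_cent_fittingOf (solvable_im sY) nt (cop2' (odd_im oY) pt)
      (fittingOf_le_cent_of_forall fun r hr => ?_)
    have OY := piCoreOf_le {r} (im f Y)
    have nO := self_le_norm_piCoreOf {r} (im f Y)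
    have pO := piCoreOf_isPGroup hr (im f Y)
    have yY : im f (zpowers y) ≤ im f Y := im_mono (zpowers_le.2 hy)
    by_cases r0 : r = orderOf y
    · refine thompson_AxB_pgroup hr pO (B := im f (zpowers y)) (isPGroup_im
        (isPGroup_of_card_eq_prime (cz.trans r0.symm))) (PiNat.mono (isPi_of_isPGroup
          Nat.prime_two pt) ?_) (le_norm_piCoreOf nt) (yY.trans nO) (im_cent (le_cent_symm
            (cent_zpowers t ▸ zpowers_le.2 (cy (self_mem_cent1 y))))) ?_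
      · rintro _ rfl e
        exact (odd_ord oY hy).not_two_dvd_nat (r0 ▸ e ▸ dvd_rfl)
      · rw [im_zpowers yD, cent_zpowers]
        exact (inf_le_inf_right _ OY).trans k1
    by_cases r3 : r = 3
    · rw [r3, b3, cent_bot]; exact le_top
    refine le_cent_symm (le_trans (le_inf OY ?_) k1)
    generalize piCoreOf {r} (im f Y) = O at *
    have WD : Y ⊓ pre f O ≤ Y ⊔ zpowers t := inf_le_left.trans le_sup_left
    have iW : im f (Y ⊓ pre f O) = O := by rw [im_inf_pre, inf_eq_right.2 OY]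
    have MW : M ≤ Y ⊓ pre f O := le_inf MY (hk ▸ kr_le_pre)
    have nW : zpowers y ≤ N[Y ⊓ pre f O ⊓ N[V]] := le_norm_inf (le_norm_inf (zp_norm
      (le_normalizer hy)) (le_norm_pre (zpowers_le.2 yD) (yY.trans nO))) (le_norm_norm (zp_norm yV))
    have cr : ∀ {G : Type u} [Group G] [Finite G] {X : Subgroup G} {p : ℕ}, IsPGroup r X → p.Prime →
        r ≠ p → (Nat.card X).Coprime p := fun h hp ne => PiNat.coprime (isPi_of_isPGroup hr h)
      ((piNat_prime hp).2 fun e => ne (Set.mem_singleton_iff.1 e).symm)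
    obtain ⟨R, hR, nR⟩ := coprime_exists_syl hr (.inl (solv_of_le sY (inf_le_left.trans inf_le_left)))
      nW (cz ▸ Nat.Coprime.coprime_dvd_left (card_dvd_of_le inf_le_left) (by
        rw [card_eq_card_kr_mul WD (hk ▸ MW), hk, iW]
        exact Nat.Coprime.mul_left cM (cr pO py r0)))
    have pR := syl_isPGroup hr hR
    have RY : R ≤ Y := hR.le.trans (inf_le_left.trans inf_le_left)
    have c1 := BG.cent1_aux' _ rfl nR (cz ▸ cr pR py r0) (odd_card_of_le oY RY)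
      (cz ▸ odd_ord oY hy) (cz ▸ py) (sup_le (hR.le.trans inf_le_right) (zp_norm yV))
      (c3 fun e => ((Nat.Prime.dvd_mul Nat.prime_three).1 (e.trans (card_sup_dvd (.inr nR)))).elim
        (Nat.prime_three.coprime_iff_not_dvd.1 (cr pR Nat.prime_three r3).symm) (cz ▸ n3))
      (solvable_of_isPGroup Nat.prime_three pV) (cent_zpowers y ▸ cV)
    have c2 : im f R ≤ C[im f (zpowers y)] := (im_le_cent_iff (RY.trans le_sup_left)
      (zpowers_le.2 yD)).2 (hk ▸ (le_inf ((commutator_mono RY (zpowers_le.2 hy)).trans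
        (commutator_le_of_le_norm_left le_normalizer)) c1).trans con)
    have e1 : im f (Y ⊓ pre f O ⊓ N[V]) = O := by
      rw [← im_kr_sup (inf_le_left.trans WD), hk,
        frattini_arg Nat.prime_three hV MW (inf_le_left.trans nM), iW]
    have e2 := hR.im (f := f) (inf_le_left.trans WD)
    rw [e1] at e2
    rw [syl_eq_of_le hr e2 pO le_rfl e2.le, ← cent_zpowers, ← im_zpowers yD]
    exact c2
  have := (im_le_cent_iff le_sup_left le_sup_right).1 (le_cent_symm k2)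
  rw [hk] at this
  rw [← cent_zpowers]
  exact (coprime_sup_cent_of_commutator_le (.inl (solv_of_le sY MY)) tM
    (cop2 (odd_card_of_le oY MY) t2) MY this).ge

/-- a Sylow subgroup normalized by `t` is unique. -/
theorem nb_uniq (t2 : orderOf t = 2) (oK : Odd (Nat.card K)) (tK : t ∈ N[K]) (hK : K ⊓ C1[t] = ⊥)
    (nK : R ≤ N[K]) (hR : IsPiHallOf {3} R (K ⊔ R)) (tR : t ∈ N[R]) (ha : a ∈ N[K ⊔ R])
    (at' : a ∈ C1[t]) : a ∈ N[R] := by
  obtain ⟨g, hg, e⟩ := syl_exists_conj Nat.prime_three hR (hR.conj_of_mem_norm ha)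
  obtain ⟨k, hk, r, hr, rfl⟩ := (mem_sup_of_le_norm' nK).1 hg
  rw [mul_conj, conj_eq_self_of_mem hr] at e
  obtain ⟨c, hc, e'⟩ := coprime_exists_cent_conj (.inl (solv_odd oK)) (zp_norm tK) (cop2 oK t2) hk
    (zp_norm tR) (by
      rw [← e, ← conj_normalizer, ← conj_eq_self_of_mem_cent (cent_zpowers t ▸ at' : a ∈ C[zpowers t])]
      exact conj_mono a (zp_norm tR))
  rw [cent_zpowers, hK, mem_bot] at hc
  rw [← conj_eq_self_iff, e, e', hc, one_conj]

theorem pNB : PNB.{u} := fun G _ _ S L D U T t u y q h hy py cy => by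
  have t2 := h.jr.ord
  have p3 := Nat.prime_three
  obtain ⟨P, ⟨pP, UP, tP, TP, DP⟩, -, mx⟩ := exists_maximal_ge (S := {P : Subgroup G | IsPGroup 3 P ∧
    U ≤ P ∧ t ∈ N[P] ∧ T ≤ N[P] ∧ D ≤ N[P]}) (H := U) ⟨h.pU, le_rfl,
      cent_le_norm _ (mem_cent_iff.2 h.Ut), h.TU, h.DU⟩
  have ct : P ⊓ C1[t] = U := le_antisymm (h.v1 (pP.to_le inf_le_left) (le_inf UP h.Ut) inf_le_right
    (le_norm_inf TP (le_norm_self h.Tt))) (le_inf UP h.Ut)
  refine ⟨P, pP, UP, tP, TP, DP, ct, ?_⟩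
  have cD := isMulCommutative_of_isCyclic h.cyc
  have cmp := nil_isComplIn_piCoreOf (nilpotent_of_comm' cD) {3}
  have pE := piCoreOf_isPi {3} D
  have pF := piCoreOf_isPi {3}ᶜ D
  have ED := piCoreOf_le {3} D
  have FD := piCoreOf_le {3}ᶜ D
  generalize piCoreOf {3} D = E at *
  generalize piCoreOf {3}ᶜ D = F at *
  have p1 : IsPiSubgroup {3} (P ⊔ E) := (isPi_of_isPGroup p3 pP).sup pE (.inr (ED.trans DP))
  have g1 : IsPGroup 3 ↥(P ⊔ E) := syl_isPGroup p3 (isPiHallOf_self p1)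
  have p2 : IsPiSubgroup {3}ᶜ (T ⊔ F) := (pi3'.2 h.T3).sup pF (.inr (FD.trans h.DT))
  have nP : T ⊔ D ≤ N[P] := sup_le TP DP
  have TDt : T ⊔ D ≤ C1[t] := sup_le h.Tt h.jr.Dt
  have dec : ∀ m ∈ P ⊔ (T ⊔ D), ∃ a ∈ P ⊔ E, ∃ b ∈ T ⊔ F, m = a * b := fun m hm => by
    obtain ⟨p, hp, w, hw, rfl⟩ := (mem_sup_of_le_norm' nP).1 hm
    obtain ⟨z, hz, d, hd, rfl⟩ := (mem_sup_of_le_norm' h.DT).1 hw
    obtain ⟨e, he, k, hk, rfl⟩ := cmp.exists_mul hd
    exact ⟨p * e, mul_mem_sup hp he, e⁻¹ * z * e * k, mul_mem_sup (conj_mem_of_le_norm' h.DT (ED he) hz)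
      hk, by group⟩
  have l1 : P ⊔ E ≤ P ⊔ (T ⊔ D) := sup_le_sup_left (ED.trans le_sup_right) _
  have l2 : T ⊔ F ≤ P ⊔ (T ⊔ D) := (sup_le_sup_left FD _).trans le_sup_right
  have oX : Odd (Nat.card ↥(P ⊔ (T ⊔ D))) :=
    odd_sup (odd3 pP) (odd_sup h.oT h.jr.odd (.inr h.DT)) (.inr nP)
  have tt : zpowers t ≤ C[T ⊔ D] := zpowers_le.2 (mem_cent_iff.2 TDt)
  have tX : zpowers t ≤ N[P ⊔ (T ⊔ D)] := le_norm_sup (zp_norm tP) (le_norm_of_cent tt)
  have kill : ∀ N : Subgroup G, IsPiSubgroup {3}ᶜ N → Odd (Nat.card N) → N ≤ C1[t] → N ≤ N[U] →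
      U ≤ N[N] → N = ⊥ := fun N a o b c d =>
    have cp := PiNat.coprime' a (isPi_of_isPGroup p3 h.pU)
    eq_bot_of_le_of_coprime le_rfl (h.cu b o (le_cent_of_norm_of_coprime c d cp)) cp
  have b0 : piCoreOf {3}ᶜ (P ⊔ (T ⊔ D)) = ⊥ := by
    have a := piCoreOf_isPi {3}ᶜ (P ⊔ (T ⊔ D))
    have l := piCoreOf_le {3}ᶜ (P ⊔ (T ⊔ D))
    have n := self_le_norm_piCoreOf {3}ᶜ (P ⊔ (T ⊔ D))
    have cp := PiNat.coprime' a (isPi_of_isPGroup p3 pP)
    refine kill _ a (odd_card_of_le oX l) (comm_eq_bot_iff.1 (eq_bot_of_le_of_coprime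
      (commutator_le_of_le_norm_left (le_norm_piCoreOf tX)) ((commutator_mono l le_rfl).trans ?_) cp))
      (le_norm_of_cent ((le_cent_of_norm_of_coprime (l.trans (sup_le le_normalizer nP))
        (le_sup_left.trans n) cp).trans (cent_anti UP))) ((UP.trans le_sup_left).trans n)
    rw [commutator_sup_cent_eq (.inr nP) (le_cent_symm tt)]
    exact commutator_le_of_le_norm_left (zp_norm tP)
  have XN := Puig_center_normal p3 oX (solv_odd oX) (hall_of_mul l1 l2 p1 p2 dec) b0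
  have Z1 := zPuigOf_ne_bot p3 g1 (ne_bot_of_le h.U1 (UP.trans le_sup_left))
  have ZP := zPuigOf_le (P ⊔ E)
  have NN := norm_le_norm_zPuigOf (P ⊔ E)
  generalize zPuigOf (P ⊔ E) = Z at *
  have tN : t ∈ N[Z] := NN (le_norm_sup (zp_norm tP) (le_norm_of_cent (tt.trans (cent_anti
    (ED.trans le_sup_right)))) (mem_zpowers t))
  have BX : U ⊔ T ⊔ D ≤ P ⊔ (T ⊔ D) := by rw [sup_assoc]; exact sup_le_sup_right UP _
  have oL : Odd (Nat.card ↥(N[Z] ⊓ L)) := by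
    by_contra ho
    obtain ⟨s, hs, s2⟩ := exists_inv (Nat.not_odd_iff_even.1 ho)
    have zt := h.fg (g1.to_le ZP) t2 s2 (fun e => h.jr.nmem (e ▸ hs.2)) (mem_cent1.1 (h.jr.le hs.2))
      tN hs.1
    have zu : Z ≤ U := le_sup_right.trans (h.v1 (g1.to_le (sup_le (UP.trans le_sup_left) ZP))
      le_sup_left (sup_le h.Ut zt) (le_norm_sup h.TU ((le_sup_left.trans le_sup_right).trans XN)))
    obtain ⟨a, ha, a1⟩ := exists_ne_one_of_ne_bot Z1
    exact ne1 s2 (h.ninv hs.2 (sq1 s2) (zu ha) a1 (zu (conj_mem_of_mem_norm hs.1 ha)))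
  have nL := h.mx _ (le_inf ((le_sup_left.trans BX).trans XN) (sup_le h.UL h.TL)) inf_le_right oL
  have tB : zpowers t ≤ C[U ⊔ T ⊔ D] := zpowers_le.2 (mem_cent_iff.2 h.Bt)
  have cN : N[Z] ⊓ C1[t] ≤ zpowers t ⊔ (U ⊔ T ⊔ D) := fun c hc => by
    obtain ⟨a, ha, l, hl, e, he, rfl⟩ := h.jr.dec3 hc.2
    rw [mul_assoc]
    refine mul_mem_sup ha (mul_mem_sup (nL ⟨?_, hl⟩) he)
    exact (Subgroup.mul_mem_cancel_left _ (zpowers_le.2 tN ha)).1 ((Subgroup.mul_mem_cancel_right _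
      (XN (mem_sup_right (mem_sup_right he)))).1 hc.1)
  have pt := isPi_of_isPGroup Nat.prime_two (pg2 t2)
  have s2 : IsPiHallOf {2} (zpowers t) N[Z] := by
    obtain ⟨R, hR, tR⟩ := exists_syl_ge Nat.prime_two (pg2 t2) (zpowers_le.2 tN)
    rwa [← le_antisymm ((isPiHallOf_sup_left (.inl (le_norm_of_cent tB)) pt
      (odd_iff_pi.2 h.oB)).le_of_normal (sup_le le_normalizer (le_norm_of_cent (le_cent_symm tB)))
      ((le_inf hR.le (h.jr.ab.c1 hR (tR (mem_zpowers t)))).trans cN) hR.isPi) tR]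
  obtain ⟨sd, nY⟩ := cyclic_pdiv_normal_complement Nat.prime_two s2 inferInstance
    fun q hq _ => hq.two_le
  have oY := O_odd N[Z]
  have YN := O_le N[Z]
  have XY : P ⊔ (T ⊔ D) ≤ O[N[Z]] := (isPiHallOf_of_isComplIn' sd.symm (by
    rw [compl_compl]; exact pt) (odd_iff_pi.2 oY)).le_of_normal nY XN (odd_iff_pi.2 oX)
  generalize O[N[Z]] = Y at *
  have cY : Y ⊓ C1[t] ≤ U ⊔ T ⊔ D := (isPiHallOf_sup_right (π := {2}ᶜ) (.inl (le_norm_of_cent tB)) (by
    rw [compl_compl]; exact pt) (odd_iff_pi.2 h.oB)).le_of_normal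
    (sup_le (le_norm_of_cent tB) le_normalizer) ((inf_le_inf_right _ YN).trans cN)
    (odd_iff_pi.2 (odd_card_of_le oY inf_le_left))
  have tY := nY tN
  have KY := piCoreOf_le {3}ᶜ Y
  have nK := self_le_norm_piCoreOf {3}ᶜ Y
  have pK := piCoreOf_isPi {3}ᶜ Y
  have tK : zpowers t ≤ N[piCoreOf {3}ᶜ Y] := le_norm_piCoreOf (zp_norm tY)
  have cK : piCoreOf {3}ᶜ Y ⊓ C1[t] = ⊥ := kill _ (PiNat.of_dvd pK (card_dvd_of_le inf_le_left))
    (odd_card_of_le oY (inf_le_left.trans KY)) inf_le_right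
    (((inf_le_inf_right _ KY).trans cY).trans h.BU)
    (le_norm_inf (((UP.trans le_sup_left).trans XY).trans nK) (le_norm_self h.Ut))
  have MY := piCore2Of_le {3}ᶜ {3} Y
  have nM := self_le_norm_piCore2Of {3}ᶜ {3} Y
  have PY : P ≤ Y := le_sup_left.trans XY
  have MP : piCore2Of {3}ᶜ {3} Y ⊔ P ≤ Y := sup_le MY PY
  obtain ⟨R, hR, tR, PR⟩ := coprime_exists_syl_ge p3 (.inl (solv_of_le (solv_odd oY) MP))
    (le_norm_sup (le_norm_piCore2Of (zp_norm tY)) (zp_norm tP)) (cop2 (odd_card_of_le oY MP) t2)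
    le_sup_right pP (zp_norm tP)
  have hV := hR.inf_normal le_sup_left (MP.trans nM)
  have eM := piCoreOf_sup_eq_piCore2Of hV
  have eR : piCore2Of {3}ᶜ {3} Y ⊔ P = piCoreOf {3}ᶜ Y ⊔ R := le_antisymm (sup_le
    (eM.ge.trans (sup_le_sup_left inf_le_left _)) (PR.trans le_sup_right))
    (sup_le (piCoreOf_le_piCore2Of_left.trans le_sup_left) hR.le)
  have nR : T ⊔ D ≤ N[R] := fun a ha => nb_uniq t2 (odd_card_of_le oY KY) (tK (mem_zpowers t)) cK
    ((hR.le.trans MP).trans nK) (eR ▸ hR) (tR (mem_zpowers t)) (eR ▸ le_norm_sup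
      ((le_sup_right.trans XY).trans nM) nP ha) (TDt ha)
  obtain rfl := mx R ⟨syl_isPGroup p3 hR, UP.trans PR, tR (mem_zpowers t), le_sup_left.trans nR,
    le_sup_right.trans nR⟩ PR
  have yY : y ∈ Y := XY (mem_sup_right (mem_sup_left hy))
  have top := nb_top oY t2 tY yY py (fun e => h.T3 (e ▸ orderOf_dvd_card_of_mem hy)) cy cK hV
    (le_norm_inf TP ((le_sup_left.trans (le_sup_right.trans XY)).trans nM) hy) (eq_bot_iff.2
      fun a ha => ((h.sr y hy a (ct ▸ ⟨ha.1.1, cy ha.2⟩) (mem_cent1.1 ha.2).symm).resolve_left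
        fun e => py.one_lt.ne' (by rw [e, orderOf_one])))
  have top2 : Y ≤ (R ⊔ (T ⊔ D)) ⊔ piCoreOf {3}ᶜ Y := top.trans (sup_le (eM.ge.trans (sup_le
    le_sup_right (inf_le_left.trans (le_sup_left.trans le_sup_left)))) (cY.trans (BX.trans le_sup_left)))
  have n2 : T ⊔ F ⊔ zpowers t ≤ N[piCoreOf {3}ᶜ Y] := sup_le ((l2.trans XY).trans nK) tK
  have s3 : IsPiHallOf {3} (R ⊔ E) N[Z] := hall_of_mul (K := (T ⊔ F ⊔ zpowers t) ⊔ piCoreOf {3}ᶜ Y)
    (l1.trans XN) (sup_le (sup_le (l2.trans XN) (zpowers_le.2 tN)) (KY.trans YN)) p1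
    ((p2.sup (PiNat.mono pt (by simp)) (.inr (le_norm_of_cent (tt.trans (cent_anti
      (sup_le_sup_left FD _)))))).sup pK (.inl n2)) fun m hm => by
    obtain ⟨w, hw, a, ha, rfl⟩ := sd.exists_mul hm
    obtain ⟨x, hx, k, hk, rfl⟩ := (mem_sup_of_le_norm (XY.trans nK)).1 (top2 hw)
    obtain ⟨p, hp, b, hb, rfl⟩ := dec x hx
    exact ⟨p, hp, b * k * a, mul_mem (mul_mem_sup (mem_sup_left hb) hk)
      (mem_sup_left (mem_sup_right ha)), by group⟩
  have := (syl_top_of_norm_le p3 s3 NN).idx_of_le (sup_le_sup_left ED R)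
  rw [relIndex_top_right] at this
  exact (piNat_single_compl_iff p3).1 this

end Cfsg.Agent.WA
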