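import Cfsg.Agent.WA.DQ1

/-! Groups of Janko-Ree type with `D`: centralizers of elements of `D`. -/

set_option autoImplicit false
set_option linter.unusedSectionVars false
set_option linter.unusedVariables false

namespace Cfsg.Agent.WA

open Cfsg Subgroup Cfsg.Agent.GT Cfsg.Agent.Cls Cfsg.Agent.GW Cfsg.Agent.B84H
open scoped commutatorElement

universe u

variable {G : Type u} [Group G] [Finite G] {S S' L L' D V X X₀ Y : Subgroup G}
  {a b c d e g k l n s t t' u w x y z : G} {r : ℕ}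

theorem JR'.move (h : JR' S' t' L' ⊥) (hS : IsPiHallOf {2} S ⊤) (ht : t ∈ S) (t1 : t ≠ 1) :
    ∃ L, JR' S t L ⊥ := by
  obtain ⟨g, -, rfl⟩ := syl_exists_conj Nat.prime_two h.syl hS
  have h1 := h.conj g
  obtain ⟨n, hn, rfl⟩ := h1.trS h1.mem ht (ne1 h1.ord) t1
  have h2 := h1.conj n
  rw [conj_eq_self hn, conj_bot, conj_bot] at h2
  exact ⟨_, h2⟩

theorem JR'.perf (h : JR' S t L D) : ⁅C1[t], C1[t]⁆ = L := by
  obtain ⟨Q, -, -, -, -, -, s, nc, -⟩ := JS.facts h.l2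
  refine le_antisymm h.comm_le (le_trans ?_ (commutator_mono h.le h.le))
  rcases (commutator_normal (⊤ : Subgroup L) ⊤).eq_bot_or_eq_top with e | e
  · exact absurd (isMulCommutative_iff.2 fun x y => commutatorElement_eq_one_iff_mul_comm.1
      (mem_bot.1 (e ▸ commutator_mem_commutator (mem_top x) (mem_top y)))) nc
  · have := congrArg (map L.subtype) e
    rw [map_commutator, ← MonoidHom.range_eq_map, range_subtype] at this
    exact this.ge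

namespace JR'
variable {T : Type u} [Group T] [Finite T] {f : X₀ →* T} (h : JR' S t L D) (hN : N[S] ≤ X) (q : MQ X X₀ f)
include h hN q

theorem mq_syl : S ≤ X₀ ∧ IsPiHallOf {2} (im f S) ⊤ ∧ Nat.card (im f S) = 8 :=
  h.card ▸ q.syl (h.syl.of_le (le_normalizer.trans hN) le_top) fun _ => h.ssq

theorem mq_e (h2 : L2e T) : L ⊓ X ≤ N[S] ∧ C1[t].relIndex X = 63 := by
  obtain ⟨hS, s1, s2⟩ := h.mq_syl hN q
  obtain ⟨sq, a, a2, e⟩ := SZ.l2e_facts h2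
  have ot := q.ord (hS h.mem) h.ord
  have le : im f S ≤ C1[f ⟨t, hS h.mem⟩] := q.im_c1 (hS h.mem) h.tt ▸ im_mono (le_inf h.St hS)
  have e1 : C1[f ⟨t, hS h.mem⟩] = im f S := (syl_eq_of_le Nat.prime_two s1 (fun y => ⟨1, Subtype.ext (by
    rw [pow_one, coe_pow, pow_two]; exact sq _ _ ot (mem_cent1.1 y.2))⟩) le_top le)
  constructor
  · have e2 : C1[t] ⊓ X₀ = S ⊔ O[X] := by rw [← q.pre_c1 (hS h.mem) h.tt, e1, pre_im hS, q.ker]
    refine le_trans ?_ ((h.syl.of_le (le_sup_left (b := O[X])) le_top).norm_le_norm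
      (sup_le le_normalizer (le_norm_of_cent (h.OX hN))))
    rw [← e2]
    exact le_norm_inf (le_norm_self (inf_le_left.trans h.le)) (inf_le_right.trans q.nrm)
  · rw [q.idx (hS h.mem) h.ord, e1]
    have e2 := (im f S).card_mul_index
    have e3 := syl_not_dvd Nat.prime_two s1
    rw [relIndex_top_right] at e3
    rw [s2, e] at e2
    obtain rfl | rfl | h4 : a = 2 ∨ a = 3 ∨ 4 ≤ a := by omega
    · omega
    · omega
    · obtain ⟨k, rfl⟩ := Nat.exists_eq_add_of_le h4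
      rw [pow_add, mul_assoc] at e2
      omega

theorem mq_o (h2 : L2o T) : False := by
  obtain ⟨Q, -, -, -, -, e, -⟩ := JS.facts h2
  exact e ((h.mq_syl hN q).2.2 ▸ card_subgroup_dvd_card _)

theorem mq_j (h2 : JR T) : ∃ hS : S ≤ X₀, L ⊓ X ≤ X₀ ∧
    JR' (im f S) (f ⟨t, hS h.mem⟩) (im f (L ⊓ X)) ⊥ := by
  obtain ⟨hS, s1, s2⟩ := h.mq_syl hN q
  obtain ⟨S', t', L', j⟩ := h2
  have ht := hS h.mem
  obtain ⟨L', j⟩ := j.move s1 (mem_im_of_mem ht h.mem) (ne1 (q.ord ht h.ord))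
  have K0 : ⁅C1[t] ⊓ X₀, C1[t] ⊓ X₀⁆ ≤ X₀ := (der1_le _).trans inf_le_right
  have KL : ⁅C1[t] ⊓ X₀, C1[t] ⊓ X₀⁆ ≤ L := (commutator_mono inf_le_left inf_le_left).trans h.comm_le
  have e : im f ⁅C1[t] ⊓ X₀, C1[t] ⊓ X₀⁆ = L' := by
    rw [im_commutator inf_le_right inf_le_right, q.im_c1 ht h.tt, j.perf]
  have nY : L ⊓ X ≤ N[C1[t] ⊓ X₀] :=
    le_norm_inf (le_norm_self (inf_le_left.trans h.le)) (inf_le_right.trans q.nrm)
  have nK := le_norm_commutator nY nY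
  generalize ⁅C1[t] ⊓ X₀, C1[t] ⊓ X₀⁆ = K at *
  have lift : ∀ y (hy : y ∈ X₀), f ⟨y, hy⟩ ∈ L' → ∃ κ ∈ K, κ⁻¹ * y ∈ D := fun y hy m => by
    rw [← e, mem_im_iff_mem_sup hy K0, q.ker] at m
    obtain ⟨κ, hκ, o, ho, rfl⟩ := (mem_sup_of_le_norm (K0.trans (q.le.trans (O_norm X)))).1 m
    exact ⟨κ, hκ, by simpa using h.OD hN ho⟩
  have UK : L ⊓ S ≤ K := fun s hs => by
    rcases j.dec2 (j.St (mem_im_of_mem (hS hs.2) hs.2)) (j.ssq (mem_im_of_mem (hS hs.2) hs.2)) with m | m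
    · obtain ⟨κ, hκ, m⟩ := lift s _ m
      rwa [← inv_mul_eq_one.1 (h.eq1 m (mul_mem (inv_mem (KL hκ)) hs.1))]
    · obtain ⟨κ, hκ, m⟩ := lift (t * s) (mul_mem ht (hS hs.2)) (by rwa [← map_mul] at m)
      have := inv_mul_eq_one.1 (h.KD (mul_mem (mem_sup_right (inv_mem (KL hκ))) (mul_mem
        (mem_sup_left (mem_zpowers t)) (mem_sup_right hs.1))) m)
      exact absurd ((L.mul_mem_cancel_right hs.1).1 (this ▸ KL hκ)) h.nmem
  have sK : IsPiHallOf {2} (L ⊓ S) K := h.sylL.of_le UK KL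
  have NK : L ⊓ N[S] ≤ K := by
    obtain ⟨a, ha, a1⟩ := h.exU
    obtain ⟨b, hb, b1, ba⟩ := ex_ne' (D := L ⊓ S) (by rw [h.c4]; omega) a
    have oa := ord2 (h.ssq ha.2) a1
    have ob := ord2 (h.ssq hb.2) b1
    obtain ⟨y, hy, e1⟩ := j.oneL (e ▸ mem_im_of_mem (hS ha.2) (UK ha)) (e ▸ mem_im_of_mem (hS hb.2) (UK hb))
      (q.ord _ oa) (q.ord _ ob)
    obtain ⟨κ, h1, hκ, rfl⟩ := mem_im.1 (e.ge hy)
    have e2 : κ * a * κ⁻¹ = b := q.eq2 (cj_mem h1 (hS ha.2)) (hS hb.2) (sq_conj (sq1 oa) κ) (sq1 ob) (by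
      rw [← e1, ← map_inv, ← map_mul, ← map_mul]; rfl)
    obtain ⟨m, hm, e3⟩ := h.ab.fus sK ha hκ (e2 ▸ hb)
    rw [PG.eq_sup_zpowers_of_card_eq_mul Nat.prime_three (inf_le_inf_left L le_normalizer)
      (by rw [h.c12, h.c4]) (h.nU ▸ ⟨KL hm.1, hm.2⟩ : m ∈ L ⊓ N[S]) fun hm' => ba (by
        rw [← e2, ← e3, ← h.sc hm'.2 a ha.2]; group)]
    exact sup_le UK (zpowers_le.2 hm.1)
  have e1 : L ⊓ X = K := by
    have KX := le_inf KL (K0.trans q.le)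
    rw [← frattini_arg Nat.prime_two sK KX nK]
    exact sup_eq_left.2 ((inf_le_inf_right _ inf_le_left).trans (h.nU ▸ NK))
  exact ⟨hS, e1 ▸ K0, by rwa [e1, e]⟩

theorem mq_card (hL : L ⊓ X ≤ X₀) : Nat.card (im f (L ⊓ X)) = Nat.card ↥(L ⊓ X) :=
  q.card_im hL (eq_bot_iff.2 fun y hy => h.eq1 (h.OD hN hy.2) hy.1.1)

end JR'

theorem JR'.cases [IsSimpleGroup G] (h : JR' S t L D) (ih : IH.{u} (Nat.card G)) (he : e ∈ D) (e1 : e ≠ 1) :
    (Nat.card ↥(L ⊓ C1[e]) = 12 ∧ (C1[t].relIndex C1[e] = 7 ∨ C1[t].relIndex C1[e] = 63)) ∨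
    ∃ (X₀ : Subgroup G) (T : Type u) (_ : Group T) (_ : Finite T) (f : X₀ →* T) (hS : S ≤ X₀),
      MQ C1[e] X₀ f ∧ L ⊓ C1[e] ≤ X₀ ∧ JR' (im f S) (f ⟨t, hS h.mem⟩) (im f (L ⊓ C1[e])) ⊥ := by
  have hN := h.NS he
  have c12 : L ⊓ C1[e] ≤ N[S] → Nat.card ↥(L ⊓ C1[e]) = 12 := fun e => by
    rw [le_antisymm (le_inf inf_le_left e) (inf_le_inf_left L hN), h.c12]
  rcases h.min ih (c1_ne_top h.nc e1) hN with h1 | ⟨X₀, T, _, _, f, q⟩
  · exact .inl ⟨c12 (inf_le_right.trans h1), .inl (by rw [le_antisymm h1 hN, h.i7])⟩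
  rcases q.good.2.2 with h2 | h2 | h2
  · exact .inl ⟨c12 (h.mq_e hN q h2).1, .inr (h.mq_e hN q h2).2⟩
  · exact (h.mq_o hN q h2).elim
  · obtain ⟨hS, h3, h4⟩ := h.mq_j hN q h2
    exact .inr ⟨X₀, T, _, ‹_›, f, hS, q, h3, h4⟩

theorem DD.jrq [IsSimpleGroup G] (h : DD S t L D r d) (he : e ∈ D) (e1 : e ≠ 1)
    (big : 12 < Nat.card ↥(L ⊓ C1[e])) :
    ∃ (X₀ : Subgroup G) (T : Type u) (_ : Group T) (_ : Finite T) (f : X₀ →* T) (hS : S ≤ X₀),
      MQ C1[e] X₀ f ∧ L ⊓ C1[e] ≤ X₀ ∧ JR' (im f S) (f ⟨t, hS h.mem⟩) (im f (L ⊓ C1[e])) ⊥ :=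
  (h.toJR'.cases h.ih he e1).resolve_left fun e => by omega

theorem DD.DO (h : DD S t L D r d) : D ≤ O[C1[d]] :=
  have c : C1[d] ≤ C[D] := by rw [h.gen, cent_zpowers]
  le_O (le_cent_symm c |>.trans (cent_anti (zpowers_le.2 (self_mem_cent1 d))) |>.trans (cent_zpowers d).le)
    (le_norm_of_cent c) h.odd

theorem DD.top {T : Type u} [Group T] [Finite T] {f : X₀ →* T} (h : DD S t L D r d) (m : MQ C1[d] X₀ f)
    (h1 : L ⊓ C1[d] ≤ X₀) : C1[d] ≤ X₀ := fun g hg => by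
  have D0 : D ≤ X₀ := h.DO.trans (m.ker ▸ kr_le)
  have td : t ∈ C1[d] := mem_cent1_comm.1 (h.Dt (h.gen ▸ mem_zpowers d))
  have ht := m.inv t td h.tt
  obtain ⟨y, hy, e⟩ := m.dec ht h.ord hg
  have c : y⁻¹ * g ∈ C1[t] := mem_cent1.2 (by
    rw [show y⁻¹ * g * t = y⁻¹ * (g * t * g⁻¹) * g by group, ← e]; group)
  have c' : y⁻¹ * g ∈ C1[d] := mul_mem (inv_mem (m.le hy)) hg
  refine (X₀.mul_mem_cancel_left (inv_mem hy)).1 ?_
  obtain ⟨l, hl, k, hk, e1 | e1⟩ := h.dec c <;> rw [e1] at c' ⊢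
  · exact mul_mem (h1 ⟨hl, (mul_mem_cancel_right (m.le (D0 hk))).1 c'⟩) (D0 hk)
  · exact mul_mem ht (mul_mem (h1 ⟨hl, (mul_mem_cancel_right (m.le (D0 hk))).1
      ((mul_mem_cancel_left td).1 c')⟩) (D0 hk))

theorem pIdx : PIdx.{u} := fun G _ _ _ S L D t d e q h he e1 => by
  rcases h.toJR'.cases h.ih he e1 with h1 | ⟨X₀, T, _, _, f, hS, m, h1, j⟩
  · exact .inl h1
  have := m.simple
  have k := jr_index j
  rw [h.toJR'.mq_card (h.NS he) m h1, ← m.idx (hS h.mem) h.ord] at k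
  exact .inr k

theorem JT.odd_mem {Q : ℤ} (h : JT S t u g w x L D Q) (ha : a ∈ L) (au : Commute a u)
    (o : Odd (orderOf a)) : a ∈ zpowers x := by
  have j := h.jr
  have WS : ∀ {e}, e ∈ h.ψ.range → e ∈ S := fun m => by
    rcases h.mem_U.1 m with rfl | rfl | rfl | rfl
    exacts [one_mem _, j.mem, h.uS, mul_mem j.mem h.uS]
  have xL := zpowers_le.2 h.xL
  obtain ⟨e, he, y, hy, k, hk, e1⟩ := h.cU a (mem_cent1.1 (j.le ha)) au
  have c1 : Commute y e := h.toQ3.cU (zc h.xt hy) (zc h.xu hy) he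
  have c2 : ∀ s ∈ S, Commute k s := fun s hs => (j.DS hk s hs).symm
  have e2 := j.ssq (WS he)
  rcases e1 with rfl | rfl
  · have e3 : e * y * k * (e * y * k) = y * k * (y * k) := by
      rw [mul_assoc e, ((c1.mul_left (c2 e (WS he))).mul_mul_mul_comm), e2, one_mul]
    obtain rfl := j.sqLD (xL hy) hk (e3 ▸ mul_mem ha ha)
    exact PG.mem_of_sq_mem_of_odd o (e3 ▸ by simpa using mul_mem hy hy)
  · have c3 : Commute w e := j.sc h.wS e (WS he) |>.symm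
    have e3 : e * y * k * w * (e * y * k * w) = y * k * (y⁻¹ * k) := by
      rw [mul_assoc e, mul_assoc e, (((c1.mul_left (c2 e (WS he))).mul_left c3).mul_mul_mul_comm), e2,
        one_mul, ← zi h.wx hy, show y * k * w * (y * k * w) = y * k * (w * y * (k * w)) by group,
        (c2 w h.wS).eq, inv_eq_of_mul_eq_one_right (j.ssq h.wS)]
      group
    have k1 : k = 1 := by
      refine eq1_of_odd (j.oD hk) (j.eq1 (mul_mem hk hk) ?_)
      have := mul_mem (inv_mem (mul_mem (xL hy) (conj_mem_of_mem_norm (j.DL hk) (inv_mem (xL hy)))))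
        (e3 ▸ mul_mem ha ha)
      rwa [show (y * (k * y⁻¹ * k⁻¹))⁻¹ * (y * k * (y⁻¹ * k)) = k * k by group] at this
    rw [eq1_of_odd o (by rw [e3, k1]; group)]
    exact one_mem _

end Cfsg.Agent.WA
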