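import Cfsg.Agent.WA.DJT
import Cfsg.Agent.WA.DAll

/-! Groups of Janko-Ree type with field automorphisms: the Frobenius group of order 21 in `N(S)`. -/

set_option autoImplicit false
set_option linter.unusedSectionVars false

namespace Cfsg.Agent.WA.DJ

open Cfsg Subgroup Cfsg.Agent.GT Cfsg.Agent.GW

universe u

variable {G : Type u} [Group G] [Finite G] {S L D M P : Subgroup G} {t z : G} {l : ℕ}

theorem card_l (hl : l.Prime) (hc : Nat.card P ∣ l * Nat.card ↥(P ⊓ D)) (ne : ¬ P ≤ D) :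
    Nat.card P = l * Nat.card ↥(P ⊓ D) := by
  have e := card_mul_relIndex (inf_le_left : P ⊓ D ≤ P)
  rw [← e, mul_comm l] at hc
  rcases (Nat.dvd_prime hl).1 (Nat.dvd_of_mul_dvd_mul_left Nat.card_pos hc) with k | k
  · exact absurd ((relIndex_eq_one.1 k).trans inf_le_right) ne
  · rw [← e, k, mul_comm]

theorem ab_l (hl : l.Prime) (hD : P ≤ C[D]) (hc : Nat.card P ∣ l * Nat.card ↥(P ⊓ D)) : P ≤ C[P] := by
  by_cases ne : P ≤ D
  · exact hD.trans (cent_anti ne)
  obtain ⟨y, hy, -, eP⟩ := PG.exists_eq_sup_zpowers_of_card_eq_mul hl inf_le_left (card_l hl hc ne)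
  have k : P ⊓ D ≤ C[P] := inf_le_right.trans (le_cent_symm hD)
  nth_rw 1 [eP]
  refine sup_le k (le_cent_symm ?_)
  nth_rw 1 [eP]
  exact sup_le (k.trans (cent_anti (zpowers_le.2 hy))) (cent_zpowers y ▸ zpowers_le.2 (self_mem_cent1 y))

/-- lifting over a central subgroup -/
theorem lift (hl : l.Prime) (hP : IsPiHallOf {l} P M) (hD : M ≤ C[D]) (hc : Nat.card P ∣ l * Nat.card ↥(P ⊓ D))
    (hz : z ∈ M ⊓ N[P]) (nz : z ∉ C[P]) : ∃ x ∈ P, orderOf x = l ∧ z * x * z⁻¹ ∈ zpowers x ∧ ¬ Commute z x := by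
  have := Fact.mk hl
  have cD : ∀ {a c}, a ∈ M → c ∈ D → Commute a c := fun ha hc => (hD ha _ hc).symm
  have e := card_l hl hc fun le => nz (cent_anti le (hD hz.1))
  have ab := ab_l hl (hP.le.trans hD) hc
  obtain ⟨y, hy, -, eP⟩ := PG.exists_eq_sup_zpowers_of_card_eq_mul hl inf_le_left e
  have n : P ≤ N[P ⊓ D] := le_norm_of_cent (ab.trans (cent_anti inf_le_left))
  have yl : y ^ l ∈ P ⊓ D := by
    have := PG.pow_relIndex_mem' n hy
    rwa [Nat.eq_of_mul_eq_mul_left Nat.card_pos ((card_mul_relIndex inf_le_left).trans (e.trans (mul_comm _ _)))] at this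
  have m := conj_mem_of_mem_norm hz.2 hy
  obtain ⟨c, hc, _, ⟨k, rfl⟩, ec⟩ := (mem_sup_of_le_norm' ((zpowers_le.2 hy).trans n)).1 (eP ▸ m)
  have cy : Commute c y := (cD (hP.le hy) hc.2).symm
  have ex : z * y * z⁻¹ * y⁻¹ = c * y ^ (k - 1) := by rw [ec, zpow_sub_one, mul_assoc]
  have xl : (z * y * z⁻¹ * y⁻¹) ^ l = 1 := by
    rw [Commute.mul_pow (by rw [ec]; exact (cy.mul_left (Commute.zpow_self y k)).inv_right), conj_pow,
      (cD hz.1 yl.2).eq, inv_pow]; group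
  have nc : ¬ Commute z (z * y * z⁻¹ * y⁻¹) := fun c => by
    have r : ∀ j : ℕ, z ^ j * y * (z ^ j)⁻¹ = (z * y * z⁻¹ * y⁻¹) ^ j * y := fun j => by
      induction j with
      | zero => simp
      | succ j ih =>
        rw [pow_succ', show z * z ^ j * y * (z * z ^ j)⁻¹ = z * (z ^ j * y * (z ^ j)⁻¹) * z⁻¹ by group, ih,
          ← mul_assoc, (c.pow_right j).eq, pow_succ]; group
    refine nz (PG.mem_of_pow_mem_of_coprime (PG.pow_relIndex_mem' (inf_le_right.trans (norm_le_norm_cent P)) hz)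
      (n := l) ?_ ((Nat.Prime.coprime_iff_not_dvd hl).2 fun d => syl_not_dvd hl
        (syl_of_le hP (le_inf hP.le le_normalizer) inf_le_left) (d.trans (relIndex_dvd_of_le_left _ ab))).symm)
    rw [eP]
    refine le_cent_symm (sup_le (inf_le_right.trans (le_cent_symm ((zpowers_le.2 (pow_mem hz.1 l)).trans hD))) ?_)
      (mem_zpowers _)
    rw [cent_zpowers, zpowers_le]
    exact mem_cent1.2 (TT.commute_iff_conj.2 (by rw [r, xl, one_mul])).symm.eq
  refine ⟨_, mul_mem m (inv_mem hy), orderOf_eq_prime xl fun e => nc (e ▸ Commute.one_right z), ⟨k, ?_⟩, nc⟩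
  simp only [ex]
  rw [show z * (c * y ^ (k - 1)) * z⁻¹ = z * c * z⁻¹ * (z * y * z⁻¹) ^ (k - 1) by rw [conj_zpow]; group,
    (cD hz.1 hc.2).eq, ec, (cy.zpow_right _).mul_zpow, (cy.zpow_right _).mul_zpow, ← zpow_mul, ← zpow_mul,
    mul_comm k, mul_inv_cancel_right, ← mul_assoc, ← zpow_one_add, add_sub_cancel]

variable (h : JR' S t L D)
include h

theorem idx7 : C1[t].relIndex N[S] = 7 := by
  have e : MulAction.orbit N[S] (⟨t, h.mem⟩ : S) = {1}ᶜ := by
    ext c
    refine ⟨?_, fun n => ?_⟩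
    · rintro ⟨n, rfl⟩ e
      exact ne1 h.ord (congrArg Subtype.val ((smul_eq_iff_eq_inv_smul _).1 e |>.trans (smul_one _)))
    · obtain ⟨n, hn, e⟩ := h.fus c.2 fun e => n (Subtype.ext e)
      exact MulAction.mem_orbit_symm.1 ⟨⟨n, hn⟩, Subtype.ext e⟩
  have := MulAction.index_stabilizer N[S] (⟨t, h.mem⟩ : S)
  have c := Set.ncard_add_ncard_compl ({1} : Set S)
  rw [h.card, Set.ncard_singleton, ← e, ← this, show MulAction.stabilizer N[S] (⟨t, h.mem⟩ : S) =
    C1[t].subgroupOf N[S] from Subgroup.ext fun n => by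
      rw [mem_subgroupOf, mem_cent1, MulAction.mem_stabilizer_iff, Subtype.ext_iff, ← mul_inv_eq_iff_eq_mul]; rfl] at c
  exact Nat.add_left_cancel c

theorem odd_cS {y : G} (hy : y ∈ C[S]) (o : Odd (orderOf y)) : y ∈ D := by
  obtain ⟨s, hs, d, hd, rfl⟩ := (mem_sup_of_le_norm' (le_norm_of_cent h.DS)).1 (h.cS ▸ hy)
  refine PG.mem_of_sq_mem_of_odd o ?_
  rw [(show Commute d s from (h.DS hd s hs).symm).mul_mul_mul_comm, h.Ssq hs, one_mul]
  exact mul_mem hd hd

omit h in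
theorem _root_.Cfsg.Agent.WA.pSeven : PSeven.{u} := fun G _ _ S L D t h => by
  have p7 : Nat.Prime 7 := by norm_num
  have := Fact.mk Nat.prime_two
  obtain ⟨P, hP⟩ := exists_syl p7 N[S]
  have pP := syl_isPGroup p7 hP
  have oP := odd_p p7 (by decide) pP
  have hc : Nat.card P ∣ 7 * Nat.card ↥(P ⊓ D) := by
    have d := PG.relIndex_cent_dvd_card_GL (p := 2) (n := 3) ⟨comm_iff_le_cent.2 h.Sc, fun a ha => sq a ▸ h.Ssq ha⟩
      h.card hP.le
    rw [← card_inf_mul_relIndex C[S] P, mul_comm]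
    refine Nat.mul_dvd_mul ((show (C[S].relIndex P).Coprime 24 from ?_).dvd_of_dvd_mul_right (by simpa [Fin.prod_univ_three] using d))
      (card_dvd_of_le fun y hy => ⟨hy.2, odd_cS h hy.1 (odd_ord oP hy.2)⟩)
    obtain ⟨k, e⟩ := PG.exists_card_eq_pow pP
    exact (Nat.Coprime.pow_left k (by norm_num)).coprime_dvd_left (e ▸ relIndex_dvd_card' _ _)
  obtain ⟨z, hz, nz⟩ : ∃ z ∈ N[S] ⊓ N[P], z ∉ C[P] := SetLike.not_le_iff_exists.1 fun c => by
    obtain ⟨u, g, w, x, Q, J⟩ := exists_jt h h.cyc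
    have H := Burnside_hall p7 hP c
    have d := relIndex_dvd_relIndex_of_norm_or (H := C1[t] ⊓ N[S]) inf_le_right H.le
      (.inl (inf_le_right.trans (self_le_norm_piCoreOf _ _)))
    rw [inf_relIndex_right, idx7 h] at d
    have := relIndex_eq_one.1 (((Nat.dvd_prime p7).1 d).resolve_right fun e =>
      (isPiSubgroup_single_compl_iff p7).1 H.isPi (e.symm.dvd.trans (relIndex_dvd_card' _ _)))
    have g1 := J.g1
    rw [mem_cent1.1 (this (zpowers_le.1 (PG.le_of_normal_of_piNat_relIndex (zpowers_le.2 J.gS)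
      ((isPiSubgroup_single_compl_iff p7).2 fun d => ?_) (self_le_norm_piCoreOf _ _) H.idx))).1,
      mul_inv_cancel_right] at g1
    · exact h.nmem (g1 ▸ J.uL)
    · rw [Nat.card_zpowers] at d
      exact absurd (d.trans (orderOf_dvd_of_pow_eq_one J.g3')) (by norm_num)
  have o := JH.odd_sq h.two z
  obtain ⟨x, hx, a, b, c⟩ := lift p7 hP h.nS hc (pow_mem hz 2) fun c => nz (by
    refine PG.mem_of_pow_mem_of_coprime c (n := orderOf (z ^ 2)) ?_ (Nat.coprime_two_left.2 o)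
    have m := pow_mem hz (orderOf (z ^ 2))
    refine le_cent_of_norm_of_inf_eq_bot (H := S ⊓ N[P]) inf_le_right (le_norm_inf hP.le (le_norm_self le_normalizer))
      (GT.inf_eq_bot_of_coprime (cop2' oP ((syl_isPGroup Nat.prime_two h.syl).to_le inf_le_left)).symm) ⟨?_, m.2⟩
    refine zpowers_le.1 (le_syl_of_le_norm Nat.prime_two h.syl (pg2' ?_) le_top (zpowers_le.2 m.1))
    rw [← sq, ← pow_mul, mul_comm, pow_mul, pow_orderOf_eq_one])
  exact ⟨x, hP.le hx, _, pow_mem hz.1 2, a, o, b, c⟩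

end Cfsg.Agent.WA.DJ
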