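import Cfsg.Agent.WA.DDef
import Cfsg.Agent.WA.B1A

/-! Groups of Janko-Ree type, `D = 1`: basic facts. -/

set_option autoImplicit false
set_option linter.unusedSectionVars false
set_option linter.unusedVariables false

namespace Cfsg.Agent.WA

open Cfsg Subgroup Cfsg.Agent.GT Cfsg.Agent.GW

universe u

variable {G : Type u} [Group G] [Finite G] {S L D M K X U T P : Subgroup G} {t u a c e g i j s y : G} {p q : ℕ}

/-- the transfer lemma -/
theorem tl [IsSimpleGroup G] (nc : ¬ IsMulCommutative G) (hK : M ≤ N[K]) (ab : ⁅M, M⁆ ≤ K) (he : e ∈ M)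
    (key : ∀ (k : ℕ) g, g⁻¹ * e ^ k * g ∈ M → g⁻¹ * e ^ k * g * (e ^ k)⁻¹ ∈ K) : e ^ M.index ∈ K := by
  classical
  obtain ⟨Q, iQ, _, f, hf, hk⟩ := exists_quo M K hK
  have one : ∀ x (hx : x ∈ M), f ⟨x, hx⟩ = 1 ↔ x ∈ K := fun x hx => by
    rw [← mem_kr' hx, hk]; exact ⟨fun h => h.1, fun h => ⟨h, hx⟩⟩
  letI : CommGroup Q := { iQ with
    mul_comm := fun a b => by
      obtain ⟨a, rfl⟩ := hf a
      obtain ⟨b, rfl⟩ := hf b
      rw [← commutatorElement_eq_one_iff_mul_comm, ← map_commutatorElement]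
      exact (one _ _).2 (ab (commutator_mem_commutator a.2 b.2)) }
  have := Fintype.ofFinite (Quotient (MulAction.orbitRel (zpowers e) (G ⧸ M)))
  have h := Cl.hom_eq_one_of_comm nc (MonoidHom.transfer f) e
  rw [MonoidHom.transfer_eq_prod_quotient_orbitRel_zpowers_quot, Finset.prod_congr rfl (g := fun q =>
    f ⟨e, he⟩ ^ Function.minimalPeriod (e • ·) q.out) fun q _ => ?_, Finset.prod_pow_eq_pow_sum,
    ← index_eq_sum_minimalPeriod, ← map_pow] at h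
  · exact (one _ (pow_mem he _)).1 h
  · rw [← mul_inv_eq_one, ← map_pow, ← map_inv, ← map_mul]
    exact (one _ _).2 (key _ _ (QuotientGroup.out_conj_pow_minimalPeriod_mem M e q.out))

theorem inv_zp (h : g * y * g⁻¹ = y⁻¹) (ha : a ∈ zpowers y) : g * a * g⁻¹ = a⁻¹ := by
  obtain ⟨k, rfl⟩ := ha
  simp only [← conj_zpow, h, inv_zpow]

theorem norm_zp (h : g * y * g⁻¹ ∈ zpowers y) : g ∈ N[zpowers y] := mem_normalizer_fintype fun z hz => by
  obtain ⟨k, rfl⟩ := hz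
  rw [← conj_zpow]; exact zpow_mem h k

/-- `p`-elements with centralizer of even order are not real. -/
def NI (G : Type u) [Group G] (p : ℕ) : Prop := ∀ a s g : G, IsPGroup p (zpowers a) → orderOf s = 2 → Commute a s →
  g * a * g⁻¹ = a⁻¹ → a = 1

theorem NI.le (ni : NI G p) (hp : p.Prime) (p2 : p ≠ 2) (hX : IsPGroup p X) (ii : i * i = 1) (hj : orderOf j = 2)
    (n : i ∈ N[X]) (le : X ≤ C1[j]) : X ≤ C1[i] := fun y hy => by
  obtain ⟨c, hc, a, ha, e, rfl⟩ := dec2 ii n (odd_p hp p2 hX) hy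
  have aX := commutator_le_of_le_norm_left (zp_norm n) ha
  rw [ni a j i (hX.to_le (zpowers_le.2 aX)) hj (mem_cent1.1 (le aX)) e, mul_one]
  exact hc.2

/-- a `p`-group normalized by a four-group is centralized by it. -/
theorem NI.fg (ni : NI G p) (hp : p.Prime) (p2 : p ≠ 2) (hX : IsPGroup p X) (hi : orderOf i = 2) (hj : orderOf j = 2)
    (ne : j ≠ i) (c : j * i = i * j) (n1 : i ∈ N[X]) (n2 : j ∈ N[X]) : X ≤ C1[i] := by
  have k : ∀ v, orderOf v = 2 → v * i = i * v → X ⊓ C1[v] ≤ C1[i] := fun v hv c =>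
    ni.le hp p2 (hX.to_le inf_le_left) (sq1 hi) hv (zpowers_le.1 (le_norm_inf (zp_norm n1)
      (le_norm_cent1 (zpowers_le.2 (mem_cent1.2 c.symm))))) inf_le_right
  exact gen3 hi hj ne c (odd_p hp p2 hX) n1 n2 inf_le_right (k j hj c)
    (k _ (ord2_mul hi hj ne c) (by rw [mul_assoc, c]))

theorem two_of (two : ∀ (s : G) (k : ℕ), s ^ 2 ^ k = 1 → s * s = 1) (hP : IsPGroup 2 P) (hs : s ∈ P) : s * s = 1 :=
  (PG.exists_pow_eq_one hP hs).elim (two s)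

theorem ab_of_two (two : ∀ (s : G) (k : ℕ), s ^ 2 ^ k = 1 → s * s = 1) : AB G := fun P hP =>
  le_cent_iff.2 fun a ha b hb => (TT.commute_of_sq (two_of two hP hb) (two_of two hP ha)
    (by rw [sq]; exact two_of two hP (mul_mem hb ha))).eq

/-- `⟨t⟩` is a Sylow subgroup. -/
theorem syl_zp (two : ∀ (s : G) (k : ℕ), s ^ 2 ^ k = 1 → s * s = 1) (ht : orderOf t = 2) (tX : t ∈ X)
    (h : ∀ s ∈ X, orderOf s = 2 → Commute s t → s = t) : IsPiHallOf {2} (zpowers t) X :=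
  syl_of_maximal Nat.prime_two (pg2 ht) (zpowers_le.2 tX) fun P hP le le' => le_antisymm (fun s hs => by
    by_cases n : s = 1
    · exact n ▸ one_mem _
    · exact h s (le' hs) (ord2 (two_of two hP hs) n) ((ab_of_two two).cm hP hs (le (mem_zpowers t))) ▸
        mem_zpowers _) le

theorem sd_zp (h : IsPiHallOf {2} (zpowers t) X) : Sdprod O[X] (zpowers t) X :=
  cyclic_pdiv_normal_complement Nat.prime_two h inferInstance fun _ hq _ => hq.two_le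

theorem mem_O_of_odd (h : IsPiHallOf {2} (zpowers t) X) (hy : y ∈ X) (o : Odd (orderOf y)) : y ∈ O[X] := by
  have h1 := Burnside_hall Nat.prime_two h (cyclic_pdiv_norm_le_cent Nat.prime_two h inferInstance
    fun _ hq _ => hq.two_le)
  refine zpowers_le.1 (PG.le_of_normal_of_piNat_relIndex (π := ({2} : Set ℕ)ᶜ) (zpowers_le.2 hy)
    (odd_iff_pi.2 (by rwa [Nat.card_zpowers])) (O_norm X) h1.idx)

/-- a real element is inverted by an involution. -/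
theorem exists_inv_inv (two : ∀ (s : G) (k : ℕ), s ^ 2 ^ k = 1 → s * s = 1) (h : g * y * g⁻¹ = y⁻¹) :
    ∃ s, s * s = 1 ∧ s * y * s⁻¹ = y⁻¹ := by
  obtain ⟨k, m, o, e⟩ := Nat.exists_eq_two_pow_mul_odd (orderOf_pos g).ne'
  refine ⟨g ^ m, two _ k (by rw [← pow_mul, mul_comm, ← e, pow_orderOf_eq_one]), ?_⟩
  obtain ⟨n, rfl⟩ := o
  have : Commute (g ^ 2) y := TT.commute_iff_conj.2 (by
    rw [show g ^ 2 * y * (g ^ 2)⁻¹ = g * (g * y * g⁻¹) * g⁻¹ by rw [sq]; group, h, inv_zp h (inv_mem (mem_zpowers y)),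
      inv_inv])
  rw [pow_succ', pow_mul, show g * (g ^ 2) ^ n * y * (g * (g ^ 2) ^ n)⁻¹ =
    g * ((g ^ 2) ^ n * y * ((g ^ 2) ^ n)⁻¹) * g⁻¹ by group, TT.commute_iff_conj.1 (this.pow_left n), h]

namespace JR'

variable (h : JR' S t L D)
include h

theorem tt : t * t = 1 := sq1 h.ord

theorem two (s : G) (k : ℕ) (e : s ^ 2 ^ k = 1) : s * s = 1 := h.el.sq s trivial (PG.isPGroup_zpowers_of_pow_eq_one e)

theorem Sc : S ≤ C[S] := h.ab S (syl_isPGroup Nat.prime_two h.syl)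

theorem Ssq (hc : c ∈ S) : c * c = 1 := two_of h.two (syl_isPGroup Nat.prime_two h.syl) hc

theorem DS : D ≤ C[S] := h.cS ▸ le_sup_right

theorem Dt : D ≤ C1[t] := h.DS.trans (cent_le_cent1 h.mem)

theorem DD : D ≤ C[D] := (h.DS.trans (cent_le_norm S)).trans h.nS

theorem DL : D ≤ N[L] := h.Dt.trans h.norm

theorem St : S ≤ C1[t] := h.Sc.trans (cent_le_cent1 h.mem)

theorem NS (he : e ∈ D) : N[S] ≤ C1[e] := h.nS.trans (cent_le_cent1 he)

theorem oD (he : e ∈ D) : Odd (orderOf e) := odd_ord h.odd he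

theorem cj (ss : orderOf s = 2) : ∃ g, g * s * g⁻¹ = t := (h.el.one s trivial t trivial ss h.ord).imp fun _ => (·.2)

theorem nc : ¬ IsMulCommutative G := fun c => h.nmem (by
  have := (JS.facts h.l2).choose_spec.2.2.2.2.2.2.1
  exact absurd ⟨⟨fun a b => Subtype.ext (c.1.1 a.1 b.1)⟩⟩ this)

theorem memK : c ∈ zpowers t ⊔ L ↔ c ∈ L ∨ t * c ∈ L := by
  refine ⟨fun m => ?_, fun m => m.elim (le_sup_right (a := zpowers t) ·) fun m =>
    (mul_mem_cancel_left (mem_sup_left (mem_zpowers t))).1 (mem_sup_right m)⟩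
  obtain ⟨a, ha, b, hb, rfl⟩ := (mem_sup_of_le_norm (zpowers_le.2 (h.norm (self_mem_cent1 t)))).1 m
  rcases zp2' h.tt ha with rfl | rfl
  exacts [.inl (by rwa [one_mul]), .inr (by rwa [GW.tt h.tt])]

theorem nK : C1[t] ≤ N[zpowers t ⊔ L] :=
  le_norm_sup (le_norm_of_cent (cent_zpowers t).ge) h.norm

theorem Kle : zpowers t ⊔ L ≤ C1[t] := sup_le (zpowers_le.2 (self_mem_cent1 t)) h.le

/-- `C(t) = ⟨t⟩ × L D`. -/
theorem dec (hc : c ∈ C1[t]) : ∃ l ∈ L, ∃ k ∈ D, c = l * k ∨ c = t * (l * k) := by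
  rw [h.cent] at hc
  obtain ⟨a, ha, k, hk, rfl⟩ := (mem_sup_of_le_norm' (h.Dt.trans h.nK)).1 hc
  rcases h.memK.1 ha with m | m
  exacts [⟨a, m, k, hk, .inl rfl⟩, ⟨_, m, k, hk, .inr (by rw [mul_assoc, GW.tt h.tt])⟩]

theorem mem_L (hy : y ∈ zpowers t ⊔ L) (o : Odd (orderOf y)) : y ∈ L := by
  refine (h.memK.1 hy).elim id fun m => PG.mem_of_sq_mem_of_odd o ?_
  have := mul_mem m m
  rwa [mul_assoc, ← mul_assoc y, mem_cent1.1 (h.Kle hy), mul_assoc, GW.tt h.tt] at this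

theorem KD (hy : y ∈ zpowers t ⊔ L) (hD : y ∈ D) : y = 1 :=
  mem_bot.1 (h.inf ▸ ⟨hD, h.mem_L hy (h.oD hD)⟩)

theorem mem_LD (hy : y ∈ C1[t]) (o : Odd (orderOf y)) : ∃ l ∈ L, ∃ k ∈ D, y = l * k := by
  obtain ⟨l, hl, k, hk, e | e⟩ := h.dec hy
  · exact ⟨l, hl, k, hk, e⟩
  have m : l * k ∈ L ⊔ D := mul_mem (mem_sup_left hl) (mem_sup_right hk)
  refine (mem_sup_of_le_norm' h.DL).1 (PG.mem_of_sq_mem_of_odd o ?_)
  have := mul_mem m m
  rwa [e, mul_assoc, ← mul_assoc (l * k), mem_cent1.1 (sup_le h.le h.Dt m), mul_assoc, GW.tt h.tt]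

/-- `C(t) / L` is abelian. -/
theorem comm_L (hc : c ∈ C1[t]) (hy : y ∈ C1[t]) : c * y * c⁻¹ * y⁻¹ ∈ L := by
  have k : ∀ c ∈ C1[t], ∃ l ∈ L, ∃ k ∈ zpowers t ⊔ D, c = l * k := fun c hc => by
    obtain ⟨l, hl, k, hk, e | e⟩ := h.dec hc
    · exact ⟨l, hl, k, mem_sup_right hk, e⟩
    · exact ⟨l, hl, _, mul_mem (mem_sup_left (mem_zpowers t)) (mem_sup_right hk), by
        rw [e, ← mul_assoc, ← mem_cent1.1 (h.le hl), mul_assoc]⟩
  have le : zpowers t ⊔ D ≤ C1[t] := sup_le (zpowers_le.2 (self_mem_cent1 t)) h.Dt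
  have cm := isMulCommutative_iff_forall.1 (isMulCommutative_sup (PG.isMulCommutative_zpowers t)
    (comm_iff_le_cent.2 h.DD) (le_cent_symm (cent_zpowers t ▸ h.Dt)))
  obtain ⟨l, hl, a, ha, rfl⟩ := k c hc
  obtain ⟨m, hm, b, hb, rfl⟩ := k y hy
  rw [show l * a * (m * b) * (l * a)⁻¹ * (m * b)⁻¹ = l * (a * m * a⁻¹) * (a * b * a⁻¹ * l⁻¹ * b⁻¹) * m⁻¹ by group,
    cm a ha b hb, mul_inv_cancel_right]
  exact mul_mem (mul_mem (mul_mem hl (conj_mem_of_mem_norm (h.norm (le ha)) hm))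
    (conj_mem_of_mem_norm (h.norm (le hb)) (inv_mem hl))) (inv_mem hm)

theorem comm_le : ⁅C1[t], C1[t]⁆ ≤ L := commutator_le.2 fun _ a _ b => h.comm_L a b

/-- an element of `C(t)` of order prime to `|D|` lies in `⟨t⟩ L`. -/
theorem mem_K (hy : y ∈ C1[t]) (o : (orderOf y).Coprime (Nat.card D)) : y ∈ zpowers t ⊔ L := by
  refine PG.mem_of_pow_mem_of_coprime_orderOf (m := (zpowers t ⊔ L).relIndex C1[t]) (PG.pow_relIndex_mem' h.nK hy)
    (o.coprime_dvd_right ?_)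
  rw [h.cent, sup_comm _ D, relIndex_sup_of_le_norm (h.Dt.trans h.nK)]
  exact relIndex_dvd_card' _ _

theorem fus (hc : c ∈ S) (c1 : c ≠ 1) : ∃ n ∈ N[S], n * c * n⁻¹ = t := by
  obtain ⟨g, e⟩ := h.cj (ord2 (h.Ssq hc) c1)
  obtain ⟨n, hn, e'⟩ := h.ab.fus h.syl hc (mem_top g) (e ▸ h.mem)
  exact ⟨n, hn.2, e'.trans e⟩

/-- a subgroup over `N(S)` has one class of involutions. -/
theorem fusM (hM : N[S] ≤ M) (hs : s ∈ M) (o : orderOf s = 2) : ∃ c ∈ M, c * s * c⁻¹ = t := by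
  obtain ⟨g, hg, m⟩ := conj_into (syl_of_le h.syl (le_normalizer.trans hM) le_top) (sq1 o) hs
  obtain ⟨n, hn, e⟩ := h.fus m (ne1 (ord2_conj o g))
  exact ⟨n * g, mul_mem (hM hn) hg, by rw [← e]; group⟩

/-- (F1) -/
theorem f1c (he : e ∈ D) (m : g * e * g⁻¹ ∈ C1[t]) : ∃ c ∈ C1[e], g * c ∈ C1[t] := by
  have o : orderOf (g⁻¹ * t * g⁻¹⁻¹) = 2 := ord2_conj h.ord _
  obtain ⟨c, hc, e'⟩ := h.fusM (h.NS he) (s := g⁻¹ * t * g⁻¹⁻¹) (mem_cent1.2 (((TT.commute_conj_iff g).1 (by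
    rw [show g * (g⁻¹ * t * g⁻¹⁻¹) * g⁻¹ = t by group]; exact (mem_cent1.1 m).symm)).eq)) o
  refine ⟨c⁻¹, inv_mem hc, mem_cent1.2 (TT.commute_iff_conj.2 ?_).eq⟩
  nth_rewrite 1 [← e']
  group

theorem f1L (he : e ∈ D) (m : g * e * g⁻¹ ∈ C1[t]) : g * e * g⁻¹ * e⁻¹ ∈ L := by
  obtain ⟨c, hc, k⟩ := h.f1c he m
  have := h.comm_L k (h.Dt he)
  rwa [mul_assoc g, mem_cent1.1 hc, show g * (e * c) * (g * c)⁻¹ = g * e * g⁻¹ by group] at this

theorem f1 (he : e ∈ D) (m : g * e * g⁻¹ ∈ D) : g * e * g⁻¹ = e :=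
  mul_inv_eq_one.1 (h.KD (mem_sup_right (h.f1L he (h.Dt m))) (mul_mem m (inv_mem he)))

theorem pow_index [IsSimpleGroup G] (he : e ∈ D) : orderOf e ∣ C1[t].index :=
  orderOf_dvd_of_pow_eq_one (h.KD (tl h.nc h.nK (h.comm_le.trans le_sup_right) (h.Dt he) fun k g m =>
    mem_sup_right (by simpa using h.f1L (g := g⁻¹) (pow_mem he k) (by simpa using m))) (pow_mem he _))

theorem index_mod (hp : p.Prime) (he : e ∈ D) (o : IsPGroup p (zpowers e)) :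
    C1[t].index ≡ C1[t].relIndex C1[e] [MOD p] := by
  have := Fact.mk hp
  have k := o.card_modEq_card_fixedPoints (G ⧸ C1[t])
  rw [JH.relIndex_orbit, index_eq_card]
  convert k using 1
  rw [← Nat.card_coe_set_eq]
  congr 2
  ext z
  induction z using QuotientGroup.induction_on with | H g => ?_
  rw [MulAction.mem_fixedPoints, MulAction.mem_orbit_iff]
  constructor
  · rintro ⟨⟨c, hc⟩, e'⟩ ⟨_, k, rfl⟩
    rw [← e']
    refine QuotientGroup.eq.2 ?_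
    have : Commute c (e ^ k) := (Commute.zpow_right (mem_cent1.1 hc) k)
    simpa [← this.eq, mul_assoc] using zpow_mem (h.Dt he) (-k)
  · intro f
    have m : g⁻¹ * e * g⁻¹⁻¹ ∈ C1[t] := by
      simpa [mul_assoc] using inv_mem (QuotientGroup.eq.1 (f ⟨e, mem_zpowers e⟩))
    obtain ⟨c, hc, m⟩ := h.f1c he m
    exact ⟨⟨c, hc⟩, (QuotientGroup.eq.2 (by simpa using m)).symm⟩

/-- (STEP1) -/
theorem step1 [IsSimpleGroup G] (hp : p.Prime) (he : e ∈ D) (o : orderOf e = p) : p ∣ C1[t].relIndex C1[e] :=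
  ((h.index_mod hp he (isPGroup_of_card_eq_prime (by rw [Nat.card_zpowers, o]))).dvd_iff dvd_rfl).1
    (o ▸ h.pow_index he)

theorem card_C : Nat.card C1[t] = 2 * Nat.card L * Nat.card D := by
  have n := zpowers_le.2 (h.norm (self_mem_cent1 t))
  rw [h.cent, card_sup_of_inf_eq_bot (.inr (h.Dt.trans h.nK)) (eq_bot_iff.2 fun y m => mem_bot.2 (h.KD m.1 m.2)),
    sup_comm, PG.card_sup_zpowers Nat.prime_two (zpowers_le.1 n) (by rw [sq, h.tt]; exact one_mem _) h.nmem]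

/-- (NR) a real element of odd order of `C(t)` lies in `L` and is inverted by an involution of `L`. -/
theorem nr (hy : y ∈ C1[t]) (o : Odd (orderOf y)) (r : g * y * g⁻¹ = y⁻¹) :
    y ∈ L ∧ ∃ l ∈ L, l * l = 1 ∧ l * y * l⁻¹ = y⁻¹ := by
  obtain ⟨s, ss, r⟩ := exists_inv_inv h.two r
  obtain ⟨P, hP, le⟩ := exists_syl_ge Nat.prime_two (pg2 h.ord) (M := N[zpowers y])
    (zpowers_le.2 (cent_le_norm _ (cent_zpowers y ▸ mem_cent1_comm.1 hy)))
  obtain ⟨n, hn, m⟩ := conj_into hP ss (norm_zp (r ▸ inv_mem (mem_zpowers y)))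
  have r' : n * s * n⁻¹ * y * (n * s * n⁻¹)⁻¹ = y⁻¹ := by
    have := inv_zp r (conj_mem_of_mem_norm (inv_mem hn) (mem_zpowers y))
    rw [show n * s * n⁻¹ * y * (n * s * n⁻¹)⁻¹ = n * (s * (n⁻¹ * y * n⁻¹⁻¹) * s⁻¹) * n⁻¹ by group, this]; group
  have ss' := sq_conj ss n
  have st := h.ab.sc1 hP (le (mem_zpowers t)) m
  generalize n * s * n⁻¹ = s at *
  refine ⟨PG.mem_of_sq_mem_of_odd o (by simpa [r'] using inv_mem (h.comm_L st hy)), ?_⟩
  rcases h.memK.1 (h.mem_K st ((Nat.coprime_two_left.2 h.odd).coprime_dvd_left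
    (orderOf_dvd_of_pow_eq_one (sq s ▸ ss')))) with m | m
  · exact ⟨s, m, ss', r'⟩
  · refine ⟨_, m, TT.mul_self_of_commute h.tt ss' (mem_cent1.1 st).symm, ?_⟩
    rw [show t * s * y * (t * s)⁻¹ = t * (s * y * s⁻¹) * t⁻¹ by group, r', ← mem_cent1.1 (inv_mem hy),
      mul_inv_cancel_right]

theorem ni_of (hp : p.Prime) (p2 : p ≠ 2) (H : ∀ a ∈ L, ∀ l ∈ L, IsPGroup p (zpowers a) → l * l = 1 →
    l * a * l⁻¹ = a⁻¹ → a = 1) : NI G p := fun a s g pa os c r => by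
  obtain ⟨k, rfl⟩ := h.cj os
  have pa' : IsPGroup p (zpowers (k * a * k⁻¹)) := conj_zpowers k a ▸ PG.isPGroup_conj_iff.2 pa
  obtain ⟨m, l, hl, ll, r'⟩ := h.nr (y := k * a * k⁻¹) (g := k * g * k⁻¹) (mem_cent1.2 ((TT.commute_conj_iff k).2 c).eq)
    (odd_ord (odd_p hp p2 pa') (mem_zpowers _)) (by rw [conj_inv, conj_mul, conj_mul, r, conj_inv])
  exact conj_eq_one_iff.1 (H _ m l hl pa' ll r')

theorem ni (hp : p.Prime) (n : ¬ p ∣ Nat.card L) : NI G p := by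
  have := Fact.mk hp
  refine h.ni_of hp (fun e => n ?_) fun a ha _ _ pa _ _ => by_contra fun a1 =>
    n ((PG.dvd_card_of_ne_bot pa (by simpa using a1)).trans (card_dvd_of_le (zpowers_le.2 ha)))
  obtain ⟨Q, q8, -, -, c, -⟩ := JS.facts h.l2
  obtain ⟨k, hk⟩ : Odd Q.natAbs := Int.natAbs_odd.2 (Int.odd_iff.2 (by omega))
  rw [hk, show (2 * k + 1) ^ 2 = 4 * (k * k + k) + 1 by ring, Nat.add_sub_cancel] at c
  exact e ▸ ⟨(2 * k + 1) * (k * k + k), by linarith⟩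

end JR'

namespace B3

variable (h : B3 S t u L D U T q)
include h

theorem uu : u * u = 1 := h.jr.Ssq h.uS
theorem ou : orderOf u = 2 := ord2 h.uu h.u1
theorem ut : u * t = t * u := mem_cent1.1 (h.jr.le h.uL)
theorem ne : u ≠ t := fun e => h.jr.nmem (e ▸ h.uL)
theorem Du : D ≤ C1[u] := h.jr.DS.trans (cent_le_cent1 h.uS)

theorem q27 : 27 ≤ q ∧ q % 8 = 3 ∧ 3 ∣ q ∧ (q % 5 = 2 ∨ q % 5 = 3) := by
  obtain ⟨m, m1, rfl⟩ := h.q3
  refine ⟨Nat.pow_le_pow_right (n := 3) (i := 3) (by norm_num) (by omega), ?_, dvd_pow_self 3 (by omega), ?_⟩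
  · rw [pow_succ, pow_mul, Nat.mul_mod, Nat.pow_mod]; simp
  · clear h m1
    induction m with
    | zero => simp
    | succ m ih => rw [show 2 * (m + 1) + 1 = 2 * m + 1 + 2 by ring, pow_add]; omega

theorem oT : Odd (Nat.card T) := Nat.odd_iff.2 (by have := h.q27; have := h.cardT; omega)

theorem T3 : ¬ 3 ∣ Nat.card T := by have := h.q27; have := h.cardT; omega

theorem pU : IsPGroup 3 U := PG.isPGroup_of_forall_pow h.exp

theorem cardL' : Nat.card L = q * Nat.card T * (q + 1) := by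
  have e := h.cardL
  rw [← h.cardT, show (2 * Nat.card T + 1) ^ 2 = 2 * (Nat.card T * (2 * Nat.card T + 1 + 1)) + 1 by ring,
    Nat.add_sub_cancel] at e
  rw [← h.cardT]; linarith

theorem oUT : Odd (Nat.card ↥(U ⊔ T)) :=
  ((odd_p Nat.prime_three (by decide) h.pU).mul h.oT).of_dvd_nat (card_sup_dvd (.inr h.TU))

theorem sylU : IsPiHallOf {3} U L := syl_mk Nat.prime_three h.UL h.pU fun d => by
  have e := card_mul_relIndex h.UL
  have := h.q27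
  rw [h.cardL', h.cardU, mul_assoc, Nat.mul_right_inj (by omega)] at e
  rcases (Nat.prime_three.dvd_mul).1 (e ▸ d) with d | d
  exacts [h.T3 d, by omega]

theorem ni : NI G 3 := h.jr.ni_of Nat.prime_three (by decide) fun a ha l hl pa ll r => by_contra fun a1 => by
  obtain ⟨k, hk, le⟩ := syl_exists_conj_le Nat.prime_three h.sylU pa (zpowers_le.2 ha)
  have m : k * a * k⁻¹ ∈ U := le (conj_mem_conj.2 (mem_zpowers a))
  have := h.ti _ m (cne a1 k) (k * l * k⁻¹) (cj_mem hk hl) (by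
    rw [conj_inv, conj_mul, conj_mul, r, ← conj_inv]; exact inv_mem m)
  rw [conj_eq_one_iff.1 (eq1_of_odd (odd_ord h.oUT this) (sq_conj ll k)), one_mul, inv_one, mul_one] at r
  exact a1 (eq1_of_inv (odd_ord (odd_p Nat.prime_three (by decide) pa) (mem_zpowers a)) r.symm)

theorem normT (hy : y ∈ T) : N[T] ≤ N[zpowers y] := PG.norm_le_norm_of_isCyclic h.cycT (zpowers_le.2 hy)

theorem TT : T ≤ C[T] := comm_iff_le_cent.1 (isMulCommutative_of_isCyclic h.cycT)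

theorem u_norm (hy : y ∈ T) : u ∈ N[zpowers y] := norm_zp (h.uT y hy ▸ inv_mem (mem_zpowers y))

/-- `C(t) ∩ N(y) = ⟨t⟩ T ⟨u⟩ D` -/
theorem nH (hy : y ∈ T) (y1 : y ≠ 1) (hc : c ∈ C1[t]) (m : c * y * c⁻¹ ∈ T) :
    ∃ v ∈ zpowers t ⊔ zpowers u, ∃ τ ∈ T, ∃ k ∈ D, c = v * τ * k := by
  have K : ∀ l ∈ L, ∀ k ∈ D, l * k * y * (l * k)⁻¹ ∈ T → ∃ v ∈ zpowers u, ∃ τ ∈ T, l = v * τ := fun l hl k hk m => by
    rcases h.nT _ (conj_mem_of_le_norm h.DT hk hy) (cne y1 k) l hl (by simpa [mul_assoc] using m) with n | n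
    exacts [⟨1, one_mem _, l, n, (one_mul l).symm⟩, ⟨u, mem_zpowers u, _, n, (GW.tt h.uu l).symm⟩]
  obtain ⟨l, hl, k, hk, rfl | rfl⟩ := h.jr.dec hc
  · obtain ⟨v, hv, τ, hτ, rfl⟩ := K l hl k hk m
    exact ⟨v, mem_sup_right hv, τ, hτ, k, hk, rfl⟩
  · have lk : l * k * y * (l * k)⁻¹ ∈ C1[t] := cj_mem (mul_mem (h.jr.le hl) (h.jr.Dt hk)) (h.jr.le (h.TL hy))
    rw [show t * (l * k) * y * (t * (l * k))⁻¹ = t * (l * k * y * (l * k)⁻¹) * t⁻¹ by group, ← mem_cent1.1 lk,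
      mul_inv_cancel_right] at m
    obtain ⟨v, hv, τ, hτ, rfl⟩ := K l hl k hk m
    exact ⟨t * v, mul_mem (mem_sup_left (mem_zpowers t)) (mem_sup_right hv), τ, hτ, k, hk, by group⟩

theorem oTD : Odd (Nat.card ↥(T ⊔ D)) := (h.oT.mul h.jr.odd).of_dvd_nat (card_sup_dvd (.inr h.DT))

/-- an element of odd order of `C(t) ∩ N(y)` lies in `T D`. -/
theorem nH_odd (hy : y ∈ T) (y1 : y ≠ 1) (hc : c ∈ C1[t]) (m : c * y * c⁻¹ ∈ T) (o : Odd (orderOf c)) :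
    ∃ τ ∈ T, ∃ k ∈ D, c = τ * k := by
  obtain ⟨v, hv, τ, hτ, k, hk, rfl⟩ := h.nH hy y1 hc m
  have vv := two_of h.jr.two (V_pg h.jr.ord h.ou h.ut) hv
  have n : zpowers t ⊔ zpowers u ≤ N[T ⊔ D] := le_norm_sup (sup_le
    (zp_norm (cent_le_norm _ (GW.mem_cent_iff.2 (h.TL.trans h.jr.le))))
    (zp_norm (mem_normalizer_fintype fun z hz => h.uT z hz ▸ inv_mem hz)))
    (le_norm_of_cent (le_cent_symm (cent_V (t := t) (v := u) ▸ le_inf h.jr.Dt h.Du)))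
  have m : τ * k ∈ T ⊔ D := mul_mem (mem_sup_left hτ) (mem_sup_right hk)
  refine (mem_sup_of_le_norm' h.DT).1 (PG.mem_of_sq_mem_of_odd o ?_)
  rw [show v * τ * k * (v * τ * k) = v * (τ * k) * v⁻¹ * (v * v) * (τ * k) by group, vv, mul_one]
  exact mul_mem (conj_mem_of_le_norm n hv m) m

theorem sylT (hy : y ∈ T) (y1 : y ≠ 1) (hX : X ≤ C1[y]) (tX : t ∈ X) : IsPiHallOf {2} (zpowers t) X :=
  syl_zp h.jr.two h.jr.ord tX fun s hs os c => by_contra fun n => by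
    have cy := mem_cent1.1 (hX hs)
    obtain ⟨l, hl, ll, l1, c⟩ : ∃ l ∈ L, l * l = 1 ∧ l ≠ 1 ∧ l * y = y * l := by
      rcases h.jr.memK.1 (h.jr.mem_K (mem_cent1.2 c.eq) (os ▸ Nat.coprime_two_left.2 h.jr.odd)) with m | m
      · exact ⟨s, m, sq1 os, ne1 os, cy⟩
      · exact ⟨_, m, TT.mul_self_of_commute h.jr.tt (sq1 os) c.symm,
          fun e => n (by rw [← GW.tt h.jr.tt s, e, mul_one]),
          by rw [mul_assoc, cy, ← mul_assoc, ← mem_cent1.1 (h.jr.le (h.TL hy)), mul_assoc]⟩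
    rcases h.nT y hy y1 l hl (by rwa [c, mul_inv_cancel_right]) with m | m
    · exact l1 (eq1_of_odd (odd_ord h.oT m) ll)
    · refine y1 (eq1_of_inv_fix (odd_ord h.oT hy) (h.uT y hy) (mem_cent1_comm.1 ?_))
      rw [← mul_mem_cancel_right (mem_cent1.2 c)]
      exact cent_le_cent1 hy (h.TT m)

/-- (CY) -/
theorem cy (ni : NI G p) (hp : p.Prime) (p2 : p ≠ 2) (hy : y ∈ T) (y1 : y ≠ 1) (pX : IsPGroup p X) (hX : X ≤ C1[y]) :
    ∃ c ∈ C1[y], cj[c] X ≤ D := by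
  have yt : t ∈ C1[y] := mem_cent1_comm.1 (h.jr.le (h.TL hy))
  have sy := h.sylT hy y1 le_rfl yt
  have n : zpowers t ⊔ zpowers u ≤ N[O[C1[y]]] := (V_le (cent_le_norm _ (cent_zpowers y ▸ yt)) (h.u_norm hy)).trans
    ((norm_le_norm_cent _).trans (cent_zpowers y ▸ norm_le_norm_piCoreOf _ _))
  obtain ⟨Y, hY, nY⟩ := coprime_exists_syl hp (.inl (O_solv _)) n (cop2' (O_odd _) (V_pg h.jr.ord h.ou h.ut))
  have pY := syl_isPGroup hp hY
  obtain ⟨c, hc, le⟩ := syl_exists_conj_le hp hY pX fun a ha =>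
    mem_O_of_odd sy (hX ha) (odd_ord (odd_p hp p2 pX) ha)
  have n1 := nY (mem_sup_left (mem_zpowers t))
  have n2 := nY (mem_sup_right (mem_zpowers u))
  refine ⟨c, O_le _ hc, le.trans fun a ha => ?_⟩
  obtain ⟨τ, hτ, k, hk, rfl⟩ := h.nH_odd hy y1 (ni.fg hp p2 pY h.jr.ord h.ou h.ne h.ut n1 n2 ha)
    (by rwa [mem_cent1.1 (O_le _ (hY.le ha)), mul_inv_cancel_right]) (odd_ord (odd_p hp p2 pY) ha)
  have := ni.fg hp p2 pY h.ou h.jr.ord h.ne.symm h.ut.symm n2 n1 ha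
  rwa [eq1_of_inv_fix (odd_ord h.oT hτ) (h.uT τ hτ) ((mul_mem_cancel_right (h.Du hk)).1 this), one_mul]

/-- a real 3-element centralizes no element of `T#`. -/
theorem cy_real (hy : y ∈ T) (y1 : y ≠ 1) (pa : IsPGroup 3 (zpowers a)) (c : a ∈ C1[y]) (r : g * a * g⁻¹ = a⁻¹) :
    a = 1 := by
  obtain ⟨c, -, le⟩ := h.cy h.ni Nat.prime_three (by decide) hy y1 pa (zpowers_le.2 c)
  refine h.ni a (c⁻¹ * t * c⁻¹⁻¹) g pa (ord2_conj h.jr.ord _) ((TT.commute_conj_iff c).1 ?_) r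
  rw [show c * (c⁻¹ * t * c⁻¹⁻¹) * c⁻¹ = t by group]
  exact mem_cent1.1 (h.jr.Dt (le (conj_mem_conj.2 (mem_zpowers a))))

/-- `T` is semiregular on a 3-group `P` with `C_P(t) ≤ U`. -/
theorem fp (pP : IsPGroup 3 P) (tP : t ∈ N[P]) (ct : P ⊓ C1[t] ≤ U) (hy : y ∈ T) (y1 : y ≠ 1) : P ⊓ C1[y] = ⊥ := by
  have yt : t ∈ C1[y] := mem_cent1_comm.1 (h.jr.le (h.TL hy))
  have pX : IsPGroup 3 ↥(P ⊓ C1[y]) := pP.to_le inf_le_left
  refine eq_bot_iff.2 fun a ha => h.cy_real hy y1 (pX.to_le (zpowers_le.2 ha)) ha.2 (inv_of_fpf h.jr.tt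
    (zpowers_le.1 (le_norm_inf (zp_norm tP) (le_norm_cent1 (zpowers_le.2 yt)))) (odd_p Nat.prime_three (by decide) pX)
    (eq_bot_iff.2 fun b hb => ?_) ha)
  exact (h.sr y hy b (ct ⟨hb.1.1, hb.2⟩) (mem_cent1.1 hb.1.2).symm).resolve_left y1

end B3

theorem W4.fp (h : B3 S t u L D U T q) (w : W4 t D U T P) (hy : y ∈ T) (y1 : y ≠ 1) : P ⊓ C1[y] = ⊥ :=
  h.fp w.pg w.tP w.ct.le hy y1

end Cfsg.Agent.WA
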