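import Mathlib

/-! The arithmetic for the case `Q = 5` of groups of Janko-Ree type. -/

set_option autoImplicit false

namespace Cfsg.Agent.WA.J5

/-- Newton iteration for the square root (only used as a guess). -/
noncomputable def isq (m : ℕ) (f : ℕ) : ℕ → ℕ :=
  Nat.rec (fun g => g) (fun _ ih g => cond (Nat.blt ((g + m / g) / 2) g) (ih ((g + m / g) / 2)) g) f

noncomputable def btw (m r : ℕ) : Bool := Nat.blt (r * r) m && Nat.blt m ((r + 1) * (r + 1))

/-- certificate that `D` is not a square -/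
noncomputable def nq (D : ℤ) : Bool :=
  decide (D < 0) || btw D.toNat (isq D.toNat 100 (2 ^ (D.toNat.log2 / 2 + 1)))

theorem nq_sq (z : ℤ) : nq (z * z) = false := by
  have h0 : ¬ z * z < 0 := not_lt.2 (mul_self_nonneg z)
  have e : (z * z).toNat = z.natAbs * z.natAbs := by
    rw [← Int.natAbs_mul_self, Int.toNat_natCast]
  simp only [nq, h0, decide_false, Bool.false_or, e, btw]
  generalize isq _ _ _ = r
  generalize z.natAbs = a
  rw [Bool.and_eq_false_iff, ← Bool.not_eq_true, ← Bool.not_eq_true, Nat.blt_eq, Nat.blt_eq]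
  rcases le_or_gt a r with h | h
  · exact .inl (not_lt.2 (Nat.mul_le_mul h h))
  · exact .inr (not_lt.2 (Nat.mul_le_mul h h))

noncomputable def allk (f : ℕ → Bool) (n : ℕ) : Bool := Nat.rec true (fun k ih => f k && ih) n

theorem allk_spec {f : ℕ → Bool} {n : ℕ} (h : allk f n = true) {k : ℕ} (hk : k < n) : f k = true := by
  induction n with
  | zero => omega
  | succ n ih =>
    have h' : (f n && allk f n) = true := h
    rw [Bool.and_eq_true] at h'
    rcases Nat.lt_succ_iff_lt_or_eq.1 hk with e | rfl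
    · exact ih h'.2 e
    · exact h'.1

/-- all `n ≤ N` divisible by `7` and by `a = m j - c` -/
noncomputable def srch (N m c J : ℕ) (f : ℤ → ℤ → Bool) : Bool :=
  allk (fun j => allk (fun k => (((m * j : ℕ) - c : ℤ).natAbs * (k + 1) % 7 != 0) ||
    f ((((m * j : ℕ) - c : ℤ).natAbs * (k + 1) : ℕ) : ℤ) ((m * j : ℕ) - c)) (N / ((m * j : ℕ) - c : ℤ).natAbs)) J

theorem srch_spec {N m c J : ℕ} {f : ℤ → ℤ → Bool} (h : srch N m c J f = true) {n j : ℕ} {a : ℤ} (n0 : 0 < n)
    (nN : n ≤ N) (h7 : 7 ∣ n) (hj : j < J) (ha : a = (m * j : ℕ) - c) (d : a ∣ n) : f n a = true := by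
  obtain ⟨k, hk⟩ := Int.natAbs_dvd_natAbs.2 d
  rw [Int.natAbs_natCast] at hk
  have h1 := allk_spec h hj
  simp only [← ha] at h1
  obtain ⟨k, rfl⟩ : ∃ l, k = l + 1 := Nat.exists_eq_succ_of_ne_zero (by rintro rfl; omega)
  have a0 : 0 < a.natAbs := Nat.pos_of_ne_zero (by intro e; rw [e] at hk; omega)
  have h2 := allk_spec h1 (k := k) (Nat.lt_of_succ_le ((Nat.le_div_iff_mul_le a0).2 (by rw [mul_comm]; exact hk ▸ nN)))
  simp only [← hk] at h2
  simpa [Nat.mod_eq_zero_of_dvd h7] using h2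

/-- the discriminant of `1 + k / A + u / y - v / (1 + A + y) = c / n` as an equation for `y` -/
def dsc (c k u v n A : ℤ) : ℤ :=
  ((c * A - n * A - k * n) * (1 + A) - (u - v) * n * A) ^ 2 + 4 * u * (c * A - n * A - k * n) * (1 + A) * n * A

theorem nq_dsc {c k u v n A y z : ℤ} (s : 1 + A + y + z = 0)
    (e : n * (A * y * z + k * y * z + u * A * z + v * A * y) = c * A * y * z) : nq (dsc c k u v n A) = false := by
  obtain rfl : z = -1 - A - y := by omega
  rw [← nq_sq (2 * (c * A - n * A - k * n) * y + ((c * A - n * A - k * n) * (1 + A) - (u - v) * n * A)), dsc]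
  congr 1
  linear_combination (-4 * (c * A - n * A - k * n)) * e

noncomputable def fA (n A : ℤ) : Bool :=
  nq (dsc 1200 1 9 9 n A) || nq (dsc 720 1 25 25 n A) || (n == 1463) || (n == 1575 && A == -15)

theorem chkA : srch 8400 8 8399 2101 fA = true := by decide +kernel

noncomputable def fB (n a : ℤ) : Bool :=
  nq (dsc 1200 4 36 9 n (2 * a)) || nq (dsc 720 4 4 25 n (2 * a)) || (n == 175 && a == 7) ||
    (n == 315 && (a == 3 || a == -21))

theorem chkB : srch 12400 4 12401 6201 fB = true := by decide +kernel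

/-- signed degree `X` and signed value `v` at the involution -/
structure Dg (n : ℕ) (X v : ℤ) : Prop where
  ne : X ≠ 0
  m8 : 8 ∣ X + 7 * v
  sg : 0 < X ∧ 0 ≤ X + 7 * v ∨ X < 0 ∧ X + 7 * v ≤ 0
  dv : X ∣ n * v
  fa : X ≠ v

theorem inv_ge {X : ℤ} {m : ℕ} (m0 : 0 < m) (h : 0 < X ∨ X ≤ -m) : (-1 / m : ℚ) ≤ 1 / X := by
  have : (0 : ℚ) < m := by exact_mod_cast m0
  rcases h with p | p
  · exact le_trans (by rw [neg_div]; exact neg_nonpos.2 (by positivity)) (show (0 : ℚ) ≤ 1 / X by positivity)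
  · have : (X : ℚ) ≤ -m := by exact_mod_cast p
    rw [le_div_iff_of_neg (by linarith), div_mul_eq_mul_div, le_div_iff₀ (by linarith)]; linarith

theorem inv_pos' {X : ℤ} (h : 0 < X) : (0 : ℚ) < 1 / X := by positivity

theorem toQ {c k u v A y z : ℤ} {n : ℕ} (n0 : 0 < n) (hA : A ≠ 0) (hy : y ≠ 0) (hz : z ≠ 0)
    (e : n * (A * y * z + k * y * z + u * A * z + v * A * y) = c * A * y * z) :
    (n : ℚ) * (1 + k * (1 / A) + u * (1 / y) + v * (1 / z)) = c := by
  have e' : (n : ℚ) * (A * y * z + k * y * z + u * A * z + v * A * y) = c * A * y * z := by exact_mod_cast e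
  have : (A : ℚ) ≠ 0 := by exact_mod_cast hA
  have : (y : ℚ) ≠ 0 := by exact_mod_cast hy
  have : (z : ℚ) ≠ 0 := by exact_mod_cast hz
  field_simp
  linear_combination e'

theorem le_of {n N : ℕ} {x c l : ℚ} (e : n * x = c) (h : l ≤ x) (l0 : 0 < l) (hN : c < (N + 1) * l) : n ≤ N := by
  have : (n : ℚ) * l ≤ c := e ▸ mul_le_mul_of_nonneg_left h n.cast_nonneg
  have : (n : ℚ) < N + 1 := lt_of_mul_lt_mul_right (this.trans_lt hN) l0.le
  exact Nat.lt_succ_iff.1 (by exact_mod_cast this)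

theorem arA {n : ℕ} (n0 : 0 < n) (h7 : 7 ∣ n) {A B C B' C' : ℤ} (dA : Dg n A 1) (dB' : Dg n B' 3) (dC' : Dg n C' 3)
    (s0 : 1 + A + B + C = 0) (s1 : 1 + A + B' + C' = 0)
    (e0 : n * (A * B * C + 1 * B * C + 25 * A * C + 25 * A * B) = 720 * A * B * C)
    (e1 : n * (A * B' * C' + 1 * B' * C' + 9 * A * C' + 9 * A * B') = 1200 * A * B' * C') :
    n = 1463 ∨ n = 1575 ∧ A = -15 ∧ 7 ∣ B ∧ 7 ∣ C := by
  have q := toQ n0 dA.ne dB'.ne dC'.ne e1
  have a1 := dA.m8; have a2 := dA.sg; have b2 := dB'.sg; have c2 := dC'.sg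
  have iA := inv_ge (X := A) (m := 7) (by norm_num) (by omega)
  have iB := inv_ge (X := B') (m := 21) (by norm_num) (by omega)
  have iC := inv_ge (X := C') (m := 21) (by norm_num) (by omega)
  have nN : n ≤ 8400 := by
    refine le_of (l := 1 / 7) q ?_ (by norm_num) (by norm_num)
    push_cast at *
    rcases show 0 < A ∨ 0 < B' ∨ 0 < C' by omega with p | p | p <;> linarith [inv_pos' p]
  have dv : A ∣ n := by simpa using dA.dv
  have le : A.natAbs ≤ n := Nat.le_of_dvd n0 (by simpa using Int.natAbs_dvd_natAbs.2 dv)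
  have h := srch_spec chkA (j := ((A + 8399) / 8).toNat) n0 nN h7 (by omega) (by push_cast; omega) dv
  rw [fA, nq_dsc s0 e0, nq_dsc s1 e1] at h
  simp only [Bool.false_or, Bool.or_eq_true, Bool.and_eq_true, beq_iff_eq] at h
  rcases h with h | ⟨h, rfl⟩
  · exact .inl (by omega)
  obtain rfl : n = 1575 := by omega
  obtain rfl : C = 14 - B := by omega
  have : (B - 35) * (B + 21) = 0 := by push_cast at e0; linarith
  rcases mul_eq_zero.1 this with e | e <;> omega

theorem bdB {n : ℕ} (n0 : 0 < n) (h7 : 7 ∣ n) {A B C : ℤ} (dA : Dg n A (-2)) (dB : Dg n B (-2)) (dC : Dg n C (-5))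
    (s0 : 1 + A + B + C = 0) (e0 : n * (A * B * C + 4 * B * C + 4 * A * C + 25 * A * B) = 720 * A * B * C)
    (le : A ≤ B) : n ≤ 12400 := by
  have q := toQ n0 dA.ne dB.ne dC.ne e0
  have a1 := dA.m8; have a2 := dA.sg; have a3 := dA.fa; have b1 := dB.m8; have b2 := dB.sg; have b3 := dB.fa
  have c1 := dC.m8; have c2 := dC.sg; have c3 := dC.fa
  have iA := inv_ge (X := A) (m := 10) (by norm_num) (by omega)
  have iB := inv_ge (X := B) (m := 10) (by norm_num) (by omega)
  rcases show 0 < C ∨ C ≤ -53 ∨ (C ≤ -29 ∧ (0 < A ∨ A ≤ -58)) ∨ (-21 ≤ C ∧ C < 0 ∧ A ≤ -58) ∨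
    (-45 ≤ C ∧ C ≤ -13 ∧ -50 ≤ A ∧ A ≤ -10) by omega with p | p | ⟨p, r⟩ | ⟨p, p', r⟩ | ⟨p, p', r, r'⟩
  · refine le_of (l := 1 / 5) q ?_ (by norm_num) (by norm_num)
    push_cast at *
    linarith [inv_pos' p]
  · have iC := inv_ge (X := C) (m := 53) (by norm_num) (.inr p)
    refine le_of (l := 1 / 10) q ?_ (by norm_num) (by norm_num)
    push_cast at *
    linarith [inv_pos' (show 0 < B by omega)]
  · have iC := inv_ge (X := C) (m := 29) (by norm_num) (.inr p)
    have iA := inv_ge (X := A) (m := 58) (by norm_num) r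
    refine le_of (l := 2 / 29) q ?_ (by norm_num) (by norm_num)
    push_cast at *
    linarith [inv_pos' (show 0 < B by omega)]
  · exfalso
    have iB := inv_ge (X := -B) (m := 58) (by norm_num) (by omega)
    have iA := inv_pos' (X := -A) (by omega)
    have iC : (1 / C : ℚ) ≤ -1 / 21 := by
      have : (C : ℚ) < 0 := by exact_mod_cast p'
      have : (-21 : ℚ) ≤ C := by exact_mod_cast p
      rw [div_le_iff_of_neg (by linarith)]; linarith
    have : (0 : ℚ) < n := by exact_mod_cast n0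
    push_cast at *
    rw [div_neg] at iA iB
    nlinarith
  · obtain rfl : B = -1 - A - C := by omega
    obtain ⟨k, rfl⟩ := h7
    clear q iA iB dA dB dC
    push_cast at e0
    interval_cases C <;> first | omega | (interval_cases A <;> omega)

theorem arB' {n : ℕ} (n0 : 0 < n) (nN : n ≤ 12400) (h7 : 7 ∣ n) {A B C D E : ℤ} (dA : Dg n A (-2))
    (s0 : 1 + A + B + C = 0) (s1 : 1 + A + D + E = 0)
    (e0 : n * (A * B * C + 4 * B * C + 4 * A * C + 25 * A * B) = 720 * A * B * C)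
    (e1 : n * (A * D * E + 4 * D * E + 36 * A * E + 9 * A * D) = 1200 * A * D * E) :
    n = 175 ∧ A = 14 ∨ n = 315 ∧ A = -42 := by
  have a1 := dA.m8; have a2 := dA.sg
  obtain ⟨a, rfl⟩ : ∃ a, A = 2 * a := ⟨A / 2, by omega⟩
  have dv : a ∣ n := by
    have := dA.dv
    rw [mul_neg, dvd_neg, mul_comm (n : ℤ)] at this
    exact Int.dvd_of_mul_dvd_mul_left two_ne_zero this
  have le : a.natAbs ≤ n := Nat.le_of_dvd n0 (by simpa using Int.natAbs_dvd_natAbs.2 dv)
  have h := srch_spec chkB (j := ((a + 12401) / 4).toNat) n0 nN h7 (by omega) (by push_cast; omega) dv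
  rw [fB, nq_dsc s0 e0, nq_dsc s1 e1] at h
  simp only [Bool.false_or, Bool.or_eq_true, Bool.and_eq_true, beq_iff_eq] at h
  omega

theorem arB {n : ℕ} (n0 : 0 < n) (h7 : 7 ∣ n) {A B C D E F : ℤ} (dA : Dg n A (-2)) (dB : Dg n B (-2))
    (dC : Dg n C (-5)) (s0 : 1 + A + B + C = 0) (s1 : 1 + A + D + E = 0) (s2 : 1 + B + D + F = 0)
    (e0 : n * (A * B * C + 4 * B * C + 4 * A * C + 25 * A * B) = 720 * A * B * C)
    (e1 : n * (A * D * E + 4 * D * E + 36 * A * E + 9 * A * D) = 1200 * A * D * E)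
    (e2 : n * (B * D * F + 4 * D * F + 36 * B * F + 9 * B * D) = 1200 * B * D * F) : False := by
  have e0' : n * (B * A * C + 4 * A * C + 4 * B * C + 25 * B * A) = 720 * B * A * C := by linear_combination e0
  have nN : n ≤ 12400 := (le_total A B).elim (bdB n0 h7 dA dB dC s0 e0) (bdB n0 h7 dB dA dC (by omega) e0')
  have h1 := arB' n0 nN h7 dA s0 s1 e0 e1
  have h2 := arB' n0 nN h7 dB (B := A) (by omega) s2 e0' e2
  obtain rfl : C = -1 - A - B := by omega
  rcases h1 with ⟨rfl, rfl⟩ | ⟨rfl, rfl⟩ <;> rcases h2 with ⟨h, rfl⟩ | ⟨h, rfl⟩ <;> omega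

end Cfsg.Agent.WA.J5
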