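import Cfsg.Agent.WA.J0
import Cfsg.Agent.WA.J5A
import Cfsg.Agent.Cl.SimpleBasic
import Cfsg.Agent.PG.Critical

/-! Groups of Janko-Ree type with `Q = 5` have the order of `J₁`. -/

set_option autoImplicit false
set_option linter.unusedSectionVars false

namespace Cfsg.Agent.WA

open Cfsg Subgroup Cfsg.Agent.GT Cfsg.Agent.Char Cfsg.Agent.BS Cfsg.Agent.B84C Cfsg.Agent.B84H Cfsg.Agent.LY J5
open scoped ComplexConjugate

universe u

variable {G : Type u} [Group G] {t u g w x : G} {L : Subgroup G} {Q : ℤ}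

/-- the equation given by the class sum of `t` -/
theorem J5.eqZ [Fintype G] {α β γ : G → ℂ} (hα : IsSIrr G α) (hβ : IsSIrr G β) (hγ : IsSIrr G γ) {A B C a b c k : ℤ}
    (a1 : α 1 = A) (b1 : β 1 = B) (c1 : γ 1 = C) (a2 : α t = a) (b2 : β t = b) (c2 : γ t = c)
    (e : cZ t ((fun _ => 1) + α + β + γ) = C1[t].index * k) :
    C1[t].index * (A * B * C + a ^ 2 * B * C + b ^ 2 * A * C + c ^ 2 * A * B) = k * A * B * C := by
  have h1 := cZ_sirr (t := t) hα
  have h2 := cZ_sirr (t := t) hβ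
  have h3 := cZ_sirr (t := t) hγ
  rw [cZ_add, cZ_add, cZ_add, cZ_one] at e
  rw [a1, a2] at h1; rw [b1, b2] at h2; rw [c1, c2] at h3
  have n0 : (C1[t].index : ℂ) ≠ 0 := by exact_mod_cast index_ne_zero_of_finite
  have : (C1[t].index : ℂ) * (A * B * C + a ^ 2 * B * C + b ^ 2 * A * C + c ^ 2 * A * B) = k * A * B * C :=
    mul_left_cancel₀ n0 (by linear_combination A * B * C * e - B * C * h1 - A * C * h2 - A * B * h3)
  exact_mod_cast this

theorem J5.ker_triv [Fintype G] [IsSimpleGroup G] {χ : G → ℂ} (hχ : IsSIrr G χ) (o : ⟪χ, fun _ => 1⟫ = 0) {y : G}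
    (e : χ y = χ 1) : y = 1 := by
  have k : ∀ {χ : G → ℂ}, IsIrrCharacter G χ → ⟪χ, fun _ => 1⟫ = 0 → χ y = χ 1 → y = 1 := fun {χ} hχ o e => by
    have m := hχ.isCharacter.mem_chKer_iff.2 e
    rcases IsSimpleGroup.eq_bot_or_eq_top_of_normal _ (chKer_normal hχ.isClassFunction) with h | h
    · rwa [h] at m
    · rw [hχ.eq_one_of_forall fun g => apply_eq_of_mem_chKer (h ▸ mem_top g), ci_one_one] at o
      exact absurd o one_ne_zero
  rcases hχ with hχ | hχ
  · exact k hχ o e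
  · exact k hχ (by rw [ci_neg_left, o, neg_zero]) (by simp [e])

theorem J5.int_div [Finite G] {χ : G → ℂ} (hχ : IsSIrr G χ) (y : G) : IsIntegral ℤ (C1[y].index * χ y / χ 1) := by
  rcases hχ with hχ | hχ
  · exact hχ.isIntegral_index_mul_div y
  · simpa [neg_div_neg_eq] using hχ.isIntegral_index_mul_div y

/-- an element of order five centralizes an element of order seven -/
theorem J5.five_seven [Finite G] [IsSimpleGroup G] (hG : Nat.card G = 189000)
    (h2 : ∀ s : G, orderOf s = 2 → ¬ 7 ∣ Nat.card C1[s]) : ∃ c : G, orderOf c = 5 ∧ 7 ∣ Nat.card C1[c] := by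
  have : Fact (Nat.Prime 7) := ⟨by norm_num⟩
  obtain ⟨P⟩ : Nonempty (Sylow 7 G) := inferInstance
  have cP : Nat.card P = 7 := by
    rw [P.card_eq_multiplicity, hG, show 189000 = 7 * 27000 from rfl, Nat.factorization_mul (by norm_num) (by norm_num)]
    simp [Nat.factorization_eq_zero_of_not_dvd (show ¬ 7 ∣ 27000 by norm_num), (show Nat.Prime 7 by norm_num).factorization_self]
  have k : ∀ p : ℕ, p.Prime → p ∣ Nat.card C[(P : Subgroup G)] → ∃ c : G, orderOf c = p ∧ 7 ∣ Nat.card C1[c] :=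
    fun p hp d => by
      have : Fact p.Prime := ⟨hp⟩
      obtain ⟨c, hc⟩ := exists_prime_orderOf_dvd_card' p d
      refine ⟨c, by simpa using hc, cP.symm.dvd.trans (card_dvd_of_le fun y hy => mem_cent1.2 (c.2 y hy))⟩
  refine k 5 (by norm_num) (by_contra fun n5 => ?_)
  have n2 : ¬ 2 ∣ Nat.card C[(P : Subgroup G)] := fun d => by
    obtain ⟨c, h, h'⟩ := k 2 Nat.prime_two d
    exact h2 c h h'
  have e1 := card_mul_relIndex (cent_le_norm (P : Subgroup G))
  have e2 := PG.relIndex_cent_dvd_of_card_prime (by norm_num) cP le_rfl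
  have e3 := (N[(P : Subgroup G)]).card_mul_index
  have e4 := card_sylow_modEq_one 7 G
  rw [P.card_eq_index_normalizer] at e4
  have nc : ¬ IsMulCommutative G := Cl.not_comm_of_not_prime (by rw [hG]; norm_num)
  have e5 : (C[(P : Subgroup G)]).relIndex N[(P : Subgroup G)] ≠ 1 := fun e =>
    Cl.not_normalizer_le_centralizer nc (by rw [hG]; norm_num) P (relIndex_eq_one.1 e)
  have e6 : 7 ∣ Nat.card C[(P : Subgroup G)] := cP.symm.dvd.trans (card_dvd_of_le
    (le_centralizer_iff_isMulCommutative.2 (isCyclic_of_prime_card cP).isMulCommutative))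
  rw [← e1, hG] at e3
  change (N[(P : Subgroup G)]).index ≡ 1 [MOD 7] at e4
  generalize (N[(P : Subgroup G)]).index = m at *
  generalize (C[(P : Subgroup G)]).relIndex _ = r at *
  generalize Nat.card C[(P : Subgroup G)] = c at *
  obtain ⟨c, rfl⟩ := e6
  have c27 : c ∣ 27 := by
    refine (Nat.Coprime.dvd_mul_right (n := 1000) ?_).1 ⟨r * m, by linarith⟩
    exact Nat.Coprime.pow_right 3 (Nat.Coprime.mul_right (m := 2) (n := 5)
      ((Nat.Prime.coprime_iff_not_dvd (by norm_num)).2 fun d => n2 (d.mul_left _)).symm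
      ((Nat.Prime.coprime_iff_not_dvd (by norm_num)).2 fun d => n5 (d.mul_left _)).symm)
  have := Nat.le_of_dvd (by norm_num) c27
  have := Nat.le_of_dvd (by norm_num) e2
  unfold Nat.ModEq at e4
  interval_cases c <;> interval_cases r <;> omega

namespace JD

variable (h : JD t u g w x L Q)
include h

theorem card_C [Finite G] : Nat.card C1[t] = 2 * Nat.card L := by
  have le : L ≤ C1[t] := fun l hl => mem_cent1.2 (h.le l hl)
  rw [← card_mul_relIndex le, mul_comm, relIndex, index_eq_two_iff.2 ⟨⟨t, mem_cent1.2 rfl⟩, fun b => ?_⟩]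
  have c : Commute (b : G) t := mem_cent1.1 b.2
  simp only [mem_subgroupOf, coe_mul, c.eq]
  rcases h.dec b c with e | e
  · exact .inr ⟨e, fun e' => h.tL ((L.mul_mem_cancel_right e).1 e')⟩
  · exact .inl ⟨e, fun e' => h.tL ((L.mul_mem_cancel_right e').1 e)⟩

theorem deg8 [Fintype G] {χ : G → ℂ} (hχ : IsCharacter G χ) : ∃ n : ℕ, χ 1 + 7 * χ t = 8 * n := by
  have c : ∀ e ∈ h.ψ.range, Commute e w := fun e he => by
    rcases h.mem_U.1 he with rfl | rfl | rfl | rfl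
    exacts [Commute.one_left _, h.wt.symm, h.wu.symm, h.wt.symm.mul_left h.wu.symm]
  have k : ∀ e ∈ h.ψ.range, χ (e * w) = χ t := fun e he => by
    have ee : e * e = 1 := by
      rcases h.mem_U.1 he with rfl | rfl | rfl | rfl
      exacts [mul_one _, h.tt, h.uu, h.vv]
    refine (hχ.isClassFunction.eq_of_isConj (h.cj _ ?_ fun e1 => h.wW ?_)).symm
    · rw [(c e he).symm.mul_mul_mul_comm, ee, h.ww, mul_one]
    · exact (mul_mem_cancel_left he).1 (e1 ▸ one_mem _)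
  obtain ⟨n, hn⟩ := lin_nat (h.ψ.noncommCoprod (cyc (n := 2) w (by rw [sq, h.ww])) fun a _ =>
    (c _ ⟨a, rfl⟩).pow_right _) 1 hχ
  have e1 := hχ.isClassFunction.eq_of_isConj h.cu
  have e2 := hχ.isClassFunction.eq_of_isConj h.cv
  have k0 := k 1 (one_mem _)
  have k1 := k t (h.mem_U.2 (by simp))
  have k2 := k u (h.mem_U.2 (by simp))
  have k3 := k (t * u) (h.mem_U.2 (by simp))
  rw [one_mul] at k0
  simp only [Fintype.sum_prod_type, ← Multiplicative.ofAdd.sum_comp, Fin.sum_univ_two] at hn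
  simp [Q3.ψ, cyc, ← e1, ← e2, k0, k1, k2, k3] at hn
  exact ⟨n, by linear_combination hn⟩

theorem dg [Fintype G] [IsSimpleGroup G] {χ : G → ℂ} (hχ : IsSIrr G χ) (o : ⟪χ, fun _ => 1⟫ = 0) {v : ℤ}
    (hv : χ t = v) : ∃ X : ℤ, χ 1 = X ∧ Dg C1[t].index X v := by
  obtain ⟨X, hX⟩ := hχ.virt.exists_int_one
  have X0 : X ≠ 0 := fun e => hχ.apply_one_ne_zero (by simp [hX, e])
  have k : (0 < X ∧ ∃ n : ℕ, X + 7 * v = 8 * n) ∨ X < 0 ∧ ∃ n : ℕ, -X - 7 * v = 8 * n := by
    rcases hχ with hχ | hχ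
    · obtain ⟨n, hn⟩ := h.deg8 hχ.isCharacter
      have := hχ.re_one_pos
      rw [hX] at this
      exact .inl ⟨by simpa using this, n, by rw [hX, hv] at hn; exact_mod_cast hn⟩
    · obtain ⟨n, hn⟩ := h.deg8 hχ.isCharacter
      have := hχ.re_one_pos
      simp only [Pi.neg_apply, hX, hv] at hn this
      exact .inr ⟨by simpa using this, n, by exact_mod_cast (by linear_combination hn : (-X - 7 * v : ℂ) = 8 * n)⟩
  refine ⟨X, hX, X0, ?_, ?_, int_dvd_of_isIntegral (int_div hχ t) X0 ?_, fun e => h.t1 (ker_triv hχ o ?_)⟩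
  · rcases k with ⟨_, n, e⟩ | ⟨_, n, e⟩ <;> omega
  · rcases k with ⟨_, n, e⟩ | ⟨_, n, e⟩ <;> omega
  · rw [hX, hv, mul_div_cancel₀ _ (by exact_mod_cast X0)]; push_cast; rfl
  · rw [hX, hv, e]

end JD

section five

variable [Fintype G] [IsSimpleGroup G] (h : JD t u g w x L 5) {Θ : Fin 3 → G → ℂ} (T : TD t x 5 Θ)
include h

theorem JD.card_C5 : Nat.card C1[t] = 120 := by
  have := h.card
  rw [h.card_C]
  simpa using this

theorem JD.card_G5 : Nat.card G = 120 * C1[t].index := by rw [← h.card_C5, card_mul_index]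

theorem JD.seven5 : 7 ∣ C1[t].index :=
  (Nat.Coprime.dvd_mul_left (by norm_num)).1 (h.card_G5 ▸ h.seven)

include T

theorem TD.cz0 : cZ t (Θ 0) = C1[t].index * (720 : ℤ) := by
  have := T.cz 0
  simp only [xs, Matrix.cons_val_zero] at this
  push_cast at this ⊢
  linear_combination this / 5

theorem TD.cz1 {i : Fin 3} (hi : i ≠ 0) : cZ t (Θ i) = C1[t].index * (1200 : ℤ) := by
  have := T.cz i
  rw [show xs 5 i = -3 by clear this; revert i; decide] at this
  push_cast at this ⊢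
  linear_combination this / (-3)

theorem TD.s0 {i : Fin 3} {α β γ : G → ℂ} (e : Θ i = (fun _ => 1) + α + β + γ) {A B C : ℤ} (a1 : α 1 = A)
    (b1 : β 1 = B) (c1 : γ 1 = C) : 1 + A + B + C = 0 := by
  have := T.od i 1 (by simp)
  simp only [e, Pi.add_apply, a1, b1, c1] at this
  exact_mod_cast this

theorem JD.not_SB {a c : Fin 3 → G → ℂ} (s : SB t 5 Θ a c) : False := by
  have v0 : a 0 t = (6 : ℤ) := by rw [s.va]; simp [xs]; norm_num
  obtain ⟨A0, a0, -⟩ := h.dg (s.ia 0) (s.a1 0) v0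
  have v1 : a 1 t = (-2 : ℤ) := by rw [s.va]; simp [xs]; norm_num
  have v2 : a 2 t = (-2 : ℤ) := by rw [s.va]; simp [xs]; norm_num
  have w0 : c 0 t = (-5 : ℤ) := by rw [s.vc]; simp [xs]
  have w1 : c 1 t = (3 : ℤ) := by rw [s.vc]; simp [xs]
  have w2 : c 2 t = (3 : ℤ) := by rw [s.vc]; simp [xs]
  obtain ⟨A1, a1, d1⟩ := h.dg (s.ia 1) (s.a1 1) v1
  obtain ⟨A2, a2, d2⟩ := h.dg (s.ia 2) (s.a1 2) v2
  obtain ⟨C0, c0, d0⟩ := h.dg (s.ic 0) (s.c1 0) w0
  obtain ⟨C1, c1, -⟩ := h.dg (s.ic 1) (s.c1 1) w1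
  obtain ⟨C2, c2, -⟩ := h.dg (s.ic 2) (s.c1 2) w2
  have t0 : Θ 0 = (fun _ => 1) + a 1 + a 2 + c 0 := s.eq 0
  have t1 : Θ 1 = (fun _ => 1) + a 2 + a 0 + c 1 := s.eq 1
  have t2 : Θ 2 = (fun _ => 1) + a 1 + a 0 + c 2 := (s.eq 2).trans (by rw [add_right_comm _ (a 1)]; rfl)
  have e0 := eqZ (s.ia 1) (s.ia 2) (s.ic 0) a1 a2 c0 v1 v2 w0 (by rw [← t0, T.cz0 h])
  have e1 := eqZ (s.ia 2) (s.ia 0) (s.ic 1) a2 a0 c1 v2 v0 w1 (by rw [← t1, T.cz1 h (by decide)])
  have e2 := eqZ (s.ia 1) (s.ia 0) (s.ic 2) a1 a0 c2 v1 v0 w2 (by rw [← t2, T.cz1 h (by decide)])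
  exact arB (Nat.pos_of_ne_zero index_ne_zero_of_finite) h.seven5 d1 d2 d0 (T.s0 h t0 a1 a2 c0) (T.s0 h t2 a1 a0 c2)
    (T.s0 h t1 a2 a0 c1) (by linear_combination e0) (by linear_combination e2) (by linear_combination e1)

omit h in
/-- the common constituent is rational -/
theorem SA.rat {a : G → ℂ} {b : Fin 3 → Bool → G → ℂ} (s : SA t 5 Θ a b) (y : G) : ∃ n : ℤ, a y = n := by
  refine exists_int_of_forall_ringEquiv (s.ia.virt.isIntegral y) fun σ => ?_
  have i' := s.ia.map_ringHom σ.toRingHom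
  have t' : σ.toRingHom (a t) = 1 := by rw [s.va, map_one]
  have e : ∀ {c : G → ℂ}, ⟪c, fun _ => 1⟫ = 0 → (∀ i e, ⟪c, b i e⟫ = 0) → ⟪c, Θ 0 + Θ 1 + Θ 2⟫ = 3 * ⟪c, a⟫ :=
    fun h1 h2 => by
      rw [s.eq 0, s.eq 1, s.eq 2]
      simp only [ci_add_right, h1, h2]
      ring
  have e1 := ci_map_ringHom σ.toRingHom a (((T.virt 0).add (T.virt 1)).add (T.virt 2))
  have e2 := ci_map_ringHom σ.toRingHom a virt_one
  rw [e s.a1 s.ab, s.ia.ci_self, show (fun g => σ.toRingHom ((Θ 0 + Θ 1 + Θ 2) g)) = Θ 0 + Θ 1 + Θ 2 from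
    funext fun g => by
      by_cases o : Odd (orderOf g)
      · simp [T.od _ g o]
      · simp only [Pi.add_apply, T.ev g o, map_ofNat], e (by simpa [s.a1] using e2) fun i e => ?_] at e1
  · exact congrFun (i'.eq_of_ci_eq_one s.ia (by simpa [map_ofNat] using e1)) y
  · have v := s.vb i e
    have : xs 5 i = 5 ∨ xs 5 i = -3 := by clear v; revert i; decide
    refine i'.ci_eq_zero (s.ib i e) (fun k => ?_) fun k => ?_ <;> have k' := congrFun k t <;>
      simp only [t', Pi.neg_apply, v] at k' <;> rcases this with r | r <;> rw [r] at k' <;> norm_num at k'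

theorem JD.SA5 {a : G → ℂ} {b : Fin 3 → Bool → G → ℂ} (s : SA t 5 Θ a b) : C1[t].index = 1463 := by
  have v0 : a t = (1 : ℤ) := by simp [s.va]
  have v1 : ∀ e, b 0 e t = (-5 : ℤ) := fun e => by rw [s.vb]; simp [xs]
  have v2 : ∀ e, b 1 e t = (3 : ℤ) := fun e => by rw [s.vb]; simp [xs]
  obtain ⟨A, a1, dA⟩ := h.dg s.ia s.a1 v0
  obtain ⟨B, b1, dB⟩ := h.dg (s.ib 0 true) (s.b1 _ _) (v1 _)
  obtain ⟨C, c1, dC⟩ := h.dg (s.ib 0 false) (s.b1 _ _) (v1 _)
  obtain ⟨B', b2, dB'⟩ := h.dg (s.ib 1 true) (s.b1 _ _) (v2 _)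
  obtain ⟨C', c2, dC'⟩ := h.dg (s.ib 1 false) (s.b1 _ _) (v2 _)
  have e0 := eqZ s.ia (s.ib 0 true) (s.ib 0 false) a1 b1 c1 v0 (v1 _) (v1 _) (by rw [← s.eq, T.cz0 h])
  have e1 := eqZ s.ia (s.ib 1 true) (s.ib 1 false) a1 b2 c2 v0 (v2 _) (v2 _) (by rw [← s.eq, T.cz1 h (by decide)])
  refine (arA (Nat.pos_of_ne_zero index_ne_zero_of_finite) h.seven5 dA dB' dC' (T.s0 h (s.eq 0) a1 b1 c1)
    (T.s0 h (s.eq 1) a1 b2 c2) (by linear_combination e0) (by linear_combination e1)).resolve_right ?_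
  rintro ⟨hn, rfl, ⟨B, rfl⟩, C, rfl⟩
  have hG : Nat.card G = 189000 := by rw [h.card_G5, hn]
  obtain ⟨c, oc, c7⟩ := five_seven hG fun s os d => by
    have k := h.cj s (by rw [← sq, ← os, pow_orderOf_eq_one]) (by rintro rfl; simp at os)
    have e := (card_conj_eq_of_isConj k).symm.trans (Nat.card_congr (Equiv.subtypeEquiv (Equiv.inv G) fun y => ?_) |>.trans
      (card_conj_eq_of_isConj k.symm))
    · rw [← e, h.card_C5] at d
      norm_num at d
    · simp only [Equiv.inv_apply, inv_inv]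
      exact ⟨fun e => by rw [← e]; group, fun e => by rw [← e]; group⟩
  have n7 : ¬ (7 : ℤ) ∣ C1[c].index := fun d => by
    have := mul_dvd_mul c7 (show 7 ∣ C1[c].index by exact_mod_cast d)
    rw [card_mul_index, hG] at this
    norm_num at this
  obtain ⟨m, hm⟩ := s.rat T c
  have o : 1 + m + b 0 true c + b 0 false c = 0 := by
    have := T.od 0 c (by rw [oc]; decide)
    simpa only [s.eq, Pi.add_apply, hm] using this
  have B0 : (B : ℂ) ≠ 0 := fun e => (s.ib 0 true).apply_one_ne_zero (by simp [b1, e])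
  have C0 : (C : ℂ) ≠ 0 := fun e => (s.ib 0 false).apply_one_ne_zero (by simp [c1, e])
  have d7 : (7 : ℤ) ∣ C1[c].index * (-1 - m) := by
    refine int_dvd_of_isIntegral (((isIntegral_intCast B).mul (int_div (s.ib 0 true) c)).add
      ((isIntegral_intCast C).mul (int_div (s.ib 0 false) c))) (by norm_num) ?_
    rw [b1, c1]
    push_cast
    field_simp
    linear_combination (-C1[c].index : ℂ) * o
  have d7' := ((show Prime (7 : ℤ) by norm_num).dvd_or_dvd d7).resolve_left n7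
  have ia : IsIrrCharacter G (-a) := s.ia.neg.isIrr_of_pos (by simp [a1])
  have d5 := ia.isCharacter.prime_dvd_degree_sub (p := 5) (by norm_num) (g := c) (k := 1) (d := 15) (n := -m)
    (by rw [pow_one, ← oc, pow_orderOf_eq_one]) (by simp [a1]) (by simp [hm])
  have le := ia.isCharacter.norm_le c
  simp only [Pi.neg_apply, hm, a1, norm_neg, Complex.norm_intCast] at le
  have le' : |m| ≤ 15 := by exact_mod_cast le
  have := ker_triv s.ia s.a1 (y := c) (by rw [hm, a1, show m = -15 by have := abs_le.1 le'; omega])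
  simp [this] at oc

theorem JD.j5 (s : (∃ a b, SA t 5 Θ a b) ∨ ∃ a c, SB t 5 Θ a c) : Nat.card G = 175560 := by
  rcases s with ⟨a, b, s⟩ | ⟨a, c, s⟩
  · rw [h.card_G5, h.SA5 T s]
  · exact (h.not_SB T s).elim

end five

end Cfsg.Agent.WA
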