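import Mathlib

/-! Groups of Janko-Ree type: two Diophantine lemmas. -/

set_option autoImplicit false
set_option linter.unusedVariables false

namespace Cfsg.Agent.WA

theorem ar2_core {h a β m r : ℤ} (h4 : h % 4 = 3) (big : 13 ≤ |h|) (m7 : 7 ≤ m) (oa : a % 2 = 1) (eb : β % 2 = 0)
    (b0 : β ≠ 0) (e1 : r = (h * a + 1) * β + (2 * h - 1) ^ 2) (e2 : m * r = (a + 2) * (β - (2 * h - 1)))
    (e3 : (2 * h - 1) * m = (2 * h - 1) * (4 * h ^ 2 + 4 * h) + (h * β - (a + 2))) (r0 : r ≠ 0) : False := by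
  obtain ⟨H, hH⟩ : ∃ H, H = |h| := ⟨_, rfl⟩
  obtain ⟨A, hA⟩ : ∃ A, A = |a| := ⟨_, rfl⟩
  obtain ⟨B, hB⟩ : ∃ B, B = |β| := ⟨_, rfl⟩
  obtain ⟨q, hq⟩ : ∃ q, q = |2 * h - 1| := ⟨_, rfl⟩
  obtain ⟨R, hR⟩ : ∃ R, R = |r| := ⟨_, rfl⟩
  have A1 : 1 ≤ A := by rw [hA]; cases abs_cases a <;> omega
  have B2 : 2 ≤ B := by rw [hB]; cases abs_cases β <;> omega
  have R1 : 1 ≤ R := by rw [hR]; cases abs_cases r <;> omega
  have q1 : q ≤ 2 * H + 1 := by rw [hq, hH]; cases abs_cases h <;> cases abs_cases (2 * h - 1) <;> omega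
  have q2 : 2 * H - 1 ≤ q := by rw [hq, hH]; cases abs_cases h <;> cases abs_cases (2 * h - 1) <;> omega
  rw [← hH] at big
  have f1 : (H * A - 1) * B ≤ R + q ^ 2 := by
    have : H * A - 1 ≤ |h * a + 1| := by
      rw [hH, hA, ← abs_mul]; cases abs_cases (h * a) <;> cases abs_cases (h * a + 1) <;> omega
    calc (H * A - 1) * B ≤ |h * a + 1| * B := by gcongr
      _ = |r - (2 * h - 1) ^ 2| := by rw [hB, ← abs_mul, e1]; congr 1; ring
      _ ≤ _ := by rw [hR, hq, ← abs_pow]; exact abs_sub _ _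
  have f2 : m * R ≤ (A + 2) * (B + q) := by
    rw [hR, ← abs_of_pos (show 0 < m by omega), ← abs_mul, e2, abs_mul, hA, hB, hq]
    gcongr
    · exact (abs_add_le _ _).trans (by simp)
    · exact abs_sub _ _
  have f3 : q * (4 * H ^ 2 - 4 * H) ≤ q * m + (H * B + (A + 2)) := by
    have : 4 * H ^ 2 - 4 * H ≤ |4 * h ^ 2 + 4 * h| := by
      rw [hH, sq_abs]; cases abs_cases h <;> cases abs_cases (4 * h ^ 2 + 4 * h) <;> nlinarith
    calc q * (4 * H ^ 2 - 4 * H) ≤ q * |4 * h ^ 2 + 4 * h| := by gcongr; omega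
      _ = |(2 * h - 1) * m - (h * β - (a + 2))| := by rw [hq, ← abs_mul, e3]; congr 1; ring
      _ ≤ |(2 * h - 1) * m| + (|h * β| + |a + 2|) := (abs_sub _ _).trans (by gcongr; exact abs_sub _ _)
      _ ≤ _ := by
        rw [abs_mul, abs_mul, abs_of_pos (show 0 < m by omega), ← hq, ← hH, ← hB, hA]
        gcongr
        exact (abs_add_le _ _).trans (by simp)
  have qq : q ^ 2 ≤ (2 * H + 1) ^ 2 := by gcongr; omega
  have HH : 13 * H ≤ H * H := by gcongr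
  have g4 : 1 * B ≤ A * B := by gcongr
  have P : A * B ≤ 10 * H := by
    have g1 : 7 * R ≤ m * R := by gcongr
    have g2 : 2 * (2 * H + 1) ≤ B * (2 * H + 1) := by gcongr
    have g3 : (A + 2) * (2 * (B + q)) ≤ (3 * A) * (B * (2 * H + 3)) :=
      mul_le_mul (by omega) (by linarith) (by omega) (by omega)
    by_contra c
    have g5 : (10 * H + 1) * (8 * H - 23) ≤ A * B * (8 * H - 23) := by gcongr <;> omega
    linarith
  have PA : A ≤ 5 * H := by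
    have : A * 2 ≤ A * B := by gcongr
    linarith
  have PB : B ≤ 10 * H := by linarith
  have M : 4 * H ^ 2 - 9 * H - 6 ≤ m := by
    have g1 : H * B ≤ H * (10 * H) := by gcongr
    have g2 : (2 * H - 1) * (5 * H + 6) ≤ q * (5 * H + 6) := by gcongr
    have : q * (4 * H ^ 2 - 9 * H - 6) ≤ q * m := by linarith
    exact le_of_mul_le_mul_left this (by omega)
  have R4 : R ≤ 4 := by
    by_contra c
    have g1 : m * 5 ≤ m * R := by gcongr; omega
    have g2 : A * q ≤ (5 * H) * (2 * H + 1) := by gcongr; omega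
    linarith
  have A3 : 3 ≤ A := by
    by_contra c
    obtain rfl : A = 1 := by rw [hA] at c ⊢; cases abs_cases a <;> omega
    have g1 : m * 1 ≤ m * R := by gcongr
    linarith
  obtain ⟨γ, hγ⟩ : ∃ γ, γ = -(a * β) - 4 * (h - 1) := ⟨_, rfl⟩
  have e4 : β = h * γ + (r - 1) := by rw [hγ, e1]; ring
  have eγ : γ % 2 = 0 := by
    obtain ⟨c, rfl⟩ : ∃ c, β = 2 * c := ⟨β / 2, by omega⟩
    rw [hγ, show -(a * (2 * c)) - 4 * (h - 1) = 2 * (-(a * c) - 2 * (h - 1)) by ring]; omega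
  have g0 : γ = 0 := by
    by_contra c
    have g1 : 2 ≤ |γ| := by cases abs_cases γ <;> omega
    have g2 : H * 2 ≤ |h * γ| := by rw [abs_mul, ← hH]; gcongr
    have g3 : 2 * H - 5 ≤ B := by
      rw [hR] at R4; rw [hB]
      cases abs_cases β <;> cases abs_cases (h * γ) <;> cases abs_cases r <;> omega
    have g4 : (H * 3 - 1) * (2 * H - 5) ≤ (H * A - 1) * B := by
      have : H * 3 ≤ H * A := by gcongr
      exact mul_le_mul (by linarith) g3 (by omega) (by linarith)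
    linarith
  rw [g0] at e4 hγ
  have g1 : -4 ≤ r ∧ r ≤ 4 := abs_le.1 (hR ▸ R4)
  obtain rfl : β = r - 1 := by omega
  obtain ⟨g1, g2⟩ := g1
  interval_cases r <;> omega

theorem ar2 {Q h m A B C D : ℤ} (pp : IsPrimePow Q.natAbs) (hq : Q + 1 = 2 * h) (h4 : h % 4 = 3) (big : 27 ≤ |Q|)
    (m0 : 0 < m) (m8 : m % 8 = 7) (A8 : A % 8 = 1) (B8 : (B + Q) % 8 = 0) (C8 : (C + Q) % 8 = 0)
    (D8 : (D - h) % 8 = 0) (s0 : 1 + A + B + C = 0) (s1 : 1 + A - h * m + D = 0) (dA : A ∣ Q ^ 2 * m)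
    (dB : B ∣ Q ^ 3 * m) (dC : C ∣ Q ^ 3 * m) (dD : D ∣ h * Q ^ 2 * m)
    (E0 : Q * m * (A * B * C + B * C + Q ^ 2 * A * (B + C)) = (Q + 1) ^ 2 * (Q - 1) * (A * B * C))
    (E1 : m * (A * D + D + h ^ 2 * A) = h * (4 * h + 5) * (A * D)) : False := by
  obtain rfl : Q = 2 * h - 1 := by omega
  obtain ⟨j0, hj⟩ := dA
  obtain ⟨jB, hB⟩ := dB
  obtain ⟨jC, hC⟩ := dC
  obtain ⟨k0, hk⟩ := dD
  have A0 : A ≠ 0 := by omega
  have B0 : B ≠ 0 := by omega
  have C0 : C ≠ 0 := by omega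
  have D0 : D ≠ 0 := by omega
  have Q0 : 2 * h - 1 ≠ 0 := by omega
  obtain ⟨j, rfl⟩ : ∃ j, j0 = (2 * h - 1) * j := by
    refine ⟨(2 * h) ^ 2 * (2 * h - 2) - (2 * h - 1) * m - jB - jC, mul_left_cancel₀ (mul_ne_zero (mul_ne_zero A0 B0) C0) ?_⟩
    linear_combination (2 * h - 1) * E0 - B * C * hj - (2 * h - 1) * A * C * hB - (2 * h - 1) * A * B * hC
  have hj' : A * j = (2 * h - 1) * m := mul_left_cancel₀ Q0 (by linear_combination -hj)
  have e0 : h * k0 = (2 * h - 1) * ((2 * h - 1) * (h * (4 * h + 5)) - (2 * h - 1) * m - j) :=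
    mul_left_cancel₀ (mul_ne_zero A0 D0) (by linear_combination (2 * h - 1) ^ 2 * E1 - D * hj - h * A * hk)
  obtain ⟨k, rfl⟩ : ∃ k, k0 = -((2 * h - 1) * k) :=
    ⟨k0 - 2 * ((2 * h - 1) * (h * (4 * h + 5)) - (2 * h - 1) * m - j), by linear_combination 2 * e0⟩
  have hk' : -D * k = h * (2 * h - 1) * m := mul_left_cancel₀ Q0 (by linear_combination -hk)
  have e3 : (2 * h - 1) * m = (2 * h - 1) * (h * (4 * h + 5)) + h * k - j :=
    mul_left_cancel₀ Q0 (by linear_combination e0)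
  have om : Odd m := Int.odd_iff.2 (by omega)
  have oh : Odd h := Int.odd_iff.2 (by omega)
  have oQ : Odd (2 * h - 1) := Int.odd_iff.2 (by omega)
  have oj := Int.odd_iff.1 (Int.odd_mul.1 (hj' ▸ oQ.mul om)).2
  have ok := Int.odd_iff.1 (Int.odd_mul.1 (hk' ▸ (oh.mul oQ).mul om)).2
  have e2 : m * (h * j * k - (2 * h - 1) * k + (2 * h - 1) * h * j) = j * k := by
    linear_combination (-j * k) * s1 + k * hj' - j * hk'
  refine ar2_core (h := h) (a := j - 2) (β := k + (2 * h - 1)) (m := m) h4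
    (by cases abs_cases h <;> cases abs_cases (2 * h - 1) <;> omega) (by omega) (by omega) (by omega) (fun e => ?_) rfl
    (by linear_combination e2) (by linear_combination e3) fun e => ?_
  · obtain rfl : k = -(2 * h - 1) := by omega
    have : j = -((2 * h - 1) * m) := mul_left_cancel₀ Q0 (by linear_combination e2)
    have : A = -1 := mul_right_cancel₀ (mul_ne_zero Q0 m0.ne') (by rw [this] at hj'; linear_combination -hj')
    omega
  · have : j * k = 0 := by linear_combination m * e - e2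
    rcases mul_eq_zero.1 this with rfl | rfl <;> omega

theorem pp_dvd {Q a b : ℤ} (pp : IsPrimePow Q.natAbs) (c : ∀ p : ℤ, Prime p → p ∣ Q → p ∣ a → ¬ p ∣ b)
    (d : Q ^ 2 ∣ a * b) : Q ^ 2 ∣ a ∨ Q ^ 2 ∣ b := by
  obtain ⟨p, k, hp, k0, e⟩ := (isPrimePow_nat_iff _).1 pp
  have hp' : Prime (p : ℤ) := Nat.prime_iff_prime_int.1 hp
  have e2 : Q ^ 2 = (p : ℤ) ^ (k * 2) := by rw [pow_mul, ← sq_abs, ← Int.natCast_natAbs, ← e]; push_cast; rfl
  have pQ : (p : ℤ) ∣ Q := by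
    rw [← Int.natAbs_dvd_natAbs, ← e, Int.natAbs_natCast]; exact dvd_pow_self _ k0.ne'
  rw [e2] at d ⊢
  by_cases h : (p : ℤ) ∣ a
  · exact Or.inl (hp'.pow_dvd_of_dvd_mul_right _ (c p hp' pQ h) d)
  · exact Or.inr (hp'.pow_dvd_of_dvd_mul_left _ h d)

theorem ar4_a {h δ k : ℤ} (h4 : h % 4 = 3) (big : 27 ≤ |2 * h - 1|) (B4 : δ % 8 = 4)
    (e8 : δ * ((2 * h - 1) * k - 1) = 2 * (h - 1) * h) : k = 0 := by
  obtain ⟨q, hq'⟩ : ∃ q, q = |2 * h - 1| := ⟨_, rfl⟩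
  have qq : q ^ 2 = (2 * h - 1) ^ 2 := by rw [hq', sq_abs]
  obtain ⟨d, hd⟩ : ∃ d, δ = 4 * (2 * d + 1) := ⟨δ / 8, by omega⟩
  obtain ⟨i, hi⟩ : ∃ i, h = 4 * i + 3 := ⟨h / 4, by omega⟩
  have ok : Odd ((2 * h - 1) * k - 1) := by
    have : (2 * d + 1) * ((2 * h - 1) * k - 1) = (2 * i + 1) * (4 * i + 3) :=
      mul_left_cancel₀ four_ne_zero (by rw [hd] at e8; rw [hi] at e8 ⊢; linear_combination e8)
    have o : Odd ((2 * i + 1) * (4 * i + 3)) := (odd_two_mul_add_one i).mul ⟨2 * i + 1, by ring⟩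
    rw [← this] at o
    exact (Int.odd_mul.1 o).2
  by_contra c
  have k2 : 2 ≤ |k| := by
    have : Even k := by
      by_contra o
      exact Int.not_even_iff_odd.2 ok
        (((show Odd (2 * h - 1) from ⟨h - 1, by ring⟩).mul (Int.not_even_iff_odd.1 o)).sub_odd odd_one)
    obtain ⟨j, rfl⟩ := this
    cases abs_cases (j + j) <;> omega
  rw [← hq'] at big
  have a1 : q * 2 ≤ |(2 * h - 1) * k| := by rw [abs_mul, ← hq']; gcongr
  have a2 : 2 * q - 1 ≤ |(2 * h - 1) * k - 1| := by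
    cases abs_cases ((2 * h - 1) * k) <;> cases abs_cases ((2 * h - 1) * k - 1) <;> omega
  have a3 : 2 * δ - 1 = (2 * h - 1) * (2 * δ * k - (2 * h - 1)) := by linear_combination -2 * e8
  have a4 : q ≤ |2 * δ - 1| := by
    rw [hq']; exact Int.le_of_dvd (abs_pos.2 (by omega)) ((abs_dvd_abs _ _).2 ⟨_, a3⟩)
  have a5 : q - 1 ≤ |2 * δ| := by
    cases abs_cases (2 * δ) <;> cases abs_cases (2 * δ - 1) <;> omega
  have a6 : (q - 1) * (2 * q - 1) ≤ |2 * δ| * |(2 * h - 1) * k - 1| := mul_le_mul a5 a2 (by omega) (abs_nonneg _)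
  have a7 : 27 * q ≤ q * q := by gcongr
  rw [← abs_mul, mul_assoc, e8, show 2 * (2 * (h - 1) * h) = q ^ 2 - 1 by rw [qq]; ring,
    abs_of_nonneg (by linarith)] at a6
  linarith

theorem ar4_b {h δ k : ℤ} (big : 27 ≤ |2 * h - 1|) (g0 : h - 1 ≠ 0) (h0 : h ≠ 0)
    (e7 : δ * (1 + (2 * h - 1) ^ 2 * k) = 2 * (h - 1) * h * (2 * h - 1)) : k = 0 := by
  obtain ⟨q, hq'⟩ : ∃ q, q = |2 * h - 1| := ⟨_, rfl⟩
  have qq : q ^ 2 = (2 * h - 1) ^ 2 := by rw [hq', sq_abs]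
  by_contra c
  have d : 1 + (2 * h - 1) ^ 2 * k ∣ 2 * (h - 1) * h :=
    ⟨2 * (h - 1) * h - (2 * h - 1) * k * δ, by linear_combination (2 * h - 1) * k * e7⟩
  have a1 := Int.le_of_dvd (abs_pos.2 (mul_ne_zero (mul_ne_zero two_ne_zero g0) h0)) ((abs_dvd_abs _ _).2 d)
  have a2 : q ^ 2 * 1 ≤ |(2 * h - 1) ^ 2 * k| := by
    rw [abs_mul, abs_pow, ← hq']; gcongr; exact Int.one_le_abs c
  rw [← hq'] at big
  have a7 : 27 * q ≤ q * q := by gcongr
  have a3 : 2 * |2 * (h - 1) * h| = q ^ 2 - 1 := by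
    rw [abs_of_nonneg (by linarith), qq]; ring
  have := abs_sub_abs_le_abs_add ((2 * h - 1) ^ 2 * k) 1
  rw [add_comm, abs_one] at this
  linarith

theorem ar4 {Q h m B C Y : ℤ} (pp : IsPrimePow Q.natAbs) (hq : Q + 1 = 2 * h) (h4 : h % 4 = 3) (big : 27 ≤ |Q|)
    (m0 : 0 < m) (m8 : m % 8 = 7) (B8 : (B + h - 1) % 8 = 0) (C8 : (C + Q) % 8 = 0) (Y8 : (Y - 2 * h) % 8 = 0)
    (s0 : 1 + 2 * B + C = 0) (s1 : 1 + Y + B - h * m = 0) (dB : B ∣ (h - 1) * Q ^ 2 * m) (dC : C ∣ Q ^ 3 * m)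
    (dY : Y ∣ 2 * h * Q ^ 2 * m)
    (E0 : Q * m * (B * C + 2 * (h - 1) ^ 2 * C + Q ^ 2 * B) = (Q + 1) ^ 2 * (Q - 1) * (B * C))
    (E1 : m * (Y * B + 4 * h ^ 2 * B + (h - 1) ^ 2 * Y) = h * (4 * h + 5) * (Y * B)) : False := by
  obtain rfl : Q = 2 * h - 1 := by omega
  obtain ⟨K0, hK⟩ := dB
  obtain ⟨F, hF⟩ := dC
  have B0 : B ≠ 0 := by omega
  have C0 : C ≠ 0 := by omega
  have Q0 : 2 * h - 1 ≠ 0 := by omega
  have g0 : h - 1 ≠ 0 := by omega
  have h0 : h ≠ 0 := by omega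
  have B4 : (B - (h - 1)) % 8 = 4 := by omega
  obtain ⟨i, hi⟩ : ∃ i, h = 2 * i + 1 := ⟨h / 2, by omega⟩
  have e0 : 2 * (h - 1) * K0 = (2 * h - 1) * ((2 * h) ^ 2 * (2 * h - 2) - (2 * h - 1) * m - F) :=
    mul_left_cancel₀ (mul_ne_zero B0 C0) (by
      linear_combination (2 * h - 1) * E0 - 2 * (h - 1) * C * hK - (2 * h - 1) * B * hF)
  obtain ⟨K, rfl⟩ : ∃ K, K0 = -((2 * h - 1) * K) :=
    ⟨(2 * h) ^ 2 * (2 * h - 2) - (2 * h - 1) * m - F - K0, by linear_combination -e0⟩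
  have hK' : B * K = -((h - 1) * (2 * h - 1) * m) := mul_left_cancel₀ Q0 (by linear_combination hK)
  have e1 : (2 * h - 1) * m = 8 * (h - 1) * h ^ 2 + 2 * (h - 1) * K - F :=
    mul_left_cancel₀ Q0 (by linear_combination e0)
  have e2 : -F * K = (2 * h - 1) * m * ((2 * h - 1) ^ 2 * K - 2 * (h - 1) * F) := by
    linear_combination (-F * K) * s0 + 2 * F * hK' - K * hF
  have e3 : ((2 * h - 1) * K - F) ^ 2 = (2 * h) ^ 2 * -((2 * h - 1) ^ 2 * K - 2 * (h - 1) * F) :=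
    mul_left_cancel₀ (mul_ne_zero two_ne_zero g0) (by rw [e1] at e2; linear_combination -e2)
  obtain ⟨z, hz⟩ := (Int.pow_dvd_pow_iff two_ne_zero).1 ⟨_, e3⟩
  have e4 : -F = z ^ 2 + 2 * h * (2 * h - 1) * z :=
    mul_left_cancel₀ (pow_ne_zero 2 (mul_ne_zero two_ne_zero h0)) (by
      rw [hz] at e3; linear_combination -e3 + (2 * h) ^ 2 * (2 * h - 1) * hz)
  have e5 : (2 * h - 1) * K = -(z * (z + (2 * h - 1) ^ 2 - 1)) := by linear_combination hz - e4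
  have e6 : (2 * h - 1) ^ 2 * m = (z + (2 * h - 1) ^ 2 + (2 * h - 1)) * (z + (2 * h - 1) ^ 2 - 1) := by
    linear_combination (2 * h - 1) * e1 + 2 * (h - 1) * e5 + (2 * h - 1) * e4
  have n0 : z + (2 * h - 1) ^ 2 - 1 ≠ 0 := fun e => mul_ne_zero (pow_ne_zero 2 Q0) m0.ne' (by rw [e6, e, mul_zero])
  have e7 : (B - (h - 1)) * z = 2 * (h - 1) * h * (2 * h - 1) :=
    mul_right_cancel₀ n0 (by linear_combination -(2 * h - 1) * hK' + B * e5 + (h - 1) * e6)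
  rcases pp_dvd (a := z + (2 * h - 1)) (b := z - 1) pp (fun p hp a b c => hp.not_dvd_one (by
      have := (a.mul_left 1).sub ((b.sub c).sub a)
      have e : p ∣ 2 * h := by simpa using b.sub c
      simpa using e.sub a))
    ⟨m - (2 * z + (2 * h - 1) ^ 2 + (2 * h - 1) - 1), by linear_combination -e6⟩ with ⟨k, hk⟩ | ⟨k, hk⟩
  · obtain rfl : z = (2 * h - 1) * ((2 * h - 1) * k - 1) := by linear_combination hk
    have e8 : (B - (h - 1)) * ((2 * h - 1) * k - 1) = 2 * (h - 1) * h := mul_left_cancel₀ Q0 (by linear_combination e7)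
    obtain rfl := ar4_a h4 big B4 e8
    obtain rfl : B = -((h - 1) * (2 * h - 1)) := by linear_combination -e8
    obtain rfl : m = 4 * h ^ 2 - 6 * h + 1 := mul_left_cancel₀ (pow_ne_zero 2 Q0) (by linear_combination e6)
    obtain rfl : Y = 2 * h * (2 * h ^ 2 - 2 * h - 1) := by linear_combination s1
    have : (16 * h ^ 2 * (h - 1)) * (2 * (h ^ 2 * (2 * i ^ 2 + 2 * i) - h) + 1) = 0 := by
      linear_combination E1 - 16 * h ^ 4 * (h - 1) * (h + 2 * i + 1) * hi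
    rcases mul_eq_zero.1 this with e | e
    · exact mul_ne_zero (mul_ne_zero (by norm_num) (pow_ne_zero 2 h0)) g0 e
    · exact Int.not_even_iff_odd.2 (odd_two_mul_add_one _) (e ▸ Even.zero)
  · obtain rfl : z = 1 + (2 * h - 1) ^ 2 * k := by linear_combination hk
    obtain rfl := ar4_b big g0 h0 e7
    obtain rfl : m = 4 * h ^ 2 - 2 * h + 1 := mul_left_cancel₀ (pow_ne_zero 2 Q0) (by linear_combination e6)
    have m1 := m0.ne'
    obtain rfl : B = (h - 1) * (4 * h ^ 2 - 2 * h + 1) := by linear_combination e7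
    obtain rfl : Y = 2 * h * (2 * h - 1) := by linear_combination s1
    have : (16 * h ^ 2 * (h - 1) ^ 3) * (4 * h ^ 2 - 2 * h + 1) = 0 := by linear_combination E1
    exact mul_ne_zero (mul_ne_zero (mul_ne_zero (by norm_num) (pow_ne_zero 2 h0)) (pow_ne_zero 3 g0)) m1 this

end Cfsg.Agent.WA
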