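import Cfsg.Agent.WA.JB2
import Cfsg.Agent.GW.C0

/-! Groups of Janko-Ree type: the principal 2-block. -/

set_option autoImplicit false
set_option linter.unusedSectionVars false
set_option linter.unusedVariables false

namespace Cfsg.Agent.WA

open Cfsg Subgroup Cfsg.Agent.GT Cfsg.Agent.Char Cfsg.Agent.BS Cfsg.Agent.B84C Cfsg.Agent.B84H Cfsg.Agent.WA.JB
open scoped ComplexConjugate Classical

universe u

variable {G : Type u} [Group G] [Fintype G] {t u g w x : G} {L : Subgroup G} {Q : ℤ}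

theorem JD.td' [Fintype L] (h : JD t u g w x L Q) {γ : Fin 3 → L → ℂ} (k : LB (⟨x, h.xL⟩ : L) Q γ) :
    TD t x Q fun i => h.ct.Th ((fun _ => 1) - γ i) := by
  have v : ∀ i, IsGeneralizedCharacter L ((fun _ => 1) - γ i) := fun i => virt_one.sub (k.irr i).virt
  have ev : ∀ i y, ¬ Odd (orderOf y) → ((fun _ => 1) - γ i : L → ℂ) y = 0 := fun i y o => by simp [k.ev i y o]
  have vl := fun i => h.ct.Th_val (v i).isClassFunction (ev i)
  have uu : (⟨u, h.uL⟩ : L) * ⟨u, h.uL⟩ = 1 := Subtype.ext h.uu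
  have u1 : (⟨u, h.uL⟩ : L) ≠ 1 := fun e => h.u1 (congrArg Subtype.val e)
  refine ⟨fun i => h.ct.Th_virt (v i), fun i j => ?_, fun i => ?_, fun i y o => h.ct.Th_odd o, fun y o => ?_,
    fun i => ?_, fun i a ha n => ?_, fun i => ?_, fun χ hχ => ?_⟩
  · rw [h.ct.Th_Th (v j).isClassFunction (ev i) (ev j), ci_sub_left, ci_sub_right, ci_sub_right, ci_one_one, k.one,
      ci_eq_zero_symm (k.one j)]
    split_ifs with e
    · rw [e, (k.irr j).ci_self]; norm_num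
    · rw [k.orth i j e]; norm_num
  · rw [h.ct.Th_ci (isClassFunction_const 1), ci_sub_left, ci_one_one, k.one, sub_zero]
  · obtain ⟨c, l, hl, ol, rfl⟩ := h.ct.sec o
    have ol' : Odd (orderOf (⟨l, hl⟩ : L)) := by rwa [orderOf_mk]
    simp only [h.ct.Th_class (t * l) c]
    have := k.od _ ol'
    rw [vl 0 ⟨l, hl⟩ ol', vl 1 ⟨l, hl⟩ ol', vl 2 ⟨l, hl⟩ ol']
    simp only [Pi.sub_apply]
    linear_combination (-2) * this
  · have := vl i 1 (by simp)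
    rwa [coe_one, mul_one, Pi.sub_apply, k.deg] at this
  · have := vl i ⟨a, h.RL ha⟩ (by rw [orderOf_mk]; exact h.oR ha)
    have m : (⟨a, h.RL ha⟩ : L) ∈ zpowers (⟨x, h.xL⟩ : L) := by
      obtain ⟨j, e⟩ := ha
      exact ⟨j, Subtype.ext e⟩
    rwa [Pi.sub_apply, k.val i _ m fun e => n (congrArg Subtype.val e)] at this
  · have e := cZ_sirr (t := (⟨u, h.uL⟩ : L)) (k.irr i)
    have e2 : (4 : ℂ) * (C1[(⟨u, h.uL⟩ : L)].index : ℂ) ^ 2 = (Q * (Q + 1)) ^ 2 := by exact_mod_cast h.idx_u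
    rw [k.deg, k.ev i _ (by rw [orderOf_eq_two_of uu u1]; decide)] at e
    rw [h.ct.cZ_Th uu u1 h.cjL' (ev i), cZ_sub, cZ_one, ← e2]
    linear_combination (-4 * C1[t].index) * e
  · obtain ⟨a, c, e⟩ : ∃ (a : ℂ) (c : Fin 3 → ℂ), ∀ l, (∑ ψ ∈ B0 L, ⟪fun l : L => χ (t * l), ψ⟫ • ψ) l =
        a + (c 0 * γ 0 l + c 1 * γ 1 l + c 2 * γ 2 l) := by
      refine Finset.sum_induction _ (fun F : L → ℂ => ∃ (a : ℂ) (c : Fin 3 → ℂ), ∀ l, F l =
        a + (c 0 * γ 0 l + c 1 * γ 1 l + c 2 * γ 2 l)) ?_ ⟨0, 0, by simp⟩ fun ψ hψ => ?_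
      · rintro _ _ ⟨a, c, e⟩ ⟨a', c', e'⟩
        exact ⟨a + a', c + c', fun l => by simp only [Pi.add_apply, e, e']; ring⟩
      · generalize ⟪fun l : L => χ (t * l), ψ⟫ = z
        rcases k.b0 ψ hψ with rfl | ⟨i, rfl | rfl⟩
        · exact ⟨z, 0, by simp⟩
        · exact ⟨0, Pi.single i z, by fin_cases i <;> simp⟩
        · exact ⟨0, Pi.single i (-z), by fin_cases i <;> simp⟩
    refine ⟨fun i => ((a + (c 0 + c 1 + c 2)) / 4 - c i) / 2, fun y o => ?_⟩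
    obtain ⟨d, l, hl, ol, rfl⟩ := h.ct.sec o
    have ol' : Odd (orderOf (⟨l, hl⟩ : L)) := by rwa [orderOf_mk]
    have e1 := h.ct.sect hχ ⟨l, hl⟩ ol'
    have e2 := e ⟨l, hl⟩
    simp only [Finset.sum_apply, Pi.smul_apply, smul_eq_mul] at e2
    simp only [h.ct.Th_class (t * l) d]
    have := k.od _ ol'
    rw [(B0_irr hχ).isClassFunction, vl 0 ⟨l, hl⟩ ol', vl 1 ⟨l, hl⟩ ol', vl 2 ⟨l, hl⟩ ol', e1, e2]
    simp only [Pi.sub_apply]
    linear_combination ((a + (c 0 + c 1 + c 2)) / 4) * this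

theorem JD.td (h : JD t u g w x L Q) : ∃ Θ, TD t x Q Θ := by
  obtain ⟨γ, k⟩ := h.lb
  exact ⟨_, h.td' k⟩

theorem JD.odd_idx (h : JD t u g w x L Q) : Odd C1[t].index := by
  obtain ⟨P, hP⟩ := ((isPGroup_zpowers_iff Nat.prime_two).2 h.ct.pi).exists_le_sylow
  have sq : ∀ a ∈ (P : Subgroup G), a * a = 1 := fun a ha => by
    obtain ⟨k, hk⟩ := P.isPGroup' ⟨a, ha⟩
    exact h.two a k (congrArg Subtype.val hk)
  have le : (P : Subgroup G) ≤ C1[t] := fun a ha => mem_cent1.2 (by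
    have m := hP (mem_zpowers t)
    rw [← inv_eq_of_mul_eq_one_right (sq _ (mul_mem ha m)), mul_inv_rev, inv_eq_of_mul_eq_one_right (sq _ ha),
      inv_eq_of_mul_eq_one_right (sq _ m)])
  exact Nat.odd_iff.2 (Nat.two_dvd_ne_zero.1 fun d => P.not_dvd_index (d.trans (index_dvd_of_le le)))

theorem JD.card8 (h : JD t u g w x L Q) : ∃ N : ℤ, Odd N ∧ (Nat.card G : ℤ) = 8 * N := by
  have c := h.card
  have q8 := h.q8
  have p : 1 ≤ Q.natAbs ^ 2 := Nat.one_le_pow _ _ (by omega)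
  zify [p] at c
  obtain ⟨k, rfl⟩ : ∃ k, Q = 8 * k + 5 := ⟨Q / 8, by omega⟩
  refine ⟨C1[t].index * (|8 * k + 5| * (8 * k ^ 2 + 10 * k + 3)), (Odd.natCast h.odd_idx).mul
    ((odd_abs.2 ⟨4 * k + 2, by ring⟩).mul ⟨4 * k ^ 2 + 5 * k + 1, by ring⟩), ?_⟩
  rw [← C1[t].index_mul_card, h.ct.card_C]
  push_cast
  rw [c, sq_abs]; ring

/-- `± χ` lies in the principal block -/
def InB (χ : G → ℂ) : Prop := χ ∈ B0 G ∨ -χ ∈ B0 G

namespace TD

variable {Θ : Fin 3 → G → ℂ} (k : TD t x Q Θ) {χ : G → ℂ}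
include k

theorem omega_eq {N : ℤ} (hN : (Nat.card G : ℤ) = 8 * N) (hχ : IsSIrr G χ) (o : ⟪χ, fun _ => 1⟫ = 0) {m d : ℤ}
    (hm : ⟪χ, Θ 0⟫ + ⟪χ, Θ 1⟫ + ⟪χ, Θ 2⟫ = m) (hd : χ 1 = d) : ∃ ω : ℤ, ω * d = -(N * m) ∧ (Odd ω ↔ InB χ) := by
  have h0 := card_ne_zero_complex G
  have hN' : (Nat.card G : ℂ) = 8 * N := by exact_mod_cast hN
  have e : ∑ y, oddInd y * χ y = -(N * m) := by
    have e1 : Θ 0 + Θ 1 + Θ 2 = (8 : ℂ) • ((fun _ => 1) - oddInd) := by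
      ext y
      by_cases o : Odd (orderOf y)
      · simp [k.od _ y o, oddInd, o]
      · simp [k.ev y o, oddInd, o]
    have e2 : ∑ y, oddInd y * χ y = Nat.card G * ⟪χ, oddInd⟫ := by
      rw [card_mul_ci]
      exact Finset.sum_congr rfl fun y _ => by unfold oddInd; split_ifs <;> simp
    rw [← ci_add_right, ← ci_add_right, e1, ci_smul_right, ci_sub_right, o, map_ofNat] at hm
    rw [e2, hN']; linear_combination (-N) * hm
  have n1 := hχ.apply_one_ne_zero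
  rcases hχ with hχ | hχ
  · obtain ⟨ω, hω⟩ := omega_int hχ
    refine ⟨ω, ?_, fun a => Or.inl (mem_B0.2 ⟨hχ, ω, a, hω⟩), ?_⟩
    · rw [omega, e, div_eq_iff n1, hd] at hω; exact_mod_cast hω.symm
    · rintro (a | a)
      · obtain ⟨n, a, b⟩ := (mem_B0.1 a).2
        rwa [show ω = n by exact_mod_cast hω.symm.trans b]
      · exact (hχ.ne_neg (B0_irr a) (neg_neg _).symm).elim
  · obtain ⟨ω, hω⟩ := omega_int hχ
    refine ⟨ω, ?_, fun a => Or.inr (mem_B0.2 ⟨hχ, ω, a, hω⟩), ?_⟩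
    · simp only [omega, Pi.neg_apply, mul_neg, Finset.sum_neg_distrib, neg_div_neg_eq] at hω
      rw [e, div_eq_iff n1, hd] at hω; exact_mod_cast hω.symm
    · rintro (a | a)
      · exact ((B0_irr a).ne_neg hχ (neg_neg _).symm).elim
      · obtain ⟨n, a, b⟩ := (mem_B0.1 a).2
        rwa [show ω = n by exact_mod_cast hω.symm.trans b]

/-- the values on elements of even order -/
theorem val_ev (hχ : InB χ) {y : G} (o : ¬ Odd (orderOf y)) :
    2 * χ y = ⟪χ, Θ 0⟫ * (Θ 0 y - 2) + ⟪χ, Θ 1⟫ * (Θ 1 y - 2) + ⟪χ, Θ 2⟫ * (Θ 2 y - 2) := by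
  have key : ∀ χ ∈ B0 G, 2 * χ y = ⟪χ, Θ 0⟫ * (Θ 0 y - 2) + ⟪χ, Θ 1⟫ * (Θ 1 y - 2) + ⟪χ, Θ 2⟫ * (Θ 2 y - 2) := by
    intro χ hχ
    obtain ⟨c, hc⟩ := k.sec χ hχ
    have e : ∀ i, ⟪χ, Θ i⟫ = ⟪c 0 • Θ 0 + c 1 • Θ 1 + c 2 • Θ 2, Θ i⟫ := fun i => by
      rw [ci_def, ci_def]
      refine congrArg _ (Finset.sum_congr rfl fun z _ => ?_)
      by_cases o : Odd (orderOf z)
      · simp [k.od i z o]
      · simp [hc z o]
    simp only [e, ci_add_left, ci_smul_left, k.gram]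
    have := k.ev y o
    simp only [hc y o, Fin.isValue, Fin.reduceEq, if_true, if_false]
    linear_combination (-2 * (c 0 + c 1 + c 2)) * this
  rcases hχ with a | a
  · exact key χ a
  · have := key _ a
    simp only [ci_neg_left, Pi.neg_apply] at this
    linear_combination -this

theorem val_t (ht : orderOf t = 2) (hχ : InB χ) :
    χ t = -(⟪χ, Θ 0⟫ * xs Q 0 + ⟪χ, Θ 1⟫ * xs Q 1 + ⟪χ, Θ 2⟫ * xs Q 2) := by
  have := k.val_ev hχ (y := t) (by rw [ht]; decide)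
  simp only [k.vt] at this
  linear_combination this / 2

theorem xs_sum (ht : orderOf t = 2) : (xs Q 0 : ℂ) + xs Q 1 + xs Q 2 = -1 := by
  have := k.ev t (by rw [ht]; decide)
  simp only [k.vt] at this
  linear_combination -this / 2

end TD

theorem pair_zero {Y A B : G → ℂ} (hY : IsSIrr G Y) (hA : IsSIrr G A) (hB : IsSIrr G B) (o : ⟪A, B⟫ = 0)
    (e : ⟪Y, A⟫ + ⟪Y, B⟫ = 0) : ⟪Y, A⟫ = 0 ∧ ⟪Y, B⟫ = 0 := by
  rcases hY.ci_cases hA with ⟨rfl, a⟩ | ⟨rfl, a⟩ | ⟨_, _, a⟩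
  · rw [a, o] at e; norm_num at e
  · rw [a, ci_neg_left, o] at e; norm_num at e
  · exact ⟨a, by rwa [a, zero_add] at e⟩

theorem one_hot {X Y Z v : G → ℂ} (hX : IsSIrr G X) (hY : IsSIrr G Y) (hZ : IsSIrr G Z) (o1 : ⟪X, Y⟫ = 0)
    (o2 : ⟪X, Z⟫ = 0) (o3 : ⟪Y, Z⟫ = 0) (hv : IsGeneralizedCharacter G v) (n : ⟪v, v⟫ = 3)
    (e : ⟪v, X + Y + Z⟫ = 1) (d : v 1 = X 1 + Y 1 + Z 1) : (⟪v, X⟫ = 1 ∧ ⟪v, Y⟫ = 0 ∧ ⟪v, Z⟫ = 0) ∨
      (⟪v, X⟫ = 0 ∧ ⟪v, Y⟫ = 1 ∧ ⟪v, Z⟫ = 0) ∨ (⟪v, X⟫ = 0 ∧ ⟪v, Y⟫ = 0 ∧ ⟪v, Z⟫ = 1) := by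
  obtain ⟨a, ha⟩ := hv.ci_int hX.virt
  obtain ⟨b, hb⟩ := hv.ci_int hY.virt
  obtain ⟨c, hc⟩ := hv.ci_int hZ.virt
  have e1 : a + b + c = 1 := by
    rw [ci_add_right, ci_add_right, ha, hb, hc] at e; exact_mod_cast e
  have e2 : ⟪v - ((a : ℂ) • X + (b : ℂ) • Y + (c : ℂ) • Z), v - ((a : ℂ) • X + (b : ℂ) • Y + (c : ℂ) • Z)⟫ =
      ((3 - (a ^ 2 + b ^ 2 + c ^ 2) : ℤ) : ℝ) := by
    simp only [ci_sub_left, ci_sub_right, ci_add_left, ci_add_right, ci_smul_left, ci_smul_right, n, ha, hb, hc,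
      ci_symm_of_int ha, ci_symm_of_int hb, ci_symm_of_int hc, hX.ci_self, hY.ci_self, hZ.ci_self, o1, o2, o3,
      ci_eq_zero_symm o1, ci_eq_zero_symm o2, ci_eq_zero_symm o3, map_intCast]
    push_cast; ring
  have e3 := nsq_eq_of_ci e2
  have e4 : 0 ≤ 3 - (a ^ 2 + b ^ 2 + c ^ 2) := by exact_mod_cast e3 ▸ nsq_nonneg _
  have e5 : a ^ 2 + b ^ 2 + c ^ 2 = 3 → (1 - (a : ℂ)) * X 1 + (1 - b) * Y 1 + (1 - c) * Z 1 = 0 := fun e => by
    rw [e, sub_self, Int.cast_zero, nsq_eq_zero, sub_eq_zero] at e3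
    have := congrFun e3 1
    simp only [Pi.add_apply, Pi.smul_apply, smul_eq_mul] at this
    linear_combination this - d
  have nX := hX.apply_one_ne_zero
  have nY := hY.apply_one_ne_zero
  have nZ := hZ.apply_one_ne_zero
  rw [ha, hb, hc]
  obtain rfl : c = 1 - a - b := by omega
  have : -1 ≤ a := by nlinarith
  have : a ≤ 1 := by nlinarith
  have : -1 ≤ b := by nlinarith
  have : b ≤ 1 := by nlinarith
  interval_cases a <;> interval_cases b <;> simp_all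

set_option maxHeartbeats 1600000 in
theorem JD.shape [IsSimpleGroup G] (h : JD t u g w x L Q) (nc : ¬ IsMulCommutative G) {Θ : Fin 3 → G → ℂ}
    (k : TD t x Q Θ) : (∃ a b, SA t Q Θ a b) ∨ (∃ a c, SB t Q Θ a c) := by
  obtain ⟨N, oN, hN⟩ := h.card8
  have ht := h.ct.ord
  have s1 : IsSIrr G (fun _ => 1) := isIrrCharacter_one.isSIrr
  set v : Fin 3 → G → ℂ := fun i => Θ i - fun _ => 1 with hv
  have vv : ∀ i, IsGeneralizedCharacter G (v i) := fun i => (k.virt i).sub virt_one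
  have o1 : ∀ i, ⟪fun _ => 1, Θ i⟫ = 1 := fun i => by simpa using ci_symm_of_int (n := 1) (by simpa using k.one i)
  have gr : ∀ i j, ⟪v i, v j⟫ = if i = j then 3 else 1 := fun i j => by
    simp only [hv, ci_sub_left, ci_sub_right, k.gram, k.one, o1, ci_one_one]; split_ifs <;> norm_num
  have v1 : ∀ i, ⟪v i, fun _ => 1⟫ = 0 := fun i => by simp only [hv, ci_sub_left, k.one, ci_one_one, sub_self]
  have vd : ∀ i, v i 1 = -1 := fun i => by simp [hv, k.od i 1 (by simp)]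
  have n3 : ∀ i, nsq (v i) = 3 := fun i => nsq_eq_of_ci (by simpa using gr i i)
  have Θv : ∀ i, Θ i = (fun _ => 1) + v i := fun i => by simp [hv]
  -- constituents
  have cs : ∀ {χ}, IsSIrr G χ → ⟪χ, fun _ => 1⟫ = 0 → ∀ i, ⟪χ, Θ i⟫ = ⟪v i, χ⟫ := fun hχ o i => by
    rw [Θv, ci_add_right, o, zero_add, hχ.virt.ci_comm (vv i)]
  have p1 : ∀ {χ} i, IsSIrr G χ → ⟪v i, χ⟫ = 1 → ⟪χ, fun _ => 1⟫ = 0 := fun i hχ e => by
    rcases hχ.ci_cases s1 with ⟨rfl, _⟩ | ⟨rfl, _⟩ | ⟨_, _, a⟩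
    · rw [v1] at e; norm_num at e
    · rw [ci_neg_right, v1] at e; norm_num at e
    · exact a
  have od : ∀ {χ}, IsSIrr G χ → ⟪χ, fun _ => 1⟫ = 0 → ∀ m : ℤ, Odd m → ⟪v 0, χ⟫ + ⟪v 1, χ⟫ + ⟪v 2, χ⟫ = m →
      InB χ ∧ ∃ d : ℤ, Odd d ∧ χ 1 = d := fun hχ o m om e => by
    obtain ⟨d, hd⟩ := hχ.virt.exists_int_one
    obtain ⟨ω, e1, e2⟩ := k.omega_eq hN hχ o (m := m) (by simpa only [cs hχ o] using e) hd
    have := Int.odd_mul.1 (e1 ▸ (oN.mul om).neg)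
    exact ⟨e2.1 this.1, d, this.2, hd⟩
  have vt : ∀ {χ}, IsSIrr G χ → ⟪χ, fun _ => 1⟫ = 0 → InB χ →
      χ t = -(⟪v 0, χ⟫ * xs Q 0 + ⟪v 1, χ⟫ * xs Q 1 + ⟪v 2, χ⟫ * xs Q 2) := fun hχ o b => by
    simpa only [cs hχ o] using k.val_t ht b
  have sum := k.xs_sum ht
  -- the first two
  obtain ⟨X, Y, Z, hX, hY, hZ, xy, xz, yz, e0, x1, y1, z1⟩ : ∃ X Y Z, IsSIrr G X ∧ IsSIrr G Y ∧ IsSIrr G Z ∧
      ⟪X, Y⟫ = 0 ∧ ⟪X, Z⟫ = 0 ∧ ⟪Y, Z⟫ = 0 ∧ v 0 = X + Y + Z ∧ ⟪v 1, X⟫ = 1 ∧ ⟪v 1, Y⟫ = 0 ∧ ⟪v 1, Z⟫ = 0 := by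
    obtain ⟨X, Y, Z, hX, hY, hZ, xy, xz, yz, e⟩ := GW.Ch.exists_three (vv 0) (by simpa using gr 0 0)
    rcases one_hot hX hY hZ xy xz yz (vv 1) (by simpa using gr 1 1) (by simpa [← e] using gr 1 0)
      (by rw [vd, ← vd 0, e]; rfl) with a | a | a
    · exact ⟨X, Y, Z, hX, hY, hZ, xy, xz, yz, e, a⟩
    · exact ⟨Y, X, Z, hY, hX, hZ, ci_eq_zero_symm xy, yz, xz, by rw [e]; abel, a.2.1, a.1, a.2.2⟩
    · exact ⟨Z, X, Y, hZ, hX, hY, ci_eq_zero_symm xz, ci_eq_zero_symm yz, xy, by rw [e]; abel, a.2.2, a.1, a.2.1⟩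
  have pz : ∀ {i A B C W}, IsSIrr G B → IsSIrr G C → IsSIrr G W → ⟪B, C⟫ = 0 → v i = A + (B + C) → ⟪A, W⟫ = 0 →
      ⟪v i, W⟫ = 0 → ⟪W, B⟫ = 0 ∧ ⟪W, C⟫ = 0 := fun hB hC hW o e a b =>
    pair_zero hW hB hC o (by
      rw [e, ci_add_left, a, zero_add] at b
      rw [← ci_add_right]; exact ci_eq_zero_symm b)
  obtain ⟨Y', Z', hY', hZ', yz', xy', xz', e1⟩ := three_dec (vv 1) (n3 1) hX x1
  have x0 : ⟪v 0, X⟫ = 1 := by simp [e0, ci_add_left, hX.ci_self, ci_eq_zero_symm xy, ci_eq_zero_symm xz]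
  have oX := p1 0 hX x0
  have main : ∀ {Y Z Y' Z'}, IsSIrr G Y → IsSIrr G Z → IsSIrr G Y' → IsSIrr G Z' → ⟪X, Y⟫ = 0 → ⟪X, Z⟫ = 0 →
      ⟪Y, Z⟫ = 0 → ⟪Y', X⟫ = 0 → ⟪Z', X⟫ = 0 → ⟪Y', Z'⟫ = 0 → v 0 = X + Y + Z → v 1 = X + (Y' + Z') →
      ⟪v 1, Y⟫ = 0 → ⟪v 1, Z⟫ = 0 → ⟪v 2, X⟫ = 0 → ⟪v 2, Y⟫ = 1 → ⟪v 2, Z⟫ = 0 → ⟪v 2, Y'⟫ = 1 → ⟪v 2, Z'⟫ = 0 →
      ∃ a c, SB t Q Θ a c := by
    intro Y Z Y' Z' hY hZ hY' hZ' xy xz yz xy' xz' yz' e0 e1 y1 z1 x2 y2 z2 y2' z2'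
    obtain ⟨a1, a2⟩ := pz hY' hZ' hY yz' e1 xy y1
    obtain ⟨a3, a4⟩ := pz hY' hZ' hZ yz' e1 xz z1
    have s := @ci_eq_zero_symm G _ _
    have hF : IsSIrr G (v 2 - Y - Y') := ((vv 2).sub hY.virt).sub hY'.virt |>.isSIrr_of_ci_self (by
      simp only [ci_sub_left, ci_sub_right, gr, y2, y2', hY.virt.ci_comm (vv 2), hY'.virt.ci_comm (vv 2),
        hY.ci_self, hY'.ci_self, a1, s a1]
      norm_num)
    set F := v 2 - Y - Y' with eF
    have e2 : v 2 = Y' + Y + F := by rw [eF]; abel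
    have f1 : ⟪F, X⟫ = 0 := by simp [eF, ci_sub_left, x2, s xy, xy']
    have f2 : ⟪F, Y⟫ = 0 := by simp [eF, ci_sub_left, y2, hY.ci_self, s a1]
    have f3 : ⟪F, Z⟫ = 0 := by simp [eF, ci_sub_left, z2, yz, s a3]
    have f4 : ⟪F, Y'⟫ = 0 := by simp [eF, ci_sub_left, y2', hY'.ci_self, a1]
    have f5 : ⟪F, Z'⟫ = 0 := by simp [eF, ci_sub_left, z2', yz', a2]
    clear_value F
    have y0 : ⟪v 0, Y⟫ = 1 := by simp [e0, ci_add_left, hY.ci_self, xy, s yz]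
    have z0 : ⟪v 0, Z⟫ = 1 := by simp [e0, ci_add_left, hZ.ci_self, xz, yz]
    have y0' : ⟪v 0, Y'⟫ = 0 := by simp [e0, ci_add_left, s xy', a1, a3]
    have z0' : ⟪v 0, Z'⟫ = 0 := by simp [e0, ci_add_left, s xz', a2, a4]
    have f0 : ⟪v 0, F⟫ = 0 := by simp [e0, ci_add_left, s f1, s f2, s f3]
    have y1' : ⟪v 1, Y'⟫ = 1 := by simp [e1, ci_add_left, s xy', hY'.ci_self, s yz']
    have z1' : ⟪v 1, Z'⟫ = 1 := by simp [e1, ci_add_left, s xz', hZ'.ci_self, yz']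
    have g1 : ⟪v 1, F⟫ = 0 := by simp [e1, ci_add_left, s f1, s f4, s f5]
    have g2 : ⟪v 2, F⟫ = 1 := by simp [e2, ci_add_left, s f2, s f4, hF.ci_self]
    have oY := p1 0 hY y0
    have oZ := p1 0 hZ z0
    have oY' := p1 1 hY' y1'
    have oZ' := p1 1 hZ' z1'
    have oF := p1 2 hF g2
    obtain ⟨bZ, dZ, pZ, eZ⟩ := od hZ oZ 1 odd_one (by simp [z0, z1, z2])
    obtain ⟨bZ', dZ', pZ', eZ'⟩ := od hZ' oZ' 1 odd_one (by simp [z0', z1', z2'])
    obtain ⟨bF, dF, pF, eF⟩ := od hF oF 1 odd_one (by simp [f0, g1, g2])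
    have ev : ∀ {χ}, IsSIrr G χ → ⟪χ, fun _ => 1⟫ = 0 → ⟪v 0, χ⟫ + ⟪v 1, χ⟫ + ⟪v 2, χ⟫ = 2 →
        ∃ d : ℤ, χ 1 = d ∧ (Even d ↔ InB χ) := fun hχ o e => by
      obtain ⟨d, hd⟩ := hχ.virt.exists_int_one
      obtain ⟨ω, e1, e2⟩ := k.omega_eq hN hχ o (m := 2) (by simpa only [cs hχ o, Int.cast_ofNat] using e) hd
      refine ⟨d, hd, Iff.trans ⟨fun a => ?_, fun a => ?_⟩ e2⟩
      · obtain ⟨j, a⟩ := a
        subst a
        exact (Int.odd_mul.1 (show Odd (ω * j) by rw [show ω * j = -N by linarith]; exact oN.neg)).1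
      · exact (Int.even_mul.1 (show Even (ω * d) from ⟨-N, by rw [e1]; ring⟩)).resolve_left
          (Int.not_even_iff_odd.2 a)
    obtain ⟨dX, eX, iX⟩ := ev hX oX (by rw [x0, x1, x2]; norm_num)
    obtain ⟨dY, eY, iY⟩ := ev hY oY (by rw [y0, y1, y2]; norm_num)
    obtain ⟨dY', eY', iY'⟩ := ev hY' oY' (by rw [y0', y1', y2']; norm_num)
    have d0 : dX + dY + dZ = -1 := by
      have := vd 0; rw [e0, Pi.add_apply, Pi.add_apply, eX, eY, eZ] at this; exact_mod_cast this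
    have d1 : dX + (dY' + dZ') = -1 := by
      have := vd 1; rw [e1, Pi.add_apply, Pi.add_apply, eX, eY', eZ'] at this; exact_mod_cast this
    have evX : Even dX := by
      by_contra nX
      have nY : ¬ Even dY := fun a => nX (by obtain ⟨_, rfl⟩ := a; obtain ⟨_, rfl⟩ := pZ; exact Int.even_iff.2 (by omega))
      have pb : ∀ {χ ψ}, InB χ → IsSIrr G ψ → ¬ InB ψ → ⟪oddInd * χ, ψ⟫ = 0 := by
        have : ∀ {χ ψ}, χ ∈ B0 G → IsSIrr G ψ → ¬ InB ψ → ⟪oddInd * χ, ψ⟫ = 0 := fun {χ ψ} a hψ n => by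
          have F : ∀ x y : G, IsConj (constt {2} x) (constt {2} y) → oddInd x = oddInd y := fun x y c => by
            have i : ∀ x : G, Odd (orderOf x) ↔ constt {2} x = 1 := fun x => ⟨fun o => by
              simpa using constt_two_mul' (t := 1) (w := x)
                ((piNat_single_iff Nat.prime_two (orderOf_pos _).ne').2 ⟨0, by simp⟩) (by simp) o, fun e => by
              have := constt_mul_constt_compl {2} x
              rw [e, one_mul] at this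
              rw [← this]; exact piNat_two_compl.1 (piNat_constt _ _)⟩
            have : constt {2} x = 1 ↔ constt {2} y = 1 :=
              ⟨fun e => isConj_one_right.1 (e ▸ c), fun e => isConj_one_left.1 (e ▸ c)⟩
            simp only [oddInd, i, this]
          rcases hψ with b | b
          · exact ci_mul_eq_zero_of_not_mem F a b fun m => n (Or.inl m)
          · rw [← neg_eq_zero, ← ci_neg_right]; exact ci_mul_eq_zero_of_not_mem F a b fun m => n (Or.inr m)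
        rintro χ ψ (a | a) hψ n
        · exact this a hψ n
        · rw [← neg_eq_zero, ← ci_neg_left, ← mul_neg]; exact this a hψ n
      have b1 : InB (fun _ : G => (1 : ℂ)) := Or.inl one_mem_B0
      have z : ⟪oddInd * ((fun _ => 1) + Z), oddInd * ((fun _ => 1) + Z)⟫ = 0 := by
        have : ⟪oddInd * ((fun _ => 1) + Z), oddInd * ((fun _ => 1) + Z)⟫ =
            -⟪oddInd * ((fun _ => 1) + Z), X + Y⟫ := by
          rw [← ci_neg_right, ci_def, ci_def]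
          refine congrArg _ (Finset.sum_congr rfl fun y _ => ?_)
          by_cases o : Odd (orderOf y)
          · have := k.od 0 y o
            rw [Θv, e0] at this
            simp only [Pi.add_apply] at this
            simp only [Pi.mul_apply, Pi.add_apply, Pi.neg_apply, oddInd, if_pos o, one_mul]
            rw [show -(X y + Y y) = 1 + Z y by linear_combination -this]
          · simp [oddInd, o]
        rw [this, mul_add, ci_add_left, ci_add_right, ci_add_right, pb b1 hX (mt iX.2 nX), pb b1 hY (mt iY.2 nY),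
          pb bZ hX (mt iX.2 nX), pb bZ hY (mt iY.2 nY)]
        simp
      have := congrFun (ci_self_eq_zero.1 z) 1
      simp only [Pi.mul_apply, Pi.add_apply, oddInd, orderOf_one, odd_one, if_true, one_mul, eZ, Pi.zero_apply] at this
      exact (GW.Ch.sirr_one nc hZ oZ eZ).2 (by exact_mod_cast (by linear_combination this : (dZ : ℂ) = -1))
    have bX := iX.1 evX
    have bY := iY.1 (by obtain ⟨_, rfl⟩ := evX; obtain ⟨_, rfl⟩ := pZ; exact Int.even_iff.2 (by omega))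
    have bY' := iY'.1 (by obtain ⟨_, rfl⟩ := evX; obtain ⟨_, rfl⟩ := pZ'; exact Int.even_iff.2 (by omega))
    refine ⟨![Y', Y, X], ![Z, Z', F], fun i => ?_, fun i => ?_, fun i => ?_, fun i => ?_, fun i => ?_,
      fun i j n => ?_, fun i j => ?_, fun i j n => ?_, fun i => ?_, fun i => ?_⟩
    · fin_cases i <;> assumption
    · fin_cases i <;> assumption
    · fin_cases i
      · exact (Θv 0).trans (by rw [e0]; simp; abel)
      · exact (Θv 1).trans (by rw [e1]; simp; abel)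
      · exact (Θv 2).trans (by rw [e2]; simp; abel)
    · fin_cases i <;> assumption
    · fin_cases i <;> assumption
    · fin_cases i <;> fin_cases j <;> first | exact (n rfl).elim | assumption | exact s ‹_›
    · fin_cases i <;> fin_cases j <;> first | assumption | exact s ‹_›
    · fin_cases i <;> fin_cases j <;> first | exact (n rfl).elim | assumption | exact s ‹_›
    · fin_cases i
      · exact (vt hY' oY' bY').trans (by rw [y0', y1', y2']; simp; ring)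
      · exact (vt hY oY bY).trans (by rw [y0, y1, y2]; simp; ring)
      · exact (vt hX oX bX).trans (by rw [x0, x1, x2]; simp; ring)
    · fin_cases i
      · exact (vt hZ oZ bZ).trans (by rw [z0, z1, z2]; simp)
      · exact (vt hZ' oZ' bZ').trans (by rw [z0', z1', z2']; simp)
      · exact (vt hF oF bF).trans (by rw [f0, g1, g2]; simp)
  have s := @ci_eq_zero_symm G _ _
  have c0 := one_hot hX hY hZ xy xz yz (vv 2) (by simpa using gr 2 2) (by simpa [← e0] using gr 2 0)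
    (by rw [vd, ← vd 0, e0]; rfl)
  have c1 := one_hot hX hY' hZ' (s xy') (s xz') yz' (vv 2) (by simpa using gr 2 2)
    (by simpa [add_assoc, ← e1] using gr 2 1) (by rw [vd, ← vd 1, e1, add_assoc]; rfl)
  rcases c0 with ⟨x2, y2, z2⟩ | ⟨x2, y2, z2⟩ | ⟨x2, y2, z2⟩ <;>
    rcases c1 with ⟨x2', y2', z2'⟩ | ⟨x2', y2', z2'⟩ | ⟨x2', y2', z2'⟩ <;>
    try (rw [x2] at x2'; norm_num at x2'; done)
  · left
    obtain ⟨Y2, Z2, hY2, hZ2, yz2, xy2, xz2, e2⟩ := three_dec (vv 2) (n3 2) hX x2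
    obtain ⟨a1, a2⟩ := pz hY' hZ' hY yz' e1 xy y1
    obtain ⟨a3, a4⟩ := pz hY' hZ' hZ yz' e1 xz z1
    obtain ⟨b1, b2⟩ := pz hY2 hZ2 hY yz2 e2 xy y2
    obtain ⟨b3, b4⟩ := pz hY2 hZ2 hZ yz2 e2 xz z2
    obtain ⟨b5, b6⟩ := pz hY2 hZ2 hY' yz2 e2 (s xy') y2'
    obtain ⟨b7, b8⟩ := pz hY2 hZ2 hZ' yz2 e2 (s xz') z2'
    let b : Fin 3 → Bool → G → ℂ := fun i e => if e then ![Y, Y', Y2] i else ![Z, Z', Z2] i
    have ib : ∀ i e, IsSIrr G (b i e) := fun i e => by fin_cases i <;> cases e <;> assumption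
    have ab : ∀ i e, ⟪X, b i e⟫ = 0 := fun i e => by
      fin_cases i <;> cases e <;> first | assumption | exact s ‹_›
    have bb : ∀ i e j e', (i, e) ≠ (j, e') → ⟪b i e, b j e'⟫ = 0 := fun i e j e' n => by
      fin_cases i <;> fin_cases j <;> cases e <;> cases e' <;>
        first | exact (n rfl).elim | assumption | exact s ‹_›
    have eb : ∀ i, v i = X + b i true + b i false := fun i => by
      fin_cases i
      exacts [e0, e1.trans (add_assoc _ _ _).symm, e2.trans (add_assoc _ _ _).symm]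
    have pt : ∀ i j e, ⟪v i, b j e⟫ = if i = j then 1 else 0 := fun i j e => by
      rw [eb, ci_add_left, ci_add_left, ab]
      split_ifs with a
      · subst a
        cases e
        · rw [bb _ _ _ _ (by simp), (ib _ _).ci_self]; simp
        · rw [bb i false _ _ (by simp), (ib _ _).ci_self]; simp
      · rw [bb _ _ _ _ (by simp [a]), bb _ _ _ _ (by simp [a])]; simp
    have ob : ∀ i e, ⟪b i e, fun _ => 1⟫ = 0 := fun i e => p1 i (ib i e) (by simp [pt])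
    refine ⟨X, b, hX, ib, fun i => by rw [Θv, eb]; abel, oX, ob, ab, bb, ?_, fun i e => ?_⟩
    · rw [vt hX oX (od hX oX 3 (by decide) (by rw [x0, x1, x2]; norm_num)).1, x0, x1, x2]
      linear_combination -sum
    · rw [vt (ib i e) (ob i e) (od (ib i e) (ob i e) 1 odd_one (by fin_cases i <;> simp [pt])).1]
      fin_cases i <;> simp [pt]
  · exact Or.inr (main hY hZ hY' hZ' xy xz yz xy' xz' yz' e0 e1 y1 z1 x2 y2 z2 y2' z2')
  · exact Or.inr (main hY hZ hZ' hY' xy xz yz xz' xy' (s yz') e0 (by rw [e1, add_comm Y']) y1 z1 x2 y2 z2 z2' y2')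
  · exact Or.inr (main hZ hY hY' hZ' xz xy (s yz) xy' xz' yz' (by rw [e0, add_right_comm]) e1 z1 y1 x2 z2 y2 y2' z2')
  · exact Or.inr (main hZ hY hZ' hY' xz xy (s yz) xz' xy' (s yz') (by rw [e0, add_right_comm])
      (by rw [e1, add_comm Y']) z1 y1 x2 z2 y2 z2' y2')

end Cfsg.Agent.WA
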