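import Cfsg.Agent.WA.JH2

/-! Groups of Janko-Ree type: if `g` centralizes `R` then `R = 1`. -/

set_option autoImplicit false
set_option linter.unusedSectionVars false

namespace Cfsg.Agent.WA

open Cfsg Subgroup Cfsg.Agent.GT Cfsg.Agent.BS Cfsg.Agent.B84H JH

theorem JH.ar_tau {Q : ℤ} {r τ : ℕ} (q8 : Q % 8 = 5) (ord : 4 * r = (Q - 1).natAbs)
    (e : τ = Q.natAbs ∨ 2 * τ = (Q + 1).natAbs) : Odd τ ∧ (r : ℤ) ∣ (τ : ℤ) ^ 2 - 1 := by
  refine ⟨Nat.odd_iff.2 (by omega), ?_⟩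
  rcases show Q = 4 * r + 1 ∨ Q = 1 - 4 * r by omega with n | n
  · rcases show (τ : ℤ) = 4 * r + 1 ∨ (τ : ℤ) = 2 * r + 1 by omega with k | k <;> rw [k]
    exacts [⟨16 * r + 8, by ring⟩, ⟨4 * r + 4, by ring⟩]
  · rcases show (τ : ℤ) = 4 * r - 1 ∨ (τ : ℤ) = 2 * r - 1 by omega with k | k <;> rw [k]
    exacts [⟨16 * r - 8, by ring⟩, ⟨4 * r - 4, by ring⟩]

theorem JH.ar_idx {Q : ℤ} {r i n : ℕ} (r0 : 0 < r) (ord : 4 * r = (Q - 1).natAbs) (e : r * i = n)
    (card : 2 * n = Q.natAbs * (Q.natAbs ^ 2 - 1)) (d : 3 ∣ r) : ¬ 3 ∣ i := by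
  have k : Q.natAbs ^ 2 - 1 = 4 * r * (Q + 1).natAbs := by
    rw [ord, ← Int.natAbs_mul, ← Int.natAbs_pow, show (Q - 1) * (Q + 1) = Q ^ 2 - 1 by ring]
    have : 0 < Q ^ 2 := by
      have : Q ≠ 0 := by omega
      positivity
    omega
  have : i = 2 * (Q.natAbs * (Q + 1).natAbs) := Nat.eq_of_mul_eq_mul_left (by omega : 0 < 2 * r) (by
    rw [mul_assoc, e, card, k]; ring)
  rw [this, Nat.prime_three.dvd_mul, Nat.prime_three.dvd_mul]
  omega

variable {G : Type*} [Group G] {t u g w x : G} {L : Subgroup G} {Q : ℤ}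

namespace JD

variable (h : JD t u g w x L Q)
include h

theorem h_hs (gx : Commute g x) : HS t u g w x where
  toQ3 := h.toQ3
  odd := h.odd
  vt := h.xt
  vg := gx.symm
  vw := h.wx
  nrm a ha a1 c c1 c2 := by
    obtain ⟨e, he, y, hy, n | n⟩ := h.cU c c1 (h.nrm a ha a1 c c1 c2)
    · exact .inl ⟨e, he, y, hy, n⟩
    refine .inr ?_
    rw [n, show ∀ z : G, z * w * a * (z * w)⁻¹ = z * (w * a * w⁻¹) * z⁻¹ from fun z => by group, zi h.wx ha]
    exact TT.commute_iff_conj.1 ((h.h_RW ha he).symm.mul_left (zc (zc rfl ha).symm hy)).inv_right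

theorem h_gt : ¬ Commute g t := fun e => h.ne (h.g1.symm.trans (TT.commute_iff_conj.1 e))

theorem h_og : orderOf g = 3 :=
  haveI := Fact.mk Nat.prime_three
  orderOf_eq_prime h.g3' fun e => h.h_gt (e ▸ Commute.one_left t)

theorem h_gL : ∃ d, d * t * d⁻¹ = w ∧ d⁻¹ * g * d ∈ L := by
  obtain ⟨d, e⟩ := isConj_iff.1 (h.cj w h.ww fun e => h.wW (h.mem_U.2 (.inl e)))
  have c : Commute (d⁻¹ * g * d) t := (TT.commute_conj_iff d).1 (by rw [e]; simpa [mul_assoc] using h.wg.symm)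
  refine ⟨d, e, (h.dec _ c).resolve_right fun n => h.tL ?_⟩
  have := pow_mem n 3
  rwa [c.symm.mul_pow, show (d⁻¹ * g * d) ^ 3 = d⁻¹ * g ^ 3 * d by simpa using conj_pow (a := d⁻¹) (b := g) (i := 3),
    h.g3', mul_one, inv_mul_cancel, mul_one, pow_three, h.tt, mul_one] at this

variable [Finite G]

theorem h_three (gx : Commute g x) : ¬ 3 ∣ orderOf x := fun r3 => by
  have H := h.h_hs gx
  have r0 := orderOf_pos x
  obtain ⟨d, -, gL⟩ := h.h_gL
  have o0 : orderOf (d⁻¹ * g * d) = 3 := by simpa [h.h_og] using orderOf_conj d⁻¹ g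
  obtain ⟨S, hS⟩ := exists_syl Nat.prime_three (zpowers x)
  obtain ⟨c, -, e⟩ := syl_exists_conj_le Nat.prime_three (syl_trans Nat.prime_three hS (zpowers_le.2 h.xL)
    (ar_idx r0 h.ord (by rw [← Nat.card_zpowers]; exact card_mul_relIndex (zpowers_le.2 h.xL)) h.card r3))
    (Q := zpowers (d⁻¹ * g * d)) (isPGroup_of_card_eq_prime (by rwa [Nat.card_zpowers])) (zpowers_le.2 gL)
  have hz := syl_le hS (e (conj_mem_conj.2 (mem_zpowers _)))
  have oz : orderOf (c * (d⁻¹ * g * d) * c⁻¹) = 3 := by rwa [orderOf_conj]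
  have nz : d * c⁻¹ * (c * (d⁻¹ * g * d) * c⁻¹) * (d * c⁻¹)⁻¹ = g := by group
  generalize c * (d⁻¹ * g * d) * c⁻¹ = z at hz oz nz
  generalize d * c⁻¹ = n at nz
  have z1 : z ≠ 1 := fun e => by rw [e, orderOf_one] at oz; omega
  have cg : ∀ {b}, b ∈ zpowers x → b ≠ 1 → C1[n * b * n⁻¹] = C1[g] := fun hb b1 => by
    rw [← conj_cent1, H.cen hb b1, ← H.cen hz z1, conj_cent1, nz]
  have cd : Nat.card C1[g] = Nat.card C1[z] := by rw [← nz, ← conj_cent1, card_conj]
  have cM := H.card_M hz z1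
  have x1 : x ≠ 1 := fun e => z1 (by simpa [e] using hz)
  have c1 : zpowers x ≤ C[cj[n] (zpowers x)] := by
    rw [conj_zpowers, cent_zpowers, cg (mem_zpowers x) x1, zpowers_le]; exact mem_cent1.2 gx.symm
  have d1 : orderOf x * orderOf x ∣ Nat.card C1[z] := by
    have i : zpowers x ⊓ cj[n] (zpowers x) = ⊥ := eq_bot_iff.2 fun b hb => by
      obtain ⟨y, hy, rfl⟩ := mem_conj_iff_exists.1 hb.2
      by_contra b1
      have := H.tM hb.1
      rw [cg hy fun e => b1 (by simp [e])] at this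
      exact h.h_gt (mem_cent1.1 this).symm
    have := card_sup_of_inf_eq_bot (.inl (le_norm_of_cent c1)) i
    rw [card_conj, Nat.card_zpowers] at this
    rw [← this, ← cd]
    refine card_dvd_of_le (sup_le (zpowers_le.2 (mem_cent1.2 gx.symm)) ?_)
    rw [conj_zpowers, ← cg (mem_zpowers x) x1, zpowers_le]; exact self_mem_cent1 _
  have d2 : orderOf x ∣ 60 := by
    rcases cM with e | e <;> rw [e] at d1
    exacts [(Nat.dvd_of_mul_dvd_mul_right r0 d1).trans (by norm_num), Nat.dvd_of_mul_dvd_mul_right r0 d1]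
  have zg : Commute z g := zc gx.symm hz
  have gz : g ∉ zpowers z := fun e => h.h_gt (zc (zc h.xt hz) e)
  have cP : Nat.card ↥(zpowers z ⊔ zpowers g) = 9 := by
    rw [card_sup_of_inf_eq_bot (.inl (le_norm_of_cent (by rw [cent_zpowers, zpowers_le]; exact mem_cent1.2 zg)))
      (inf_comm (zpowers z) _ ▸ (le_or_inf_eq_bot_of_card_prime (by rw [Nat.card_zpowers, h.h_og]; norm_num)
        _).resolve_left fun e => gz (e (mem_zpowers g))), Nat.card_zpowers, Nat.card_zpowers, oz, h.h_og]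
  have sy : ∀ M : Subgroup G, zpowers z ⊔ zpowers g ≤ M → Nat.card M = Nat.card C1[z] →
      IsPiHallOf {3} (zpowers z ⊔ zpowers g) M := fun M le e => by
    refine syl_mk Nat.prime_three le (IsPGroup.of_card (n := 2) cP) fun ⟨k, hk⟩ => ?_
    have := card_mul_relIndex le
    rw [cP, hk, e] at this
    have := Nat.le_of_dvd (by norm_num) d2
    generalize orderOf x = r at *
    interval_cases r <;> omega
  have s1 := syl_conj (sy _ (sup_le (zpowers_le.2 (self_mem_cent1 z)) (zpowers_le.2 (mem_cent1.2 zg.symm))) rfl) n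
  rw [conj_cent1, nz] at s1
  obtain ⟨m, hm, e⟩ := syl_exists_conj Nat.prime_three s1
    (sy _ (sup_le (zpowers_le.2 (mem_cent1.2 zg)) (zpowers_le.2 (self_mem_cent1 g))) cd)
  refine nine h.two oz h.g3' zg (zi h.wx hz) h.wg gz (a := m * n) ?_ ?_
  · rw [show m * n * z * (m * n)⁻¹ = m * (n * z * n⁻¹) * m⁻¹ by group, nz, TT.commute_iff_conj.1 (mem_cent1.1 hm)]
  · rw [e, ← mul_conj]; exact conj_mem_conj.2 (mem_sup_right (mem_zpowers g))

theorem h_cK (gx : Commute g x) (x1 : x ≠ 1) {X : Subgroup G} (o : Odd (Nat.card X)) (le : X ≤ C1[x])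
    (le' : zpowers x ⊔ zpowers g ≤ X) : X = zpowers x ⊔ zpowers g := by
  have H := h.h_hs gx
  have r0 := orderOf_pos x
  have cC : Nat.card ↥(zpowers x ⊔ zpowers g) = orderOf x * 3 := by
    rw [card_sup_of_inf_eq_bot (.inl (le_norm_of_cent (by
      rw [cent_zpowers, zpowers_le]; exact mem_cent1.2 gx.symm))) (GT.inf_eq_bot_of_coprime (by
      rw [Nat.card_zpowers, Nat.card_zpowers, h.h_og]
      exact ((Nat.Prime.coprime_iff_not_dvd Nat.prime_three).2 (h.h_three gx)).symm)), Nat.card_zpowers,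
      Nat.card_zpowers, h.h_og]
  have e1 := card_mul_relIndex le'
  have e2 := card_mul_relIndex le
  have cM := H.card_M (mem_zpowers x) x1
  have oj : Odd ((zpowers x ⊔ zpowers g).relIndex X) := (Nat.odd_mul.1 (e1 ▸ o)).2
  refine le_antisymm (relIndex_eq_one.1 (by_contra fun j1 => ?_)) le'
  rw [← e1, cC] at e2
  generalize (zpowers x ⊔ zpowers g).relIndex X = j at *
  obtain ⟨i4, c60⟩ : X.relIndex C1[x] = 4 ∧ Nat.card C1[x] = 60 * orderOf x := by
    generalize X.relIndex C1[x] = i at *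
    have : j * i = 4 ∧ Nat.card C1[x] = 12 * orderOf x ∨ j * i = 20 ∧ Nat.card C1[x] = 60 * orderOf x :=
      cM.imp (fun e => ⟨Nat.eq_of_mul_eq_mul_left (by omega : 0 < orderOf x * 3) (by rw [← mul_assoc, e2, e]; ring), e⟩)
        fun e => ⟨Nat.eq_of_mul_eq_mul_left (by omega : 0 < orderOf x * 3) (by rw [← mul_assoc, e2, e]; ring), e⟩
    rw [Nat.odd_iff] at oj
    rcases this with ⟨k, e⟩ | ⟨k, e⟩
    · have := Nat.le_of_dvd (by norm_num) (Dvd.intro _ k)
      interval_cases j <;> omega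
    · have := Nat.le_of_dvd (by norm_num) (Dvd.intro _ k)
      refine ⟨?_, e⟩
      interval_cases j <;> omega
  have d := Nat.le_of_dvd (by norm_num) (dvd120 i4)
  set K := (X.subgroupOf C1[x]).normalCore
  have oK : Odd (Nat.card K) := o.of_dvd_nat (card_subgroupOf le ▸ card_dvd_of_le (normalCore_le _))
  have d1 := card_dvd_of_le (show K ≤ C1[(⟨t, H.tM (mem_zpowers x)⟩ : C1[x])] from fun y hy =>
    mem_cent1.2 (q4_odd (H.q4 (mem_zpowers x) x1) oK hy))
  rw [H.card_T (mem_zpowers x) x1] at d1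
  have d2 := Nat.le_of_dvd r0 ((Nat.Coprime.pow_right 2 (Nat.coprime_two_right.2 oK)).dvd_of_dvd_mul_left d1)
  have := K.card_mul_index
  have := Nat.mul_le_mul d2 d
  rw [show Nat.factorial 4 = 24 from rfl] at this
  omega

/-- (JH2) -/
theorem jh2 (gx : Commute g x) : x = 1 := by
  by_contra x1
  have H := h.h_hs gx
  have r3 := h.h_three gx
  obtain ⟨d, dw, gL⟩ := h.h_gL
  obtain ⟨oτ, dτ⟩ := ar_tau h.q8 h.ord (h.c3 _ gL (by simpa [h.h_og] using orderOf_conj d⁻¹ g) r3)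
  rw [← card_conj d] at oτ dτ
  have mT : ∀ c, c ∈ cj[d] (L ⊓ C1[d⁻¹ * g * d]) ↔ d⁻¹ * c * d ∈ L ∧ Commute c g := fun c => by
    rw [mem_conj, mem_inf, mem_cent1, ← TT.commute_conj_iff d⁻¹, inv_inv]; rfl
  generalize cj[d] (L ⊓ C1[d⁻¹ * g * d]) = T at *
  have ct : ∀ c, Commute (d⁻¹ * c * d) t ↔ Commute c w := fun c => by
    rw [← TT.commute_conj_iff d, dw]; simp [mul_assoc]
  have dec : ∀ c, Commute c g → Commute c w → c ∈ T ∨ w * c ∈ T := fun c c1 c2 =>
    (h.dec _ ((ct c).2 c2)).imp (fun e => (mT _).2 ⟨e, c1⟩) fun e => (mT _).2 ⟨by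
      rwa [← dw, show d⁻¹ * (d * t * d⁻¹ * c) * d = t * (d⁻¹ * c * d) by group], h.wg.mul_left c1⟩
  have w1 : w ≠ 1 := fun e => h.wW (h.mem_U.2 (.inl e))
  have wi : w⁻¹ = w := inv_eq_of_mul_eq_one_right h.ww
  have hS : IsPiHallOf {2} (zpowers w) C1[g] := syl_of_maximal Nat.prime_two
    (PG.isPGroup_zpowers_of_pow_eq_one (k := 1) (by rw [pow_one, sq, h.ww])) (zpowers_le.2 (mem_cent1.2 h.wg))
    fun X hX l1 l2 => le_antisymm (fun c hc => by
      have sq : ∀ y ∈ X, y * y = 1 := fun y hy => by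
        obtain ⟨k, e⟩ := hX ⟨y, hy⟩
        exact h.two y k (congrArg Subtype.val e)
      have wc := sq _ (mul_mem (l1 (mem_zpowers w)) hc)
      have c2 : Commute c w := by
        rw [Commute, SemiconjBy, ← inv_eq_of_mul_eq_one_right wc, mul_inv_rev, wi,
          inv_eq_of_mul_eq_one_right (sq c hc)]
      rcases dec c (mem_cent1.1 (l2 hc)) c2 with e | e
      · rw [sq_one (B84.odd_of_mem oτ e) (sq c hc)]; exact one_mem _
      · rw [← inv_eq_of_mul_eq_one_right (sq_one (B84.odd_of_mem oτ e) wc)]; exact inv_mem (mem_zpowers w)) l1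
  have y := Burnside_hall Nat.prime_two hS (cyclic_pdiv_norm_le_cent Nat.prime_two hS inferInstance
    fun q hq _ => hq.two_le)
  have nK : N[C1[g]] ≤ N[piCoreOf {2}ᶜ C1[g]] := le_norm_piCoreOf le_rfl
  generalize piCoreOf {2}ᶜ C1[g] = K at y nK
  have o : Odd (Nat.card K) := Nat.not_even_iff_odd.1 fun e => (isPiSubgroup_single_compl_iff Nat.prime_two).1
    (IsPiHallOf.isPi y) (even_iff_two_dvd.1 e)
  have mK : ∀ c, Commute c g → Odd (orderOf c) → c ∈ K := fun c e o => IsPiHallOf.mem_of_normal y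
    (le_normalizer.trans nK) (mem_cent1.2 e) ((piNat_single_compl_iff Nat.prime_two).2 fun d =>
      Nat.not_even_iff_odd.2 o (even_iff_two_dvd.2 d))
  have TK : T ≤ K := fun c hc => mK c ((mT c).1 hc).2 (B84.odd_of_mem oτ hc)
  have eT : K ⊓ C1[w] = T := le_antisymm (fun c hc => (dec c (mem_cent1.1 (IsPiHallOf.le y hc.1))
    (mem_cent1.1 hc.2)).resolve_right fun e => w1 (sq_one (B84.odd_of_mem o ((mul_mem_cancel_right hc.1).1 (TK e)))
      h.ww)) (le_inf TK fun c hc => mem_cent1.2 ((ct c).1 (h.le _ ((mT c).1 hc).1)))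
  have xK := mK x gx.symm h.odd
  have gK := mK g rfl (h.h_og ▸ by decide)
  obtain ⟨l, hl, lr⟩ := Nat.exists_prime_and_dvd (n := orderOf x) fun e => x1 (orderOf_eq_one_iff.1 e)
  have F := frob o h.ww (nK (le_normalizer (mem_cent1.2 h.wg))) xK gK h.wx h.wg gx.symm h.h_og r3
    (fun a ha a1 k hk e => by
      have c : Commute k a := (H.fus ha a1 (mem_normalizer_fintype fun y hy => by
        obtain ⟨j, rfl⟩ := hy
        rw [← conj_zpow]
        exact zpow_mem (zp_uniq (orderOf_pos a) e ha (orderOf_conj k a) rfl) j)).resolve_right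
          fun e => a1 (odd_inv (B84.odd_of_mem o hk) (h.h_oR ha) e)
      rw [← h.h_cK gx x1 (X := K ⊓ C1[x]) (o.of_dvd_nat (card_dvd_of_le inf_le_left)) inf_le_right (le_inf
        (sup_le (zpowers_le.2 xK) (zpowers_le.2 gK))
        (sup_le (zpowers_le.2 (self_mem_cent1 x)) (zpowers_le.2 (mem_cent1.2 gx))))]
      exact ⟨hk, H.cen ha a1 ▸ mem_cent1.2 c⟩)
    (by
      rw [eT]
      obtain ⟨k, e⟩ := dτ
      exact Nat.isCoprime_iff_coprime.1 ⟨Nat.card T, -k, by linear_combination e⟩) hl lr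
  rw [eT, Nat.modEq_iff_dvd] at F
  have : (l : ℤ) ∣ 2 ^ 3 := by
    have := dvd_add F ((Int.natCast_dvd_natCast.2 lr).trans dτ)
    push_cast at this
    rwa [show ∀ a : ℤ, 9 - a + (a - 1) = 2 ^ 3 from fun a => by ring] at this
  have := (Nat.prime_dvd_prime_iff_eq hl Nat.prime_two).1 (hl.dvd_of_dvd_pow (by exact_mod_cast this))
  exact Nat.not_even_iff_odd.2 h.odd (even_iff_two_dvd.2 (this ▸ lr))

end JD

end Cfsg.Agent.WA
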