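import Cfsg.Agent.B84H.D
import Cfsg.Agent.BS.Block2

/-! Groups of Janko-Ree type: the local data and the interface between the character parts. -/

set_option autoImplicit false

namespace Cfsg.Agent.WA

open Cfsg Subgroup Cfsg.Agent.GT Cfsg.Agent.Char Cfsg.Agent.BS Cfsg.Agent.B84C Cfsg.Agent.B84H

universe u

/-- Local data. `W = ⟨t, u⟩`, `R = ⟨x⟩` of odd order `r = |Q - 1| / 4`, `C(W) = W × R⟨w⟩`, `g` of order three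
rotates `W` and centralizes `w`; `C(t) = ⟨t⟩ × L`, `Q = ± q ≡ 5 mod 8`. -/
structure JD {G : Type u} [Group G] (t u g w x : G) (L : Subgroup G) (Q : ℤ) : Prop extends Q3 t u g where
  g3' : g ^ 3 = 1
  ww : w * w = 1
  wt : Commute w t
  wu : Commute w u
  wg : Commute w g
  wW : w ∉ toQ3.ψ.range
  wx : w * x * w⁻¹ = x⁻¹
  odd : Odd (orderOf x)
  xt : Commute x t
  xu : Commute x u
  gx : g * x * g⁻¹ ∈ zpowers x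
  le : ∀ l ∈ L, Commute l t
  tL : t ∉ L
  dec : ∀ c, Commute c t → c ∈ L ∨ t * c ∈ L
  uL : u ∈ L
  xL : x ∈ L
  cU : ∀ c, Commute c t → Commute c u → ∃ e ∈ toQ3.ψ.range, ∃ y ∈ zpowers x, c = e * y ∨ c = e * y * w
  nrm : ∀ a ∈ zpowers x, a ≠ 1 → ∀ c, Commute c t → c * a * c⁻¹ ∈ zpowers x → Commute c u
  cj : ∀ s : G, s * s = 1 → s ≠ 1 → IsConj t s
  two : ∀ (s : G) (k : ℕ), s ^ 2 ^ k = 1 → s * s = 1
  cjL : ∀ s ∈ L, s * s = 1 → s ≠ 1 → ∃ c ∈ L, c * u * c⁻¹ = s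
  q8 : Q % 8 = 5
  q3 : Q ≠ -3
  pp : IsPrimePow Q.natAbs
  ord : 4 * orderOf x = (Q - 1).natAbs
  card : 2 * Nat.card L = Q.natAbs * (Q.natAbs ^ 2 - 1)
  c3 : ∀ y ∈ L, orderOf y = 3 → ¬ 3 ∣ orderOf x →
    Nat.card ↥(L ⊓ C1[y]) = Q.natAbs ∨ 2 * Nat.card ↥(L ⊓ C1[y]) = (Q + 1).natAbs
  seven : 7 ∣ Nat.card G

/-- signed degrees of the non-principal characters in the principal 2-block of `L`. -/
def xs (Q : ℤ) : Fin 3 → ℤ := ![Q, -((Q + 1) / 2), -((Q + 1) / 2)]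

/-- their signed values on `R#`. -/
def ys : Fin 3 → ℤ := ![1, -1, -1]

/-- The principal 2-block of `L`. -/
structure LB {L : Type u} [Group L] [Fintype L] (x : L) (Q : ℤ) (γ : Fin 3 → L → ℂ) : Prop where
  irr : ∀ i, IsSIrr L (γ i)
  orth : ∀ i j, i ≠ j → ⟪γ i, γ j⟫ = 0
  one : ∀ i, ⟪γ i, fun _ => 1⟫ = 0
  ev : ∀ i y, ¬ Odd (orderOf y) → γ i y = 1
  od : ∀ y, Odd (orderOf y) → 1 + (γ 0 y + γ 1 y + γ 2 y) = 0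
  deg : ∀ i, γ i 1 = xs Q i
  val : ∀ i, ∀ a ∈ zpowers x, a ≠ 1 → γ i a = ys i
  b0 : ∀ ψ ∈ B0 L, ψ = (fun _ => 1) ∨ ∃ i, ψ = γ i ∨ ψ = -γ i

/-- The virtual characters `Θ i = ((1 - sgn) (1 - γ i))^G`. -/
structure TD {G : Type u} [Group G] [Fintype G] (t x : G) (Q : ℤ) (Θ : Fin 3 → G → ℂ) : Prop where
  virt : ∀ i, IsGeneralizedCharacter G (Θ i)
  gram : ∀ i j, ⟪Θ i, Θ j⟫ = if i = j then 4 else 2
  one : ∀ i, ⟪Θ i, fun _ => 1⟫ = 1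
  od : ∀ i y, Odd (orderOf y) → Θ i y = 0
  ev : ∀ y, ¬ Odd (orderOf y) → Θ 0 y + Θ 1 y + Θ 2 y = 8
  vt : ∀ i, Θ i t = 2 * (1 - xs Q i)
  val : ∀ i, ∀ a ∈ zpowers x, a ≠ 1 → Θ i (t * a) = 2 * (1 - ys i)
  cz : ∀ i, cZ t (Θ i) * xs Q i = C1[t].index * (Q * (Q + 1)) ^ 2 * (xs Q i - 1)
  sec : ∀ χ ∈ B0 G, ∃ c : Fin 3 → ℂ, ∀ y, ¬ Odd (orderOf y) → χ y = c 0 * Θ 0 y + c 1 * Θ 1 y + c 2 * Θ 2 y

/-- Signed degrees and values at `t` of the principal 2-block, shape (a): `Θ i = 1 + a + b i + c i`. -/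
structure SA {G : Type u} [Group G] [Fintype G] (t : G) (Q : ℤ) (Θ : Fin 3 → G → ℂ) (a : G → ℂ)
    (b : Fin 3 → Bool → G → ℂ) : Prop where
  ia : IsSIrr G a
  ib : ∀ i e, IsSIrr G (b i e)
  eq : ∀ i, Θ i = (fun _ => 1) + a + b i true + b i false
  a1 : ⟪a, fun _ => 1⟫ = 0
  b1 : ∀ i e, ⟪b i e, fun _ => 1⟫ = 0
  ab : ∀ i e, ⟪a, b i e⟫ = 0
  bb : ∀ i e j e', (i, e) ≠ (j, e') → ⟪b i e, b j e'⟫ = 0
  va : a t = 1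
  vb : ∀ i e, b i e t = -xs Q i

/-- shape (b): `Θ i = 1 + a j + a k + c i`, `{i, j, k} = {0, 1, 2}`. -/
structure SB {G : Type u} [Group G] [Fintype G] (t : G) (Q : ℤ) (Θ : Fin 3 → G → ℂ) (a c : Fin 3 → G → ℂ) :
    Prop where
  ia : ∀ i, IsSIrr G (a i)
  ic : ∀ i, IsSIrr G (c i)
  eq : ∀ i, Θ i = (fun _ => 1) + a (i + 1) + a (i + 2) + c i
  a1 : ∀ i, ⟪a i, fun _ => 1⟫ = 0
  c1 : ∀ i, ⟪c i, fun _ => 1⟫ = 0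
  aa : ∀ i j, i ≠ j → ⟪a i, a j⟫ = 0
  ac : ∀ i j, ⟪a i, c j⟫ = 0
  cc : ∀ i j, i ≠ j → ⟪c i, c j⟫ = 0
  va : ∀ i, a i t = -xs Q (i + 1) - xs Q (i + 2)
  vc : ∀ i, c i t = -xs Q i

end Cfsg.Agent.WA
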