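import Cfsg.Agent.WA.JS1
import Cfsg.Agent.WA.J0

/-! Groups of Janko-Ree type: the local data exist. -/

set_option autoImplicit false
set_option linter.unusedSectionVars false

namespace Cfsg.Agent.WA.JS

open Cfsg Subgroup Cfsg.Agent.GT Cfsg.Agent.Cls Cfsg.Agent.GW Cfsg.Agent.B84H

universe u

section
variable {L : Type u} [Group L] [Finite L] {u : L} {T : Subgroup L}

theorem tor (hu : orderOf u = 2) (d : Dih C1[u] T) (uT : u ∈ T) (c : Nat.card T % 4 = 2)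
    (n : ∀ y ∈ T, y * y ≠ 1 → N[zpowers y] ≤ C1[u]) : ∃ x, 2 * orderOf x = Nat.card T ∧ Commute x u ∧
      (∀ l l', Commute l u → Commute l' u → ¬ (l ∈ zpowers x ∨ u * l ∈ zpowers x) →
        ¬ (l' ∈ zpowers x ∨ u * l' ∈ zpowers x) → l * l' ∈ zpowers x ∨ u * (l * l') ∈ zpowers x) ∧
      (∀ l, Commute l u → ¬ (l ∈ zpowers x ∨ u * l ∈ zpowers x) → l * x * l⁻¹ = x⁻¹) ∧
      ∀ a ∈ zpowers x, a ≠ 1 → ∀ l, l * a * l⁻¹ ∈ zpowers x → Commute l u := by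
  obtain ⟨τ, rfl⟩ := PG.isCyclic_iff_exists.1 d.cyc
  rw [Nat.card_zpowers] at c ⊢
  have o : 2 * orderOf (τ ^ 2) = orderOf τ := by rw [orderOf_pow_of_dvd two_ne_zero (by omega)]; omega
  have oo : Odd (Nat.card (zpowers (τ ^ 2))) := by rw [Nat.card_zpowers]; exact Nat.odd_iff.2 (by omega)
  have le := zpowers_le.2 (npow_mem_zpowers τ 2)
  have e := PG.eq_sup_zpowers_of_card_eq_mul Nat.prime_two le (by rw [Nat.card_zpowers, Nat.card_zpowers, o]) uT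
    fun m => absurd (hu ▸ odd_ord oo m) (by decide)
  have k : ∀ l, l ∈ zpowers τ ↔ l ∈ zpowers (τ ^ 2) ∨ u * l ∈ zpowers (τ ^ 2) := fun l => by
    refine ⟨fun m => ?_, fun m => m.elim (le ·) fun m => (mul_mem_cancel_left uT).1 (le m)⟩
    obtain ⟨a, ha, b, hb, rfl⟩ := (mem_sup_of_le_norm' (zpowers_le.2 (d.norm le (self_mem_cent1 u)))).1 (e ▸ m)
    rcases (TT.mem_zpowers_of_sq (sq1 hu)).1 hb with rfl | rfl
    · exact .inl (by rwa [mul_one])
    · exact .inr (by rwa [d.comm (le ha) uT, tt (sq1 hu)])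
  refine ⟨τ ^ 2, o, d.comm (le (mem_zpowers _)) uT, fun l l' c c' m m' => (k _).1 (d.mul_mem (mem_cent1.2 c)
    (mem_cent1.2 c') (mt (k _).1 m) (mt (k _).1 m')), fun l c m => d.inv (mem_cent1.2 c) (mt (k _).1 m)
    (le (mem_zpowers _)), fun a ha a1 l m => mem_cent1.1 (n a (le ha) (mt (eq1_of_odd (odd_ord oo ha)) a1) ?_)⟩
  refine mem_normalizer_fintype fun z hz => ?_
  obtain ⟨j, rfl⟩ := hz
  rw [← conj_zpow]
  exact zpow_mem (zp_uniq (orderOf_pos a) m ha (GT.orderOf_conj l a) rfl) j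

theorem st (h : L2o L) (two : ∀ (s : L) (k : ℕ), s ^ 2 ^ k = 1 → s * s = 1) :
    ∃ (S A : Subgroup L) (t : L), St S A t := by
  obtain ⟨Q, -, -, -, -, n8, s, nc, -⟩ := facts h
  have := Fact.mk Nat.prime_two
  refine exists_st nc fun P hP => ?_
  by_cases b : P = ⊥
  · exact ⟨P, b ▸ inferInstance, le_rfl, by omega, fun s h n => absurd h n⟩
  obtain ⟨z, hz, o⟩ := exists_mem_orderOf_eq Nat.prime_two (PG.dvd_card_of_ne_bot hP b)
  refine ⟨zpowers z, inferInstance, zpowers_le.2 hz, ?_, fun s h _ =>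
    (PG.exists_pow_eq_one hP h).elim fun k e => sq s ▸ two s k e⟩
  obtain ⟨k, e⟩ := PG.exists_card_eq_pow hP
  rw [Nat.card_zpowers, o, e]
  exact Nat.pow_le_pow_right (n := 2) (i := k) (j := 2) two_pos (not_lt.1 fun l =>
    n8 ((pow_dvd_pow 2 (show 3 ≤ k from l)).trans (e ▸ card_subgroup_dvd_card P)))

end

variable {G : Type u} [Group G] [Finite G] {S L : Subgroup G} {t u g w c : G} (h : JR' S t L ⊥)
include h

theorem dec (hc : Commute c t) : c ∈ L ∨ t * c ∈ L := by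
  have := mem_cent1.2 hc
  rw [h.cent, sup_bot_eq] at this
  obtain ⟨a, ha, b, hb, rfl⟩ := (mem_sup_of_le_norm (zpowers_le.2 (h.norm (self_mem_cent1 t)))).1 this
  rcases (TT.mem_zpowers_of_sq (sq1 h.ord)).1 ha with rfl | rfl
  exacts [.inl (by rwa [one_mul]), .inr (by rwa [tt (sq1 h.ord)])]

theorem Sc : S ≤ C[S] := h.ab S (syl_isPGroup Nat.prime_two h.syl)

theorem Ssq (hc : c ∈ S) : c * c = 1 := h.el.sq c trivial ((syl_isPGroup Nat.prime_two h.syl).to_le (zpowers_le.2 hc))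

theorem two (s : G) (k : ℕ) (e : s ^ 2 ^ k = 1) : s * s = 1 := h.el.sq s trivial (PG.isPGroup_zpowers_of_pow_eq_one e)

theorem stL : ∃ (S A : Subgroup L) (t : L), St S A t :=
  st h.l2 fun s k e => Subtype.ext (two h s k (congrArg Subtype.val e))

theorem fus (hc : c ∈ S) (c1 : c ≠ 1) : ∃ n ∈ N[S], n * c * n⁻¹ = t := by
  obtain ⟨g, -, e⟩ := h.el.one c trivial t trivial (ord2 (Ssq h hc) c1) h.ord
  obtain ⟨n, hn, d, hd, rfl⟩ := syl_fusion_cent Nat.prime_two h.syl (mem_top g) (Y := {c})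
    (by rintro _ rfl; exact Sc h hc) (by rintro _ rfl; exact e ▸ Sc h h.mem)
  exact ⟨n, hn.2, by rw [← e, mul_assoc n d, ← hd.2 c rfl]; group⟩

theorem seven : 7 ∣ Nat.card G := by
  have e : MulAction.orbit N[S] (⟨t, h.mem⟩ : S) = {1}ᶜ := by
    ext c
    refine ⟨?_, fun n => ?_⟩
    · rintro ⟨n, rfl⟩ e
      exact ne1 h.ord (congrArg Subtype.val ((smul_eq_iff_eq_inv_smul _).1 e |>.trans (smul_one _)))
    · obtain ⟨n, hn, e⟩ := fus h c.2 fun e => n (Subtype.ext e)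
      exact MulAction.mem_orbit_symm.1 ⟨⟨n, hn⟩, Subtype.ext e⟩
  have := MulAction.index_stabilizer N[S] (⟨t, h.mem⟩ : S)
  have c := Set.ncard_add_ncard_compl ({1} : Set S)
  rw [h.card, Set.ncard_singleton, ← e, ← this] at c
  exact (show 7 = (MulAction.stabilizer N[S] (⟨t, h.mem⟩ : S)).index by omega) ▸
    (index_dvd_card _).trans (card_subgroup_dvd_card N[S])

theorem build (q : Q3 t u g) (g3 : g ^ 3 = 1) (uL : u ∈ L) (uS : u ∈ S) (wS : w ∈ S) (w1 : w ≠ 1)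
    (wg : Commute w g) : ∃ x Q, JD t u g w x L Q := by
  obtain ⟨Q, q1, q2, q3, q4, -, -, -, q5, q6⟩ := facts h.l2
  have ou : orderOf (⟨u, uL⟩ : L) = 2 := by rw [← orderOf_coe]; exact ord2 q.uu q.u1
  obtain ⟨T, d, uT, cT, nT⟩ := q5 _ ou
  obtain ⟨⟨x, xL⟩, x1, x2, x3, x4, x5⟩ := tor ou d uT (by omega) nT
  replace x1 : 2 * orderOf x = Nat.card T := (orderOf_coe (⟨x, xL⟩ : L)).symm ▸ x1
  have z : ∀ l : L, l ∈ zpowers (⟨x, xL⟩ : L) ↔ l.1 ∈ zpowers x := fun l =>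
    ⟨fun ⟨k, e⟩ => ⟨k, congrArg Subtype.val e⟩, fun ⟨k, e⟩ => ⟨k, Subtype.ext e⟩⟩
  simp only [z, Subtype.forall, Commute, SemiconjBy, Subtype.ext_iff, ne_eq, coe_mul, coe_inv, coe_one] at x2 x3 x4 x5
  have ox : Odd (orderOf x) := Nat.odd_iff.2 (by omega)
  have oV : ∀ {y}, y ∈ zpowers x → Odd (orderOf y) := fun m => ox.of_dvd_nat (orderOf_dvd_of_mem_zpowers m)
  have le : ∀ l ∈ L, Commute l t := fun l m => mem_cent1.1 (h.le m)
  have wt : Commute w t := (Sc h wS t h.mem).symm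
  have wu : Commute w u := (Sc h wS u uS).symm
  have tW : t ∈ q.ψ.range := q.mem_U.2 (by simp)
  have uW : u ∈ q.ψ.range := q.mem_U.2 (by simp)
  have wW : w ∉ q.ψ.range := fun m => by
    have := TT.commute_iff_conj.1 wg.symm
    rcases q.mem_U.1 m with e | e | e | e <;> rw [e] at this
    exacts [w1 e, q.ne (q.g1.symm.trans this), q.t1 (by simpa using q.g2.symm.trans this),
      q.u1 (by simpa using (q.g3.symm.trans this).symm)]
  have dec' : ∀ c, Commute c t → ∃ e ∈ q.ψ.range, e * c ∈ L := fun c hc =>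
    (dec h hc).elim (fun m => ⟨1, one_mem _, by rwa [one_mul]⟩) fun m => ⟨t, tW, m⟩
  have P : ∀ {l}, l ∈ zpowers x ∨ u * l ∈ zpowers x → ∃ e ∈ q.ψ.range, e * l ∈ zpowers x := fun m =>
    m.elim (fun m => ⟨1, one_mem _, by rwa [one_mul]⟩) fun m => ⟨u, uW, m⟩
  have cW : ∀ {c e}, Commute c t → Commute c u → e ∈ q.ψ.range → Commute (e * c) u := fun c1 c2 m =>
    (q.cU q.tu.symm rfl m).symm.mul_left c2
  obtain ⟨e0, he0, w0⟩ := dec' w wt
  have n0 : ¬ (e0 * w ∈ zpowers x ∨ u * (e0 * w) ∈ zpowers x) := fun m => by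
    obtain ⟨e, he, m⟩ := P m
    rw [← mul_assoc] at m
    have := eq1_of_odd (oV m) (TT.mul_self_of_commute (q.sqU (mul_mem he he0)) (Ssq h wS)
      (q.cU wt wu (mul_mem he he0)).symm)
    exact wW ((mul_mem_cancel_left (mul_mem he he0)).1 (this ▸ one_mem _))
  have xW : ∀ {y e}, y ∈ zpowers x → e ∈ q.ψ.range → Commute y e := fun m m' => q.cU (zc (le x xL) m) (zc x2 m) m'
  have wx : w * x * w⁻¹ = x⁻¹ := by
    have := x4 _ w0 (cW wt wu he0) n0
    rwa [show e0 * w * x * (e0 * w)⁻¹ = e0 * (w * x * w⁻¹) * e0⁻¹ by group, mul_inv_eq_iff_eq_mul,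
      (xW (inv_mem (mem_zpowers x)) he0).eq, mul_right_inj] at this
  have cU : ∀ c, Commute c t → Commute c u → ∃ e ∈ q.ψ.range, ∃ y ∈ zpowers x, c = e * y ∨ c = e * y * w := by
    intro c c1 c2
    obtain ⟨e, he, m⟩ := dec' c c1
    by_cases n : e * c ∈ zpowers x ∨ u * (e * c) ∈ zpowers x
    · obtain ⟨e', he', k⟩ := P n
      exact ⟨_, inv_mem (mul_mem he' he), _, k, .inl (by group)⟩
    · obtain ⟨e', he', k⟩ := P (x3 _ m _ w0 (cW c1 c2 he) (cW wt wu he0) n n0)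
      refine ⟨_, inv_mem (mul_mem (mul_mem he' he) he0), _, k, .inr ?_⟩
      rw [mul_assoc e, ← mul_assoc c, (q.cU c1 c2 he0).eq, ← TT.inv_of_sq (Ssq h wS)]
      nth_rewrite 1 [TT.inv_of_sq (Ssq h wS)]
      group
  obtain ⟨S', A, t', s⟩ := stL h
  refine ⟨x, Q, q, g3, Ssq h wS, wt, wu, wg, wW, wx, ox, le x xL, x2, ?_, le, h.nmem, fun c => dec h, uL, xL, cU,
    fun a ha a1 c hc m => ?_, fun s s2 s1 => ?_, two h,
    fun c hc c2 c1 => ?_, q1, q2, q3, by omega, q4, fun y hy o n => ?_, seven h⟩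
  · have o : Odd (orderOf (g * x * g⁻¹)) := by rwa [GT.orderOf_conj]
    obtain ⟨e, he, y, hy, n | n⟩ := cU (g * x * g⁻¹)
      (q.g3 ▸ (TT.commute_conj_iff g).2 ((le x xL).mul_right x2)) (q.g1 ▸ (TT.commute_conj_iff g).2 (le x xL))
    · refine PG.mem_of_sq_mem_of_odd o ?_
      rw [n, mul_assoc, ← mul_assoc y, (xW hy he).eq, ← mul_assoc, ← mul_assoc, q.sqU he, one_mul]
      exact mul_mem hy hy
    · rw [eq1_of_odd o]
      · exact one_mem _
      rw [n, show e * y * w * (e * y * w) = e * y * (w * e) * w⁻¹ * (w * y * w⁻¹) * (w * w) by group, zi wx hy,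
        Ssq h wS, (q.cU wt wu he).eq, mul_assoc e y, ← mul_assoc y, (xW hy he).eq, ← mul_assoc, ← mul_assoc, q.sqU he]
      group
  · obtain ⟨e, he, k⟩ := dec' c hc
    have := x5 a (zpowers_le.2 xL ha) ha a1 _ k (by
      rwa [show e * c * a * (e * c)⁻¹ = e * (c * a * c⁻¹) * e⁻¹ by group, ← (xW m he).eq, mul_inv_cancel_right])
    have := Commute.mul_left (q.cU q.tu.symm rfl (inv_mem he)).symm this
    rwa [inv_mul_cancel_left] at this
  · obtain ⟨k, -, e⟩ := h.el.one t trivial s trivial h.ord (ord2 s2 s1)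
    exact isConj_iff.2 ⟨k, e⟩
  · obtain ⟨a, ea⟩ := s.one _ ou
    obtain ⟨b, eb⟩ := s.one ⟨c, hc⟩ (by rw [← orderOf_coe]; exact ord2 c2 c1)
    exact ⟨_, (b * a⁻¹).2, congrArg Subtype.val (show b * a⁻¹ * ⟨u, uL⟩ * (b * a⁻¹)⁻¹ = ⟨c, hc⟩ by
      rw [← ea, ← eb]; group)⟩
  · rw [inf_comm, ← card_subgroupOf', show C1[y].subgroupOf L = C1[(⟨y, hy⟩ : L)] from Subgroup.ext fun l => by
      rw [mem_subgroupOf, mem_cent1, mem_cent1, Subtype.ext_iff]; rfl]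
    exact q6 _ (by rwa [← orderOf_coe]) (by omega)

theorem exists_jd : ∃ u g w x Q, JD t u g w x L Q := by
  have tt := sq1 h.ord
  have cV : Nat.card S = 2 * Nat.card ↥(L ⊓ S) := by
    rw [← card_inf_mul_relIndex L S, mul_comm, relIndex_eq_two_iff_exists_notMem_and.2 ⟨t, h.mem, h.nmem, fun b hb =>
      ((dec h (Sc h hb t h.mem).symm).imp_right fun m => by rwa [← Sc h hb t h.mem]).symm⟩]
  have c4 : Nat.card ↥(L ⊓ S) = 4 := by have := h.card; omega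
  obtain ⟨a, ha, oa⟩ := exists_mem_orderOf_eq (H := L ⊓ S) Nat.prime_two (by rw [c4]; norm_num)
  obtain ⟨b, hb, ba, eV⟩ := PG.exists_eq_sup_zpowers_of_card_eq_mul Nat.prime_two (zpowers_le.2 ha)
    (by rw [c4, Nat.card_zpowers, oa])
  have eS := PG.eq_sup_zpowers_of_card_eq_mul Nat.prime_two inf_le_right cV h.mem fun m => h.nmem m.1
  obtain ⟨S', A, t', s⟩ := stL h
  obtain ⟨⟨k, kL⟩, k1, k2⟩ := s.cyc3' (u := ⟨a, ha.1⟩) (v := ⟨b, hb.1⟩) (by rwa [← orderOf_coe])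
    (by rw [← orderOf_coe]; exact ord2 (Ssq h hb.2) (by rintro rfl; exact ba (one_mem _)))
    (fun e => ba (by rw [show b = a from congrArg Subtype.val e]; exact mem_zpowers _)) (Subtype.ext (Sc h ha.2 b hb.2))
  have q : Q3 a b k := ⟨sq1 oa, ne1 oa, Sc h hb.2 a ha.2, congrArg Subtype.val k1, congrArg Subtype.val k2⟩
  have kt : Commute k t := mem_cent1.1 (h.le kL)
  have r : ∀ y, k ^ 3 * y * (k ^ 3)⁻¹ = k * (k * (k * y * k⁻¹) * k⁻¹) * k⁻¹ := fun y => by rw [pow_three]; group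
  have k3 : k ^ 3 ∈ S := by
    rw [← sup_bot_eq S, ← h.cS, mem_cent_iff, eS, eV]
    refine sup_le (sup_le ?_ ?_) ?_ <;> refine zpowers_le.2 (mem_cent1.2 (Commute.symm ?_))
    exacts [TT.commute_iff_conj.2 (by rw [r, q.g1, q.g2, q.g3]), TT.commute_iff_conj.2 (by rw [r, q.g2, q.g3, q.g1]),
      kt.pow_left 3]
  have r4 : ∀ y ∈ S, k ^ 4 * y * (k ^ 4)⁻¹ = k * y * k⁻¹ := fun y hy => by
    rw [pow_succ', mul_assoc k, ← Sc h k3 y hy]; group
  obtain ⟨n, hn, e⟩ := fus h ha.2 (ne1 oa)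
  have q' : Q3 t (n * b * n⁻¹) (n * k ^ 4 * n⁻¹) := ⟨tt, ne1 h.ord, e ▸ (TT.commute_conj_iff n).2 q.tu,
    by rw [← e, conj_inv, conj_mul, conj_mul, r4 a ha.2, q.g1],
    by rw [← e, conj_inv, conj_mul, conj_mul, conj_mul, r4 b hb.2, q.g2]⟩
  have g3 : (n * k ^ 4 * n⁻¹) ^ 3 = 1 := by
    rw [conj_pow, ← pow_mul, show 4 * 3 = 3 * 2 * 2 from rfl, pow_mul, pow_mul, sq (k ^ 3), Ssq h k3]; simp
  have wg : Commute (n * t * n⁻¹) (n * k ^ 4 * n⁻¹) := (TT.commute_conj_iff n).2 (kt.pow_left 4).symm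
  have wS := conj_mem_of_mem_norm hn h.mem
  have w1 : n * t * n⁻¹ ≠ 1 := by simpa using ne1 h.ord
  have uS := conj_mem_of_mem_norm hn hb.2
  generalize n * b * n⁻¹ = u at *
  generalize n * k ^ 4 * n⁻¹ = g at *
  rcases dec h q'.tu.symm with m | m
  · exact ⟨_, _, _, build h q' g3 m uS wS w1 wg⟩
  · exact ⟨_, g⁻¹, _, build h ⟨tt, q'.t1, (Commute.refl t).mul_right q'.tu, by nth_rw 1 [← q'.g3]; group,
      by rw [GW.tt tt, ← q'.g2]; group⟩ (by rw [inv_pow, g3, inv_one]) m (mul_mem h.mem uS) wS w1 wg.inv_right⟩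

end Cfsg.Agent.WA.JS
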