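import Cfsg.Agent.WA.JE3
import Cfsg.Agent.WA.JAr
import Cfsg.Agent.WA.J5
import Cfsg.Agent.WA.JB3
import Cfsg.Agent.WA.JH3
import Cfsg.Agent.WA.JS2

/-! Simple groups of Janko-Ree type have the order of `J₁` or of a Ree group. -/

set_option autoImplicit false
set_option linter.unusedSectionVars false

namespace Cfsg.Agent.WA

open Cfsg Subgroup Cfsg.Agent.GT Cfsg.Agent.Char Cfsg.Agent.BS Cfsg.Agent.B84C Cfsg.Agent.B84H Cfsg.Agent.Cls
open scoped Classical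

universe u

theorem JE.ar2' : JE.AR2 := fun _ _ _ _ _ _ _ => ar2

theorem JE.ar4' : JE.AR4 := fun _ _ _ _ _ _ => ar4

variable {G : Type u} [Group G] [Finite G] [IsSimpleGroup G] {t u g w x : G} {S L : Subgroup G} {Q : ℤ}

theorem JD.main (h : JD t u g w x L Q) :
    (Q = 5 ∧ C1[t].index = 1463) ∨
      ((C1[t].index : ℤ) = Q ^ 2 * (Q ^ 2 + Q + 1) ∧ ∃ k, 1 ≤ k ∧ Q = -3 ^ (2 * k + 1)) := by
  haveI := Fintype.ofFinite G
  obtain ⟨Θ, T⟩ := h.td
  have s := h.shape (fun c => h.h_gt (c.is_comm.comm g t)) T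
  by_cases n : Commute g x
  · have o := h.ord
    have q3 := h.q3
    rw [h.jh2 n, orderOf_one] at o
    obtain rfl : Q = 5 := by omega
    have e := h.j5 T s
    rw [h.card_G5] at e
    exact .inl ⟨rfl, by omega⟩
  obtain ⟨Ξ, X⟩ := h.xd (fun a ha a1 => h.jh1 n ha a1) n T
  rcases s with ⟨a, b, s⟩ | ⟨a, c, s⟩
  · exact .inr (JE.sa_main JE.ar2' h (JE.big h n) T X s)
  · exact (JE.sb_main JE.ar4' h (JE.big h n) T X s).elim

/-- (JRO0) with the index of `C(t)`. -/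
theorem jr_index (h : JR' S t L ⊥) :
    (Nat.card L = 60 ∧ C1[t].index = 1463) ∨
      ∃ m q : ℕ, 1 ≤ m ∧ q = 3 ^ (2 * m + 1) ∧ 2 * Nat.card L = q * (q ^ 2 - 1) ∧
        C1[t].index = q ^ 2 * (q ^ 2 - q + 1) := by
  obtain ⟨u, g, w, x, Q, k⟩ := JS.exists_jd h
  have c := k.card
  rcases k.main with ⟨rfl, e⟩ | ⟨e, m, m1, rfl⟩
  · exact .inl ⟨by simp at c; omega, e⟩
  refine .inr ⟨m, _, m1, rfl, by simpa [Int.natAbs_pow] using c, ?_⟩
  have : 3 ^ (2 * m + 1) ≤ (3 ^ (2 * m + 1)) ^ 2 := Nat.le_self_pow two_ne_zero _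
  zify [this]
  rw [e]; ring

theorem jr_card (h : JR' S t L ⊥) : Nat.card G = 2 * Nat.card L * C1[t].index := by
  obtain ⟨u, g, w, x, Q, k⟩ := JS.exists_jd h
  rw [← k.card_C, card_mul_index]

/-- (JRO0) -/
theorem jro0 (h : JR' S t L ⊥) : IsRee G ∨ IsJ1 G := by
  have c := jr_card h
  rcases jr_index h with ⟨e1, e2⟩ | ⟨m, q, m1, e, e1, e2⟩
  · exact .inr ⟨inferInstance, by rw [c, e1, e2]⟩
  refine .inl ⟨inferInstance, m, m1, ?_⟩
  rw [← e, c, e1, e2]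
  have q1 : 1 ≤ q := e ▸ Nat.one_le_pow _ _ (by decide)
  have : q ≤ q ^ 2 := Nat.le_self_pow two_ne_zero _
  zify [this, q1, q1.trans this]
  ring

end Cfsg.Agent.WA
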