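import Cfsg.Agent.WA.JG2
import Cfsg.Agent.WA.JM

/-! Groups of Janko-Ree type with field automorphisms: the index of the centralizer of an involution. -/

set_option autoImplicit false
set_option linter.unusedSectionVars false

namespace Cfsg.Agent.WA.JE

open Cfsg Subgroup Cfsg.Agent.GT Cfsg.Agent.Char Cfsg.Agent.BS Cfsg.Agent.B84C Cfsg.Agent.B84H Cfsg.Agent.Cls
open scoped Classical ComplexConjugate

universe u

variable {G : Type u} [Group G] [Fintype G] {t u g w x : G} {K K0 : Subgroup G} {Q : ℤ}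
  {Θ : Fin 3 → G → ℂ} {Ξ : Fin 4 → G → ℂ}

set_option maxHeartbeats 1000000 in
theorem sa_main' (h : JG t u g w x K K0 Q) (T : TD t x Q Θ) (X : XD t Q Θ Ξ) {a : G → ℂ}
    {b : Fin 3 → Bool → G → ℂ} (S : SA t Q Θ a b) :
    (C1[t].index : ℤ) = Q ^ 2 * (Q ^ 2 + Q + 1) ∧ ∃ k, 1 ≤ k ∧ Q = -3 ^ (2 * k + 1) := by
  have P := h.c8
  have bg := h.big
  have q8 := h.q8
  obtain ⟨H, hq⟩ : ∃ H, Q + 1 = 2 * H := ⟨(Q + 1) / 2, by omega⟩
  have eH : (Q + 1) / 2 = H := by omega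
  have H0 : H ≠ 0 := by omega
  have Q0 : Q ≠ 0 := by omega
  have qC : (Q : ℂ) + 1 = 2 * H := by exact_mod_cast hq
  obtain ⟨A, hA⟩ := S.ia.virt.exists_int_one
  choose B hB using fun i e => (S.ib i e).virt.exists_int_one
  have ta : ∀ i, ⟪a, Θ i⟫ = 1 := fun i => by
    rw [S.eq, ci_add_right, ci_add_right, ci_add_right, S.a1, S.ia.ci_self, S.ab, S.ab]; simp
  have tb : ∀ i e j, ⟪b i e, Θ j⟫ = if i = j then 1 else 0 := fun i e j => by
    rw [S.eq, ci_add_right, ci_add_right, ci_add_right, S.b1, ci_eq_zero_symm (S.ab i e)]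
    split_ifs with k
    · subst k
      cases e
      · rw [(S.ib _ _).ci_self, S.bb _ _ _ _ (by simp)]; simp
      · rw [(S.ib _ _).ci_self, S.bb _ _ _ _ (by simp)]; simp
    · rw [S.bb _ _ _ _ (by simp [k]), S.bb _ _ _ _ (by simp [k])]; simp
  have la : ∀ k, k ≠ 0 → ⟪a, La Θ Ξ k⟫ = 0 := fun k k0 =>
    La_b0 T X k0 (mem_b0' T P S.ia S.a1 (m := 3) (by simp [ta]; norm_num) hA (Or.inl rfl))
  have lb : ∀ i e k, k ≠ 0 → ⟪b i e, La Θ Ξ k⟫ = 0 := fun i e k k0 =>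
    La_b0 T X k0 (mem_b0' T P (S.ib i e) (S.b1 i e) (m := 1) (by fin_cases i <;> simp [tb]) (hB i e) (Or.inl rfl))
  obtain ⟨ma, hma⟩ := S.ia.virt.ci_int (X.virt 1)
  choose m hm using fun i e => (S.ib i e).virt.ci_int (X.virt 1)
  have s : ∀ i, ma + m i true + m i false = if i = 0 then 0 else -1 := fun i => by
    have := th' T X 1 i
    rw [S.eq, ci_add_left, ci_add_left, ci_add_left, hma, hm, hm, ← ci_conj_symm, X.one] at this
    simp only [show ¬ (1 : Fin 4) = 0 by decide, if_false, map_zero, zero_add] at this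
    split_ifs at this ⊢ <;> exact_mod_cast this
  have bes := bessel_orthonormal Finset.univ (fun o : Option (Fin 3 × Bool) => o.elim a fun p => b p.1 p.2)
    (fun i _ j _ => by
      rcases i with _ | ⟨i, e⟩ <;> rcases j with _ | ⟨j, e'⟩
      · simpa using S.ia.ci_self
      · simpa using S.ab j e'
      · simpa using ci_eq_zero_symm (S.ab i e)
      · by_cases k : (i, e) = (j, e')
        · rw [k]; simpa using (S.ib j e').ci_self
        · rw [if_neg (by simpa using k)]; exact S.bb _ _ _ _ k) (Ξ 1 + Ξ 2)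
  have c2 : ∀ {γ : G → ℂ} {m : ℤ}, (∀ k, k ≠ 0 → ⟪γ, La Θ Ξ k⟫ = 0) → ⟪γ, Ξ 1⟫ = m →
      ‖⟪Ξ 1 + Ξ 2, γ⟫‖ ^ 2 = 4 * m ^ 2 := fun {γ m} l e => by
    rw [← ci_conj_symm, ci_add_right, xi_eq T X (k := 2) (by decide) l, e, Complex.norm_conj, ← Int.cast_add,
      Complex.norm_intCast, sq_abs]; push_cast; ring
  rw [Fintype.sum_option, Fintype.sum_prod_type, nsq_eq_of_ci (r := 10) (by
    simp only [ci_add_left, ci_add_right, X.gram]; simp; norm_num)] at bes
  simp only [Option.elim, c2 la hma, c2 (lb _ _) (hm _ _), Fin.sum_univ_three, Fintype.sum_bool] at bes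
  have bes' : ma ^ 2 + (m 0 true ^ 2 + m 0 false ^ 2) + (m 1 true ^ 2 + m 1 false ^ 2) +
      (m 2 true ^ 2 + m 2 false ^ 2) < 3 := by
    exact_mod_cast (by linarith : (ma ^ 2 + (m 0 true ^ 2 + m 0 false ^ 2) + (m 1 true ^ 2 + m 1 false ^ 2) +
      (m 2 true ^ 2 + m 2 false ^ 2) : ℝ) < 3)
  have ab : ∀ z : ℤ, z ≤ z ^ 2 ∧ -z ≤ z ^ 2 := fun z => ⟨by nlinarith [sq_nonneg (2 * z - 1)], by nlinarith [sq_nonneg (2 * z + 1)]⟩
  have s0 := s 0
  have s1 := s 1
  have s2 := s 2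
  simp only [if_true, show ¬ (1 : Fin 3) = 0 by decide, show ¬ (2 : Fin 3) = 0 by decide, if_false] at s0 s1 s2
  have d : ∀ i e, 1 + A + B i e + B i (!e) = 0 := fun i e => by
    have := T.od i 1 (by simp)
    rw [S.eq] at this
    simp only [Pi.add_apply, hA, hB] at this
    have : 1 + A + B i true + B i false = 0 := by exact_mod_cast this
    cases e <;> simp <;> linarith
  have E : ∀ i e, xs Q i * C1[t].index * (A * B i e * B i (!e) + B i e * B i (!e) + xs Q i ^ 2 * A * (B i e + B i (!e))) =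
      (Q * (Q + 1)) ^ 2 * (xs Q i - 1) * (A * B i e * B i (!e)) := fun i e => by
    have f := four (t := t) S.ia (S.ib i true) (S.ib i false) (S.eq i)
    have z := T.cz i
    rw [hA, hB, hB, S.va, S.vb, S.vb] at f
    have : (xs Q i * C1[t].index * (A * B i true * B i false + B i true * B i false +
        xs Q i ^ 2 * A * (B i true + B i false)) : ℂ) = (Q * (Q + 1)) ^ 2 * (xs Q i - 1) * (A * B i true * B i false) :=
      mul_left_cancel₀ (idx0 (t := t)) (by linear_combination (A * B i true * B i false : ℂ) * z - (xs Q i : ℂ) * f)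
    have : xs Q i * C1[t].index * (A * B i true * B i false + B i true * B i false +
        xs Q i ^ 2 * A * (B i true + B i false)) = (Q * (Q + 1)) ^ 2 * (xs Q i - 1) * (A * B i true * B i false) := by
      exact_mod_cast this
    cases e <;> simp only [Bool.not_true, Bool.not_false] <;> linear_combination this
  have A8 : A % 8 = 1 := by have := deg8' h S.ia.virt hA (v := 1) (by simpa using S.va); omega
  have v0 : ∀ e, b 0 e t = (-Q : ℤ) := fun e => by simp [S.vb, xs]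
  have v1 : ∀ e, b 1 e t = H := fun e => by simp [S.vb, xs, eH]
  have v2 : ∀ e, b 2 e t = H := fun e => by simp [S.vb, xs, eH]
  have x0 : xs Q 0 = Q := rfl
  have x1 : xs Q 1 = -H := by simp [xs, eH]
  rcases show (ma = -1 ∧ ∃ e, m 0 e = 1) ∨ ∃ e e', m 1 e = -1 ∧ m 2 e' = -1 by
    have := ab ma; have := ab (m 0 true); have := ab (m 0 false); have := ab (m 1 true); have := ab (m 1 false)
    have := ab (m 2 true); have := ab (m 2 false)
    simp only [Bool.exists_bool]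
    omega with ⟨e1, e, e2⟩ | ⟨e, e', e1, e2⟩
  · obtain ⟨g1, g2⟩ := gen2 T X hq H0 Q0 S.ia.neg (S.ib 0 e) (by rw [ci_neg_left, S.ab, neg_zero])
      (fun k k0 => by rw [ci_neg_left, la k k0, neg_zero]) (lb 0 e) (by rw [ci_neg_left, hma, e1]; simp)
      (by rw [hm, e2]; simp) (by rw [Pi.neg_apply, S.va, v0]; push_cast; linear_combination -qC)
    rw [Pi.neg_apply, Pi.neg_apply, S.va, v0, hA, hB] at g1
    rw [Pi.neg_apply, hA, hB] at g2
    have g1' : B 0 e = -Q * A := by exact_mod_cast (by push_cast at g1; linear_combination -g1 : (B 0 e : ℂ) = -Q * A)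
    have g2' : Q ^ 2 * (-A + B 0 e) = 2 * H * C1[t].index := by exact_mod_cast g2
    have E0 := E 0 e
    have E1 := E 1 true
    have d0 := d 0 e
    rw [g1'] at E0 d0 g2'
    rw [x0] at E0
    rw [x1] at E1
    exact ar1 (C := B 0 (!e)) h.pp hq bg A8 (mul_left_cancel₀ (show 2 * H ≠ 0 by omega) (by rw [← g2', ← hq]; ring))
      (by linear_combination d0) (d 1 true) (mul_left_cancel₀ Q0 (by linear_combination E0))
      (mul_left_cancel₀ (neg_ne_zero.2 H0) (by rw [mul_pow, hq] at E1; linear_combination E1))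
  · obtain ⟨g1, g2⟩ := gen2 T X hq H0 Q0 (S.ib 1 e).neg (S.ib 2 e').neg
      (by rw [ci_neg_left, ci_neg_right, S.bb _ _ _ _ (by simp)]; simp)
      (fun k k0 => by rw [ci_neg_left, lb _ _ k k0, neg_zero]) (fun k k0 => by rw [ci_neg_left, lb _ _ k k0, neg_zero])
      (by rw [ci_neg_left, hm, e1]; simp) (by rw [ci_neg_left, hm, e2]; simp)
      (by rw [Pi.neg_apply, Pi.neg_apply, v1, v2]; ring)
    simp only [Pi.neg_apply, v1, v2, hB] at g1 g2
    have g1' : B 2 e' = B 1 e := by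
      exact_mod_cast mul_left_cancel₀ (show (H : ℂ) ≠ 0 by exact_mod_cast H0)
        (by linear_combination g1 : (H * B 2 e' : ℂ) = H * B 1 e)
    rw [g1'] at g2
    obtain ⟨μ, μ0, μ8, hn, hb⟩ := exists_m hq (by omega) (n := C1[t].index)
      (by exact_mod_cast Nat.pos_of_ne_zero index_ne_zero_of_finite) Q0 (deg8' h (S.ib 1 e).virt (hB _ _) (v1 e))
      (by exact_mod_cast g2)
    have E0 := E 0 true
    have E1 := E 1 e
    have d1 := d 1 e
    have D0 := dvd_val S.ia hA (v := 1) (by simpa using S.va)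
    have D1 := fun e => dvd_val (S.ib 0 e) (hB _ _) (v0 e)
    have D2 := dvd_val (S.ib 1 (!e)) (hB _ _) (v1 _)
    rw [hn] at E0 E1 D0 D1 D2
    rw [hb] at E1 d1
    rw [x0] at E0
    rw [x1] at E1
    exact (ar2' Q H μ A (B 0 true) (B 0 false) (B 1 (!e)) h.pp hq (by omega) bg μ0 μ8 A8
      (by simpa using deg8' h (S.ib 0 _).virt (hB _ _) (v0 _)) (by simpa using deg8' h (S.ib 0 _).virt (hB _ _) (v0 _))
      (deg8' h (S.ib 1 _).virt (hB _ _) (v1 _)) (d 0 true) (by linear_combination d1) (by simpa using D0)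
      (by rw [show Q ^ 3 * μ = -(Q ^ 2 * μ * -Q) by ring]; exact (D1 _).neg_right)
      (by rw [show Q ^ 3 * μ = -(Q ^ 2 * μ * -Q) by ring]; exact (D1 _).neg_right)
      (by rw [show H * Q ^ 2 * μ = Q ^ 2 * μ * H by ring]; exact D2)
      (mul_left_cancel₀ (pow_ne_zero 2 Q0) (by simp only [Bool.not_true] at E0; linear_combination E0))
      (mul_left_cancel₀ (mul_ne_zero (mul_ne_zero (pow_ne_zero 2 Q0) (pow_ne_zero 2 H0)) μ0.ne')
        (by rw [mul_pow, hq] at E1; linear_combination E1))).elim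

set_option maxHeartbeats 1000000 in
theorem sb_main' (h : JG t u g w x K K0 Q) (T : TD t x Q Θ) (X : XD t Q Θ Ξ)
    {a c : Fin 3 → G → ℂ} (S : SB t Q Θ a c) : False := by
  have P := h.c8
  have bg := h.big
  have q8 := h.q8
  obtain ⟨H, hq⟩ : ∃ H, Q + 1 = 2 * H := ⟨(Q + 1) / 2, by omega⟩
  have eH : (Q + 1) / 2 = H := by omega
  have H0 : H ≠ 0 := by omega
  have Q0 : Q ≠ 0 := by omega
  have qC : (Q : ℂ) + 1 = 2 * H := by exact_mod_cast hq
  choose A hA using fun i => (S.ia i).virt.exists_int_one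
  choose C hC using fun i => (S.ic i).virt.exists_int_one
  have aa : ∀ i j, ⟪a i, a j⟫ = if i = j then 1 else 0 := fun i j => by
    split_ifs with k
    · rw [k, (S.ia j).ci_self]
    · exact S.aa i j k
  have cc : ∀ i j, ⟪c i, c j⟫ = if i = j then 1 else 0 := fun i j => by
    split_ifs with k
    · rw [k, (S.ic j).ci_self]
    · exact S.cc i j k
  have ta : ∀ i j, ⟪a i, Θ j⟫ = if i = j then 0 else 1 := fun i j => by
    rw [S.eq, ci_add_right, ci_add_right, ci_add_right, S.a1, aa, aa, S.ac]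
    fin_cases i <;> fin_cases j <;> simp
  have tc : ∀ i j, ⟪c i, Θ j⟫ = if i = j then 1 else 0 := fun i j => by
    rw [S.eq, ci_add_right, ci_add_right, ci_add_right, S.c1, ci_eq_zero_symm (S.ac _ i), ci_eq_zero_symm (S.ac _ i),
      cc]; simp
  have va0 : a 0 t = (2 * H : ℤ) := by simp [S.va, xs, eH]; ring
  have va1 : a 1 t = (1 - H : ℤ) := by simp [S.va, xs, eH]; linear_combination -qC
  have va2 : a 2 t = (1 - H : ℤ) := by simp [S.va, xs, eH]; linear_combination -qC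
  have vc0 : c 0 t = (-Q : ℤ) := by simp [S.vc, xs]
  have vc1 : c 1 t = H := by simp [S.vc, xs, eH]
  have vc2 : c 2 t = H := by simp [S.vc, xs, eH]
  have a8 := deg8' h (S.ia 0).virt (hA 0) va0
  have a81 := deg8' h (S.ia 1).virt (hA 1) va1
  have a82 := deg8' h (S.ia 2).virt (hA 2) va2
  have la : ∀ i k, k ≠ 0 → ⟪a i, La Θ Ξ k⟫ = 0 := fun i k k0 =>
    La_b0 T X k0 (mem_b0' T P (S.ia i) (S.a1 i) (m := 2) (by fin_cases i <;> simp [ta] <;> norm_num) (hA i)
      (Or.inr ⟨rfl, by fin_cases i <;> simp only [Fin.zero_eta, Fin.mk_one, Fin.reduceFinMk] <;> omega⟩))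
  have lc : ∀ i k, k ≠ 0 → ⟪c i, La Θ Ξ k⟫ = 0 := fun i k k0 =>
    La_b0 T X k0 (mem_b0' T P (S.ic i) (S.c1 i) (m := 1) (by fin_cases i <;> simp [tc]) (hC i) (Or.inl rfl))
  choose ma hma using fun i => (S.ia i).virt.ci_int (X.virt 1)
  choose mc hmc using fun i => (S.ic i).virt.ci_int (X.virt 1)
  have s : ∀ i, ma (i + 1) + ma (i + 2) + mc i = if i = 0 then 0 else -1 := fun i => by
    have := th' T X 1 i
    rw [S.eq, ci_add_left, ci_add_left, ci_add_left, hma, hma, hmc, ← ci_conj_symm, X.one] at this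
    simp only [show ¬ (1 : Fin 4) = 0 by decide, if_false, map_zero, zero_add] at this
    split_ifs at this ⊢ <;> exact_mod_cast this
  have bes := bessel_orthonormal Finset.univ (fun o : Fin 3 ⊕ Fin 3 => o.elim a c)
    (fun i _ j _ => by
      rcases i with i | i <;> rcases j with j | j
      · simpa using aa i j
      · simpa using S.ac i j
      · simpa using ci_eq_zero_symm (S.ac j i)
      · simpa using cc i j) (Ξ 1 + Ξ 2)
  have c2 : ∀ {γ : G → ℂ} {m : ℤ}, (∀ k, k ≠ 0 → ⟪γ, La Θ Ξ k⟫ = 0) → ⟪γ, Ξ 1⟫ = m →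
      ‖⟪Ξ 1 + Ξ 2, γ⟫‖ ^ 2 = 4 * m ^ 2 := fun {γ m} l e => by
    rw [← ci_conj_symm, ci_add_right, xi_eq T X (k := 2) (by decide) l, e, Complex.norm_conj, ← Int.cast_add,
      Complex.norm_intCast, sq_abs]; push_cast; ring
  rw [Fintype.sum_sum_type, nsq_eq_of_ci (r := 10) (by
    simp only [ci_add_left, ci_add_right, X.gram]; simp; norm_num)] at bes
  simp only [Sum.elim_inl, Sum.elim_inr, c2 (la _) (hma _), c2 (lc _) (hmc _), Fin.sum_univ_three] at bes
  have bes' : ma 0 ^ 2 + ma 1 ^ 2 + ma 2 ^ 2 + (mc 0 ^ 2 + mc 1 ^ 2 + mc 2 ^ 2) < 3 := by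
    exact_mod_cast (by linarith : (ma 0 ^ 2 + ma 1 ^ 2 + ma 2 ^ 2 + (mc 0 ^ 2 + mc 1 ^ 2 + mc 2 ^ 2) : ℝ) < 3)
  have ab : ∀ z : ℤ, z ≤ z ^ 2 ∧ -z ≤ z ^ 2 := fun z => ⟨by nlinarith [sq_nonneg (2 * z - 1)], by nlinarith [sq_nonneg (2 * z + 1)]⟩
  have s0 : ma 1 + ma 2 + mc 0 = 0 := s 0
  have s1 : ma 2 + ma 0 + mc 1 = -1 := s 1
  have s2 : ma 0 + ma 1 + mc 2 = -1 := s 2
  rcases show (ma 0 = -1 ∧ ma 1 = 0 ∧ ma 2 = 0 ∧ mc 0 = 0 ∧ mc 1 = 0 ∧ mc 2 = 0) ∨ (mc 1 = -1 ∧ mc 2 = -1) by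
    have := ab (ma 0); have := ab (ma 1); have := ab (ma 2); have := ab (mc 0); have := ab (mc 1); have := ab (mc 2)
    omega with ⟨e0, e1, e2, e3, e4, e5⟩ | ⟨e1, e2⟩
  · refine gen1' T X h hq H0 (by rw [orderOf_eq_prime (p := 2) (by rw [sq, h.tt]) h.t1]; decide) (S.ia 0).neg
      (fun k k0 => by rw [ci_neg_left, la _ k k0, neg_zero]) (by rw [ci_neg_left, hma, e0]; simp)
      (by rw [Pi.neg_apply, va0]; push_cast; ring) fun φ hφ n o => ?_
    have k : ∀ {γ : G → ℂ}, IsSIrr G γ → ⟪γ, Ξ 1⟫ = 0 → ⟪φ, γ⟫ = 0 := fun hγ z => by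
      by_contra m
      rcases hφ.eq_or_eq_neg_of_ci_ne_zero hγ m with e | e <;> rw [e] at n
      · exact n (ci_eq_zero_symm z)
      · exact n (by rw [ci_neg_right, ci_eq_zero_symm z, neg_zero])
    have k1 := k isIrrCharacter_one.isSIrr (ci_eq_zero_symm (by rw [X.one]; rfl))
    have ka : ∀ i, ⟪φ, a i⟫ = 0 := fun i => by
      fin_cases i
      · simpa [ci_neg_right] using o
      · exact k (S.ia 1) ((hma 1).trans (by rw [e1]; simp))
      · exact k (S.ia 2) ((hma 2).trans (by rw [e2]; simp))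
    have kc : ∀ i, ⟪φ, c i⟫ = 0 := fun i => by
      fin_cases i
      · exact k (S.ic 0) ((hmc 0).trans (by rw [e3]; simp))
      · exact k (S.ic 1) ((hmc 1).trans (by rw [e4]; simp))
      · exact k (S.ic 2) ((hmc 2).trans (by rw [e5]; simp))
    exact ⟨k1, fun i => by rw [S.eq, ci_add_right, ci_add_right, ci_add_right, k1, ka, ka, kc]; simp⟩
  obtain ⟨g1, g2⟩ := gen2 T X hq H0 Q0 (S.ic 1).neg (S.ic 2).neg
    (by rw [ci_neg_left, ci_neg_right, cc]; simp)
    (fun k k0 => by rw [ci_neg_left, lc _ k k0, neg_zero]) (fun k k0 => by rw [ci_neg_left, lc _ k k0, neg_zero])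
    (by rw [ci_neg_left, hmc, e1]; simp) (by rw [ci_neg_left, hmc, e2]; simp)
    (by rw [Pi.neg_apply, Pi.neg_apply, vc1, vc2]; ring)
  simp only [Pi.neg_apply, vc1, vc2, hC] at g1 g2
  have g1' : C 2 = C 1 := by
    exact_mod_cast mul_left_cancel₀ (show (H : ℂ) ≠ 0 by exact_mod_cast H0)
      (by linear_combination g1 : (H * C 2 : ℂ) = H * C 1)
  rw [g1'] at g2
  obtain ⟨μ, μ0, μ8, hn, hb⟩ := exists_m hq (by omega) (n := C1[t].index)
    (by exact_mod_cast Nat.pos_of_ne_zero index_ne_zero_of_finite) Q0 (deg8' h (S.ic 1).virt (hC _) vc1)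
    (by exact_mod_cast g2)
  have d : ∀ i, 1 + A (i + 1) + A (i + 2) + C i = 0 := fun i => by
    have := T.od i 1 (by simp)
    rw [S.eq] at this
    simp only [Pi.add_apply, hA, hC] at this
    exact_mod_cast this
  have d0 : 1 + A 1 + A 2 + C 0 = 0 := d 0
  have d1 : 1 + A 2 + A 0 + C 1 = 0 := d 1
  have d2 : 1 + A 0 + A 1 + C 2 = 0 := d 2
  have a12 : A 2 = A 1 := by omega
  have f0 := four (t := t) (S.ia 1) (S.ia 2) (S.ic 0) (S.eq 0)
  have f1 := four (t := t) (S.ia 2) (S.ia 0) (S.ic 1) (S.eq 1)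
  have z0 := T.cz 0
  have z1 := T.cz 1
  have hn' : (C1[t].index : ℂ) = Q ^ 2 * μ := by exact_mod_cast hn
  rw [hA, hA, hC, va1, va2, vc0, a12] at f0
  rw [hA, hA, hC, va2, va0, vc1, a12, hb] at f1
  simp only [xs, eH, Matrix.cons_val_zero, Matrix.cons_val_one] at z0 z1
  rw [hn'] at f0 f1 z0 z1
  rw [mul_pow, qC] at z1
  push_cast at f0 f1 z0 z1
  have A0 : A 1 ≠ 0 := by omega
  have D0 := dvd_val (S.ia 1) (hA _) va1
  have D1 := dvd_val (S.ic 0) (hC _) vc0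
  have D2 := dvd_val (S.ia 0) (hA _) va0
  rw [hn] at D0 D1 D2
  have Q0' : (Q : ℂ) ≠ 0 := by exact_mod_cast Q0
  have H0' : (H : ℂ) ≠ 0 := by exact_mod_cast H0
  have A0' : (A 1 : ℂ) ≠ 0 := by exact_mod_cast A0
  have μ0' : (μ : ℂ) ≠ 0 := by exact_mod_cast μ0.ne'
  refine ar4' Q H μ (A 1) (C 0) (A 0) h.pp hq (by omega) bg μ0 μ8 (by omega)
    (by simpa using deg8' h (S.ic 0).virt (hC _) vc0) a8 (by omega) (by rw [hb] at d1; linear_combination d1 - a12)
    (by rw [show (H - 1) * Q ^ 2 * μ = -(Q ^ 2 * μ * (1 - H)) by ring]; exact D0.neg_right)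
    (by rw [show Q ^ 3 * μ = -(Q ^ 2 * μ * -Q) by ring]; exact D1.neg_right)
    (by rw [show 2 * H * Q ^ 2 * μ = Q ^ 2 * μ * (2 * H) by ring]; exact D2) ?_ ?_
  · exact_mod_cast mul_left_cancel₀ (mul_ne_zero (mul_ne_zero (pow_ne_zero 4 Q0') μ0') A0')
      (show _ * (Q * μ * (A 1 * C 0 + 2 * (H - 1) ^ 2 * C 0 + Q ^ 2 * A 1) : ℂ) =
        _ * ((Q + 1) ^ 2 * (Q - 1) * (A 1 * C 0)) by linear_combination (A 1 * A 1 * C 0 : ℂ) * z0 - Q * f0)
  · exact_mod_cast mul_left_cancel₀ (mul_ne_zero (mul_ne_zero (pow_ne_zero 4 Q0') (pow_ne_zero 2 μ0')) (pow_ne_zero 2 H0'))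
      (show _ * (μ * (A 0 * A 1 + 4 * H ^ 2 * A 1 + (H - 1) ^ 2 * A 0) : ℂ) =
        _ * (H * (4 * H + 5) * (A 0 * A 1)) by linear_combination (A 1 * A 0 * (-H * μ) : ℂ) * z1 + H * f1)

/-- (JEgen) -/
theorem _root_.Cfsg.Agent.WA.JG.main [IsSimpleGroup G] (h : JG t u g w x K K0 Q) (T : TD t x Q Θ)
    (val : ∀ i, ∀ a ∈ zpowers x, a ≠ 1 → ∀ k ∈ K, Θ i (t * (a * k)) = 2 * (1 - ys i)) :
    (C1[t].index : ℤ) = Q ^ 2 * (Q ^ 2 + Q + 1) ∧ ∃ k, 1 ≤ k ∧ Q = -3 ^ (2 * k + 1) := by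
  obtain ⟨Ξ, X⟩ := h.xd T val
  rcases shape' h.c8 (orderOf_eq_prime (by rw [sq, h.tt]) h.t1)
    (fun c => h.ne (h.g1.symm.trans (TT.commute_iff_conj.1 (c.is_comm.comm g t)))) T with ⟨a, b, s⟩ | ⟨a, c, s⟩
  · exact sa_main' h T X s
  · exact (sb_main' h T X s).elim

end Cfsg.Agent.WA.JE
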