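import Cfsg.Agent.WA.JT1
import Cfsg.Agent.WA.JG3
import Cfsg.Agent.WA.DB

/-! Groups of Janko-Ree type with field automorphisms: the order formula. -/

set_option autoImplicit false
set_option linter.unusedSectionVars false

namespace Cfsg.Agent.WA

open Cfsg Subgroup Cfsg.Agent.GT Cfsg.Agent.Char Cfsg.Agent.BS Cfsg.Agent.B84C Cfsg.Agent.B84H Cfsg.Agent.Cls
open Cfsg.Agent.GW Cfsg.Agent.WA.JB
open scoped Classical ComplexConjugate

universe u

namespace T6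

theorem td {G : Type u} [Group G] [Fintype G] {t x u : G} {L : Subgroup G} [Fintype L] {Q : ℤ} (h : Ct t L)
    (xL : x ∈ L) (uL : u ∈ L) (uu : u * u = 1) (u1 : u ≠ 1) (ox : Odd (orderOf x))
    (cj : ∀ s : L, s * s = 1 → s ≠ 1 → IsConj (⟨u, uL⟩ : L) s)
    (idx : 4 * (C1[(⟨u, uL⟩ : L)].index : ℤ) ^ 2 = (Q * (Q + 1)) ^ 2) {γ : Fin 3 → L → ℂ}
    (k : LB (⟨x, xL⟩ : L) Q γ) : TD t x Q fun i => h.Th ((fun _ => 1) - γ i) := by
  have v : ∀ i, IsGeneralizedCharacter L ((fun _ => 1) - γ i) := fun i => virt_one.sub (k.irr i).virt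
  have ev : ∀ i y, ¬ Odd (orderOf y) → ((fun _ => 1) - γ i : L → ℂ) y = 0 := fun i y o => by simp [k.ev i y o]
  have vl := fun i => h.Th_val (v i).isClassFunction (ev i)
  replace uu : (⟨u, uL⟩ : L) * ⟨u, uL⟩ = 1 := Subtype.ext uu
  replace u1 : (⟨u, uL⟩ : L) ≠ 1 := fun e => u1 (congrArg Subtype.val e)
  refine ⟨fun i => h.Th_virt (v i), fun i j => ?_, fun i => ?_, fun i y o => h.Th_odd o, fun y o => ?_,
    fun i => ?_, fun i a ha n => ?_, fun i => ?_, fun χ hχ => ?_⟩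
  · rw [h.Th_Th (v j).isClassFunction (ev i) (ev j), ci_sub_left, ci_sub_right, ci_sub_right, ci_one_one, k.one,
      ci_eq_zero_symm (k.one j)]
    split_ifs with e
    · rw [e, (k.irr j).ci_self]; norm_num
    · rw [k.orth i j e]; norm_num
  · rw [h.Th_ci (isClassFunction_const 1), ci_sub_left, ci_one_one, k.one, sub_zero]
  · obtain ⟨c, l, hl, ol, rfl⟩ := h.sec o
    have ol' : Odd (orderOf (⟨l, hl⟩ : L)) := by rwa [orderOf_mk]
    simp only [h.Th_class (t * l) c]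
    have := k.od _ ol'
    rw [vl 0 ⟨l, hl⟩ ol', vl 1 ⟨l, hl⟩ ol', vl 2 ⟨l, hl⟩ ol']
    simp only [Pi.sub_apply]
    linear_combination (-2) * this
  · have := vl i 1 (by simp)
    rwa [coe_one, mul_one, Pi.sub_apply, k.deg] at this
  · have aL := zpowers_le.2 xL ha
    have := vl i ⟨a, aL⟩ (by rw [orderOf_mk]; exact ox.of_dvd_nat (orderOf_dvd_of_mem_zpowers ha))
    have m : (⟨a, aL⟩ : L) ∈ zpowers (⟨x, xL⟩ : L) := by
      obtain ⟨j, e⟩ := ha
      exact ⟨j, Subtype.ext e⟩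
    rwa [Pi.sub_apply, k.val i _ m fun e => n (congrArg Subtype.val e)] at this
  · have e := cZ_sirr (t := (⟨u, uL⟩ : L)) (k.irr i)
    have e2 : (4 : ℂ) * (C1[(⟨u, uL⟩ : L)].index : ℂ) ^ 2 = (Q * (Q + 1)) ^ 2 := by exact_mod_cast idx
    rw [k.deg, k.ev i _ (by rw [orderOf_eq_two_of uu u1]; decide)] at e
    rw [h.cZ_Th uu u1 cj (ev i), cZ_sub, cZ_one, ← e2]
    linear_combination (-4 * C1[t].index) * e
  · obtain ⟨a, c, e⟩ : ∃ (a : ℂ) (c : Fin 3 → ℂ), ∀ l, (∑ ψ ∈ B0 L, ⟪fun l : L => χ (t * l), ψ⟫ • ψ) l =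
        a + (c 0 * γ 0 l + c 1 * γ 1 l + c 2 * γ 2 l) := by
      refine Finset.sum_induction _ (fun F : L → ℂ => ∃ (a : ℂ) (c : Fin 3 → ℂ), ∀ l, F l =
        a + (c 0 * γ 0 l + c 1 * γ 1 l + c 2 * γ 2 l)) ?_ ⟨0, 0, by simp⟩ fun ψ hψ => ?_
      · rintro _ _ ⟨a, c, e⟩ ⟨a', c', e'⟩
        exact ⟨a + a', c + c', fun l => by simp only [Pi.add_apply, e, e']; ring⟩
      · generalize ⟪fun l : L => χ (t * l), ψ⟫ = z
        rcases k.b0 ψ hψ with rfl | ⟨i, rfl | rfl⟩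
        · exact ⟨z, 0, by simp⟩
        · exact ⟨0, Pi.single i z, by fin_cases i <;> simp⟩
        · exact ⟨0, Pi.single i (-z), by fin_cases i <;> simp⟩
    refine ⟨fun i => ((a + (c 0 + c 1 + c 2)) / 4 - c i) / 2, fun y o => ?_⟩
    obtain ⟨d, l, hl, ol, rfl⟩ := h.sec o
    have ol' : Odd (orderOf (⟨l, hl⟩ : L)) := by rwa [orderOf_mk]
    have e1 := h.sect hχ ⟨l, hl⟩ ol'
    have e2 := e ⟨l, hl⟩
    simp only [Finset.sum_apply, Pi.smul_apply, smul_eq_mul] at e2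
    simp only [h.Th_class (t * l) d]
    have := k.od _ ol'
    rw [(B0_irr hχ).isClassFunction, vl 0 ⟨l, hl⟩ ol', vl 1 ⟨l, hl⟩ ol', vl 2 ⟨l, hl⟩ ol', e1, e2]
    simp only [Pi.sub_apply]
    linear_combination ((a + (c 0 + c 1 + c 2)) / 4) * this

theorem cyc_cent {G : Type u} [Group G] [Finite G] {p : ℕ} {x b : G} {A : Subgroup G} (hp : p.Prime)
    (hx : PiNat {p} (orderOf x)) (hA : A ≤ N[zpowers x]) (hc : (orderOf x).Coprime (Nat.card A))
    (hb : b ∈ zpowers x) (b1 : b ≠ 1) (bA : b ∈ C[A]) : A ≤ C[zpowers x] := by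
  have := Fact.mk hp
  have P := (isPGroup_zpowers_iff hp).2 hx
  exact coprime_comm_le_cent_of_omegaOne hp (isMulCommutative_of_isCyclic inferInstance) P hA
    (by rwa [Nat.card_zpowers]) ((PG.omegaOne_le_of_isCyclic inferInstance P (A := zpowers x ⊓ C[A]) inf_le_left
      (ne_bot_of_mem ⟨hb, bA⟩ b1)).trans inf_le_right)

variable {G : Type u} [Group G] {S L D : Subgroup G} {t u g w x a c : G} {Q : ℤ}

section
variable [Finite G] (h : JT S t u g w x L D Q)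
include h

theorem RL (ha : a ∈ zpowers x) : a ∈ L := zpowers_le.2 h.xL ha

theorem cjL (s : L) (e : s * s = 1) (n : s ≠ 1) : IsConj (⟨u, h.uL⟩ : L) s := by
  obtain ⟨c, hc, k⟩ := h.cjL s s.2 (congrArg Subtype.val e) fun k => n (Subtype.ext k)
  exact isConj_iff.2 ⟨⟨c, hc⟩, Subtype.ext k⟩

theorem lbL [Fintype L] : (∃ γ, LB (⟨x, h.xL⟩ : L) Q γ) ∧ Nat.card C1[(⟨u, h.uL⟩ : L)] = 4 * orderOf x := by
  obtain ⟨Q', q1, q2, -, q4, -, -, -, q5, -⟩ := JS.facts h.jr.l2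
  obtain rfl : Q = Q' := by
    have m : ∀ {a b : ℕ}, a < b → 3 ≤ a → a * (a ^ 2 - 1) < b * (b ^ 2 - 1) := fun {a b} l _ =>
      Nat.mul_lt_mul_of_lt_of_le l (Nat.sub_le_sub_right (Nat.pow_le_pow_left l.le 2) 1)
        (Nat.sub_pos_of_lt (Nat.one_lt_pow two_ne_zero (by omega)))
    have := h.card
    have := h.q8
    rcases lt_trichotomy Q.natAbs Q'.natAbs with l | l | l
    · have := m l (by omega); omega
    · omega
    · have := m l (by omega); omega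
  have uu : (⟨u, h.uL⟩ : L) * ⟨u, h.uL⟩ = 1 := Subtype.ext h.uu
  have u1 : (⟨u, h.uL⟩ : L) ≠ 1 := fun e => h.u1 (congrArg Subtype.val e)
  have ou := ord2 uu u1
  have cj := cjL h
  have ox : orderOf (⟨x, h.xL⟩ : L) = orderOf x := orderOf_mk _ _
  have xu : (⟨x, h.xL⟩ : L) ∈ C1[(⟨u, h.uL⟩ : L)] := mem_cent1.2 (Subtype.ext h.xu)
  have odd := h.odd
  have ord := h.ord
  rw [← ox] at odd ord ⊢
  generalize (⟨u, h.uL⟩ : L) = u' at *
  generalize (⟨x, h.xL⟩ : L) = x' at *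
  obtain ⟨T, d, uT, cT, nT⟩ := q5 _ ou
  have xT : x' ∈ T := by_contra fun n => absurd (d.ord xu n ▸ odd) (by decide)
  have le := zpowers_le.2 xT
  have c2 : Nat.card T = 2 * orderOf x' := by omega
  have e := PG.eq_sup_zpowers_of_card_eq_mul Nat.prime_two le (by rw [Nat.card_zpowers, c2]) uT
    fun m => absurd (ou ▸ odd.of_dvd_nat (orderOf_dvd_of_mem_zpowers m)) (by decide)
  refine ⟨lb_bsw (T := T) (u := u') ⟨fun a ha b hb => d.comm ha hb, uT, uu, u1, fun y hy e =>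
    or_iff_not_imp_left.2 (eq_of_sq_of_isCyclic d.cyc hy uT e uu · u1), d.card, fun s hs n => sq s ▸ d.sq s hs n,
    fun y hy y1 c m => ?_, cj⟩ (fun l => ?_) odd c2 q1 q2 ord q4, by rw [d.card, c2]; ring⟩
  · by_cases k : y * y = 1
    · obtain rfl := eq_of_sq_of_isCyclic d.cyc hy uT k uu y1 u1
      have := eq_of_sq_of_isCyclic d.cyc m uT (by rw [show c⁻¹ * y * c * (c⁻¹ * y * c) = c⁻¹ * (y * y) * c by group, k]; simp)
        uu (by simpa [mul_assoc, inv_mul_eq_one] using y1) u1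
      exact mem_cent1.2 (by nth_rw 1 [← this]; group)
    · obtain ⟨τ, rfl⟩ := PG.isCyclic_iff_exists.1 d.cyc
      exact (inv_mem_iff (x := c)).1 (nT y hy k (norm_zp (by
        rw [inv_inv]; exact zp_uniq (orderOf_pos y) m hy (by simpa using GT.orderOf_conj c⁻¹ y) rfl)))
  · refine ⟨fun m => ?_, fun m => m.elim (le ·) fun m => (mul_mem_cancel_left uT).1 (le m)⟩
    obtain ⟨a, ha, b, hb, rfl⟩ := (mem_sup_of_le_norm' (zpowers_le.2 (d.norm le (self_mem_cent1 u')))).1 (e ▸ m)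
    rcases (TT.mem_zpowers_of_sq uu).1 hb with rfl | rfl
    · exact .inl (by rwa [mul_one])
    · exact .inr (by rwa [d.comm (le ha) uT, tt uu])

omit h in
theorem jr_mem (j : JR' S t L D) : c ∈ L ⊔ D ↔ ∃ l ∈ L, ∃ k ∈ D, c = l * k := mem_sup_of_le_norm' j.DL

omit h in
theorem jr_ct (j : JR' S t L D) : Ct t (L ⊔ D) := by
  refine ⟨j.tt, fun l hl => mem_cent1.1 (sup_le j.le j.Dt hl), fun m => ?_, fun c hc => ?_, fun s ss s1 => ?_, j.two⟩
  · obtain ⟨l, hl, k, hk, e⟩ := (jr_mem j).1 m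
    have : k = 1 := j.KD (by
      rw [eq_inv_mul_of_mul_eq e.symm]
      exact mul_mem (mem_sup_right (inv_mem hl)) (mem_sup_left (mem_zpowers t))) hk
    exact j.nmem (by rwa [e, this, mul_one])
  · obtain ⟨l, hl, k, hk, e | e⟩ := j.dec (mem_cent1.2 hc)
    exacts [.inl ((jr_mem j).2 ⟨l, hl, k, hk, e⟩), .inr ((jr_mem j).2 ⟨l, hl, k, hk, by rw [e, tt j.tt]⟩)]
  · obtain ⟨c, e⟩ := j.cj (ord2 ss s1)
    exact (isConj_iff.2 ⟨c, e⟩).symm

omit h in
theorem jr_inv (j : JR' S t L D) (hc : c ∈ L ⊔ D) (cc : c * c = 1) : c ∈ L := by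
  refine (j.memK.1 (j.mem_K (sup_le j.le j.Dt hc) ?_)).resolve_right fun m => (jr_ct j).tL
    ((mul_mem_cancel_right hc).1 (mem_sup_left m))
  exact (Nat.coprime_two_left.2 j.odd).coprime_dvd_left (orderOf_dvd_of_pow_eq_one (by rwa [sq]))

omit h in
theorem jr_c8 (j : JR' S t L D) : ∃ N : ℤ, Odd N ∧ (Nat.card G : ℤ) = 8 * N := by
  refine ⟨S.relIndex ⊤, Odd.natCast (Nat.odd_iff.2 (Nat.two_dvd_ne_zero.1 (syl_not_dvd Nat.prime_two j.syl))), ?_⟩
  have := card_mul_relIndex j.syl.1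
  rw [j.card, card_top] at this
  exact_mod_cast this.symm

/-- the data `JG` -/
theorem jg (big : 27 ≤ |Q|) (cop : (Nat.card D).Coprime (orderOf x)) (n3 : ¬ 3 ∣ orderOf x) (ha : a ∈ zpowers x)
    (aD : a ∈ C[D]) (ng : ¬ Commute g a) : ∃ y ∈ zpowers x, ∃ K0 ≤ zpowers x, g ∈ N[K0] ∧ D ≤ N[K0] ∧
      JG t u g w y (K0 ⊔ D) K0 Q := by
  obtain ⟨s, hs, sa, ns⟩ : ∃ s : ℕ, s.Prime ∧ s ∣ orderOf a ∧ constt {s} a ∉ C1[g] := by
    by_contra! k
    exact ng (mem_cent1.1 (mem_of_forall_constt_mem k)).symm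
  have j := h.jr
  have pw : ∀ {b}, b ∈ zpowers x → ∀ π, constt π b ∈ zpowers (constt π x) := fun hb π => by
    obtain ⟨n, rfl⟩ := mem_powers_iff_mem_zpowers.2 hb
    rw [constt_pow]; exact npow_mem_zpowers _ _
  have nm : ∀ {c}, c ∈ N[zpowers x] → ∀ π, c ∈ N[zpowers (constt π x)] := fun hc π =>
    norm_zp (by rw [← constt_conj]; exact pw (conj_mem_of_mem_norm hc (mem_zpowers x)) π)
  have le : ∀ π, zpowers (constt π x) ≤ zpowers x := fun π => zpowers_le.2 (constt_mem_zpowers π x)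
  have gN := norm_zp h.gx
  have wN : w ∈ N[zpowers x] := norm_zp (h.wx ▸ inv_mem (mem_zpowers x))
  have dv : ∀ π, orderOf (constt π x) ∣ orderOf x := fun π => orderOf_dvd_of_mem_zpowers (constt_mem_zpowers π x)
  have b1 : constt {s} a ≠ 1 := fun e => ns (e ▸ one_mem _)
  have Dy : D ≤ C[zpowers (constt {s} x)] := cyc_cent hs (piNat_constt _ x) (fun c hc => nm (h.Dx hc) _)
    (cop.symm.coprime_dvd_left (dv _)) (pw ha _) b1 (constt_mem _ aD)
  have DK : D ≤ N[zpowers (constt {s}ᶜ x)] := fun c hc => nm (h.Dx hc) _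
  have mK := fun k => mem_sup_of_le_norm' DK (x := k)
  have cK : Nat.card ↥(zpowers (constt {s}ᶜ x) ⊔ D) = orderOf (constt {s}ᶜ x) * Nat.card D := by
    rw [card_sup_of_inf_eq_bot (.inr DK) (eq_bot_iff.2 (j.inf ▸ le_inf inf_le_right
      (inf_le_left.trans fun b hb => RL h (le _ hb)))), Nat.card_zpowers]
  have cS : ∀ {k b}, k ∈ D → b ∈ S → Commute k b := fun hk hb => (j.DS hk _ hb).symm
  have cK' : ∀ {b}, b ∈ S → Commute x b → ∀ k ∈ zpowers (constt {s}ᶜ x) ⊔ D, Commute k b := fun hb c k hk => by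
    obtain ⟨k, hk', d, hd, rfl⟩ := (mK k).1 hk
    exact (zc c (le _ hk')).mul_left (cS hd hb)
  have nK : ∀ {c}, c ∈ N[zpowers x] → (∀ d ∈ D, Commute c d) → ∀ k ∈ zpowers (constt {s}ᶜ x) ⊔ D,
      c * k * c⁻¹ ∈ zpowers (constt {s}ᶜ x) ⊔ D := fun hc cd k hk => by
    obtain ⟨k, hk', d, hd, rfl⟩ := (mK k).1 hk
    rw [← conj_mul, (cd d hd).eq, mul_inv_cancel_right]
    exact mul_mem (mem_sup_left (conj_mem_of_mem_norm (nm hc _) hk')) (mem_sup_right hd)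
  refine ⟨constt {s} x, constt_mem_zpowers _ x, zpowers (constt {s}ᶜ x), le _, nm gN _, DK, h.toQ3, h.g3',
    j.Ssq h.wS, (j.Sc h.wS t j.mem).symm, (j.Sc h.wS u h.uS).symm, h.wW, B84H.zi h.wx (constt_mem_zpowers _ x),
    fun e => b1 (by simpa [e] using pw ha {s}), h.odd.of_dvd_nat (dv _), zc h.xt (constt_mem_zpowers _ x),
    zc h.xu (constt_mem_zpowers _ x), conj_mem_of_mem_norm (nm gN _) (mem_zpowers _), fun b hb c => ?_,
    cK ▸ (h.odd.of_dvd_nat (dv _)).mul j.odd, ?_, cK' j.mem h.xt, cK' h.uS h.xu, fun k hk => ?_,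
    nK gN fun d hd => mem_cent1.1 (j.NS hd h.gS), nK wN fun d hd => (cS hd h.wS).symm, le_sup_left, fun k hk => ?_,
    fun c c1 c2 => ?_, fun b hb b1 c c1 c2 => h.nrm b (le _ hb) b1 c c1 (by rw [c2.eq, mul_inv_cancel_right]; exact le _ hb),
    (jr_ct j).cj, j.two, h.q8, h.pp, big, jr_c8 j, ?_⟩
  · by_contra b1
    have o3 : Nat.card (zpowers g) ∣ 3 := by rw [Nat.card_zpowers]; exact orderOf_dvd_of_pow_eq_one h.g3'
    have := cyc_cent hs (piNat_constt _ x) (zpowers_le.2 (nm gN {s})) ((((Nat.Prime.coprime_iff_not_dvd Nat.prime_three).2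
      n3).symm.coprime_dvd_left (dv _)).coprime_dvd_right o3) hb b1 (by rw [cent_zpowers]; exact mem_cent1.2 c.symm)
    exact ns (mem_cent1.2 (this (mem_zpowers g) _ (pw ha _)))
  · rw [cK]
    exact ((piNat_constt _ x).coprime (piNat_constt _ x)).mul_right (cop.symm.coprime_dvd_left (dv _))
  · obtain ⟨k, hk', d, hd, rfl⟩ := (mK k).1 hk
    exact (zc (zc rfl (constt_mem_zpowers _ x)).symm (le _ hk')).mul_left (Dy hd _ (mem_zpowers _)).symm
  · refine ⟨fun e => ?_, fun m => B84H.zi h.wx (le _ m)⟩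
    obtain ⟨k, hk', d, hd, rfl⟩ := (mK k).1 hk
    rw [← conj_mul, B84H.zi h.wx (le _ hk'), (cS hd h.wS).symm.eq, mul_inv_cancel_right] at e
    have m : d * d ∈ D ⊓ L := ⟨mul_mem hd hd, by
      rw [show d * d = d * k * d⁻¹ * (d * (k⁻¹ * d)) by group, e, mul_inv_rev, mul_inv_cancel_left]
      exact RL h (le _ (mul_mem (conj_mem_of_mem_norm (DK hd) hk') (inv_mem hk')))⟩
    rw [j.inf, mem_bot] at m
    rwa [eq1_of_odd (j.oD hd) m, mul_one]
  · obtain ⟨e, he, b, hb, k, hk, r⟩ := h.cU c c1 c2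
    refine ⟨e, he, _, pw hb {s}, _, mul_mem (mem_sup_left (pw hb {s}ᶜ)) (mem_sup_right hk), ?_⟩
    rwa [← mul_assoc, mul_assoc e, constt_mul_constt_compl]
  · have a1 : (2 * Nat.card L : ℤ) = |Q| * (Q ^ 2 - 1) := by
      have := congrArg (Nat.cast : ℕ → ℤ) h.card
      rw [Nat.cast_mul, Nat.cast_mul, Nat.cast_sub (Nat.one_le_pow _ _ (Int.natAbs_pos.2 (by rintro rfl; simp at big)))]
        at this
      simpa using this
    have a2 : (4 * (orderOf (constt {s} x) * orderOf (constt {s}ᶜ x)) : ℤ) = |Q - 1| := by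
      have := congrArg (Nat.cast : ℕ → ℤ) h.ord
      rw [← orderOf_constt_mul {s} x] at this
      simpa using this
    have a3 : |Q - 1| * |Q| = (Q - 1) * Q := by
      rw [← abs_mul, abs_of_nonneg]
      rcases le_or_gt Q 0 with p | p
      exacts [mul_nonneg_of_nonpos_of_nonpos (by omega) p, mul_nonneg (by omega) p.le]
    rw [cK, j.card_C, Nat.card_zpowers]
    push_cast
    linear_combination (orderOf (constt {s}ᶜ x) * Nat.card D : ℤ) * ((2 * Nat.card L) * a2 + |Q - 1| * a1 +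
      (Q ^ 2 - 1) * a3)

theorem idx : 4 * (C1[(⟨u, mem_sup_left h.uL⟩ : ↥(L ⊔ D))].index : ℤ) ^ 2 = (Q * (Q + 1)) ^ 2 := by
  have := Fintype.ofFinite L
  have j := h.jr
  have Du : D ≤ C1[u] := j.DS.trans (cent_le_cent1 h.uS)
  have e1 : ∀ (X : Subgroup G) (m : u ∈ X), Nat.card C1[(⟨u, m⟩ : X)] = Nat.card ↥(X ⊓ C1[u]) := fun X m => by
    rw [← card_subgroupOf (inf_le_left : X ⊓ C1[u] ≤ X)]
    congr 2; ext c; simp [mem_subgroupOf, mem_cent1, Subtype.ext_iff]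
  have e2 : (L ⊔ D) ⊓ C1[u] = (L ⊓ C1[u]) ⊔ D := le_antisymm (fun c hc => by
    obtain ⟨l, hl, k, hk, rfl⟩ := (jr_mem j).1 hc.1
    exact mul_mem (mem_sup_left ⟨hl, (mul_mem_cancel_right (Du hk)).1 hc.2⟩) (mem_sup_right hk))
    (sup_le (inf_le_inf_right _ le_sup_left) (le_inf le_sup_right Du))
  have e := C1[(⟨u, mem_sup_left h.uL⟩ : ↥(L ⊔ D))].index_mul_card
  rw [e1, e2, card_sup_of_inf_eq_bot (.inr (le_norm_inf j.DL (Du.trans le_normalizer)))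
    (eq_bot_iff.2 (j.inf ▸ le_inf inf_le_right (inf_le_left.trans inf_le_left))), ← e1 L h.uL, (lbL h).2, h.ord,
    card_sup_of_inf_eq_bot (.inr j.DL) (inf_comm L D ▸ j.inf), ← mul_assoc] at e
  replace e := Nat.eq_of_mul_eq_mul_right Nat.card_pos e
  have c := h.card
  have q8 := h.q8
  have p : 1 ≤ Q.natAbs ^ 2 := Nat.one_le_pow _ _ (by omega)
  rw [← e] at c
  zify [p] at c
  have n : (Q - 1) ^ 2 ≠ 0 := pow_ne_zero _ (by omega)
  apply mul_right_cancel₀ n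
  have := congrArg (· ^ 2) c
  simp only [mul_pow, sq_abs] at this
  linear_combination this

end

variable [Fintype G] [Fintype ↥(L ⊔ D)] (h : JT S t u g w x L D Q) {y : G} {K K0 : Subgroup G}
include h

/-- the principal 2-block of `L D` -/
theorem lbD (k : JG t u g w y K K0 Q) (hy : y ∈ zpowers x) (hK : K ≤ L ⊔ D) :
    ∃ γ, LB (⟨y, mem_sup_left (RL h hy)⟩ : ↥(L ⊔ D)) Q γ ∧ ∀ i, ∀ l : ↥(L ⊔ D), ∀ a ∈ zpowers y, a ≠ 1 → ∀ b ∈ K,
      (l : G) = a * b → γ i l = ys i := by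
  have := Fintype.ofFinite L
  have j := h.jr
  have ct := jr_ct j
  have le := zpowers_le.2 hy
  have leY : zpowers y ≤ L ⊔ D := fun a ha => mem_sup_left (RL h (le ha))
  let E : NormalEmb L ↥(L ⊔ D) := ⟨inclusion le_sup_left, inclusion_injective _,
    L.normalizerMonoidHom.comp (inclusion (sup_le le_normalizer j.DL)), fun _ _ => rfl⟩
  obtain ⟨e₀, he₀, e1, w0⟩ : ∃ e ∈ k.ψ.range, (∀ c, Commute c t → Commute c e) ∧ e * w ∈ L ⊔ D :=
    (ct.dec w k.wt).elim (fun m => ⟨1, one_mem _, fun _ _ => Commute.one_right _, by rwa [one_mul]⟩)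
      fun m => ⟨t, k.mem_U.2 (by simp), fun _ c => c, m⟩
  let J : zpowers y × K →* ↥(L ⊔ D) := (inclusion leY).noncommCoprod (inclusion hK) fun a b =>
    Subtype.ext (k.RK a.2 b.2)
  have Jap : ∀ o, (J o : G) = o.1 * o.2 := fun _ => rfl
  let κ : K →* K := ((MulAut.conj w).toMonoidHom.comp K.subtype).codRestrict _ fun b => k.wK _ b.2
  have fJ : ∀ m o, k.f ((m, o.1), o.2) = k.ψ m * J o := fun m o => by rw [k.f_ap, Jap, mul_assoc]
  have Jt : ∀ o, Commute (J o : G) t := fun o => ct.le _ (J o).2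
  have wW : ∀ {e}, e ∈ k.ψ.range → e₀ * w ≠ e := fun he e =>
    k.wW ((mul_mem_cancel_left he₀).1 (e ▸ he))
  have dc : ∀ c : ↥(L ⊔ D), ∀ e ∈ k.ψ.range, ∀ o, (c : G) = e * J o → c = J o ∨ c = ⟨u, mem_sup_left h.uL⟩ * J o := by
    intro c e he o r
    have m : e ∈ L ⊔ D := (mul_mem_cancel_right (J o).2).1 (r ▸ c.2)
    rcases k.mem_U.1 he with rfl | rfl | rfl | rfl
    exacts [.inl (Subtype.ext (by simpa using r)), (ct.tL m).elim, .inr (Subtype.ext r),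
      (ct.tL ((mul_mem_cancel_right (mem_sup_left h.uL)).1 m)).elim]
  have T : LT (E.f ⟨u, h.uL⟩) ⟨_, w0⟩ J fun o => (o.1⁻¹, κ o.2) := by
    refine ⟨Subtype.ext h.uu, fun e => h.u1 (congrArg Subtype.val e), Subtype.ext ?_,
      fun e => wW (one_mem _) (congrArg Subtype.val e), fun e => wW (e := u) (k.mem_U.2 (by simp)) (congrArg Subtype.val e),
      Subtype.ext ((k.toQ3.cU k.tu.symm (Commute.refl u) he₀).symm.mul_left k.wu), ?_, fun o o' e => ?_,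
      fun o => Subtype.ext ((zc k.xu o.1.2).mul_left (k.Ku _ o.2.2)), fun o => Subtype.ext ?_, fun c hc => ?_,
      fun s ss s1 => ?_, fun s n e => Subtype.ext (j.two s n (congrArg Subtype.val e)), fun d => ?_⟩
    · exact TT.mul_self_of_commute (k.toQ3.sqU he₀) k.ww (k.wW' he₀).symm
    · rw [Nat.card_prod, Nat.card_zpowers]; exact k.odd.mul k.oK
    · have := k.f_inj ((fJ 1 o).trans ((congrArg (k.ψ 1 * ·) (congrArg Subtype.val e)).trans (fJ 1 o').symm))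
      exact Prod.ext (congrArg (·.1.2) this) (congrArg (·.2) this)
    · have := k.f_w ((1, o.1), o.2)
      rw [fJ, map_one, one_mul, k.f_ap, map_one, one_mul] at this
      change e₀ * w * J o * (e₀ * w)⁻¹ = _
      rw [show e₀ * w * J o * (e₀ * w)⁻¹ = e₀ * (w * J o * w⁻¹) * e₀⁻¹ by group,
        ← (e1 _ ((k.wt.mul_left (Jt o)).mul_left k.wt.inv_left)).eq, mul_inv_cancel_right, this]
      rfl
    · rcases k.cU' (ct.le _ c.2) (congrArg Subtype.val hc) with ⟨⟨⟨m, a⟩, b⟩, e⟩ | ⟨⟨⟨m, a⟩, b⟩, e⟩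
      · exact ⟨(a, b), (dc c _ ⟨m, rfl⟩ (a, b) (e.symm.trans (fJ m (a, b)))).imp_right .inl⟩
      · exact ⟨(a, b), .inr (.inr (dc (⟨_, w0⟩ * c) _ (mul_mem he₀ ⟨m, rfl⟩) (a, b) (by
          rw [mul_assoc, ← fJ m (a, b), e, ← mul_assoc]; rfl)))⟩
    · obtain ⟨c, hc, e⟩ := h.cjL s (jr_inv j s.2 (congrArg Subtype.val ss)) (congrArg Subtype.val ss)
        fun e => s1 (Subtype.ext e)
      exact isConj_iff.2 ⟨⟨c, mem_sup_left hc⟩, Subtype.ext e⟩
    · obtain ⟨N, ⟨n, oN⟩, e⟩ := k.c8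
      obtain ⟨m, hm⟩ := d
      have := C1[t].index_mul_card
      rw [ct.card_C, hm] at this
      rw [← this, oN] at e
      push_cast at e
      have : 16 * ((C1[t].index : ℤ) * m) = 8 * (2 * n + 1) := by linear_combination e
      omega
  have big := k.big
  obtain ⟨γ0, k0⟩ := (lbL h).1
  obtain ⟨γ, b⟩ := lbt E T k0 h.q8 h.q3 (by rintro rfl; simp at big)
  have z : ∀ a : ↥(L ⊔ D), (a : G) ∈ zpowers y → a ∈ zpowers (E.f ⟨x, h.xL⟩) := fun a ha =>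
    (le ha).imp fun n e => Subtype.ext e
  refine ⟨γ, ⟨b.irr, b.orth, b.one, b.ev, b.od, b.deg, fun i a ⟨n, e⟩ => b.val i a (z a ⟨n, congrArg Subtype.val e⟩),
    b.b0⟩, fun i l a ha a1 c hc e => ?_⟩
  have := valK T (fun b => ⟨κ b, Subtype.ext (by
      change w * (w * b * w⁻¹) * w⁻¹ = b
      rw [show w * (w * b * w⁻¹) * w⁻¹ = w * w * b * (w * w)⁻¹ by group, k.ww]; simp)⟩)
    (fun a b => Subtype.ext (k.RR a.2 b.2)) (fun c o o' e n => ?_) b i (a := ⟨a, ha⟩)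
    (fun e => a1 (congrArg Subtype.val e)) ⟨c, hc⟩
  · rw [show l = J (⟨a, ha⟩, ⟨c, hc⟩) from Subtype.ext e, this]
    exact b.val i _ (z _ (by simpa [Jap] using ha)) fun e => a1 (by simpa [Jap] using congrArg Subtype.val e)
  · have p : ∀ o, (J o : G) ^ (2 * Nat.card K) = o.1 ^ (2 * Nat.card K) := fun o => by
      rw [← k.pw (one_mem _) o.1.2 o.2.2, one_mul, Jap]
    have e2 := congrArg (fun z : ↥(L ⊔ D) => (c * z * c⁻¹ : G) ^ (2 * Nat.card K)) e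
    simp only [coe_mul, coe_inv, conj_pow, p] at e2
    refine Subtype.ext (h.nrm _ (le (pow_mem o'.1.2 (2 * Nat.card K))) (fun e => n (Subtype.ext (k.pw1 o'.1.2 e))) c
      (ct.le _ c.2) ?_)
    rw [e2, ← conj_pow, show (c : G) * ((c : G)⁻¹ * J o * c) * (c : G)⁻¹ = J o by group, p]
    exact le (pow_mem o.1.2 _)

/-- everything about case (E) -/
theorem all (big : 27 ≤ |Q|) (cop : (Nat.card D).Coprime (orderOf x)) (n3 : ¬ 3 ∣ orderOf x) (ha : a ∈ zpowers x)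
    (aD : a ∈ C[D]) (ng : ¬ Commute g a) : ∃ y, ∃ hy : y ∈ zpowers x, ∃ K0 ≤ zpowers x, g ∈ N[K0] ∧ D ≤ N[K0] ∧
      JG t u g w y (K0 ⊔ D) K0 Q ∧ ∃ γ, LB (⟨y, mem_sup_left (RL h hy)⟩ : ↥(L ⊔ D)) Q γ ∧
        (∀ i, ∀ l : ↥(L ⊔ D), ∀ a ∈ zpowers y, a ≠ 1 → ∀ b ∈ K0 ⊔ D, (l : G) = a * b → γ i l = ys i) ∧
        TD t y Q (fun i => (jr_ct h.jr).Th ((fun _ => 1) - γ i)) ∧ ∀ i, ∀ a ∈ zpowers y, a ≠ 1 → ∀ b ∈ K0 ⊔ D,
          (jr_ct h.jr).Th ((fun _ => 1) - γ i) (t * (a * b)) = 2 * (1 - ys i) := by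
  obtain ⟨y, hy, K0, le, gK, DK, k⟩ := jg h big cop n3 ha aD ng
  have hK : K0 ⊔ D ≤ L ⊔ D := sup_le_sup_right (fun a ha => RL h (le ha)) D
  obtain ⟨γ, b, v⟩ := lbD h k hy hK
  refine ⟨y, hy, K0, le, gK, DK, k, γ, b, v, td _ _ (mem_sup_left h.uL) h.uu h.u1 k.odd (fun s ss s1 => ?_) (idx h) b,
    fun i a ha a1 c hc => ?_⟩
  · obtain ⟨c, hc, e⟩ := h.cjL s (jr_inv h.jr s.2 (congrArg Subtype.val ss)) (congrArg Subtype.val ss)
      fun e => s1 (Subtype.ext e)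
    exact isConj_iff.2 ⟨⟨c, mem_sup_left hc⟩, Subtype.ext e⟩
  · have m : a * c ∈ L ⊔ D := mul_mem (mem_sup_left (RL h (zpowers_le.2 hy ha))) (hK hc)
    rw [(jr_ct h.jr).Th_val (virt_one.sub (b.irr i).virt).isClassFunction (fun y o => by simp [b.ev i y o]) ⟨_, m⟩
      (by rw [orderOf_mk]; exact ((k.oR ha).mul (k.oK' hc)).of_dvd_nat (k.RK ha hc).orderOf_mul_dvd_mul_orderOf),
      Pi.sub_apply, v i ⟨_, m⟩ a ha a1 c hc rfl]

end T6

theorem pJG : PJG.{u} := by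
  intro G _ _ _ S L D t u g w x a Q h big cop n3 ha aD ng
  have := Fintype.ofFinite G
  have := Fintype.ofFinite ↥(L ⊔ D)
  obtain ⟨y, -, K0, -, -, -, k, γ, -, -, T, v⟩ := T6.all h big cop n3 ha aD ng
  exact (k.main T v).1

end Cfsg.Agent.WA
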