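import Cfsg.Agent.WA.DAll
import Cfsg.Agent.WA.DCT2
import Cfsg.Agent.WA.DCTE
import Cfsg.Agent.WA.DLoc9
import Cfsg.Agent.WA.DJ1
import Cfsg.Agent.WA.DSev
import Cfsg.Agent.WA.DInv
import Cfsg.Agent.WA.DQ2
import Cfsg.Agent.WA.DB3
import Cfsg.Agent.WA.DJT
import Cfsg.Agent.WA.DNB2
import Cfsg.Agent.WA.DAA
import Cfsg.Agent.WA.JT2

/-! Groups of Janko-Ree type: `D = 1`, assembly through double transitivity. -/

set_option autoImplicit false
set_option linter.unusedSectionVars false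
set_option linter.unusedVariables false

namespace Cfsg.Agent.WA

open Cfsg Subgroup Cfsg.Agent.GT Cfsg.Agent.GW DA

universe u

theorem jro_of2 (ee : PEE.{u}) : JRO.{u} := by
  have idx := pIdx.{u}
  have inv := pInv.{u}
  have j1 := pJ1 idx
  have sv := pSeven.{u}
  have loc := pLoc.{u}
  have b3 := pB3.{u}
  have jt := pJT.{u}
  have nb := pNB.{u}
  have cta := pCTA.{u}
  have aa := pAA.{u}
  intro G _ _ _ S t L D h ih
  suffices e : D = ⊥ from ⟨e, jro0 (e ▸ h)⟩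
  by_contra ne
  obtain ⟨q, d, H⟩ := pMod G S L D t h ih ne
  have gen := H.gen
  have cD : Nat.card D = orderOf d := by rw [gen, Nat.card_zpowers]
  have dD : d ∈ D := gen ▸ mem_zpowers d
  have o1 : orderOf d ≠ 1 := by simpa using H.ne
  have K : ∀ e ∈ D, e ≠ 1 → ∃ q1, q = q1 ^ orderOf e ∧ 2 * Nat.card ↥(L ⊓ C1[e]) = q1 * (q1 ^ 2 - 1) ∧
      ((q1 = 5 ∧ C1[t].relIndex C1[e] = 1463) ∨
        ∃ m, q1 = 3 ^ (2 * m + 1) ∧ C1[t].relIndex C1[e] ∣ q1 ^ 2 * (q1 ^ 2 - q1 + 1)) := fun e he e1 =>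
    (H.fix e he).imp fun q1 k => ⟨k.1, k.2, ix (idx G S L D t d e q H he e1) k.2⟩
  have P : ∀ {l}, l ∣ orderOf d → ∃ f ∈ D, orderOf f = l := fun hl => gen ▸ exists_prime_ord hl
  have ne1 : ∀ {f : G} {l}, l.Prime → orderOf f = l → f ≠ 1 := fun hl o e => hl.ne_one (by rw [← o, e, orderOf_one])
  have n35 : ∀ {a b c : ℕ}, b ≠ 0 → (3 ^ (a + 1)) ^ b ≠ 5 ^ c := fun b0 e => absurd (Nat.prime_three.dvd_of_dvd_pow
    (e ▸ dvd_pow (dvd_pow_self 3 (by omega)) b0)) (by norm_num)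
  obtain ⟨x7, hx7, z7, hz7, s1, s2, s3, s4⟩ := sv G S L D t h
  obtain ⟨q0, e0, c0, ⟨rfl, i0⟩ | ⟨m, rfl, i0⟩⟩ := K d dD H.ne
  · have hl := Nat.minFac_prime o1
    obtain ⟨f, hf, o⟩ := P (orderOf d).minFac_dvd
    obtain ⟨q1, e1, -, ⟨rfl, -⟩ | ⟨m, rfl, -⟩⟩ := K f hf (ne1 hl o)
    swap
    · exact n35 (orderOf_pos f).ne' (e1.symm.trans e0)
    rw [← o, ← Nat.pow_right_injective (by norm_num) (e0.symm.trans e1)] at hl
    have d1 := h.step1 hl dD rfl
    have cL := H.cardL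
    rw [i0, show 1463 = 7 * (11 * 19) from rfl, hl.dvd_mul, hl.dvd_mul, Nat.prime_dvd_prime_iff_eq hl (by norm_num),
      Nat.prime_dvd_prime_iff_eq hl (by norm_num), Nat.prime_dvd_prime_iff_eq hl (by norm_num)] at d1
    obtain ⟨x, z, a1, a2, a3, a4, a5, a6⟩ : ∃ x z : G, orderOf x = orderOf d ∧ Odd (orderOf z) ∧ Commute x d ∧
        Commute z d ∧ z * x * z⁻¹ ∈ zpowers x ∧ ¬ Commute z x := d1.elim (fun e =>
      ⟨x7, z7, e ▸ s1, s2, mem_cent1.1 (h.NS dD hx7), mem_cent1.1 (h.NS dD hz7), s3, s4⟩)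
      (j1 G S L D t d q _ H (by omega))
    refine loc G _ d x z (lc h hl (by omega) dD H.ne (isPGroup_of_card_eq_prime (Nat.card_zpowers d)) (k := 1)
      hl.not_dvd_one (by omega) ?_ ?_ a1 a2 a3 a4 a5 a6)
    · rcases d1 with e | e | e <;> rw [e] at e0 ⊢ <;> rw [e0] at cL <;> norm_num at cL <;> omega
    · rcases d1 with e | e | e <;> rw [e, i0] <;> norm_num
  have K' : ∀ e ∈ D, e ≠ 1 → ∃ k, q = (3 ^ (k + 1)) ^ orderOf e ∧
      2 * Nat.card ↥(L ⊓ C1[e]) = 3 ^ (k + 1) * ((3 ^ (k + 1)) ^ 2 - 1) ∧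
      C1[t].relIndex C1[e] ∣ (3 ^ (k + 1)) ^ 2 * ((3 ^ (k + 1)) ^ 2 - 3 ^ (k + 1) + 1) := fun e he e1 => by
    obtain ⟨q1, a, b, ⟨rfl, -⟩ | ⟨m, rfl, c⟩⟩ := K e he e1
    exacts [absurd (e0.symm.trans a) (n35 (orderOf_pos d).ne'), ⟨_, a, b, c⟩]
  have cp : (Nat.card D).Coprime (q ^ 2 - 1) := Nat.coprime_of_dvd fun l hl a b => by
    obtain ⟨f, hf, o⟩ := P (cD ▸ a)
    obtain ⟨k, e1, -, i1⟩ := K' f hf (ne1 hl o)
    exact cop hl ((h.step1 hl hf o).trans i1) (by rwa [e1, o] at b)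
  obtain ⟨n, hn⟩ := h.oD dD
  obtain ⟨u, g, w, x, Q, J⟩ := jt G S L D t h h.cyc
  have n1 : 1 ≤ 2 * m * n + m + n := by omega
  have hq : q = 3 ^ (2 * (2 * m * n + m + n) + 1) := by rw [e0, ← pow_mul, hn]; congr 1; ring
  obtain ⟨U, T, B⟩ := b3 G S L D t d u q _ H n1 hq cp J.uS J.uL J.u1
  obtain ⟨b1, b2, b3', -⟩ := B.q27
  by_cases d3 : 3 ∣ orderOf d
  · obtain ⟨f, hf, o⟩ := P d3
    obtain ⟨k, e1, c1, i1⟩ := K' f hf (ne1 Nat.prime_three o)
    obtain ⟨y, hy, py, cy⟩ := cta G S L D U T t u g w x f q _ Q B J ih hf o (o ▸ e1) c1 i1 fun e => by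
      refine (eq_of_le_of_card_ge (zpowers_le.2 hf) ?_).symm
      rw [e, e0, ← pow_mul, o] at e1
      have := Nat.pow_right_injective (by norm_num) e1
      rw [cD, Nat.card_zpowers, o]
      exact (Nat.le_mul_of_pos_left _ (by omega)).trans this.le
    obtain ⟨P, W⟩ := nb G S L D U T t u y q B hy py cy
    obtain ⟨e, he, e1, pe, k, nk, ok⟩ := exists_syl_gen Nat.prime_three d3
    obtain ⟨k', a, b, c⟩ := K' e (gen ▸ he) e1
    refine aa G S L D U T P t u e q _ B W (gen ▸ he) e1 pe (fun d => nk ?_) a b c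
    rwa [cD, ok, mul_comm, Nat.mul_dvd_mul_iff_left (orderOf_pos e)] at d
  rcases Nat.eq_zero_or_pos m with rfl | m0
  swap
  · have hQ : Q.natAbs = q := mono (by omega) (J.card.symm.trans H.cardL)
    have ox := J.ord
    have := J.q8
    have : 4 * orderOf x = q + 1 := by omega
    obtain ⟨a, ha, ad, ga⟩ := inv G S L D t d u g w x q Q H J (by
      have : 27 ≤ 3 ^ (2 * m + 1) := Nat.pow_le_pow_right (n := 3) (i := 3) (by norm_num) (by omega)
      have := Nat.mul_le_mul this (Nat.sub_le_sub_right (Nat.pow_le_pow_left this 2) 1)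
      omega)
    have ix := pJG G S L D t u g w x a Q J (by rw [Int.abs_eq_natAbs]; omega) (cp.coprime_dvd_right
      ⟨4 * (q - 1), by rw [← mul_assoc, mul_comm _ 4, this, ← Nat.sq_sub_sq]⟩) (by omega) ha
      (by rw [gen, cent_zpowers]; exact mem_cent1.2 ad.eq) ga
    have le : q ≤ q ^ 2 := Nat.le_self_pow two_ne_zero q
    have ix : C1[t].index = q ^ 2 * (q ^ 2 - q + 1) := by
      rw [show Q = -(q : ℤ) by omega] at ix
      zify [le]
      rw [ix]; ring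
    have co : C1[t].index.Coprime (q ^ 2 - 1) := Nat.coprime_of_dvd fun l hl a b => by
      have := Fact.mk hl
      have e2 := (ZMod.natCast_eq_zero_iff _ _).2 b
      rw [Nat.cast_sub (Nat.one_le_iff_ne_zero.2 (by positivity)), Nat.cast_pow, Nat.cast_one] at e2
      have k : ((q : ℕ) : ZMod l) ≠ 0 := fun z => by simp [z] at e2
      rcases hl.dvd_mul.1 (ix ▸ a) with a | a
      · exact k ((ZMod.natCast_eq_zero_iff _ _).2 (hl.dvd_of_dvd_pow a))
      have e1 := cast_m (by omega) a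
      obtain rfl := (Nat.prime_dvd_prime_iff_eq hl Nat.prime_three).1 ((ZMod.natCast_eq_zero_iff 3 l).1 (by
        rw [Nat.cast_ofNat]; linear_combination ((q : ZMod l) + 2) * e1 - ((q : ZMod l) + 1) * e2))
      exact k ((ZMod.natCast_eq_zero_iff _ _).2 b3')
    have pT := Nat.minFac_prime (n := Nat.card T) (by have := B.cardT; omega)
    obtain ⟨y, hy, py⟩ := exists_mem_orderOf_eq pT (Nat.minFac_dvd _)
    obtain ⟨P, W⟩ := nb G S L D U T t u y q B hy (py ▸ pT) (pCTE G S L D U T t u g w x y q Q B J ih co hy (py ▸ pT))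
    have hl := Nat.minFac_prime o1
    refine ee G S L D U T P t u q _ B W ix (cD ▸ d3) hl (cD ▸ Nat.minFac_dvd _) ((hl.dvd_mul.1
      (ix ▸ (Nat.minFac_dvd _).trans (h.pow_index dD))).resolve_left fun k => d3 ?_)
    exact (Nat.prime_dvd_prime_iff_eq hl Nat.prime_three).1 (hl.dvd_of_dvd_pow (hq ▸ hl.dvd_of_dvd_pow k)) ▸
      Nat.minFac_dvd _
  have d7 : 7 ∣ orderOf d := by
    have hl := Nat.minFac_prime o1
    obtain ⟨f, hf, o⟩ := P (orderOf d).minFac_dvd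
    obtain ⟨k, e1, -, i1⟩ := K' f hf (ne1 hl o)
    obtain ⟨j, hj⟩ := (orderOf d).minFac_dvd
    have : k + 1 = j := root hl.ne_zero (by rw [← hj, ← o, ← e1, e0, mul_zero, zero_add, pow_one])
    exact seven o1 (h.oD dD) d3 hj (this ▸ (h.step1 hl hf o).trans i1)
  obtain ⟨e, he, e1, pe, k, nk, ok⟩ := exists_syl_gen (by norm_num) d7
  rw [← gen] at he
  obtain ⟨k', a, -, c⟩ := K' e he e1
  have : k' + 1 = k := root (orderOf_pos e).ne' (by rw [← ok, ← a, e0, mul_zero, zero_add, pow_one])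
  refine loc G 7 e x7 z7 (lc h (by norm_num) (by norm_num) he e1 pe nk (cD ▸ ok) (fun d => ?_)
    (fun d => not49 nk (this ▸ d.trans c)) s1 s2 (mem_cent1.1 (h.NS he hx7)) (mem_cent1.1 (h.NS he hz7)) s3 s4)
  rcases (Nat.Prime.dvd_mul (by norm_num)).1 (H.cardL ▸ d.mul_left 2) with d | d
  · exact absurd (Nat.Prime.dvd_of_dvd_pow (by norm_num) (hq ▸ d)) (by norm_num)
  · exact absurd (Nat.eq_one_of_dvd_coprimes cp (cD ▸ d7) d) (by norm_num)

end Cfsg.Agent.WA
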