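import Cfsg.Agent.WA.DB

/-! Groups of Janko-Ree type, `q = 3 ^ n`: 3-subgroups normalized by the Borel subgroup. -/

set_option autoImplicit false
set_option linter.unusedSectionVars false
set_option linter.unusedVariables false

namespace Cfsg.Agent.WA

open Cfsg Subgroup Cfsg.Agent.GT Cfsg.Agent.GW
open scoped commutatorElement

universe u

variable {G : Type u} [Group G] [Finite G] {S L D U T V X Y Z P H K M : Subgroup G}
  {t u a c s v x y : G} {q : ℕ} {π : Set ℕ}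

theorem hall_of_mul (h1 : H ≤ M) (h2 : K ≤ M) (p1 : IsPiSubgroup π H) (p2 : IsPiSubgroup πᶜ K)
    (h : ∀ m ∈ M, ∃ a ∈ H, ∃ b ∈ K, m = a * b) : IsPiHallOf π H M :=
  isPiHallOf_of_isComplIn ⟨h1, h2, GT.inf_eq_bot_of_coprime (PiNat.coprime p1 p2), h⟩ p1 p2

theorem mem_of_sq (ho : Odd (orderOf x)) (h : x * x ∈ H) : x ∈ H :=
  zpowers_le.2 (sq x ▸ h) (mem_zpowers_pow_iff.2 (Nat.coprime_two_left.2 ho))

theorem pi3' : IsPiSubgroup ({3} : Set ℕ)ᶜ H ↔ ¬ 3 ∣ Nat.card H :=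
  piNat_single_compl_iff Nat.prime_three

theorem odd3 (h : IsPGroup 3 H) : Odd (Nat.card H) := odd_p Nat.prime_three (by norm_num) h

theorem odd_sup (h1 : Odd (Nat.card H)) (h2 : Odd (Nat.card K)) (hn : H ≤ N[K] ∨ K ≤ N[H]) :
    Odd (Nat.card ↥(H ⊔ K)) := (h1.mul h2).of_dvd_nat (card_sup_dvd hn)

namespace JR'

variable (h : JR' S t L D)
include h

theorem dec3 (hc : c ∈ C1[t]) : ∃ a ∈ zpowers t, ∃ l ∈ L, ∃ e ∈ D, c = a * l * e := by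
  rw [h.cent] at hc
  obtain ⟨m, hm, e, he, rfl⟩ := (mem_sup_of_le_norm' (le_norm_sup (le_norm_of_cent
    (cent_zpowers t ▸ h.Dt)) h.DL)).1 hc
  obtain ⟨a, ha, l, hl, rfl⟩ := (mem_sup_of_le_norm (zp_norm (h.norm (self_mem_cent1 t)))).1 hm
  exact ⟨a, ha, l, hl, e, he, rfl⟩

theorem dec2' (hc : c ∈ C1[t]) (ho : Odd (orderOf c)) : ∃ l ∈ L, ∃ e ∈ D, c = l * e := by
  refine (mem_sup_of_le_norm' h.DL).1 (mem_of_sq ho ?_)
  obtain ⟨a, ha, l, hl, e, he, rfl⟩ := h.dec3 hc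
  have m : l * e ∈ L ⊔ D := mul_mem_sup hl he
  rcases zp2' (sq1 h.ord) ha with rfl | rfl
  · rw [one_mul]; exact mul_mem m m
  · have := mem_cent1.1 (mul_mem (h.le hl) (h.Dt he))
    rw [show a * l * e * (a * l * e) = a * (l * e * a) * (l * e) by group, this,
      show a * (a * (l * e)) * (l * e) = a * a * (l * e * (l * e)) by group, sq1 h.ord, one_mul]
    exact mul_mem m m

theorem dec_inv (hc : s ∈ C1[t]) (s2 : s * s = 1) : ∃ a ∈ zpowers t, ∃ l ∈ L, s = a * l := by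
  have n := zp_norm (h.norm (self_mem_cent1 t))
  refine (mem_sup_of_le_norm n).1 ?_
  obtain ⟨a, ha, l, hl, e, he, rfl⟩ := h.dec3 hc
  have m : a * l ∈ zpowers t ⊔ L := mul_mem_sup ha hl
  refine mul_mem m (mem_of_sq (odd_ord h.odd he) ?_)
  have := conj_mem_of_le_norm' (le_norm_sup (le_norm_of_cent (cent_zpowers t ▸ h.Dt)) h.DL) he m
  rw [show e * e = (e⁻¹ * (a * l) * e)⁻¹ * (e⁻¹ * (a * l * e * (a * l * e)) * e) *
    (e⁻¹ * e⁻¹ * (a * l)⁻¹ * (e * e)) by group, s2]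
  refine mul_mem (mul_mem (inv_mem this) (by simp)) ?_
  have k := conj_mem_of_le_norm' (le_norm_sup (le_norm_of_cent (cent_zpowers t ▸ h.Dt)) h.DL)
    (mul_mem he he) (inv_mem m)
  rwa [mul_inv_rev] at k

end JR'

namespace B3

variable (h : B3 S t u L D U T q)
include h

theorem U1 : U ≠ ⊥ := fun e => by
  obtain ⟨m, -, e'⟩ := h.q3
  have := h.cardU
  rw [e, card_bot, e', pow_succ] at this
  omega

theorem DUT : D ≤ N[U ⊔ T] := le_norm_sup h.DU h.DT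
theorem oB : Odd (Nat.card ↥(U ⊔ T ⊔ D)) := odd_sup h.oUT h.jr.odd (.inr h.DUT)
theorem Ut : U ≤ C1[t] := h.UL.trans h.jr.le
theorem Tt : T ≤ C1[t] := h.TL.trans h.jr.le
theorem Bt : U ⊔ T ⊔ D ≤ C1[t] := sup_le (sup_le h.Ut h.Tt) h.jr.Dt
theorem BU : U ⊔ T ⊔ D ≤ N[U] := sup_le (sup_le le_normalizer h.TU) h.DU
theorem cT : T ≤ C[T] := comm_iff_le_cent.1 (isMulCommutative_of_isCyclic h.cycT)
theorem UT : U ⊓ T = ⊥ :=
  GT.inf_eq_bot_of_coprime (PiNat.coprime (isPi_of_isPGroup Nat.prime_three h.pU) (pi3'.2 h.T3))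

theorem dec (hc : c ∈ C1[t]) (ho : Odd (orderOf c)) (ha : a ∈ U) (a1 : a ≠ 1)
    (e : c * a * c⁻¹ ∈ U) : ∃ b ∈ U, ∃ y ∈ T, ∃ e ∈ D, c = b * (y * e) := by
  obtain ⟨l, hl, d, hd, rfl⟩ := h.jr.dec2' hc ho
  obtain ⟨b, hb, y, hy, rfl⟩ := (mem_sup_of_le_norm' h.TU).1 (h.ti _ (conj_mem_of_le_norm h.DU hd ha)
    (fun e => a1 (by simpa using e)) l hl (by rwa [show l * (d * a * d⁻¹) * l⁻¹ =
      l * d * a * (l * d)⁻¹ by group]))
  exact ⟨b, hb, y, hy, d, hd, mul_assoc _ _ _⟩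

theorem cu (h1 : X ≤ C1[t]) (ho : Odd (Nat.card X)) (h2 : X ≤ C[U]) : X ≤ U := fun c hc => by
  obtain ⟨a, ha, a1⟩ := exists_ne_one_of_ne_bot h.U1
  obtain ⟨b, hb, y, hy, e, he, rfl⟩ := h.dec (h1 hc) (odd_ord ho hc) ha a1 (by
    rw [← h2 hc a ha, mul_inv_cancel_right]; exact ha)
  obtain ⟨rfl, rfl⟩ := h.fU y hy e he ((Subgroup.mul_mem_cancel_left _ (h.comm hb)).1 (h2 hc))
  simpa using hb

theorem v1 (pV : IsPGroup 3 V) (h1 : U ≤ V) (h2 : V ≤ C1[t]) (h3 : T ≤ N[V]) : V ≤ U := by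
  have e : V ⊓ L = U := syl_eq_of_le Nat.prime_three h.sylU (pV.to_le inf_le_left) inf_le_right
    (le_inf h1 h.UL)
  intro c hc
  obtain ⟨a, ha, a1⟩ := exists_ne_one_of_ne_bot h.U1
  have nU : V ≤ N[U] := e ▸ le_norm_inf le_normalizer (h2.trans h.jr.norm)
  obtain ⟨b, hb, y, hy, d, hd, rfl⟩ := h.dec (h2 hc) (odd_ord (odd3 pV) hc) ha a1
    (conj_mem_of_le_norm nU hc ha)
  have hw := (Subgroup.mul_mem_cancel_left _ (h1 hb)).1 hc
  obtain rfl := h.fT d hd ((Subgroup.mul_mem_cancel_left _ (h.cT hy)).1 fun z hz => by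
    have k1 : y * d * z * (y * d)⁻¹ * z⁻¹ ∈ T := mul_mem (conj_mem_of_mem_norm
      (mul_mem (le_normalizer hy) (h.DT hd)) hz) (inv_mem hz)
    have k2 : y * d * z * (y * d)⁻¹ * z⁻¹ ∈ V := by
      rw [show y * d * z * (y * d)⁻¹ * z⁻¹ = y * d * (z * (y * d)⁻¹ * z⁻¹) by group]
      exact mul_mem hw (conj_mem_of_le_norm h3 hz (inv_mem hw))
    have : y * d * z * (y * d)⁻¹ * z⁻¹ = 1 := mem_bot.1 (h.UT ▸ ⟨e ▸ ⟨k2, h.TL k1⟩, k1⟩)
    rw [mul_inv_eq_one, mul_inv_eq_iff_eq_mul] at this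
    exact this.symm)
  rw [mul_one] at hw ⊢
  exact mul_mem hb (e ▸ ⟨hw, h.TL hy⟩)

theorem ninv (hs : s ∈ L) (s2 : s * s = 1) (ha : a ∈ U) (a1 : a ≠ 1) (e : s * a * s⁻¹ ∈ U) :
    s = 1 := eq1_of_odd (odd_ord h.oUT (h.ti a ha a1 s hs e)) s2

theorem fg0 (pX : IsPGroup 3 X) (h1 : X ≤ C1[t]) (hs : s ∈ C1[t]) (s2 : s * s = 1) (n : s ∈ N[X]) :
    X ≤ C1[s] := by
  obtain ⟨a, ha, l, hl, rfl⟩ := h.jr.dec_inv hs s2
  have aX : a ∈ C[X] := le_cent_symm (cent_zpowers t ▸ h1) ha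
  have al : a * l = l * a := (cent_zpowers t ▸ h.jr.le : L ≤ C[zpowers t]) hl a ha
  have l2 : l * l = 1 := by
    rcases zp2' (sq1 h.jr.ord) ha with rfl | rfl
    · simpa using s2
    · rwa [show a * l * (a * l) = a * (l * a) * l by group, ← al,
        show a * (a * l) * l = a * a * (l * l) by group, sq1 h.jr.ord, one_mul] at s2
  have nl : l ∈ N[X] := (Subgroup.mul_mem_cancel_left _ (cent_le_norm _ aX)).1 n
  refine mem_cent_iff.1 (mul_mem aX ?_)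
  by_cases e : X ⊓ L = ⊥
  · exact mem_cent_iff.2 (comm_eq_bot_iff.1 (eq_bot_iff.2 (e ▸ le_inf
      (commutator_le_of_le_norm_left (zp_norm nl)) ((commutator_mono le_rfl (zpowers_le.2 hl)).trans
        (commutator_le_of_le_norm_right (h1.trans h.jr.norm))))))
  obtain ⟨g, hg, k⟩ := syl_exists_conj_le Nat.prime_three h.sylU (pX.to_le inf_le_left)
    (inf_le_right (a := X))
  obtain ⟨b, hb, b1⟩ := exists_ne_one_of_ne_bot e
  have := h.ninv (cj_mem hg hl) (sq_conj l2 g) (k (conj_mem_conj.2 hb)) (cne b1 g) (k (by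
    rw [show g * l * g⁻¹ * (g * b * g⁻¹) * (g * l * g⁻¹)⁻¹ = g * (l * b * l⁻¹) * g⁻¹ by group]
    exact conj_mem_conj.2 ⟨conj_mem_of_mem_norm nl hb.1, cj_mem hl hb.2⟩))
  rw [show l = 1 by simpa using this]
  exact one_mem _

theorem fg1 (pX : IsPGroup 3 X) (v2 : orderOf v = 2) (h1 : X ≤ C1[v]) (hs : s ∈ C1[v])
    (s2 : s * s = 1) (n : s ∈ N[X]) : X ≤ C1[s] := by
  obtain ⟨g, -, e⟩ := h.jr.el.one v (mem_top _) t (mem_top _) v2 h.jr.ord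
  have := h.fg0 (X := cj[g] X) (pX.map _) (e ▸ conj_cent1 g v ▸ conj_mono g h1)
    (e ▸ conj_cent1 g v ▸ conj_mem_conj.2 hs) (sq_conj s2 g)
    (conj_normalizer g X ▸ conj_mem_conj.2 n)
  rwa [← conj_cent1, conj_le_conj_iff] at this

/-- a 3-group normalized by a four-group is centralized by it. -/
theorem fg (pZ : IsPGroup 3 Z) (v2 : orderOf v = 2) (s2 : orderOf s = 2) (ne : s ≠ v)
    (cm : s * v = v * s) (n1 : v ∈ N[Z]) (n2 : s ∈ N[Z]) : Z ≤ C1[v] := by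
  have k : ∀ w, orderOf w = 2 → v * w = w * v → Z ⊓ C1[w] ≤ C1[v] := fun w w2 c =>
    h.fg1 (pZ.to_le inf_le_left) w2 inf_le_right (mem_cent1.2 c) (sq1 v2)
      (zpowers_le.1 (le_norm_inf (zp_norm n1) (le_norm_self (zpowers_le.2 (mem_cent1.2 c)))))
  exact gen3 v2 s2 ne cm (odd3 pZ) n1 n2 inf_le_right (k s s2 cm.symm)
    (k _ (ord2_mul v2 s2 ne cm) (by rw [mul_assoc, cm]))

end B3

end Cfsg.Agent.WA
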