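import Cfsg.Agent.WA.DEE1
import Cfsg.Agent.WA.DNB1

/-! Groups of Janko-Ree type, case (E): double transitivity. -/

set_option autoImplicit false
set_option linter.unusedSectionVars false

namespace Cfsg.Agent.WA

open Cfsg Subgroup Cfsg.Agent.GT Cfsg.Agent.GW Cfsg.Agent.Char Cfsg.Agent.B84C
open scoped Classical

universe u

theorem EE.lam {G : Type u} [Group G] [Finite G] {B K : Subgroup G} {f : G} {l : ℕ} (hl : l.Prime) (n : B ≤ N[K])
    (c : ∀ a ∈ B, ∀ b ∈ B, a * b * a⁻¹ * b⁻¹ ∈ K) (hf : f ∈ B) (fK : f ∉ K) (o : orderOf f = l) :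
    ∃ (lam : B →* ℂˣ) (k : ℕ), lam ≠ 1 ∧ (∀ b : B, (b : G) ∈ K → lam b = 1) ∧ ∀ b, (lam b : ℂ) ^ l ^ k = 1 := by
  have : (K.subgroupOf B).Normal := normal_subgroupOf_of_le_normalizer n
  let _ : CommGroup (B ⧸ K.subgroupOf B) :=
    { (inferInstance : Group _) with
      mul_comm := fun a b => by
        obtain ⟨a, rfl⟩ := QuotientGroup.mk_surjective a
        obtain ⟨b, rfl⟩ := QuotientGroup.mk_surjective b
        rw [← QuotientGroup.mk_mul, ← QuotientGroup.mk_mul, QuotientGroup.eq]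
        simpa [mem_subgroupOf, mul_assoc] using c _ (inv_mem b.2) _ (inv_mem a.2) }
  obtain ⟨φ, e⟩ := CommGroup.exists_apply_ne_one_of_hasEnoughRootsOfUnity (B ⧸ K.subgroupOf B) ℂ
    (a := QuotientGroup.mk ⟨f, hf⟩) fun e => fK ((QuotientGroup.eq_one_iff (N := K.subgroupOf B) _).1 e)
  obtain ⟨k, m, n, hm⟩ := Nat.exists_eq_pow_mul_and_not_dvd (Nat.card_pos (α := B)).ne' l hl.ne_one
  refine ⟨(powMonoidHom m).comp (φ.comp (QuotientGroup.mk' _)), k, fun z => e ?_, fun b hb => ?_, fun b => ?_⟩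
  · have h1 : φ (QuotientGroup.mk ⟨f, hf⟩) ^ m = 1 := DFunLike.congr_fun z ⟨f, hf⟩
    have h2 : φ (QuotientGroup.mk ⟨f, hf⟩) ^ l = 1 := by
      rw [← map_pow, ← QuotientGroup.mk_pow, show (⟨f, hf⟩ : B) ^ l = 1 from Subtype.ext (o ▸ pow_orderOf_eq_one f)]
      simp
    simpa [((Nat.Prime.coprime_iff_not_dvd hl).2 n).gcd_eq_one] using (pow_gcd_eq_one.2 ⟨h2, h1⟩)
  · simp [(QuotientGroup.eq_one_iff (N := K.subgroupOf B) b).2 hb]
  · simp only [MonoidHom.comp_apply, powMonoidHom_apply, Units.val_pow_eq_pow_val]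
    rw [← pow_mul, mul_comm, ← hm, ← Units.val_pow_eq_pow_val, ← map_pow, ← map_pow, pow_card_eq_one']; simp

theorem pEE : PEE.{u} := by
  intro G _ _ _ S L D U T P t u q l h w idx n3 hl lD lq
  have := Fintype.ofFinite G
  have j := h.jr
  have ot := j.ord
  have uu := h.uu
  have ui := inv_eq_of_mul_eq_one_right uu
  have Tt := h.Tt
  have nA : zpowers t ⊔ T ⊔ D ≤ N[P] := sup_le (sup_le (zpowers_le.2 w.tP) w.TP) w.DP
  have At : zpowers t ⊔ T ⊔ D ≤ C1[t] := sup_le (sup_le (zpowers_le.2 (self_mem_cent1 t)) Tt) j.Dt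
  have tT : zpowers t ≤ N[T] := zpowers_le.2 (cent_le_norm _ (GW.mem_cent_iff.2 Tt))
  have DK : D ≤ N[zpowers t ⊔ T] := le_norm_sup (le_norm_of_cent (cent_zpowers t ▸ j.Dt)) h.DT
  have KL : zpowers t ⊔ T ≤ zpowers t ⊔ L := sup_le_sup_left h.TL _
  have cK : Nat.card ↥(zpowers t ⊔ T) = 2 * Nat.card T := by
    rw [sup_comm, PG.card_sup_zpowers Nat.prime_two (tT (mem_zpowers t)) (by rw [sq, j.tt]; exact one_mem _)
      fun m => j.nmem (h.TL m)]
  have cA : Nat.card ↥(zpowers t ⊔ T ⊔ D) = 2 * Nat.card T * Nat.card D := by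
    rw [card_sup_of_inf_eq_bot (.inr DK) (eq_bot_iff.2 fun y m => mem_bot.2 (j.KD (KL m.1) m.2)), cK]
  have A3 : ¬ 3 ∣ Nat.card ↥(zpowers t ⊔ T ⊔ D) :=
    cA ▸ Nat.prime_three.not_dvd_mul (Nat.prime_three.not_dvd_mul (by norm_num) h.T3) n3
  have cop : ∀ {X : Subgroup G}, ¬ 3 ∣ Nat.card X → P ⊓ X = ⊥ := fun n => GT.inf_eq_bot_of_coprime (by
    obtain ⟨k, e⟩ := PG.exists_card_eq_pow w.pg
    exact e ▸ ((Nat.Prime.coprime_iff_not_dvd Nat.prime_three).2 n).pow_left k)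
  have cB := card_sup_of_inf_eq_bot (.inr nA) (cop A3)
  obtain ⟨m, m1, hq⟩ := h.q3
  obtain ⟨q27, -, q3, -⟩ := h.q27
  have cT := h.cardT
  have cG : Nat.card G = q ^ 3 * ((q ^ 3 + 1) * (2 * Nat.card T * Nat.card D)) := by
    rw [← C1[t].index_mul_card, idx, j.card_C, h.cardL']
    have : q ≤ q ^ 2 := Nat.le_self_pow two_ne_zero q
    zify [this]; ring
  have cP : Nat.card P = q ^ 3 := by
    obtain ⟨k, e⟩ := PG.exists_card_eq_pow w.pg
    have e1 := (P ⊔ D).index_mul_card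
    rw [card_sup_of_inf_eq_bot (.inr w.DP) (cop n3), cG, e, hq, ← pow_mul] at e1
    have c1 : ¬ 3 ∣ (3 ^ ((2 * m + 1) * 3) + 1) * (2 * Nat.card T * Nat.card D) := Nat.prime_three.not_dvd_mul
      (by have := dvd_pow_self 3 (show (2 * m + 1) * 3 ≠ 0 by omega); omega) (cA ▸ A3)
    have c2 := Nat.prime_three.not_dvd_mul w.syl n3
    rw [e, hq, ← pow_mul]
    exact Nat.dvd_antisymm ((((Nat.Prime.coprime_iff_not_dvd Nat.prime_three).2 c1).pow_left k).dvd_of_dvd_mul_right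
      ⟨(P ⊔ D).index * Nat.card D, by rw [← e1]; ring⟩)
      ((((Nat.Prime.coprime_iff_not_dvd Nat.prime_three).2 c2).pow_left _).dvd_of_dvd_mul_right
      ⟨(3 ^ ((2 * m + 1) * 3) + 1) * (2 * Nat.card T * Nat.card D), by rw [← e1]; ring⟩)
  have nB : P ⊔ (zpowers t ⊔ T ⊔ D) ≤ N[P] := sup_le le_normalizer nA
  have sy : IsPiHallOf {3} P (P ⊔ (zpowers t ⊔ T ⊔ D)) := syl_mk Nat.prime_three le_sup_left w.pg (by
    have := card_mul_relIndex (le_sup_left : P ≤ P ⊔ (zpowers t ⊔ T ⊔ D))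
    rw [cB, Nat.mul_right_inj Nat.card_pos.ne'] at this
    rwa [this])
  have un : ∀ p ∈ P, u * p * u ∈ P ⊔ (zpowers t ⊔ T ⊔ D) → p = 1 := fun p hp m => by
    have m' : u * p * u ∈ P := sy.mem_of_normal nB m (by
      nth_rw 2 [← ui]
      rw [GT.orderOf_conj, ← isPGroup_zpowers_iff Nat.prime_three]; exact w.pg.to_le (zpowers_le.2 hp))
    have pZ : IsPGroup 3 ↥(P ⊓ cj[u] P) := w.pg.to_le inf_le_left
    have n1 : t ∈ N[P ⊓ cj[u] P] := zpowers_le.1 (le_norm_inf (zpowers_le.2 w.tP) (zpowers_le.2 (by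
      rw [← conj_normalizer, mem_conj, mul_assoc, ← h.ut, inv_mul_cancel_left]; exact w.tP)))
    have n2 : u ∈ N[P ⊓ cj[u] P] := mem_normalizer_fintype fun y hy =>
      ⟨by simpa [ui] using mem_conj.1 hy.2, conj_mem_conj.2 hy.1⟩
    have mZ : p ∈ P ⊓ cj[u] P := ⟨hp, mem_conj.2 (by rwa [ui])⟩
    have pU : p ∈ U := w.ct.le ⟨hp, h.fg pZ ot h.ou h.ne h.ut n1 n2 mZ⟩
    by_contra p1
    exact h.u1 (h.ninv h.uL uu pU p1 (by
      rwa [← mem_cent1.1 (h.fg pZ h.ou ot h.ne.symm h.ut.symm n2 n1 mZ), mul_inv_cancel_right]))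
  have nK : zpowers t ⊔ T ≤ N[P] := le_sup_left.trans nA
  have DK' : D ≤ N[P ⊔ (zpowers t ⊔ T)] := le_norm_sup w.DP DK
  obtain ⟨f, hf, of⟩ := exists_mem_orderOf_eq hl lD
  obtain ⟨lam, k, l1, lK, lo⟩ := EE.lam (B := P ⊔ (zpowers t ⊔ T ⊔ D)) (K := P ⊔ (zpowers t ⊔ T)) hl
    (sup_assoc P _ D ▸ sup_le le_normalizer DK') (fun a ha b hb => by
      rw [← sup_assoc, mem_sup_of_le_norm' DK'] at ha hb
      obtain ⟨k, hk, d, hd, rfl⟩ := ha
      obtain ⟨k', hk', d', hd', rfl⟩ := hb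
      rw [show k * d * (k' * d') * (k * d)⁻¹ * (k' * d')⁻¹ =
        k * (d * k' * d⁻¹) * (d * d' * (d' * d)⁻¹) * (d' * k⁻¹ * d'⁻¹) * k'⁻¹ by group, j.DD hd' d hd, mul_inv_cancel,
        mul_one]
      exact mul_mem (mul_mem (mul_mem hk (conj_mem_of_mem_norm (DK' hd) hk'))
        (conj_mem_of_mem_norm (DK' hd') (inv_mem hk))) (inv_mem hk'))
    (mem_sup_right (mem_sup_right hf)) (fun m => by
      obtain ⟨p, hp, y, hy, rfl⟩ := (mem_sup_of_le_norm' nK).1 m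
      have : p ∈ U := w.ct.le ⟨hp, (mul_mem_cancel_right (At (mem_sup_left hy))).1 (j.Dt hf)⟩
      exact hl.ne_one (by rw [← of, j.KD (mul_mem (mem_sup_right (h.UL this)) (KL hy)) hf, orderOf_one])) of
  have uK : u ∈ N[zpowers t ⊔ T] := zpowers_le.1 (le_norm_sup
    (zpowers_le.2 (norm_zp (by rw [h.ut, mul_inv_cancel_right]; exact mem_zpowers t)))
    (zpowers_le.2 (mem_normalizer_fintype fun y hy => by rw [h.uT y hy]; exact inv_mem hy)))
  have br : EE.Br (P ⊔ (zpowers t ⊔ T ⊔ D)) P u lam := by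
    refine ⟨uu, le_sup_left, fun m => h.U1 (eq_bot_iff.2 fun a ha => un a (w.le ha)
      (mul_mem (mul_mem m (mem_sup_left (w.le ha))) m)), un, by rw [cG, cB, cA, cP]; ring,
      fun b hb => lK b (mem_sup_left hb), fun a a' e => ?_⟩
    obtain ⟨p, hp, b, hb, r⟩ := (mem_sup_of_le_norm' nA).1 a.2
    obtain ⟨y, hy, d, hd, rfl⟩ := (mem_sup_of_le_norm' DK).1 hb
    have my : u * y * u⁻¹ ∈ zpowers t ⊔ T := conj_mem_of_mem_norm uK hy
    have e2 : (a' : G) = u * p * u * (u * y * u⁻¹ * d) := by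
      rw [e, r, show u * p * u * (u * y * u⁻¹ * d) = u * p * (u * u) * y * (u⁻¹ * d) by group, uu, ui,
        ← mem_cent1.1 (h.Du hd)]
      group
    obtain rfl := un p hp ((mul_mem_cancel_right (mem_sup_right (mul_mem (mem_sup_left my) (mem_sup_right hd)))).1
      (e2 ▸ a'.2))
    rw [← mul_inv_eq_one, ← map_inv, ← map_mul]
    refine lK _ (mem_sup_right ?_)
    rw [coe_mul, coe_inv, e2, r, mul_one, uu, one_mul, one_mul, mul_inv_rev, mul_assoc, mul_inv_cancel_left]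
    exact mul_mem my (inv_mem hy)
  obtain ⟨χ, a, s, H, e1, e2, e3, e4⟩ := br.hecke
  have a1 : ∀ i, a i ≠ 1 := fun i e => by
    obtain ⟨φ, eφ⟩ := (H i).1.isCharacter.exists_hom_of_degree_one (by rw [(H i).2.1, e, Nat.cast_one])
    rcases φ.normal_ker.eq_bot_or_eq_top with k | k
    · exact j.nc ⟨⟨fun x y => (φ.ker_eq_bot_iff.1 k) (by rw [map_mul, map_mul, mul_comm])⟩⟩
    · have := (H i).2.2.1
      rw [show (fun b : ↥(P ⊔ (zpowers t ⊔ T ⊔ D)) => χ i b) = ch 1 from funext fun b => by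
        simp [eφ, ch, MonoidHom.mem_ker.1 (k.ge (mem_top _))], ci_ch, if_neg l1.symm] at this
      exact zero_ne_one this
  have a0 : ∀ i, 0 < a i := fun i => Nat.pos_of_ne_zero fun e => (H i).1.apply_one_ne_zero (by simp [(H i).2.1, e])
  have ta : ∀ i, (Nat.card T : ℤ) ∣ a i - 1 := fun i =>
    EE.wie (H i).1.isCharacter w.TP (fun y hy y1 => w.fp h hy y1) (cop h.T3) (H i).2.1 (H i).2.2.2
  have so : ∀ z ∈ s, z ^ l ^ k = 1 := fun z hz => by obtain ⟨b, rfl⟩ := e3 z hz; exact lo b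
  have n0 : ((a 0 : ℂ) * a 1) ≠ 0 := by exact_mod_cast (Nat.mul_pos (a0 0) (a0 1)).ne'
  obtain ⟨z, hz⟩ := exists_int_of_isIntegral_of_rat ((IsIntegral.multiset_sum fun z hz =>
    Char.isIntegral_of_pow_eq_one (pow_pos hl.pos k) (so z hz)).pow 2)
    ⟨Nat.card P * ((a 0 : ℚ) - a 1) ^ 2 / (a 0 * a 1), by push_cast; rw [eq_div_iff n0, e4]⟩
  rw [hz, cP, hq] at e4
  have e5 : z * (a 0 * a 1) = (3 ^ (2 * m + 1)) ^ 3 * ((a 0 : ℤ) - a 1) ^ 2 := by exact_mod_cast e4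
  have H' : ∀ n : ℤ, s.sum = n → (l : ℤ) ∣ (3 ^ (2 * m + 1)) ^ 3 - 1 - n := fun n e => by
    have := prime_dvd_card_sub_of_sum hl so e
    rwa [show (s.card : ℤ) = (3 ^ (2 * m + 1)) ^ 3 - 1 by rw [cP, hq] at e2; zify at e2; linarith] at this
  rw [cP, hq] at e1
  rw [hq] at cT lq
  rcases le_total (a 0) (a 1) with le | le
  · exact EE.ar (by omega) cT (a1 0) le (a0 0) e1 (ta 0) (ta 1) hz e5 hl lq H'
  · exact EE.ar (by omega) cT (a1 1) le (a0 1) (by omega) (ta 1) (ta 0) hz (by linear_combination e5) hl lq H'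

end Cfsg.Agent.WA
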