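import Cfsg.Agent.WA.A1
import Cfsg.Agent.B84H.A
import Cfsg.Agent.BS.RankTwo
import Cfsg.Agent.Cl.Simple60

/-! Walter's theorem: assembly of the parts. -/

set_option autoImplicit false
set_option linter.unusedSectionVars false

namespace Cfsg.Agent.WA

open Cfsg Subgroup Cfsg.Agent.GT Cfsg.Agent.Cls Cfsg.Agent.GW

universe u

variable {G : Type u} [Group G] [Finite G] [IsSimpleGroup G] {S : Subgroup G}

theorem mn_four (nc : ¬ IsMulCommutative G) (ab : AB G) (rk : ¬ Rk3 G) (hS : IsPiHallOf {2} S ⊤) :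
    Nat.card S = 4 ∧ (∀ x ∈ S, x * x = 1) ∧ ∃ z ∈ S, orderOf z = 2 := by
  have := Fintype.ofFinite G
  have p := syl_isPGroup Nat.prime_two hS
  obtain ⟨z, hz, oz⟩ := exists_inv_of_le hS le_rfl fun e => nc (by
    have : (⊤ : Subgroup G) = ⊥ := (piCoreOf_eq_self (e ▸ hS).isPi_compl_of_eq_bot).symm.trans (O_top nc)
    exact ⟨⟨fun a b => by rw [mem_bot.1 (this.le (mem_top a)), one_mul, mul_one]⟩⟩)
  obtain ⟨g, hg, n⟩ := SetLike.not_le_iff_exists.1 fun e : N[S] ≤ C1[z] =>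
    ne1 oz ((nofix nc ab hS (zpowers_le.2 hz) (by rwa [cent_zpowers])).le (mem_zpowers z))
  have hu := conj_mem_of_mem_norm hg hz
  have ne : g * z * g⁻¹ ≠ z := fun e => n (mem_cent1.2 (mul_inv_eq_iff_eq_mul.1 e))
  have ou := ord2_conj oz g
  have inv : ∀ w ∈ S, w * w = 1 → w = 1 ∨ w = z ∨ w = g * z * g⁻¹ ∨ w = z * (g * z * g⁻¹) := fun w hw e => by
    by_contra! k
    exact rk ⟨z, _, w, oz, ou, ord2 e k.1, ab.comm hS hz hu, ab.comm hS hz hw, ab.comm hS hu hw, ne, k.2.1, k.2.2.1,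
      k.2.2.2⟩
  have g2 : g * (g * z * g⁻¹) * g⁻¹ = z * (g * z * g⁻¹) := by
    rcases inv _ (conj_mem_of_mem_norm hg hu) (sq1 (ord2_conj ou g)) with e | e | e | e
    · exact absurd e (ne1 (ord2_conj ou g))
    · exact absurd (BS.mem_cent1_of_sq hS hg (ab.c1 hS hz) (mem_cent1.2 (mul_inv_eq_iff_eq_mul.1 (by
        nth_rw 2 [← e]; group)))) n
    · exact absurd ((TT.conj_inj_iff g).1 e) ne
    · exact e
  have q : B84H.Q3 z (g * z * g⁻¹) g := ⟨sq1 oz, ne1 oz, ab.comm hS hz hu, rfl, g2⟩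
  have le : q.ψ.range ≤ S := fun x hx => by
    rcases q.mem_U.1 hx with rfl | rfl | rfl | rfl
    exacts [one_mem _, hz, hu, mul_mem hz hu]
  have sq : ∀ x ∈ q.ψ.range, x * x = 1 := fun x hx => by
    rcases q.mem_U.1 hx with rfl | rfl | rfl | rfl
    exacts [one_mul _, q.tt, q.uu, q.vv]
  obtain ⟨a, σ, ha, H⟩ := BS.exists_tri3 p (V := q.ψ.range) ⟨q.card_U, PG.exponent_eq_prime Nat.prime_two
    (fun x hx => by rw [pow_two, sq x hx]) (ne_bot_of_mem (q.mem_U.2 (by simp)) q.t1)⟩ le (ab.cent hS le)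
    (fun w hw e => q.mem_U.2 (inv w hw e)) (q.mem_U.2 (by simp)) q.t1 hg (q.mem_U.2 (by simp)) ne rfl g2
  have k := (BS.homo_of hS (fun _ a _ b => ab.comm hS a b) ha H).false nc
  have c : Nat.card S = 4 := by
    rcases H.higman with ⟨n, x, h1, h2, h3⟩ | ⟨-, h1, -⟩
    · have cT := H.card_spn h1 h2
      rw [h3, card_top] at cT
      rcases n with _ | n
      · exact cT
      · exact (k (cT ▸ Nat.pow_le_pow_right (n := 4) (i := 2) (by norm_num) (by omega))).elim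
    · exact (k (by omega)).elim
  exact ⟨c, eq_of_le_of_card_ge le (by rw [c, q.card_U]) ▸ sq, z, hz, oz⟩

theorem good_two (nc : ¬ IsMulCommutative G) (ab : AB G) (rk : ¬ Rk3 G) : Good G := by
  obtain ⟨S, hS⟩ := exists_syl Nat.prime_two (⊤ : Subgroup G)
  obtain ⟨c, sq, z, hz, oz⟩ := mn_four nc ab rk hS
  have dg : DG G := dg_of_dih (A := zpowers z) ⟨inferInstance, zpowers_le.2 hz, by rw [c, Nat.card_zpowers, oz],
    fun s hs _ => by rw [pow_two, sq s hs]⟩ hS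
  have n8 : ¬ 8 ∣ Nat.card G := fun d => by
    have := hS.dvd_card (piNat_single_pow Nat.prime_two 3) (by rwa [card_top])
    omega
  obtain ⟨t26, h⟩ := GW.good nc dg
  obtain ⟨T, A, t, st⟩ := exists_st nc dg
  refine ⟨t26, ⟨fun x _ p => ?_, fun z _ w _ oz ow => ?_⟩, .inr (.inl ?_)⟩
  · obtain ⟨g, -, le⟩ := syl_exists_conj_le Nat.prime_two hS p le_top
    have := sq _ (conj_le_iff_forall.1 le x (mem_zpowers x))
    rwa [conj_mul, mul_inv_eq_one, mul_eq_left] at this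
  · obtain ⟨a, rfl⟩ := st.one z oz
    obtain ⟨b, rfl⟩ := st.one w ow
    exact ⟨b * a⁻¹, trivial, by group⟩
  · rcases h with ⟨F, _, _, o, h3, ⟨e⟩⟩ | ⟨h, -⟩
    · refine ⟨F, _, _, ?_, h3, ⟨e⟩⟩
      have k := Cl.card_psl_two_of_odd rfl o
      rw [← Nat.card_congr e.toEquiv, mul_assoc] at k
      by_contra! n
      obtain ⟨m, r | r⟩ : ∃ m, Fintype.card F = 8 * m + 1 ∨ Fintype.card F = 8 * m + 7 :=
        ⟨Fintype.card F / 8, by have := Nat.odd_iff.1 o; omega⟩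
      all_goals refine n8 (Nat.dvd_of_mul_dvd_mul_left two_pos (k ▸ Dvd.dvd.mul_left ?_ _)); rw [r]
      exacts [⟨m * (4 * m + 1), by simp; ring⟩, ⟨(4 * m + 3) * (m + 1), by simp; ring⟩]
    · exact (n8 ((show 8 ∣ 24 from ⟨3, rfl⟩).trans ((h z trivial oz).1 ▸ card_subgroup_dvd_card _))).elim

omit [Group G] [Finite G] [IsSimpleGroup G] in
theorem good_all (sea : SEA.{u}) (b1 : B1.{u}) (b2 : B2.{u}) (jro : JRO.{u}) (l2e : L2E.{u}) (N : ℕ) : IH.{u} N := by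
  induction N with
  | zero => intro K _ _ _ _ _ h; exact absurd h (Nat.not_lt_zero _)
  | succ N ih =>
    intro K _ _ _ nc ab h
    have ih' : IH.{u} (Nat.card K) := fun K' _ _ _ nc' ab' h' => ih K' nc' ab' (by omega)
    by_cases rk : Rk3 K
    swap
    · exact good_two nc ab rk
    have m : Mn K := ⟨nc, ab, rk, ih'⟩
    by_cases se : ∃ H : Subgroup K, SE H
    · have e := se.elim (sea K m)
      exact ⟨(l2e K e).1, (l2e K e).2, .inl e⟩
    have t := b1 K m (not_exists.1 se)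
    obtain ⟨S, s, L, D, j⟩ := b2 K m (not_exists.1 se) t
    obtain rfl := (jro K S s L D j ih').1
    exact ⟨t, j.el, .inr (.inr ⟨S, s, L, j⟩)⟩

theorem main (sea : SEA.{u}) (b1 : B1.{u}) (b2 : B2.{u}) (jro : JRO.{u}) (l2e : L2E.{u})
    (hG : ¬ IsMulCommutative G) (S : Sylow 2 G) (hS : IsMulCommutative (S : Subgroup G)) :
    (∃ a : ℕ, 2 ≤ a ∧ ∃ (F : Type) (_ : Field F) (_ : Fintype F), Fintype.card F = 2 ^ a ∧
      Nonempty (G ≃* Matrix.ProjectiveSpecialLinearGroup (Fin 2) F)) ∨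
    (∃ (F : Type) (_ : Field F) (_ : Fintype F), (Fintype.card F % 8 = 3 ∨ Fintype.card F % 8 = 5) ∧
      Nonempty (G ≃* Matrix.ProjectiveSpecialLinearGroup (Fin 2) F)) ∨ IsRee G ∨ IsJ1 G := by
  have ab : AB G := fun P p => by
    obtain ⟨g, -, le⟩ := syl_exists_conj_le Nat.prime_two (syl_top_of_sylow Nat.prime_two S) p le_top
    rw [← conj_le_conj_iff (g := g), conj_centralizer]
    exact isMulCommutative_iff_le_cent.1 (isMulCommutative_of_le hS le)
  have ih := good_all sea b1 b2 jro l2e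
  rcases (ih _ G hG ab (Nat.lt_succ_self _)).2.2 with h | ⟨F, _, _, h, -, e⟩ | ⟨T, t, L, j⟩
  exacts [.inl h, .inr (.inl ⟨F, _, _, h, e⟩), .inr (.inr (jro G T t L ⊥ j (ih _)).2)]

end Cfsg.Agent.WA
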