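import Cfsg.Agent.WA.JM
import Cfsg.Agent.WA.L2E

/-! Automorphisms of odd order of groups of Janko-Ree type. -/

set_option autoImplicit false
set_option linter.unusedSectionVars false

namespace Cfsg.Agent.WA

open Cfsg Subgroup MulAction Cfsg.Agent.GT Cfsg.Agent.GW Cfsg.Agent.B84H

universe u

variable {G : Type u} [Group G] [Finite G] {t u g w x a e v n : G} {L : Subgroup G} {Q : ℤ} {φ : MulAut G}

theorem NK.nInn : (MulAut.conj : G →* MulAut G).range.Normal :=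
  ⟨by rintro _ ⟨a, rfl⟩ φ; exact ⟨φ a, by ext; simp⟩⟩

/-- an odd power is inner -/
def NK.Od (φ : MulAut G) : Prop := ∃ k, Odd k ∧ φ ^ k ∈ (MulAut.conj : G →* MulAut G).range

theorem NK.Od.mul (h : NK.Od φ) (a : G) : NK.Od (MulAut.conj a * φ) := by
  obtain ⟨k, o, h⟩ := h
  have := NK.nInn (G := G)
  refine ⟨k, o, ?_⟩
  rw [← QuotientGroup.eq_one_iff] at h ⊢
  rwa [QuotientGroup.mk_pow, QuotientGroup.mk_mul, (QuotientGroup.eq_one_iff _).2
    (MonoidHom.mem_range.2 ⟨a, rfl⟩), one_mul, ← QuotientGroup.mk_pow]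

/-- the automorphisms fixing `t`, `u`, `w` -/
abbrev NK.Fx (t u w : G) : Subgroup (MulAut G) := stabilizer _ t ⊓ stabilizer _ u ⊓ stabilizer _ w

open NK

namespace JD

variable (h : JD t u g w x L Q)
include h

theorem swap (o : Od φ) (e1 : φ e = e) (e2 : φ v = v * e) (ee : e * e = 1) (vv : v * v = 1) (c : Commute v e) :
    e = 1 := by
  obtain ⟨k, ok, m, hm⟩ := o
  obtain ⟨i, j, oj, hj⟩ := Nat.exists_eq_two_pow_mul_odd (orderOf_pos m).ne'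
  have zz := h.two (m ^ j) i (by rw [← pow_mul, mul_comm, ← hj, pow_orderOf_eq_one])
  have a : ∀ n : ℕ, (φ ^ n) e = e ∧ (φ ^ n) v = v * e ^ n := fun n => by
    induction n with
    | zero => simp
    | succ n ih => simp only [pow_succ, MulAut.mul_apply, e1, e2, map_mul, ih.1, ih.2, mul_assoc, and_self]
  obtain ⟨l, hl⟩ := ok.mul oj
  have b := (a (k * j)).2
  rw [pow_mul, ← hm, ← map_pow, MulAut.conj_apply, hl, pow_succ, pow_mul, sq, ee, one_pow, one_mul] at b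
  generalize m ^ j = z at zz b
  have d : z * v * (z * v) = e := by
    rw [show z * v * (z * v) = z * v * z⁻¹ * (z * z) * v by group, zz, b, mul_one, c.eq, mul_assoc, vv, mul_one]
  exact d ▸ h.two (z * v) 2 (by rw [show 2 ^ 2 = 2 * 2 from rfl, pow_mul, sq, sq, d, ee])

theorem fxW (h1 : φ t = t) (h2 : φ u = u) (he : e ∈ h.ψ.range) : φ e = e := by
  rcases h.mem_U.1 he with rfl | rfl | rfl | rfl <;> simp [h1, h2]

theorem ex_fx (o : Od φ) : ∃ a, MulAut.conj a * φ ∈ Fx t u w := by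
  have sq : ∀ (ψ : MulAut G) {s : G}, s * s = 1 → ψ s * ψ s = 1 := fun ψ s e => by rw [← map_mul, e, map_one]
  obtain ⟨a, ha⟩ := isConj_iff.1 (h.cj (φ t) (sq φ h.tt) (by simpa using h.t1)).symm
  suffices ∀ ψ : MulAut G, Od ψ → ψ t = t → ∃ a, MulAut.conj a * ψ ∈ Fx t u w by
    obtain ⟨b, k⟩ := this _ (o.mul a) ha
    exact ⟨b * a, by rwa [map_mul, mul_assoc]⟩
  intro φ o h1
  suffices ∀ ψ : MulAut G, Od ψ → ψ t = t → ψ u = u → ∃ a, MulAut.conj a * ψ ∈ Fx t u w by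
    have c : Commute (φ u) t := h1 ▸ (h.tu.symm.map φ)
    rcases h.dec _ c with m | m
    · obtain ⟨a, ha, e⟩ := h.cjL _ m (sq φ h.uu) (by simpa using h.u1)
      obtain ⟨b, k⟩ := this _ (o.mul a⁻¹) (by simp [h1, (h.le a ha).inv_left.eq])
        (by simp [← e, mul_assoc])
      exact ⟨b * a⁻¹, by rwa [map_mul, mul_assoc]⟩
    · obtain ⟨a, ha, e⟩ := h.cjL _ m (by rw [← h1, ← map_mul]; exact sq φ h.vv)
        (by rw [← h1, ← map_mul]; exact φ.map_ne_one_iff.2 h.v1)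
      refine absurd (h.swap (o.mul a⁻¹) (v := u) (by simp [h1, (h.le a ha).inv_left.eq]) ?_ h.tt h.uu
        h.tu.symm) h.t1
      have : φ u = t * (a * u * a⁻¹) := by rw [e, ← mul_assoc, h.tt, one_mul]
      simp [this, ← mul_assoc, (h.le a ha).inv_left.eq, h.tu.eq]
  intro φ o h1 h2
  obtain ⟨e, he, y, hy, k | k⟩ := h.cU (φ w) (h1 ▸ h.wt.map φ) (h2 ▸ h.wu.map φ)
  · have := sq φ h.ww
    rw [k, (h.RW hy he).mul_mul_mul_comm, h.toQ3.sqU he, one_mul] at this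
    rw [h.sq1 hy this, mul_one, ← h.fxW h1 h2 he] at k
    exact absurd (φ.injective k ▸ he) h.wW
  obtain ⟨j, hj⟩ := h.oR hy
  have hz := pow_mem hy (j + 1)
  have zz : y ^ (j + 1) * y ^ (j + 1) = y := by
    rw [← pow_add, show j + 1 + (j + 1) = 2 * j + 1 + 1 by ring, pow_succ, ← hj, pow_orderOf_eq_one, one_mul]
  generalize y ^ (j + 1) = z at hz zz
  have f : ∀ s ∈ h.ψ.range, (MulAut.conj z⁻¹ * φ) s = s := fun s hs => by
    simp [h.fxW h1 h2 hs, (h.RW hz hs).inv_left.eq]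
  have e3 : (MulAut.conj z⁻¹ * φ) w = w * e := by
    rw [MulAut.mul_apply, MulAut.conj_apply, k, ← zz, (h.wW' he).eq, inv_inv,
      show z⁻¹ * (e * (z * z) * w) * z = z⁻¹ * e * z * z * (w * z * w⁻¹) * w by group, h.wR hz,
      (h.RW hz he).inv_left.eq]
    group
  have := h.swap (o.mul z⁻¹) (f e he) e3 (h.toQ3.sqU he) h.ww (h.wW' he)
  rw [this, mul_one] at e3
  exact ⟨z⁻¹, ⟨f t (JH.q3_t _), f u (JH.q3_u _)⟩, e3⟩

theorem cS (ha : a ∈ C1[t] ⊓ C1[u] ⊓ C1[w]) : a * a = 1 ∧ ∀ φ ∈ Fx t u w, φ a = a := by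
  obtain ⟨e, he, y, hy, k⟩ := h.cU a (mem_cent1.1 ha.1.1) (mem_cent1.1 ha.1.2)
  have c : Commute a w := mem_cent1.1 ha.2
  obtain rfl : y = 1 := by
    have : Commute (e * y) w := by
      rcases k with rfl | rfl
      · exact c
      · simpa [mul_assoc] using c.mul_left (Commute.refl w).inv_left
    have := TT.commute_iff_conj.1 ((h.wW' he).symm.inv_left.mul_left this).symm
    rw [inv_mul_cancel_left, h.wR hy] at this
    exact h.sq1 hy (mul_eq_one_iff_eq_inv.2 this.symm)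
  rcases k with rfl | rfl
  · exact ⟨by simpa using h.toQ3.sqU he, fun φ m => by simpa using h.fxW m.1.1 m.1.2 he⟩
  · exact ⟨h.outer he hy, fun φ m => by
      rw [mul_one, map_mul, h.fxW m.1.1 m.1.2 he, show φ w = w from m.2]⟩

theorem syl (ab : AB G) : IsPiHallOf {2} (C1[t] ⊓ C1[u] ⊓ C1[w]) ⊤ :=
  syl_of_maximal Nat.prime_two (PG.isPGroup_of_forall_pow fun a ha => sq a ▸ (h.cS ha).1) le_top fun P hP le _ =>
    le_antisymm (fun a ha => by
      have k := fun s hs => mem_cent1.2 (ab P hP (le (x := s) hs) a ha)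
      exact ⟨⟨k t ⟨⟨self_mem_cent1 t, mem_cent1.2 h.tu⟩, mem_cent1.2 h.wt.symm⟩,
        k u ⟨⟨mem_cent1.2 h.tu.symm, self_mem_cent1 u⟩, mem_cent1.2 h.wu.symm⟩⟩,
        k w ⟨⟨mem_cent1.2 h.wt, mem_cent1.2 h.wu⟩, self_mem_cent1 w⟩⟩) le

theorem fxN (m : φ ∈ Fx t u w) (o : Odd (orderOf φ)) (h1 : φ (n * t * n⁻¹) = n * t * n⁻¹)
    (h2 : φ (n * u * n⁻¹) = n * u * n⁻¹) (h3 : φ (n * w * n⁻¹) = n * w * n⁻¹) : φ n = n := by
  have k : ∀ {s}, φ s = s → φ (n * s * n⁻¹) = n * s * n⁻¹ → n⁻¹ * φ n ∈ C1[s] := fun {s} e1 e => mem_cent1.2 (by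
    rw [map_mul, map_mul, e1, map_inv] at e
    calc n⁻¹ * φ n * s = n⁻¹ * (φ n * s * (φ n)⁻¹) * φ n := by group
      _ = s * (n⁻¹ * φ n) := by rw [e]; group)
  obtain ⟨a, b⟩ := h.cS ⟨⟨k m.1.1 h1, k m.1.2 h2⟩, k m.2 h3⟩
  refine aut_fix o ?_
  rw [show φ n = n * (n⁻¹ * φ n) by group, map_mul, b φ m,
    show φ n * (n⁻¹ * φ n) = n * (n⁻¹ * φ n * (n⁻¹ * φ n)) by group, a, mul_one]

theorem fx_x (m : φ ∈ Fx t u w) : φ x ∈ zpowers x := by
  have o : Odd (orderOf (φ x)) := by rw [MulEquiv.orderOf_eq]; exact h.odd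
  obtain ⟨e, he, y, hy, k | k⟩ := h.cU (φ x) ((show φ t = t from m.1.1) ▸ h.xt.map φ)
    ((show φ u = u from m.1.2) ▸ h.xu.map φ)
  · refine PG.mem_of_sq_mem_of_odd o ?_
    rw [k, (h.RW hy he).mul_mul_mul_comm, h.toQ3.sqU he, one_mul]
    exact mul_mem hy hy
  · rw [eq1_of_odd o (k ▸ h.outer he hy)]
    exact one_mem _

theorem rigA (ab : AB G) (t26 : T26 (⊤ : Subgroup L)) (x1 : x ≠ 1) (m : φ ∈ Fx t u w) (mx : φ x = x)
    (o : Odd (orderOf φ)) : ∀ y ∈ C1[t], φ y = y := by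
  set F : Subgroup G := φ.toMonoidHom.eqLocus (MonoidHom.id G)
  have mF : ∀ y, y ∈ F ↔ φ y = y := fun y => Iff.rfl
  have tF : t ∈ F := m.1.1
  have dec : ∀ y, Commute y t → ∃ e, (e = 1 ∨ e = t) ∧ e * y ∈ L := fun y c =>
    (h.dec y c).elim (fun k => ⟨1, .inl rfl, by rwa [one_mul]⟩) fun k => ⟨t, .inr rfl, k⟩
  have eF : ∀ {e}, e = 1 ∨ e = t → e ∈ F ∧ ∀ {y}, Commute y t → Commute y e := by
    rintro _ (rfl | rfl)
    exacts [⟨one_mem _, fun _ => Commute.one_right _⟩, ⟨tF, id⟩]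
  by_cases e : F.subgroupOf L = ⊤
  · intro y hy
    obtain ⟨e', k, l⟩ := dec y (mem_cent1.1 hy)
    exact (F.mul_mem_cancel_left (eF k).1).1 (subgroupOf_eq_top.1 e l)
  exfalso
  have uR := t26 ⟨u, h.uL⟩ trivial (by rw [← orderOf_coe]; exact ord2 h.uu h.u1) _ le_top e fun y hy => by
    obtain ⟨e, he, z, hz, k⟩ := h.cU y (h.le y y.2) (congrArg Subtype.val (mem_cent1.1 hy.2))
    have a := F.mul_mem (h.fxW m.1.1 m.1.2 he) (zpowers_le.2 (show x ∈ F from mx) hz)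
    rcases k with k | k
    · exact mem_subgroupOf.2 (k ▸ a)
    · exact mem_subgroupOf.2 (k ▸ F.mul_mem a m.2)
  obtain ⟨e1, k1, wL⟩ := dec w h.wt
  have c1 : ∀ {y}, Commute y t → Commute y e1 := (eF k1).2
  have wP : e1 * w ∈ C1[t] ⊓ C1[u] ⊓ C1[w] := ⟨⟨mem_cent1.2 (h.le _ wL),
    mem_cent1.2 ((c1 h.tu.symm).symm.mul_left h.wu)⟩, mem_cent1.2 ((c1 h.wt).symm.mul_left rfl)⟩
  have wx : e1 * w * x⁻¹ * (e1 * w)⁻¹ = x := by
    rw [show e1 * w * x⁻¹ * (e1 * w)⁻¹ = e1 * (w * x * w⁻¹)⁻¹ * e1⁻¹ by group, h.wx, inv_inv, ← (c1 h.xt).eq]; simp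
  obtain ⟨c, hc, ec⟩ := h.cjL _ wL (h.cS wP).1 fun e => by
    rw [e] at wx
    exact x1 (h.sq1 (mem_zpowers x) (mul_eq_one_iff_eq_inv.2 (by simpa using wx.symm)))
  have uP : u ∈ C1[t] ⊓ C1[u] ⊓ C1[w] := ⟨⟨mem_cent1.2 h.tu.symm, self_mem_cent1 u⟩, mem_cent1.2 h.wu.symm⟩
  obtain ⟨n, hn, en⟩ := burn1 ab (syl_of_le (h.syl ab) (inf_le_left.trans inf_le_left) le_top) uP
    (mem_cent1.2 (h.le c hc)) (ec ▸ wP)
  have k := fun s hs => (h.cS (conj_mem_of_mem_norm hn.2 (x := s) hs)).2 φ m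
  have nF : n ∈ F := h.fxN m o (k t ⟨⟨self_mem_cent1 t, mem_cent1.2 h.tu⟩, mem_cent1.2 h.wt.symm⟩) (k u uP)
    (k w ⟨⟨mem_cent1.2 h.wt, mem_cent1.2 h.wu⟩, self_mem_cent1 w⟩)
  obtain ⟨e2, k2, nL⟩ := dec n (mem_cent1.1 hn.1)
  have nR := self_le_norm_piCoreOf {2} (F.subgroupOf L)
  have a1 := conj_mem_of_le_norm nR (show (⟨_, nL⟩ : L) ∈ F.subgroupOf L from F.mul_mem (eF k2).1 nF) uR
  have a2 : (⟨_, nL⟩ * ⟨u, h.uL⟩ * ⟨_, nL⟩⁻¹ : L) = ⟨_, wL⟩ := Subtype.ext (by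
    change e2 * n * u * (e2 * n)⁻¹ = e1 * w
    rw [show e2 * n * u * (e2 * n)⁻¹ = e2 * (n * u * n⁻¹) * e2⁻¹ by group, en, ec, ← ((eF k2).2 (h.le _ wL)).eq]
    simp)
  rw [a2] at a1
  obtain ⟨j, hj⟩ := PG.exists_pow_eq_one (piCoreOf_isPGroup Nat.prime_two _)
    (mul_mem (conj_mem_of_le_norm nR (show (⟨x, h.xL⟩ : L) ∈ F.subgroupOf L from mx) a1) (inv_mem a1))
  have a3 := h.two _ j (congrArg Subtype.val hj)
  change x * (e1 * w) * x⁻¹ * (e1 * w)⁻¹ * (x * (e1 * w) * x⁻¹ * (e1 * w)⁻¹) = 1 at a3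
  rw [mul_assoc x, mul_assoc x, wx] at a3
  exact x1 (h.sq1 (mem_zpowers x) (h.sq1 (mul_mem (mem_zpowers x) (mem_zpowers x)) a3))

theorem rigB (ab : AB G) (c : Nat.card C1[w] = 120) {p : ℕ} (hp : p = 7 ∨ p = 11 ∨ p = 19) (m : φ ∈ Fx t u w)
    (o : orderOf φ = p) : ∀ y ∈ C1[w], φ y = y := by
  set F : Subgroup G := φ.toMonoidHom.eqLocus (MonoidHom.id G)
  have pp : Fact p.Prime := ⟨by rcases hp with rfl | rfl | rfl <;> norm_num⟩
  have gF : g ∈ F := h.fxN m (by rw [o]; rcases hp with rfl | rfl | rfl <;> decide) (h.g1 ▸ m.1.2)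
    (by rw [h.g2, map_mul, show φ t = t from m.1.1, show φ u = u from m.1.2])
    (by rw [← h.wg.eq, mul_inv_cancel_right]; exact m.2)
  have d3 : 3 ∣ Nat.card ↥(F ⊓ C1[w]) := h.h_og ▸ orderOf_dvd_card_of_mem ⟨gF, mem_cent1.2 h.wg.symm⟩
  have d8 : 8 ∣ Nat.card ↥(F ⊓ C1[w]) := by
    have s := syl_of_le (h.syl ab) inf_le_right le_top
    refine Dvd.dvd.trans ?_ (card_dvd_of_le (le_inf (fun a ha => (h.cS ha).2 φ m) s.le))
    refine Nat.Coprime.dvd_of_dvd_mul_right (Nat.Coprime.pow_left 3 (Nat.prime_two.coprime_iff_not_dvd.2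
      (syl_not_dvd Nat.prime_two s))) ?_
    rw [card_mul_relIndex s.le, c]; decide
  let f : Function.End C1[w] := fun y => ⟨φ y, mem_cent1.2 (by
    have := (show Commute (y : G) w from mem_cent1.1 y.2).map φ
    rwa [show φ w = w from m.2] at this)⟩
  have fp : ∀ (k : ℕ) (y : C1[w]), ((f ^ k) y : G) = (φ ^ k) y := fun k => by
    induction k with
    | zero => exact fun _ => rfl
    | succ k ih => exact fun y => by rw [pow_succ, pow_succ]; exact ih (f y)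
  classical
  have := Fintype.ofFinite G
  have e := Equiv.Perm.card_fixedPoints_modEq (f := f) (p := p) (n := 1) (funext fun y => Subtype.ext (by
    rw [fp, pow_one, ← o, pow_orderOf_eq_one]; rfl))
  rw [← Nat.card_eq_fintype_card, ← Nat.card_eq_fintype_card, c, show Nat.card (Function.fixedPoints f) =
    Nat.card ↥(F ⊓ C1[w]) from (Nat.card_congr (Equiv.subtypeEquivRight fun y =>
      Subtype.ext_iff)).trans (card_subgroupOf' F C1[w])] at e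
  have d := card_dvd_of_le (inf_le_right : F ⊓ C1[w] ≤ C1[w])
  have : Nat.card ↥(F ⊓ C1[w]) = 120 := by
    rw [c] at d
    have l := Nat.le_of_dvd (by decide) d
    generalize Nat.card ↥(F ⊓ C1[w]) = i at *
    obtain rfl | rfl | rfl | rfl | rfl | rfl : i = 0 ∨ i = 24 ∨ i = 48 ∨ i = 72 ∨ i = 96 ∨ i = 120 := by omega
    all_goals rcases hp with rfl | rfl | rfl <;> simp_all [Nat.ModEq]
  exact fun y hy => ((eq_of_le_of_card_ge (inf_le_right : F ⊓ C1[w] ≤ C1[w]) (by rw [this, c])).symm.le hy).1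

end JD

end Cfsg.Agent.WA
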