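import Cfsg.Agent.WA.NKC
import Cfsg.Agent.WA.NKD
import Cfsg.Agent.WA.SZ0

/-! No group of odd order acts transitively on the involutions of a group of Janko-Ree type. -/

set_option autoImplicit false
set_option linter.unusedSectionVars false

namespace Cfsg.Agent.WA

open Cfsg Subgroup MulAction Cfsg.Agent.GT Cfsg.Agent.GW Cfsg.Agent.B84H

universe u

namespace NK

theorem ar3 {a v q M j : ℕ} (hq : q = 3 ^ M) (M1 : 1 ≤ M) (hv : v + q = q ^ 2 + 1) (av : a ∣ v) (j0 : 0 < j)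
    (j3 : j ≤ 3 * M) (d : a ∣ 3 ^ j - 1) : 3 * a ≤ q + 3 := by
  obtain ⟨s, hs⟩ : 3 ∣ q := hq ▸ dvd_pow_self 3 (by omega)
  have q2 : q ^ 2 = 3 * (3 * s ^ 2) := by rw [hs]; ring
  have ev : (v : ZMod a) = 0 := (ZMod.natCast_eq_zero_iff _ _).2 av
  have eq : (q : ZMod a) ^ 2 + 1 = q := by
    have := congrArg (Nat.cast : ℕ → ZMod a) hv
    push_cast at this
    linear_combination ev - this
  have e3 : (3 : ZMod a) ^ (3 * M) = -1 := by
    have : (q : ZMod a) = 3 ^ M := by rw [hq]; simp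
    rw [mul_comm, pow_mul, ← this]
    linear_combination (q + 1 : ZMod a) * eq
  have ej : (3 : ZMod a) ^ j = 1 := by
    have := (ZMod.natCast_eq_zero_iff _ _).2 d
    rw [Nat.cast_sub (Nat.one_le_pow _ _ (by decide)), sub_eq_zero] at this
    exact_mod_cast this
  have small : ∀ {i : ℕ}, 0 < i → (i : ZMod a) = 0 → a ≤ i := fun i0 e =>
    Nat.le_of_dvd i0 ((ZMod.natCast_eq_zero_iff _ _).1 e)
  have o1 := Nat.le_of_dvd j0 (orderOf_dvd_of_pow_eq_one ej)
  have o2 := pow_orderOf_eq_one (3 : ZMod a)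
  obtain ⟨k, hk⟩ : orderOf (3 : ZMod a) ∣ 2 * (3 * M) :=
    orderOf_dvd_of_pow_eq_one (by rw [mul_comm, pow_mul, e3]; simp)
  generalize orderOf (3 : ZMod a) = o at *
  obtain ⟨i, rfl | rfl⟩ := Nat.even_or_odd' k
  · rw [show 3 * M = o * i by nlinarith, pow_mul, o2, one_pow] at e3
    have := small (i := 2) two_pos (by push_cast; linear_combination e3)
    have : 3 ≤ q := by have : 0 < q := hq ▸ pow_pos (by decide) _; omega
    omega
  obtain ⟨g, rfl⟩ : 2 ∣ o := (Nat.Coprime.dvd_mul_right (by simp)).1 (hk ▸ dvd_mul_right 2 (3 * M))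
  rw [show 3 * M = 2 * g * i + g by nlinarith, pow_add, pow_mul, o2, one_pow, one_mul] at e3
  have i1 : 1 ≤ i := by
    by_contra z
    obtain rfl : i = 0 := by omega
    omega
  by_cases e : g = M
  · have : (q : ZMod a) = -1 := by rw [hq, ← e]; exact_mod_cast e3
    rw [this] at eq
    have a3 : a ∣ 3 := (ZMod.natCast_eq_zero_iff _ _).1 (by push_cast; linear_combination eq)
    rcases (Nat.dvd_prime Nat.prime_three).1 a3 with rfl | rfl <;> omega
  have := small (i := 3 ^ g + 1) (by positivity) (by push_cast; rw [e3]; simp)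
  have : 3 ^ (g + 1) ≤ q := hq ▸ Nat.pow_le_pow_right (by decide) (by
    have : g ≤ M := by nlinarith
    omega)
  omega

theorem arp {N v q : ℕ} (q3 : 3 ∣ q) (q0 : 0 < q) (hv : v + q = q ^ 2 + 1) (d : N ∣ v) (N1 : 1 < N)
    (e : 3 * q ∣ N - 1) : False := by
  obtain ⟨j, rfl⟩ := d
  obtain ⟨i, hi⟩ := e
  obtain rfl : N = 3 * q * i + 1 := by omega
  have i0 : 0 < i := Nat.pos_of_ne_zero (by rintro rfl; simp at N1)
  have j0 : 0 < j := Nat.pos_of_ne_zero (by rintro rfl; nlinarith)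
  have jq : j < q := by nlinarith [Nat.mul_le_mul_left (3 * q * j) i0]
  have : (q : ℤ) ∣ j - 1 := ⟨q - 1 - 3 * i * j, by zify at hv; linear_combination hv⟩
  obtain rfl : j = 1 := by
    have := Int.eq_zero_of_dvd_of_nonneg_of_lt (by omega) (by omega) this
    omega
  have : 3 * i + 1 = q := Nat.eq_of_mul_eq_mul_left q0 (by nlinarith)
  omega

variable {G : Type u} [Group G] [Finite G] [IsSimpleGroup G] {t : G} {S L : Subgroup G} {Γ : Subgroup (MulAut G)}

local notation "I" => MonoidHom.range (MulAut.conj : G →* MulAut G)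

theorem inj (nc : ¬ IsMulCommutative G) : Function.Injective (MulAut.conj : G →* MulAut G) :=
  (injective_iff_map_eq_one _).2 fun a e => by_contra fun a1 => c1_ne_top nc a1 (eq_top_iff.2 fun y _ =>
    mem_cent1.2 (mul_inv_eq_iff_eq_mul.1 (show MulAut.conj a y = y by rw [e]; rfl)).symm)

theorem idx (ot : orderOf t = 2) {K : Subgroup (MulAut G)}
    (tr : ∀ s, orderOf s = 2 → ∃ φ ∈ K, φ t = s) : (stabilizer _ t).relIndex K = (stabilizer (MulAut G) t).index := by
  rw [← relIndex_top_right]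
  refine (JH.relIndex_prod le_top fun φ _ => ?_).symm
  obtain ⟨ψ, h, e⟩ := tr (φ t) (by rwa [MulEquiv.orderOf_eq])
  exact ⟨ψ, h, show ψ⁻¹ (φ t) = t by rw [← e]; simp⟩

theorem key (nc : ¬ IsMulCommutative G) (ot : orderOf t = 2) (o : Odd (Nat.card Γ))
    (tr : ∀ s s' : G, orderOf s = 2 → orderOf s' = 2 → ∃ φ ∈ Γ, φ s = s') (ne : I ⊓ Γ ≠ ⊥) :
    ∃ p j : ℕ, p.Prime ∧ 0 < j ∧ p ∣ (stabilizer (MulAut G) t).index ∧ p ^ j ∣ Nat.card G ∧
      ∀ r i, r.Prime → r ^ i ∣ Nat.card ↥(I ⊓ Γ) → (NC G p r ∨ NC G r p) → r ^ i ∣ p ^ j - 1 := by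
  obtain ⟨p, hp, n1⟩ := exists_piCoreOf_single_ne_bot (solv_odd (odd_card_of_le o inf_le_right)) ne
  have nN : Γ ≤ N[piCoreOf {p} (I ⊓ Γ)] :=
    le_norm_piCoreOf (le_norm_inf (le_top.trans (normal_iff_top_le_norm.1 nInn)) le_normalizer)
  have pN := piCoreOf_isPGroup hp (I ⊓ Γ)
  have le := piCoreOf_le {p} (I ⊓ Γ)
  generalize piCoreOf {p} (I ⊓ Γ) = N at *
  have := Fact.mk hp
  obtain ⟨j, hj⟩ := PG.exists_card_eq_pow pN
  refine ⟨p, j, hp, Nat.pos_of_ne_zero ?_, by_contra fun d => ?_, hj ▸ (card_dvd_of_le (le.trans inf_le_left)).trans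
    (Nat.card_congr (MonoidHom.ofInjective (inj nc)).toEquiv).symm.dvd, fun r i hr d h => ?_⟩
  · rintro rfl
    exact n1 (card_eq_one.1 hj)
  · obtain ⟨⟨s, ψ, hs⟩, fx⟩ := pN.nonempty_fixed_point_of_prime_not_dvd_card (orbit (MulAut G) t)
      (by rwa [Nat.card_coe_set_eq, ← index_stabilizer])
    have os : orderOf s = 2 := by rw [← hs]; exact (MulEquiv.orderOf_eq ψ t).trans ot
    obtain ⟨y, hy, y1⟩ := exists_ne_one_of_ne_bot n1
    obtain ⟨a, rfl⟩ := (le hy).1
    have : a ∈ (C1[t]).normalCore := fun b => mem_cent1.2 (by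
      obtain ⟨φ, hφ, e⟩ := tr s (b⁻¹ * t * b) os (by simpa using ord2_conj ot b⁻¹)
      have e2 : (φ⁻¹ * MulAut.conj a * φ) s = s :=
        congrArg Subtype.val (fx ⟨_, conj_mem_of_le_norm' nN hφ hy⟩)
      rw [MulAut.mul_apply, MulAut.mul_apply, e, MulAut.inv_apply, MulEquiv.symm_apply_eq, e, MulAut.conj_apply] at e2
      calc b * a * b⁻¹ * t = b * (a * (b⁻¹ * t * b) * a⁻¹) * a * b⁻¹ := by group
        _ = t * (b * a * b⁻¹) := by rw [e2]; group)
    rcases IsSimpleGroup.eq_bot_or_eq_top_of_normal (C1[t]).normalCore inferInstance with e | e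
    · exact y1 (by rw [show a = 1 from mem_bot.1 (e ▸ this), map_one])
    · exact c1_ne_top nc (ne1 ot) (eq_top_iff.2 (e ▸ normalCore_le _))
  have := Fact.mk hr
  obtain ⟨B, cB⟩ := Sylow.exists_subgroup_card_pow_prime r d
  have pB : IsPGroup r (B.map (I ⊓ Γ).subtype) := (IsPGroup.of_card cB).map _
  rw [← hj, ← cB, ← card_map_of_injective (K := B) (subtype_injective _)]
  have lB := map_subtype_le B
  generalize B.map (I ⊓ Γ).subtype = B at *
  refine PF.semiregular_card_dvd (semiregular_of_prime_order fun b hb ob => by_contra fun n => ?_)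
    (lB.trans (inf_le_right.trans nN))
  obtain ⟨y, hy, oy⟩ := exists_mem_orderOf_eq hp (PG.dvd_card_of_ne_bot (pN.to_le inf_le_left) n)
  obtain ⟨i', ob'⟩ := IsPGroup.iff_orderOf.1 pB ⟨b, hb⟩
  rw [← orderOf_coe] at ob'
  replace ob : orderOf b = r := by
    have e : orderOf b = r ^ i' := ob'
    rw [e] at ob ⊢
    rw [ob.eq_one_of_pow, pow_one]
  obtain ⟨b, rfl⟩ := (lB hb).1
  obtain ⟨y, rfl⟩ := (le hy.1).1
  rw [orderOf_injective _ (inj nc)] at ob oy
  have c : Commute y b := inj nc (by rw [map_mul, map_mul]; exact mem_cent1.1 hy.2)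
  exact h.elim (fun h => h y b oy ob c) fun h => h b y ob oy c.symm

theorem core (h : JR' S t L ⊥) (gd : Good G) (t26 : T26 (⊤ : Subgroup L)) (o : Odd (Nat.card Γ))
    (tr : ∀ s s' : G, orderOf s = 2 → orderOf s' = 2 → ∃ φ ∈ Γ, φ s = s') : False := by
  obtain ⟨u, g, w, x, Q, k⟩ := JS.exists_jd h
  have nc : ¬ IsMulCommutative G := fun c => k.h_gt (c.is_comm.comm g t)
  have := nInn (G := G)
  have h8 : 8 ∣ Nat.card G := h.card ▸ card_subgroup_dvd_card S
  have en : (stabilizer (MulAut G) t).index = C1[t].index := by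
    rw [← idx h.ord (K := I) fun s os => (isConj_iff.1 (k.cj s (sq1 os) (ne1 os))).elim fun a e => ⟨_, ⟨a, rfl⟩, e⟩,
      ← index_comap]
    exact congrArg _ (Subgroup.ext fun a => mul_inv_eq_iff_eq_mul.trans mem_cent1.symm)
  have d1 : C1[t].index ∣ Nat.card ↥(I ⊓ Γ) * (I).relIndex Γ := by
    rw [card_inf_mul_relIndex, ← en, ← idx h.ord fun s => tr t s h.ord]
    exact relIndex_dvd_card _ _
  have oe : Odd ((I).relIndex Γ) := o.of_dvd_nat (relIndex_dvd_card _ _)
  have d2 : (I).relIndex Γ ∣ Nat.card (Fx t u w) := by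
    rw [← QuotientGroup.ker_mk' I, relIndex_ker]
    refine (card_dvd_of_le ?_).trans (card_map_dvd _ (QuotientGroup.mk' I))
    rintro _ ⟨φ, hφ, rfl⟩
    obtain ⟨a, e⟩ := k.ex_fx (φ := φ) ⟨_, odd_ord o hφ, by rw [pow_orderOf_eq_one]; exact one_mem _⟩
    exact ⟨_, e, by
      rw [map_mul, QuotientGroup.mk'_apply, (QuotientGroup.eq_one_iff _).2 (MonoidHom.mem_range.2 ⟨a, rfl⟩), one_mul]⟩
  have ky := key nc h.ord o tr
  rw [en] at ky
  have d0 : 0 < Nat.card ↥(I ⊓ Γ) := Nat.card_pos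
  have ne : ∀ p, p.Prime → p ∣ Nat.card ↥(I ⊓ Γ) → I ⊓ Γ ≠ ⊥ := fun p hp d e => by
    rw [e, card_bot] at d
    exact hp.not_dvd_one d
  generalize (I).relIndex Γ = e at *
  generalize Nat.card ↥(I ⊓ Γ) = d at *
  rcases k.nc with ⟨rfl, i, n7, n19⟩ | ⟨m, q, v, c, m1, hq, ox, hv, hc, i, cG, nc3⟩
  · have := Fintype.ofFinite G
    have ow := ord2 k.ww fun e => k.wW (by rw [show w ∈ k.ψ.range ↔ 1 ∈ k.ψ.range from e ▸ Iff.rfl]; exact one_mem _)
    obtain ⟨a, ha⟩ := isConj_iff.1 (k.cj w k.ww (ne1 ow))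
    have cw : Nat.card C1[w] = 120 := by rw [← ha, ← conj_cent1, card_conj, k.card_C5]
    have dv : ∀ p, p = 7 ∨ p = 11 ∨ p = 19 → p ∣ d := fun p hp => by
      have pp : p.Prime := by rcases hp with rfl | rfl | rfl <;> norm_num
      refine (pp.dvd_mul.1 (Dvd.dvd.trans (by rw [i]; rcases hp with rfl | rfl | rfl <;> decide) d1)).resolve_right
        fun d => ?_
      obtain ⟨φ, m, e⟩ := exists_mem_orderOf_eq pp (d.trans d2)
      rw [(good_rig l2e_rig gd h8 ow).2 φ (by rw [e]; rcases hp with rfl | rfl | rfl <;> decide)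
        (k.rigB h.ab cw hp m e), orderOf_one] at e
      exact pp.ne_one e.symm
    obtain ⟨p, j, hp, j0, a1, a2, a3⟩ := ky (ne 7 (by norm_num) (dv 7 (by simp)))
    rw [k.card_G5, i] at a2
    rw [i, show 1463 = 7 * (11 * 19) from rfl, hp.dvd_mul, hp.dvd_mul, Nat.prime_dvd_prime_iff_eq hp (by norm_num),
      Nat.prime_dvd_prime_iff_eq hp (by norm_num), Nat.prime_dvd_prime_iff_eq hp (by norm_num)] at a1
    obtain rfl : j = 1 := by
      by_contra n
      have := (pow_dvd_pow p (show 2 ≤ j by omega)).trans a2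
      rcases a1 with rfl | rfl | rfl <;> norm_num at this
    rcases a1 with rfl | rfl | rfl
    · exact absurd (a3 11 1 (by norm_num) (dv 11 (by simp)) (.inr n7)) (by decide)
    · exact absurd (a3 7 1 (by norm_num) (dv 7 (by simp)) (.inl n7)) (by decide)
    · exact absurd (a3 11 1 (by norm_num) (dv 11 (by simp)) (.inr n19)) (by decide)
  generalize hM : 2 * m + 1 = M at hq
  have q27 : 27 ≤ q := hq ▸ Nat.pow_le_pow_right (n := 3) (i := 3) (by decide) (by omega)
  have x1 : x ≠ 1 := by rintro rfl; rw [orderOf_one] at ox; omega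
  have le : e ≤ orderOf x := by
    rw [← card_inf_mul_relIndex (stabilizer _ x)] at d2
    refine (Nat.le_of_dvd (Nat.pos_of_ne_zero index_ne_zero_of_finite) (Nat.Coprime.dvd_of_dvd_mul_left
      (coprime_of_forall_prime fun p hp h1 h2 => ?_) d2)).trans ?_
    · obtain ⟨φ, m, e⟩ := exists_mem_orderOf_eq hp h2
      have o := e ▸ oe.of_dvd_nat h1
      rw [(good_rig l2e_rig gd h8 h.ord).2 φ o (k.rigA h.ab t26 x1 m.2 m.1 o), orderOf_one] at e
      exact hp.ne_one e.symm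
    · rw [show (stabilizer _ x).subgroupOf (Fx t u w) = stabilizer (Fx t u w) x from rfl, index_stabilizer,
        ← Nat.card_zpowers]
      exact Set.ncard_le_ncard (t := (zpowers x : Set G)) (by rintro _ ⟨φ, rfl⟩; exact k.fx_x φ.2) (Set.toFinite _)
  have e0 := oe.pos
  rw [i] at d1 ky
  have d3 : 3 ^ (M + 1) ∣ d := by
    have a := (dvd_mul_right _ _).trans d1
    have b : ¬ 3 ^ M ∣ e := fun b => by have := Nat.le_of_dvd e0 b; omega
    rw [hq, ← pow_mul, Nat.prime_three.pow_dvd_iff_le_factorization (by positivity),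
      Nat.factorization_mul d0.ne' e0.ne', Finsupp.add_apply] at a
    rw [Nat.prime_three.pow_dvd_iff_le_factorization e0.ne'] at b
    rw [Nat.prime_three.pow_dvd_iff_le_factorization d0.ne']
    omega
  obtain ⟨c1, c2, c3⟩ := cop (s := 3 ^ (2 * m)) (by rw [hq, ← hM, pow_succ']) hv hc
  obtain ⟨p, j, hp, j0, a1, a2, a3⟩ := ky (ne 3 Nat.prime_three ((dvd_pow_self 3 (by omega)).trans d3))
  rw [cG] at a2
  rcases hp.dvd_mul.1 a1 with a1 | a1
  · rw [hq, ← pow_mul] at a1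
    obtain rfl := (Nat.prime_dvd_prime_iff_eq hp Nat.prime_three).1 (hp.dvd_of_dvd_pow a1)
    obtain ⟨a, b, ab, e1, e2⟩ := Nat.exists_coprime v e
    have g0 := Nat.gcd_pos_of_pos_right v e0
    have g1 := Nat.gcd_le_right v e0
    generalize v.gcd e = z at *
    have av : a ∣ v := ⟨z, e1⟩
    have ad : a ∣ d := ab.dvd_of_dvd_mul_right (Nat.dvd_of_mul_dvd_mul_right g0 (by
      rw [mul_assoc, ← e1, ← e2]; exact (dvd_mul_left _ _).trans d1))
    have := ar3 hq (by omega) hv av j0 ((Nat.pow_dvd_pow_iff_le_right (by decide : 1 < 3)).1 (by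
      rw [mul_assoc, hq, ← pow_mul, mul_comm M] at a2
      exact ((Nat.prime_three.coprime_iff_not_dvd.2 c3).pow_left j).dvd_of_dvd_mul_right a2))
      ((Nat.dvd_iff_prime_pow_dvd_dvd _ _).2 fun r i hr b => by
        rcases i.eq_zero_or_pos with rfl | i0
        · simp
        exact a3 r i hr (b.trans ad) (.inr (nc3 r hr ((dvd_pow_self r i0.ne').trans (b.trans av)))))
    have : 12 * v ≤ (q + 3) * (q + 1) := by
      rw [e1, show 12 * (a * z) = 3 * a * (4 * z) by ring]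
      exact Nat.mul_le_mul this (by omega)
    nlinarith
  refine arp (hq ▸ dvd_pow_self 3 (by omega)) (by omega) hv (N := p ^ j) (Nat.Coprime.dvd_of_dvd_mul_left
    (((c1.pow_right 3).mul_right c2).coprime_dvd_left a1 |>.pow_left j) a2) (Nat.one_lt_pow j0.ne' hp.one_lt) ?_
  rw [hq, ← pow_succ']
  exact a3 3 _ Nat.prime_three d3 (.inl (nc3 p hp a1))

end NK

/-- (NJ) -/
theorem nj : NJ.{u} := by
  intro G Ω _ _ _ _ m A a T n s ⟨S, t, L, h⟩
  obtain ⟨b, ne⟩ := @exists_ne _ A.nt a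
  set f := QuotientGroup.mk' (piCore ({2} : Set ℕ)ᶜ (stabilizer G a))
  have sj : Function.Surjective f := QuotientGroup.mk'_surjective _
  have hk : kr f = O[stabilizer G a] := kr_mk' _
  have ok : Odd (Nat.card (kr f)) := hk ▸ O_odd _
  have lift : ∀ y, orderOf y = 2 → ∃ s : stabilizer G a, orderOf (s : G) = 2 ∧ f s = y := fun y o => by
    obtain ⟨s, rfl⟩ := sj y
    obtain ⟨k, hk⟩ := odd_ord ok ((mem_kr' (s * s).2).2 (show f (s * s) = 1 by rw [map_mul, sq1 o]))
    have e : f (s ^ (2 * k + 1)) = f s := by rw [map_pow, pow_succ, pow_mul, sq, sq1 o, one_pow, one_mul]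
    refine ⟨s ^ (2 * k + 1), ord2 ?_ fun n => ne1 o ?_, e⟩
    · rw [coe_pow, ← (Commute.refl _).mul_pow, ← hk, ← coe_mul, pow_orderOf_eq_one]
    · rw [← e, show s ^ (2 * k + 1) = 1 from Subtype.ext n, map_one]
  have lt : Nat.card T < Nat.card G := (card_le_card_group T).trans_lt
    ((Nat.card_le_card_of_surjective f sj).trans_lt (card_lt_of_ne_top fun e => by
      obtain ⟨g, h⟩ := A.tr a b
      exact ne (h.symm.trans (e ▸ mem_top g : g ∈ stabilizer G a))))
  obtain ⟨Q, -, -, -, -, -, sim, nc, -⟩ := JS.facts h.l2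
  refine NK.core h (m.ih T (fun c => nc ⟨⟨fun x y => Subtype.ext (c.is_comm.comm _ _)⟩⟩) h.ab lt)
    (m.ih L nc (h.ab.sub L) ((card_le_card_group L).trans_lt lt)).1
    (Γ := (im f (stabilizer G a ⊓ stabilizer G b)).map MulAut.conjNormal)
    ((odd_im (A.odd ne.symm)).of_dvd_nat (card_map_dvd _ _)) fun y y' o o' => ?_
  obtain ⟨s, os, e1⟩ := lift y (by rwa [orderOf_coe])
  obtain ⟨s', os', e2⟩ := lift y' (by rwa [orderOf_coe])
  obtain ⟨k, hk, e⟩ := A.tr_inv ne.symm os os' s.2 s'.2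
  refine ⟨_, mem_map_of_mem _ (mem_im_of_mem hk.1 hk), Subtype.ext ?_⟩
  rw [MulAut.conjNormal_apply, ← e1, ← e2, ← map_inv, ← map_mul, ← map_mul]
  exact congrArg f (Subtype.ext e)

end Cfsg.Agent.WA
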