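import Cfsg.Agent.WA.SB1

/-! The free lemma and double transitivity. -/

set_option autoImplicit false
set_option linter.unusedSectionVars false

namespace Cfsg.Agent.WA

open Cfsg Subgroup MulAction Cfsg.Agent.GT Cfsg.Agent.GW

universe u

variable {G Ω : Type u} [Group G] [Finite G] [MulAction G Ω] {a b c d d' : Ω} {n n' u v : G}
  {P Q S : Subgroup G} {l : ℕ}

theorem Free.mono (h : Free a P) (le : P ≤ Q) : Free a Q := fun v va hv k => h v va hv fun x hx => k x (le hx)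

/-- a free `l`-group all of whose proper overgroups satisfy the free lemma -/
structure Bad (S : Subgroup G) (l : ℕ) (P : Subgroup G) (a : Ω) : Prop where
  ac : Ac G Ω
  cl : Cl G Ω
  hS : IsPiHallOf {2} S ⊤
  pr : l.Prime
  dv : l ∣ nI S
  pg : IsPGroup l P
  le : P ≤ stabilizer G a
  fr : Free a P
  ov : ∀ Q : Subgroup G, P < Q → ∀ a : Ω, IsPGroup l Q → Q ≤ stabilizer G a → Free a Q →
    ∀ b c : Ω, b ≠ a → c ≠ a → Q ≤ stabilizer G b → Q ≤ stabilizer G c → b = c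

/-- `d` is the second fixed point of a Sylow subgroup of `N(P)_a` -/
def TP (l : ℕ) (P : Subgroup G) (a d : Ω) : Prop :=
  ∃ Q, IsPiHallOf {l} Q (N[P] ⊓ stabilizer G a) ∧ Q ≤ stabilizer G d ∧ ∀ c, c ≠ a → Q ≤ stabilizer G c → c = d

theorem smul_ne {g : G} (e : g • a = a) (ne : d ≠ a) : g • d ≠ a := fun k => ne ((smul_left_cancel_iff g).1 (k.trans e.symm))

namespace Bad

variable (h : Bad S l P a)
include h

theorem odd : Odd (Nat.card P) := odd_p h.pr (h.ac.l_odd h.cl h.hS h.dv) h.pg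

theorem n0 (hn : v ∈ N[P]) (hv : orderOf v = 2) : v • a ≠ a := fun e => h.fr v e hv fun x hx =>
  h.ac.f1 h.cl hv e (h.le hx) (odd_ord h.odd (by
    simpa only [mul_assoc] using mul_mem hx (conj_mem_of_mem_norm hn (inv_mem hx))))

theorem st (ne : d ≠ a) (hd : P ≤ stabilizer G d) :
    IsPiHallOf {l} P (stabilizer G a ⊓ stabilizer G d) ∨ TP l P a d := by
  obtain ⟨Q, hQ, le⟩ := exists_syl_ge h.pr h.pg (M := stabilizer G a ⊓ stabilizer G d ⊓ N[P])
    (le_inf (le_inf h.le hd) le_normalizer)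
  refine le.eq_or_lt.imp (fun e : P = Q => syl_of_syl_norm h.pr (e ▸ hQ)) fun lt => ?_
  have la := hQ.le.trans (inf_le_left.trans inf_le_left)
  have ld := hQ.le.trans (inf_le_left.trans inf_le_right)
  have k : ∀ c, c ≠ a → Q ≤ stabilizer G c → c = d := fun c nc lc =>
    h.ov Q lt a (syl_isPGroup h.pr hQ) la (h.fr.mono le) c d nc ne lc ld
  exact ⟨Q, syl_of_norm_le h.pr hQ (le_inf (hQ.le.trans inf_le_right) la) fun y hy =>
    ⟨⟨hy.1.2, k _ (smul_ne hy.1.2 ne) (sb_fixN ld hy.2)⟩, hy.1.1⟩, ld, k⟩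

theorem tt (ne : d ≠ a) (t1 : TP l P a d) (t2 : TP l P a d') : ∃ n ∈ N[P], n • a = a ∧ n • d = d' := by
  obtain ⟨Q, hQ, le, -⟩ := t1
  obtain ⟨Q', hQ', -, k⟩ := t2
  obtain ⟨n, hn, rfl⟩ := syl_exists_conj h.pr hQ hQ'
  exact ⟨n, hn.1, hn.2, k _ (smul_ne hn.2 ne) (sb_fix le n)⟩

/-- case B does not occur -/
theorem nB (hn : v ∈ N[P]) (hv : orderOf v = 2) (hc : P ≤ stabilizer G c) : v • c ≠ c := fun e => by
  have k : ∀ n ∈ N[P], n • a ≠ c := fun n m k => h.n0 (v := n⁻¹ * v * n⁻¹⁻¹)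
    (mul_mem (mul_mem (inv_mem m) hn) (inv_mem (inv_mem m))) (ord2_conj hv _) (by
      rw [inv_inv, mul_smul, mul_smul, k, e, ← k, inv_smul_smul])
  have nc : c ≠ a := fun e => k 1 (one_mem _) (by rw [one_smul, e])
  have tc := (h.st nc hc).resolve_left fun s =>
    let ⟨u, hu, _, e⟩ := h.ac.swap_syl nc.symm h.pr s; k u hu e
  rcases h.st (h.n0 hn hv) (sb_fixN h.le hn) with s | t
  · exact h.ac.count h.cl h.hS h.pr h.dv hv e (h.n0 hn hv).symm s hn hc
  · obtain ⟨n, m, -, e'⟩ := h.tt (h.n0 hn hv) t tc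
    exact k _ (mul_mem m hn) (by rw [mul_smul, e'])

theorem uq (hu : u ∈ N[P]) (hv : v ∈ N[P]) (ou : orderOf u = 2) (ov : orderOf v = 2) (c : Commute u v) : u = v := by
  by_contra ne
  obtain ⟨x, e, -⟩ := h.ac.fix v ov
  have e' := h.ac.comm_fix ov e c
  exact h.nB hv ov (gen3 ov ou ne c h.odd hv hu (inf_le_right.trans (h.ac.cent_le ov e))
    (inf_le_right.trans (h.ac.cent_le ou e')) (inf_le_right.trans (h.ac.cent_le (ord2_mul ov ou ne c)
      (by rw [mul_smul, e', e])))) e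

theorem hall : IsPiHallOf {2}ᶜ O[N[P]] N[P] := by
  obtain ⟨T, hT⟩ := exists_syl Nat.prime_two N[P]
  have p := syl_isPGroup Nat.prime_two hT
  have ab := h.ac.ab T p
  refine Burnside_hall Nat.prime_two hT fun x hx => ?_
  have m := constt_mem {2}ᶜ hx
  rw [← constt_mul_constt_compl {2} x]
  refine mul_mem (ab (hT.mem_of_mem_norm (constt_mem _ hx).1 (constt_mem _ hx).2 (piNat_constt _ _)))
    (coprime_comm_le_cent_of_prime_order (isMulCommutative_iff_le_cent.2 ab) (zp_norm m.2)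
      (cop2' (by rw [Nat.card_zpowers]; exact odd_iff_piNat.1 (piNat_constt _ _)) p).symm (fun y hy o => ?_)
      (mem_zpowers _))
  obtain ⟨k, e⟩ := TT.exists_pow_eq_one_of_isPGroup p hy
  have o2 := (Nat.prime_dvd_prime_iff_eq o Nat.prime_two).1 (o.dvd_of_dvd_pow (orderOf_dvd_of_pow_eq_one e))
  have m' := conj_mem_of_mem_norm m.2 hy
  rw [cent_zpowers, mem_cent1_comm]
  exact mem_cent1.2 (TT.commute_iff_conj.2 (h.uq (hT.le m') (hT.le hy) (ord2_conj o2 _) o2 (ab hy _ m')))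

theorem sw (hn : n ∈ N[P]) (ne : n • a ≠ a) : ∃ v ∈ N[P], orderOf v = 2 ∧ v • a = n • a := by
  have ne' : n⁻¹ • a ≠ a := fun e => ne (inv_smul_eq_iff.1 e).symm
  rcases h.st ne (sb_fixN h.le hn) with s | t
  · exact h.ac.swap_syl ne.symm h.pr s
  rcases h.st ne' (sb_fixN h.le (inv_mem hn)) with s | t'
  · obtain ⟨v, hv, o, e⟩ := h.ac.swap_syl ne'.symm h.pr s
    exact ⟨_, mul_mem (mul_mem hn hv) (inv_mem hn), ord2_conj o n, by
      rw [mul_smul, mul_smul, ← e, ← mul_smul v, sq1 o, one_smul]⟩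
  obtain ⟨m, hm, e1, e2⟩ := h.tt ne t t'
  have x1 : (n * m) • a = n • a := by rw [mul_smul, e1]
  have x2 : (n * m) • n • a = a := by rw [mul_smul, e2, smul_inv_smul]
  have hx := mul_mem hn hm
  generalize n * m = x at x1 x2 hx
  have m2 : x * x ∈ stabilizer G a ⊓ stabilizer G (n • a) :=
    ⟨show _ • _ = _ by rw [mul_smul, x1, x2], show _ • _ = _ by rw [mul_smul, x2, x1]⟩
  obtain ⟨j, o⟩ := odd_ord (h.ac.odd ne.symm) m2
  have e : x ^ (2 * j + 1) • a = n • a := by rw [pow_succ, pow_mul, sq, mul_smul, x1]; exact (pow_mem m2 j).2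
  exact ⟨_, pow_mem hx _, ord2 (by rw [← (Commute.refl x).mul_pow, ← o, pow_orderOf_eq_one])
    fun k => ne (by rw [← e, k, one_smul]), e⟩

theorem two (hn : n ∈ N[P]) (hn' : n' ∈ N[P]) (ne : n • a ≠ a) (ne' : n' • a ≠ a) : n • a = n' • a := by
  by_contra k
  obtain ⟨u, hu, ou, eu⟩ := h.sw hn ne
  obtain ⟨v, hv, ov, ev⟩ := h.sw hn' ne'
  rw [← eu, ← ev] at k
  obtain ⟨w, hw, ow, ew⟩ := h.sw (mul_mem hu hv) fun e => k (by
    nth_rw 1 [← e]; rw [← mul_smul, GW.tt (sq1 ou)])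
  have mem : ∀ x ∈ N[P], Odd (orderOf x) → x ∈ O[N[P]] := fun x hx o =>
    h.hall.mem_of_normal (O_norm _) hx (odd_iff_piNat.2 o)
  have m1 := mem _ (mul_mem hu hv) ((sb_dih ou ov).resolve_right fun ⟨z, hz, o, c1, c2⟩ => k (by
    have := zpowers_le.2 (mul_mem hu hv) hz
    rw [h.uq hu this ou o c1, h.uq hv this ov o c2]))
  have m2 := mem _ (mul_mem hw (mul_mem hu hv)) (odd_ord (sb_odd (X := N[P] ⊓ stabilizer G a)
    fun x hx o => h.n0 hx.1 o hx.2) ⟨mul_mem hw (mul_mem hu hv), show _ • _ = _ by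
      rw [mul_smul, ← ew, ← mul_smul, sq1 ow, one_smul]⟩)
  exact ne1 ow (eq1_of_odd (odd_ord (O_odd _) ((mul_mem_cancel_right m1).1 m2)) (sq1 ow))

theorem nle (nb : b ≠ a) (nc : c ≠ a) (hb : P ≤ stabilizer G b) (hc : P ≤ stabilizer G c) (ne : b ≠ c) :
    N[P] ≤ stabilizer G a := fun n hn => by
  by_contra k
  have key : ∀ d, d ≠ a → P ≤ stabilizer G d → n • a = d := fun d nd hd => by
    rcases h.st nd hd with s | ⟨Q, hQ, -, t⟩
    · obtain ⟨v, hv, -, rfl⟩ := h.ac.swap_syl nd.symm h.pr s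
      exact h.two hn hv k nd
    · exact t _ k fun m hm => (mul_smul _ _ _).symm.trans (h.two (mul_mem (hQ.le hm).1 hn) hn
        (by rw [mul_smul]; exact smul_ne (hQ.le hm).2 k) k)
  exact ne ((key b nb hb).symm.trans (key c nc hc))

theorem allT (le : N[P] ≤ stabilizer G a) (nd : d ≠ a) (hd : P ≤ stabilizer G d) : TP l P a d :=
  (h.st nd hd).resolve_left fun s => let ⟨_, hv, _, e⟩ := h.ac.swap_syl nd.symm h.pr s; nd (e.symm.trans (le hv))

theorem freeD (le : N[P] ≤ stabilizer G a) (nd : d ≠ a) (hd : P ≤ stabilizer G d) : Free d P := fun v vd hv k => by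
  have n : P ≤ N[O[stabilizer G d]] := hd.trans (O_norm _)
  have o : Odd (Nat.card ↥(P ⊔ O[stabilizer G d])) := odd_iff_pi.1 ((odd_iff_pi.2 h.odd).sup (piCoreOf_isPi _ _) (.inl n))
  have nv : v ∈ N[P ⊔ O[stabilizer G d]] := mem_normalizer_of_conj_le (by
    rw [conj_sup, conj_eq_self (O_norm _ vd)]
    refine sup_le (conj_le_iff_forall.2 fun x hx => ?_) le_sup_right
    rw [show v * x * v⁻¹ = (x * v * x⁻¹ * v⁻¹)⁻¹ * x by group]
    exact mul_mem (mem_sup_right (inv_mem (k x hx))) (mem_sup_left hx))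
  obtain ⟨Q, hQ, nQ⟩ := coprime_exists_syl h.pr (.inl (solv_odd o)) (zp_norm nv) (cop2 o hv)
  obtain ⟨g, hg, lt⟩ := syl_exists_le_conj h.pr hQ h.pg le_sup_left
  have gd : g ∈ stabilizer G d := sup_le hd (O_le _) hg
  have p := syl_isPGroup h.pr (hQ.conj_of_mem hg)
  have ld : cj[g] Q ≤ stabilizer G d := (hQ.conj_of_mem hg).le.trans (sup_le hd (O_le _))
  have nw : g * v * g⁻¹ ∈ N[cj[g] Q] := by rw [← conj_normalizer]; exact conj_mem_conj.2 (nQ (mem_zpowers v))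
  have wd : (g * v * g⁻¹) • d = d := mul_mem (mul_mem gd vd) (inv_mem gd)
  have ow := ord2_conj hv g
  generalize g * v * g⁻¹ = w at nw wd ow
  generalize cj[g] Q = R at lt p ld nw
  replace lt : P < R := lt.lt_of_ne fun e => h.nB (e ▸ nw) ow hd wd
  have lt' : P < R ⊓ stabilizer G a := (lt_inf_norm_of_isPGroup h.pr p lt).trans_le (inf_le_inf_left _ le)
  have key : ∀ y ∈ N[R ⊓ stabilizer G a], y • d = d → y • a = a := fun y hy e => by
    by_contra ne
    exact nd ((smul_left_cancel_iff y).1 (e.trans (h.ov _ lt' a (p.to_le inf_le_left) inf_le_right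
      (h.fr.mono lt'.le) _ _ nd ne (inf_le_left.trans ld) (sb_fixN inf_le_right hy))))
  have e : R ⊓ stabilizer G a = R := by
    by_contra ne
    exact (lt_inf_norm_of_isPGroup h.pr p (inf_le_left.lt_of_ne ne)).not_ge fun y hy => ⟨hy.1, key y hy.2 (ld hy.1)⟩
  exact nd (h.ac.uniq ow wd (key w (e.symm ▸ nw) wd))

theorem fin (nb : b ≠ a) (nc : c ≠ a) (hb : P ≤ stabilizer G b) (hc : P ≤ stabilizer G c) : b = c := by
  by_contra ne
  have le := h.nle nb nc hb hc ne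
  obtain ⟨n, hn, -, e⟩ := h.tt nb (h.allT le nb hb) (h.allT le nc hc)
  exact ne ((Bad.nle { h with le := hb, fr := h.freeD le nb hb } nb.symm (Ne.symm ne) h.le hc nc.symm hn).symm.trans e)

end Bad

theorem Ac.free (h : Ac G Ω) (hc : Cl G Ω) (hS : IsPiHallOf {2} S ⊤) (hl : l.Prime) (dv : l ∣ nI S) (P : Subgroup G) :
    ∀ a : Ω, IsPGroup l P → P ≤ stabilizer G a → Free a P →
      ∀ b c : Ω, b ≠ a → c ≠ a → P ≤ stabilizer G b → P ≤ stabilizer G c → b = c := by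
  induction P using WellFoundedGT.induction with
  | ind P ih => exact fun a p le fr _ _ => Bad.fin ⟨h, hc, hS, hl, dv, p, le, fr, ih⟩

theorem Ac.syl (h : Ac G Ω) (hc : Cl G Ω) (hS : IsPiHallOf {2} S ⊤) (hl : l.Prime) (dv : l ∣ nI S) (ne : a ≠ b)
    (hP : IsPiHallOf {l} P (stabilizer G a ⊓ stabilizer G b)) : IsPiHallOf {l} P (stabilizer G a) :=
  syl_of_norm_le hl hP (hP.le.trans inf_le_left) fun _ hy => ⟨hy.1, h.free hc hS hl dv P a (syl_isPGroup hl hP)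
    (hP.le.trans inf_le_left) (h.f2 hc hS hl dv ne hP) _ _ (smul_ne hy.1 ne.symm) ne.symm
    (sb_fixN (hP.le.trans inf_le_right) hy.2) (hP.le.trans inf_le_right)⟩

theorem p2 : P2.{u} := fun G Ω _ _ _ h hc => by
  refine ⟨h, hc, fun _ _ => h.cj, fun _ _ => h.swap, fun _ _ => h.odd, fun _ _ _ _ _ => h.kk,
    fun a S P l hS hl dv => h.free hc hS hl dv P a, fun a b S P l ne hS hl dv hP =>
      ⟨h.f2 hc hS hl dv ne hP, h.syl hc hS hl dv ne hP⟩, fun a b c nb nc => ?_⟩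
  obtain ⟨x, y, -, ox, oy, -, e, -, -, ne, -⟩ := h.rk
  obtain ⟨S, hS, le⟩ := exists_syl_ge Nat.prime_two (V_pg ox oy e.symm) le_top
  obtain ⟨l, hl, dv⟩ := Nat.exists_prime_and_dvd (n := nI S) fun k => ne (congrArg Subtype.val
    ((Nat.card_eq_one_iff_unique.1 k).1.elim ⟨y, le (mem_sup_right (mem_zpowers y)), oy⟩
      ⟨x, le (mem_sup_left (mem_zpowers x)), ox⟩))
  obtain ⟨P, hP⟩ := exists_syl hl (stabilizer G a ⊓ stabilizer G b)
  obtain ⟨Q, hQ⟩ := exists_syl hl (stabilizer G a ⊓ stabilizer G c)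
  obtain ⟨g, hg, rfl⟩ := syl_exists_conj hl (h.syl hc hS hl dv nb.symm hP) (h.syl hc hS hl dv nc.symm hQ)
  exact ⟨g, hg, h.free hc hS hl dv _ a (syl_isPGroup hl hQ) (hQ.le.trans inf_le_left) (h.f2 hc hS hl dv nc.symm hQ)
    _ _ (smul_ne hg nb) nc (sb_fix (hP.le.trans inf_le_right) g) (hQ.le.trans inf_le_right)⟩

end Cfsg.Agent.WA
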