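import Cfsg.Agent.WA.SMB

/-! SEA, P3: the model `H / O(H) = S ⋊ E`. -/

set_option autoImplicit false
set_option linter.unusedSectionVars false
set_option linter.unusedVariables false

namespace Cfsg.Agent.WA.SM

open Cfsg Subgroup MulAction Cfsg.Agent.GT Cfsg.Agent.Cls Cfsg.Agent.GW
open scoped commutatorElement

universe u

variable {G Ω : Type u} [Group G] [Finite G] [MulAction G Ω] {α β : Ω} {t : G} {S P : Subgroup G}
  {X : Type u} [Group X] [Finite X] {f : stabilizer G α →* X} {l : ℕ}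

local notation3 "H" => stabilizer G α
local notation3 "D" => stabilizer G α ⊓ stabilizer G β
local notation3 "B" => im f (stabilizer G α ⊓ stabilizer G β)
local notation3 "γ" => imHom f (inf_le_left : stabilizer G α ⊓ stabilizer G β ≤ stabilizer G α)
local notation3 "Z" => (fittingOf B).subgroupOf B

def IsTau (t : G) (τ : B →* B) : Prop := ∀ d d' : ↥(D), (d' : G) = t * d * t → τ (γ d) = γ d'

namespace Sd
variable [IsSimpleGroup G] (h : Sd α β t S f)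
include h

theorem cjD {d : G} (hd : d ∈ D) : t * d * t ∈ D :=
  ⟨show (t * d * t) • α = α by rw [mul_smul, mul_smul, h.ta, (hd.2 : d • β = β), h.tb],
    show (t * d * t) • β = β by rw [mul_smul, mul_smul, h.tb, (hd.1 : d • α = α), h.ta]⟩

theorem nD : t ∈ N[D] := mem_normalizer_of_conj_le (conj_le_iff_forall.2 fun d hd => by
  rw [inv2 h.ord]; exact h.cjD hd)

theorem ex_tau : ∃ τ : B →* B, IsTau t τ := by
  let c : ↥(D) →* ↥(D) := MonoidHom.mk' (fun d => ⟨t * d * t, h.cjD d.2⟩) fun a b => Subtype.ext (by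
    simp only [coe_mul, MulMemClass.mk_mul_mk]
    calc _ = t * a * (t * t) * b * t := by rw [sq1 h.ord]; group
      _ = _ := by group)
  have k : (γ).ker ≤ ((γ).comp c).ker := by
    intro d hd
    have h1 : (d : G) ∈ O[H] := h.ker ▸ (mem_kr' d.2.1).2 (congrArg Subtype.val hd)
    have h2 : t * d * t ∈ O[stabilizer G β] := by
      have := (conj_mem_conj (g := t)).2 h1
      rwa [conj_piCoreOf, ← stabilizer_smul_eq_stabilizer_map_conj, h.ta, inv2 h.ord] at this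
    exact Subtype.ext ((mem_kr' (h.cjD d.2).1).1 (h.wle ⟨h.cjD d.2, h2⟩))
  exact ⟨(γ).liftOfSurjective (imHom_surjective _) ⟨_, k⟩, fun d d' e =>
    (MonoidHom.liftOfRightInverse_comp_apply _ _ _ _ d).trans (congrArg γ (Subtype.ext e.symm))⟩

variable {τ : im f (stabilizer G α ⊓ stabilizer G β) →* im f (stabilizer G α ⊓ stabilizer G β)}
  (hτ : IsTau t τ)
include hτ

theorem tau_tau (e : B) : τ (τ e) = e := by
  obtain ⟨d, rfl⟩ := imHom_surjective inf_le_left e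
  rw [hτ d ⟨_, h.cjD d.2⟩ rfl]
  refine hτ _ _ (Eq.symm ?_)
  show t * (t * d * t) * t = d
  calc _ = (t * t) * d * (t * t) := by group
    _ = _ := by rw [sq1 h.ord]; group

theorem tau_Z {z : B} (hz : z ∈ Z) : τ z ∈ Z := by
  have i : Function.Bijective τ := Function.Involutive.bijective (h.tau_tau hτ)
  rw [fittingOf_subgroupOf_self, ← fittingOf_top] at hz ⊢
  have := mem_map_of_mem τ hz
  rwa [fittingOf_map i.1, map_top_of_surjective _ i.2] at this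

theorem fix1 {z : B} (hz : z ∈ Z) (e : τ z = z) : z = 1 := by
  by_contra z1
  obtain ⟨⟨d, hd⟩, rfl⟩ := imHom_surjective inf_le_left z
  obtain ⟨c, hc, a, ha, ia, rfl⟩ := dec2 (sq1 h.ord) h.nD h.oD hd
  have aD : a ∈ D := commutator_le_of_le_norm_left (zp_norm h.nD) ha
  rw [inv2 h.ord] at ia
  have e1 : γ ⟨c * a, hd⟩ = γ ⟨c, hc.1⟩ * γ ⟨a, aD⟩ := by rw [← map_mul]; rfl
  have e2 : τ (γ ⟨c, hc.1⟩) = γ ⟨c, hc.1⟩ := by
    refine hτ _ _ (Eq.symm ?_)
    show t * c * t = c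
    rw [← mem_cent1.1 hc.2, mul_assoc, sq1 h.ord, mul_one]
  have e3 : τ (γ ⟨a, aD⟩) = (γ ⟨a, aD⟩)⁻¹ := by
    rw [← map_inv]
    exact hτ _ _ ia.symm
  rw [e1, map_mul, e2, e3, mul_right_inj] at e
  have e4 : γ ⟨a, aD⟩ = 1 := eq1_of_inv (h.oB.of_dvd_nat (orderOf_dvd_natCard _)) e
  rw [e1, e4, mul_one] at hz z1
  obtain ⟨l, hl, y, hy, hy', py, yF, y1⟩ := h.lpart (F := fittingOf B) hc.1.1 hz
    fun e => z1 (Subtype.ext e)
  obtain ⟨p, hp, up⟩ := h.tw.ac.fix t h.ord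
  have cp : c • p = p := up _ (by
    show t • c • p = c • p
    rw [← mul_smul, ← mem_cent1.1 hc.2, mul_smul, hp])
  have := h.fixl hl py (zpowers_le.2 (zpowers_le.2 hc.1 hy)) (mem_zpowers y) yF y1 (c := p)
    (fun e => h.ne (by rw [← h.ta, ← e, hp])) (zpowers_le.2 (zpowers_le.2 cp hy))
  exact h.ne (by rw [← h.tb, ← this, hp])

omit hτ in
theorem cZ (x : B) (hx : x ∈ Z) (y : B) (hy : y ∈ Z) : x * y = y * x :=
  Subtype.ext (h.tB.fit_comm hy x hx)

omit hτ in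
theorem nZ : (Z).Normal :=
  (normal_subgroupOf_iff_le_normalizer (fittingOf_le _)).2 (self_le_norm_fittingOf _)

theorem tau_inv (z : B) (hz : z ∈ Z) : τ z = z⁻¹ :=
  eq_inv_of_mul_eq_one_right (h.fix1 hτ (mul_mem hz (h.tau_Z hτ hz))
    (by rw [map_mul, h.tau_tau hτ, h.cZ _ hz _ (h.tau_Z hτ hz)]))

theorem tZ (e : B) : e⁻¹ * τ e ∈ Z := by
  refine h.tB.fit_cent ⟨(e⁻¹ * τ e).2, fun z hz => ?_⟩
  have hz' : (⟨z, fittingOf_le _ hz⟩ : B)⁻¹ ∈ Z := inv_mem hz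
  have h1 := h.tau_inv hτ _ (h.nZ.conj_mem _ hz' e)
  rw [map_mul, map_mul, h.tau_inv hτ _ hz', map_inv] at h1
  have h2 : (⟨z, fittingOf_le _ hz⟩ : B) * (e⁻¹ * τ e) = (e⁻¹ * τ e) * ⟨z, fittingOf_le _ hz⟩ := by
    calc _ = e⁻¹ * (e * (⟨z, fittingOf_le _ hz⟩ : B)⁻¹ * e⁻¹)⁻¹ * τ e := by group
      _ = _ := by rw [← h1]; group
  exact congrArg Subtype.val h2

theorem regZ {k : G} (hk : k ∈ D) (e : t * k * t = k⁻¹) : γ ⟨k, hk⟩ ∈ Z := by
  have e3 : τ (γ ⟨k, hk⟩) = (γ ⟨k, hk⟩)⁻¹ := by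
    rw [← map_inv]
    exact hτ _ _ e.symm
  have h1 := inv_mem (h.tZ hτ (γ ⟨k, hk⟩))
  rw [e3, mul_inv_rev, inv_inv] at h1
  obtain ⟨n, hn⟩ := h.oB.of_dvd_nat (orderOf_dvd_natCard (γ ⟨k, hk⟩))
  have : γ ⟨k, hk⟩ = (γ ⟨k, hk⟩ * γ ⟨k, hk⟩) ^ (n + 1) := by
    rw [← pow_two, ← pow_mul, show 2 * (n + 1) = (2 * n + 1) + 1 by ring, ← hn, pow_succ,
      pow_orderOf_eq_one, one_mul]
  rw [this]; exact pow_mem h1 _

omit hτ in
theorem model (big : ∃ a ∈ S, ∃ b ∈ S, orderOf a = 2 ∧ orderOf b = 2 ∧ a ≠ b) :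
    ∃ (S E : Type u) (_ : CommGroup S) (_ : Group E) (φ : E →* MulAut S)
      (π : stabilizer G α →* S ⋊[φ] E) (τ : E →* E) (Y : Subgroup E), Md α β t φ π τ Y := by
  obtain ⟨τ, hτ⟩ := h.ex_tau
  have nS : (im f S).Normal := normalizer_eq_top_iff.1 (top_le_iff.1 h.nS)
  have hc : IsComplement' (im f S) B := isComplIn_top_iff.1 (h.sylS.isComplIn h.hallB)
  let e := SemidirectProduct.mulEquivSubgroup hc
  have eB : ∀ d : ↥(D), e.symm (f ⟨d, d.2.1⟩) = SemidirectProduct.inr (γ d) := fun d => by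
    rw [MulEquiv.symm_apply_eq]
    exact (one_mul _).symm
  have o2 : ∀ x : im f S, orderOf x = 2 → (x : X) ∈ omegaOne 2 (im f S) ∧ (x : X) ≠ 1 := fun x o =>
    ⟨h.memV.2 ⟨x.2, congrArg Subtype.val (sq1 o)⟩, fun e => ne1 o (Subtype.ext e)⟩
  have p2 := isPGroup_im (f := f) h.pS
  letI cg : CommGroup (im f S) := { (inferInstance : Group (im f S)) with mul_comm := h.cS.1.1 }
  refine ⟨im f S, B, cg, inferInstance,
    _, e.symm.toMonoidHom.comp f, τ, Z, h.tw, h.ne, h.ord, h.ta, h.tb,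
    e.symm.surjective.comp h.surj, ?_, p2, h.oB, ?_, ?_, ?_, h.nZ, h.cZ, h.tau_inv hτ, h.tZ hτ, ?_,
    ?_, ?_, ?_, ?_⟩
  · have : (e.symm.toMonoidHom.comp f).ker = O[H].subgroupOf H := by
      rw [← h.ker, kr_subgroupOf]; ext x; simp
    rw [this, Nat.card_congr (subgroupOfEquivOfLe (O_le _)).toEquiv]
    exact O_odd _
  · intro x hx
    exact congrArg SemidirectProduct.left (eB ⟨x, x.2, hx⟩)
  · intro b
    obtain ⟨d, rfl⟩ := imHom_surjective inf_le_left b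
    exact ⟨⟨d, d.2.1⟩, d.2.2, congrArg SemidirectProduct.right (eB d)⟩
  · intro x y hx e'
    have hd : (x : G) ∈ D := ⟨x.2, hx⟩
    have : y = ⟨t * x * t, (h.cjD hd).1⟩ := Subtype.ext e'
    subst this
    exact (congrArg SemidirectProduct.right (eB ⟨_, h.cjD hd⟩)).trans
      ((hτ ⟨x, hd⟩ _ rfl).symm.trans (congrArg τ (congrArg SemidirectProduct.right (eB ⟨x, hd⟩)).symm))
  · intro a b
    exact h.tB.der_le (commutator_mem_commutator a.2 b.2)
  · intro z hz x e'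
    by_contra hn
    push Not at hn
    have c : Commute (z : X) x := mul_inv_eq_iff_eq_mul.1 (congrArg Subtype.val e')
    obtain ⟨y, hy, o⟩ := exists_mem_orderOf_eq Nat.prime_two
      (PG.dvd_card_of_ne_bot (p2.to_subgroup (zpowers x)) (by simpa using hn.2))
    obtain ⟨n, rfl⟩ := hy
    exact (h.tB.fit_semi hz (o2 _ o).1 (c.zpow_right n)).elim (fun e => hn.1 (Subtype.ext e))
      (o2 _ o).2
  · intro x y ox oy
    obtain ⟨k, hk, e1, e2⟩ := h.kk (o2 x ox).1 (o2 y oy).1 (o2 x ox).2 (o2 y oy).2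
    exact ⟨_, h.regZ hτ hk e1, Subtype.ext e2⟩
  · obtain ⟨a, ha, b, hb, oa, ob, ab⟩ := big
    have i := imHom_injective (f := f) h.le
      (h.ker ▸ h.syl.isPi.inf_eq_bot (piCoreOf_isPi _ _))
    refine ⟨imHom f h.le ⟨a, ha⟩, imHom f h.le ⟨b, hb⟩, ?_, ?_, fun e => ab (congrArg Subtype.val (i e))⟩
    · exact (orderOf_injective _ i _).trans (by simpa using oa)
    · exact (orderOf_injective _ i _).trans (by simpa using ob)
  · intro b hb
    refine Subtype.ext (h.tB.eq1 b.2 fun v hv => ?_)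
    exact mul_inv_eq_iff_eq_mul.1 (congrArg Subtype.val (hb ⟨v, (h.memV.1 hv).1⟩))

end Sd

end Cfsg.Agent.WA.SM

namespace Cfsg.Agent.WA

open Cfsg Subgroup MulAction Cfsg.Agent.GT Cfsg.Agent.Cls Cfsg.Agent.GW

universe u

theorem p3 : P3.{u} := by
  intro G Ω _ _ _ _ h
  obtain ⟨a, b, -, oa, ob, -, ab, -, -, ba, -⟩ := h.ac.rk
  have p : IsPGroup 2 ↥(zpowers a ⊔ zpowers b) :=
    ((isPi_of_isPGroup Nat.prime_two (pg2 oa)).sup (isPi_of_isPGroup Nat.prime_two (pg2 ob))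
      (Or.inl (le_norm_of_cent (by rw [cent_zpowers, zpowers_le, mem_cent1]; exact ab)))).isPGroup
      Nat.prime_two
  obtain ⟨S, hS, le⟩ := exists_syl_ge Nat.prime_two p le_top
  have ha : a ∈ S := le (le_sup_left (a := zpowers a) (mem_zpowers a))
  have hb : b ∈ S := le (le_sup_right (b := zpowers b) (mem_zpowers b))
  obtain ⟨α, hα, uα⟩ := h.ac.fix a oa
  have hl : S ≤ stabilizer G α := fun x hx => uα _ (by
    show a • x • α = x • α
    rw [← mul_smul, h.ac.ab S (hS.isPi.isPGroup Nat.prime_two) hx a ha, mul_smul, hα])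
  have := h.ac.nt
  obtain ⟨β, ne⟩ := exists_ne α
  obtain ⟨t, ot, ta, tb⟩ := h.swap α β ne.symm
  obtain ⟨X, _, _, f, surj, ker⟩ := exists_quo' (stabilizer G α) O[stabilizer G α] (O_le _) (O_norm _)
  exact ⟨α, β, t, SM.Sd.model ⟨h, ne.symm, ot, ta, tb, hS, hl, ⟨a, ha, oa⟩, surj, ker⟩
    ⟨a, ha, b, hb, oa, ob, ba.symm⟩⟩

end Cfsg.Agent.WA
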