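import Cfsg.Agent.WA.SDef
import Cfsg.Agent.Cls.BSW6

/-! Walter's theorem, part SEA: recognition of `L₂(2^a)`. -/

set_option autoImplicit false
set_option linter.unusedSectionVars false
set_option linter.unusedVariables false

namespace Cfsg.Agent.WA

open Subgroup

/-- The data of a doubly transitive action on `F ∪ {∞}` with `F^×` as two point
stabiliser. -/
structure ZE (G Ω F : Type*) [Group G] [MulAction G Ω] [Field F] where
  ω : Ω
  o : Ω
  x : F → G
  E : Subgroup G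
  ψ : E →* F
  w : G
  ne : o ≠ ω
  x_add : ∀ a b, x (a + b) = x a * x b
  x_ω : ∀ a, x a • ω = ω
  E_ω : ∀ e ∈ E, e • ω = ω
  E_o : ∀ e ∈ E, e • o = o
  w_ω : w • ω = o
  w_w : w * w = 1
  w_E : ∀ e ∈ E, w * e = e⁻¹ * w
  E_x : ∀ (e : E) a, e * x a = x (ψ e * a) * e
  reg : ∀ y, y ≠ ω → ∃! a, x a • o = y
  stab : ∀ g : G, g • ω = ω → ∃ a, ∃ e ∈ E, g = x a * e
  inj : Function.Injective ψ
  surj : ∀ a, a ≠ 0 → ∃ e, ψ e = a

namespace ZE

variable {G Ω F : Type*} [Group G] [MulAction G Ω] [Field F] (Z : ZE G Ω F)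

theorem x_zero : Z.x 0 = 1 := by simpa using Z.x_add 0 0

theorem x_neg (a : F) : Z.x (-a) = (Z.x a)⁻¹ :=
  eq_inv_of_mul_eq_one_left (by rw [← Z.x_add, neg_add_cancel, Z.x_zero])

theorem w_inv : Z.w⁻¹ = Z.w := inv_eq_of_mul_eq_one_right Z.w_w

theorem w_o : Z.w • Z.o = Z.ω := by rw [← Z.w_ω, ← mul_smul, Z.w_w, one_smul]

theorem psi_ne (e : Z.E) : Z.ψ e ≠ 0 := fun h => by
  have := map_mul Z.ψ e e⁻¹
  rw [h, mul_inv_cancel, map_one, zero_mul] at this
  exact one_ne_zero this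

theorem psi_inv (e : Z.E) : Z.ψ e⁻¹ = (Z.ψ e)⁻¹ :=
  eq_inv_of_mul_eq_one_left (by rw [← map_mul, inv_mul_cancel, map_one])

theorem x_E (e : Z.E) (a : F) : Z.x a * e = e * Z.x (a / Z.ψ e) := by
  rw [Z.E_x, mul_div_cancel₀ _ (Z.psi_ne e)]

theorem x_o_ne (a : F) : Z.x a • Z.o ≠ Z.ω := fun h => Z.ne (by
  rw [← Z.x_ω a] at h; exact smul_left_cancel _ h)

theorem eq_of_x_o {a b : F} (h : Z.x a • Z.o = Z.x b • Z.o) : a = b :=
  (Z.reg _ (Z.x_o_ne b)).unique h rfl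

theorem big_smul (u v : F) (e : Z.E) : (Z.x u * e * Z.w * Z.x v) • Z.ω = Z.x u • Z.o := by
  simp only [mul_smul, Z.x_ω, Z.w_ω, Z.E_o e e.2]

theorem uniq {u v u' v' : F} {e e' : Z.E}
    (h : Z.x u * e * Z.w * Z.x v = Z.x u' * e' * Z.w * Z.x v') : u = u' ∧ e = e' ∧ v = v' := by
  have h1 : u = u' := Z.eq_of_x_o (by rw [← Z.big_smul u v e, h, Z.big_smul])
  subst h1
  have h2 : (e : G) * Z.w * Z.x v = e' * Z.w * Z.x v' := by
    simpa only [mul_assoc, mul_right_inj] using h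
  have h3 : v = v' := by
    have h4 : Z.w * Z.x (v' - v) = (e' : G)⁻¹ * e * Z.w := by
      rw [sub_eq_add_neg, Z.x_add, Z.x_neg]
      calc _ = (e' : G)⁻¹ * (e' * Z.w * Z.x v') * (Z.x v)⁻¹ := by group
        _ = _ := by rw [← h2]; group
    have h5 := congrArg (· • Z.o) h4
    simp only [mul_smul, Z.w_o, Z.E_ω e e.2, Z.E_ω _ (inv_mem e'.2)] at h5
    rw [← Z.w_o, smul_left_cancel_iff] at h5
    have := Z.eq_of_x_o (a := v' - v) (b := 0) (by rw [h5, Z.x_zero, one_smul])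
    exact (sub_eq_zero.1 this).symm
  subst h3
  exact ⟨rfl, Subtype.ext (by simpa using h2), rfl⟩

theorem exists_big {g : G} (hg : g • Z.ω ≠ Z.ω) :
    ∃ (u : F) (e : Z.E) (v : F), g = Z.x u * e * Z.w * Z.x v := by
  obtain ⟨u, hu, -⟩ := Z.reg _ hg
  obtain ⟨a, e, he, h⟩ := Z.stab (Z.w * (Z.x u)⁻¹ * g) (by
    rw [mul_smul, mul_smul, ← hu, inv_smul_smul, Z.w_o])
  refine ⟨u, ⟨e, he⟩⁻¹, a / Z.ψ ⟨e, he⟩, ?_⟩
  have h1 := Z.x_E ⟨e, he⟩ a
  simp only [coe_inv] at h1 ⊢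
  rw [mul_assoc (Z.x u), ← Z.w_E e he, mul_assoc, mul_assoc, ← h1, ← h, ← mul_assoc, ← mul_assoc,
    mul_assoc (Z.x u), ← mul_assoc Z.w, Z.w_w]
  group

theorem wxw_ne {a : F} (ha : a ≠ 0) : (Z.w * Z.x a * Z.w) • Z.ω ≠ Z.ω := fun h => by
  rw [mul_smul, mul_smul, Z.w_ω, ← Z.w_o, smul_left_cancel_iff] at h
  exact ha (Z.eq_of_x_o (by rw [h, Z.x_zero, one_smul]))

theorem exists_wxw : ∃ ρ : Z.E, ∀ a : F, a ≠ 0 → ∃ e : Z.E,
    Z.ψ e = -Z.ψ ρ / a * (-1 / a) ∧
      Z.w * Z.x a * Z.w = Z.x (-Z.ψ ρ / a) * e * Z.w * Z.x (-Z.ψ ρ / a) := by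
  have H' : ∀ a : F, ∃ (u : F) (e : Z.E) (v : F), a ≠ 0 →
      Z.w * Z.x a * Z.w = Z.x u * e * Z.w * Z.x v := fun a => by
    by_cases h : a = 0
    · exact ⟨0, 1, 0, fun h' => absurd h h'⟩
    · obtain ⟨u, e, v, h⟩ := Z.exists_big (Z.wxw_ne h)
      exact ⟨u, e, v, fun _ => h⟩
  choose f h g hB using H'
  have ww : ∀ y, Z.w * (Z.w * y) = y := fun y => by rw [← mul_assoc, Z.w_w, one_mul]
  have wE : ∀ (e : Z.E) y, Z.w * (e * y) = (e : G)⁻¹ * (Z.w * y) := fun e y => by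
    rw [← mul_assoc, Z.w_E e e.2, mul_assoc]
  have wE' : ∀ (e : Z.E) y, Z.w * ((e : G)⁻¹ * y) = e * (Z.w * y) := fun e y => by
    simpa using wE e⁻¹ y
  have f0 : ∀ a, a ≠ 0 → f a ≠ 0 := fun a ha e => by
    have := congrArg (· • Z.ω) (hB a ha)
    simp only [Z.big_smul] at this
    rw [e, Z.x_zero, one_smul, mul_smul, mul_smul, Z.w_ω] at this
    exact Z.x_o_ne a (smul_left_cancel _ (this.trans Z.w_ω.symm))
  have R1 : ∀ a, a ≠ 0 → g a = -f (-a) := fun a ha => by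
    have e : Z.x (f (-a)) * h (-a) * Z.w * Z.x (g (-a)) = Z.x (-g a) * h a * Z.w * Z.x (-f a) := by
      rw [← hB _ (neg_ne_zero.2 ha), Z.x_neg, Z.x_neg, Z.x_neg]
      calc _ = (Z.w * Z.x a * Z.w)⁻¹ := by simp [Z.w_inv, mul_assoc]
        _ = _ := by rw [hB a ha]; simp [Z.w_inv, mul_assoc, wE']
    rw [(Z.uniq e).1, neg_neg]
  have R2 : ∀ (e : Z.E) a, a ≠ 0 → f (Z.ψ e * a) = f a / Z.ψ e := fun e a ha => by
    have e1 : Z.x (f (Z.ψ e * a)) * h (Z.ψ e * a) * Z.w * Z.x (g (Z.ψ e * a)) =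
        Z.x (f a / Z.ψ e) * (e⁻¹ * h a * e⁻¹ : Z.E) * Z.w * Z.x (g a / Z.ψ e) := by
      rw [← hB _ (mul_ne_zero (Z.psi_ne e) ha)]
      calc _ = Z.w * (Z.x (Z.ψ e * a) * e) * (e : G)⁻¹ * Z.w := by group
        _ = (e : G)⁻¹ * (Z.w * Z.x a * Z.w) * e := by
          rw [← Z.E_x]; simp [mul_assoc, wE, Z.w_E e e.2]
        _ = (e : G)⁻¹ * (Z.x (f a) * e) * (e : G)⁻¹ * h a * Z.w * (Z.x (g a) * e) := by
          rw [hB a ha]; group
        _ = _ := by rw [Z.x_E, Z.x_E]; simp [mul_assoc, wE]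
    exact (Z.uniq e1).1
  have R3 : ∀ a, a ≠ 0 → f (f a) = a ∧ g (f a) = -g a / Z.ψ (h a) := fun a ha => by
    have e1 : Z.x (f (f a)) * h (f a) * Z.w * Z.x (g (f a)) =
        Z.x a * ((h a)⁻¹ : Z.E) * Z.w * Z.x (-g a / Z.ψ (h a)) := by
      rw [← hB _ (f0 a ha)]
      calc _ = Z.w * (Z.x (f a) * h a * Z.w * Z.x (g a)) * (Z.x (g a))⁻¹ * Z.w * (h a : G)⁻¹ * Z.w := by
            simp [mul_assoc, ww]
        _ = Z.x a * Z.w * (Z.x (-g a) * h a) := by
          rw [← hB a ha, Z.x_neg]; simp [mul_assoc, ww, wE', Z.w_w]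
        _ = _ := by rw [Z.x_E]; simp [mul_assoc, wE]
    exact ⟨(Z.uniq e1).1, (Z.uniq e1).2.2⟩
  have c1 : ∀ a, (∃ e, Z.ψ e = a) → a * f a = f 1 := by
    rintro _ ⟨e, rfl⟩
    have := R2 e 1 one_ne_zero
    rw [mul_one] at this
    rw [this, mul_div_cancel₀ _ (Z.psi_ne e)]
  have key : ∀ b, b ≠ 0 → b * f b = f 1 := fun b hb => c1 b (Z.surj b hb)
  have ff : ∀ a, a ≠ 0 → f a = f 1 / a := fun a ha => by rw [← key a ha]; field_simp
  have gg : ∀ a, a ≠ 0 → g a = f 1 / a := fun a ha => by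
    rw [R1 a ha, ff _ (neg_ne_zero.2 ha)]; field_simp
  have f1 := f0 1 one_ne_zero
  have hh : ∀ a, a ≠ 0 → Z.ψ (h a) = f 1 / a * (-1 / a) := fun a ha => by
    have a1 := (R3 a ha).2
    have a2 := Z.psi_ne (h a)
    rw [gg _ (f0 a ha), gg a ha, ff a ha] at a1
    field_simp at a1 ⊢
    linear_combination a1
  have h1 : -Z.ψ (h 1) = f 1 := by rw [hh 1 one_ne_zero]; simp
  refine ⟨h 1, fun a ha => ⟨h a, by rw [h1, hh a ha], by rw [h1, hB a ha, ff a ha, gg a ha]⟩⟩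

include Z in
theorem nonempty_equiv [Finite F] (h2 : ringChar F = 2) (h4 : 4 ≤ Nat.card F) :
    Nonempty (G ≃* Matrix.ProjectiveSpecialLinearGroup (Fin 2) F) := by
  classical
  obtain ⟨ρ, hρ⟩ := Z.exists_wxw
  have H : ∀ a : F, ∃ e : Z.E, a ≠ 0 → Z.ψ e = a ^ 2 := fun a => by
    by_cases ha : a = 0
    · exact ⟨1, fun h => absurd ha h⟩
    · obtain ⟨e, he⟩ := Z.surj _ (pow_ne_zero 2 ha)
      exact ⟨e, fun _ => he⟩
  choose D hD using H
  have hρ0 := Z.psi_ne ρ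
  have ww : Z.w * ρ * (Z.w * ρ) = 1 := by
    rw [mul_assoc, ← mul_assoc (ρ : G), ← inv_inv (ρ : G), ← Z.w_E _ (inv_mem ρ.2)]
    simp [Z.w_w]
  have hD1 : ∀ a, a ^ 2 = 1 → D a = 1 := fun a ha => Z.inj (by
    rw [hD a (by rintro rfl; simp at ha), ha, map_one])
  let S : Chev.SL2Rel F G :=
    { x := Z.x
      y := fun s => Z.w * ρ * Z.x (-s) * (Z.w * ρ)
      h := fun a => D a
      w := Z.w * ρ
      x_add := fun a b => (Z.x_add a b).symm
      x_zero := Z.x_zero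
      h_mul := fun a b ha hb => by
        rw [← coe_mul]
        congr 1
        exact Z.inj (by rw [map_mul, hD a ha, hD b hb, hD _ (mul_ne_zero ha hb), mul_pow])
      h_one := by simp [hD1 1 (by simp)]
      n_eq := fun t ht => by
        obtain ⟨e, he, h⟩ := hρ (Z.ψ ρ * t⁻¹) (mul_ne_zero hρ0 (inv_ne_zero ht))
        have e1 : -Z.ψ ρ / (Z.ψ ρ * t⁻¹) = -t := by field_simp
        rw [e1] at he h
        have e2 : D t = e * ρ := Z.inj (by rw [hD t ht, map_mul, he]; field_simp)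
        have e3 : Z.w * ρ * Z.x (- -t⁻¹) * (Z.w * ρ) = Z.w * Z.x (Z.ψ ρ * t⁻¹) * Z.w := by
          rw [neg_neg, mul_assoc Z.w, Z.E_x, Z.w_E ρ ρ.2]; group
        rw [e3, h, e2, Z.x_neg, Z.w_E ρ ρ.2, coe_mul]
        group
      y_zero := by simp only [neg_zero, Z.x_zero, mul_one, ww]
      h_x := fun a s ha => by rw [Z.E_x, hD a ha]
      w_h := fun a ha => by
        have e1 : D a⁻¹ = (D a)⁻¹ := Z.inj (by
          rw [Z.psi_inv, hD a ha, hD _ (inv_ne_zero ha), inv_pow])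
        have e2 : ρ * D a = D a * ρ := Z.inj (by rw [map_mul, map_mul, mul_comm])
        rw [e1, mul_assoc, ← coe_mul, e2, coe_mul, ← mul_assoc, Z.w_E _ (D a).2, coe_inv, mul_assoc]
      w_w := by simp [ww, hD1 (-1) (by simp)]
      w_x := fun s => by rw [neg_neg, mul_assoc _ (Z.w * ρ), ww, mul_one] }
  have hx : ∀ a, Z.x a ∈ S.hom.range := fun a => ⟨_, S.hom_uu a⟩
  have hw : Z.w * ρ ∈ S.hom.range := ⟨_, S.hom_ww⟩
  have hDm : ∀ a, a ≠ 0 → (D a : G) ∈ S.hom.range := fun a ha => by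
    have h1 : (D a : G) = Z.x a * (Z.w * ρ * Z.x (- -a⁻¹) * (Z.w * ρ)) * Z.x a * (Z.w * ρ)⁻¹ :=
      eq_mul_inv_of_mul_eq (S.n_eq a ha).symm
    rw [h1]
    exact mul_mem (mul_mem (mul_mem (hx _) (mul_mem (mul_mem hw (hx _)) hw)) (hx _)) (inv_mem hw)
  have hE : ∀ e : Z.E, (e : G) ∈ S.hom.range := fun e => by
    obtain ⟨a, ha⟩ := FiniteField.isSquare_of_char_two h2 (Z.ψ e)
    have ha0 : a ≠ 0 := by rintro rfl; exact Z.psi_ne e (by simpa using ha)
    rw [show e = D a from Z.inj (by rw [hD a ha0, ha, pow_two])]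
    exact hDm a ha0
  have hw' : Z.w ∈ S.hom.range := by simpa using mul_mem hw (inv_mem (hE ρ))
  have hs : Function.Surjective S.hom := fun g => by
    by_cases hg : g • Z.ω = Z.ω
    · obtain ⟨a, e, he, rfl⟩ := Z.stab g hg
      exact mul_mem (hx a) (hE ⟨e, he⟩)
    · obtain ⟨u, e, v, rfl⟩ := Z.exists_big hg
      exact mul_mem (mul_mem (mul_mem (hx u) (hE e)) hw') (hx v)
  have hk : center (Matrix.SpecialLinearGroup (Fin 2) F) ≤ S.hom.ker := fun g hg => by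
    rcases (Cl.sl2_mem_center_iff g).1 hg with rfl | rfl
    · exact one_mem _
    · have : (-1 : Matrix.SpecialLinearGroup (Fin 2) F) = Chev.SL2Rel.ww F * Chev.SL2Rel.ww F := by
        ext i j
        rw [Matrix.SpecialLinearGroup.coe_mul, Chev.SL2Rel.ww_coe]
        fin_cases i <;> fin_cases j <;> simp
      rw [MonoidHom.mem_ker, this, map_mul, S.hom_ww]
      exact ww
  let φ : Matrix.ProjectiveSpecialLinearGroup (Fin 2) F →* G := QuotientGroup.lift _ S.hom hk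
  have hφ : Function.Surjective φ := fun g => by
    obtain ⟨A, rfl⟩ := hs g
    exact ⟨QuotientGroup.mk A, rfl⟩
  have := Matrix.ProjectiveSpecialLinearGroup.rank_two_simple (F := F) h4
  refine ⟨(MulEquiv.ofBijective φ ⟨(MonoidHom.ker_eq_bot_iff φ).1 ((IsSimpleGroup.eq_bot_or_eq_top_of_normal _
    inferInstance).resolve_right fun e => Z.ne ?_), hφ⟩).symm⟩
  obtain ⟨A, hA⟩ := hφ Z.w
  rw [← Z.w_ω, ← hA, show φ A = 1 from (e ▸ mem_top A : A ∈ φ.ker), one_smul]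

end ZE

open Cfsg MulAction Cfsg.Agent.GT SemidirectProduct

universe u

theorem p8 : P8.{u} := by
  intro G Ω _ _ _ _ α β t S E _ _ φ π τ M el hc
  have fS : Finite (S ⋊[φ] E) := Finite.of_surjective π M.surj
  have : Finite S := Finite.of_injective _ (inl_injective (φ := φ))
  have : Finite Ω := Finite.of_surjective (fun g : G => g • α) (M.tw.ac.tr α)
  choose σ hσ using fun s : S => M.surj (inl s)
  have fa : ∀ h : stabilizer G α, (h : G) • β ≠ α := fun h e => M.ne (smul_left_cancel (h : G) (h.2.trans e.symm))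
  have lf : ∀ s (h : stabilizer G α), (σ s : G) • β = (h : G) • β → (π h).left = s := fun s h e => by
    have := M.left ((σ s)⁻¹ * h) (by rw [coe_mul, mul_smul, ← e, coe_inv, inv_smul_smul])
    rw [map_mul, map_inv, hσ, ← map_inv, mul_left, left_inl, right_inl, map_one, MulAut.one_apply] at this
    exact (inv_mul_eq_one.1 this).symm
  have bij : ∀ y, y ≠ α → ∃! s, (σ s : G) • β = y := fun y hy => by
    have inj : Function.Injective fun s => (⟨_, fa (σ s)⟩ : {y // y ≠ α}) := fun s s' e => by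
      rw [← lf s _ (congrArg Subtype.val e), hσ, left_inl]
    obtain ⟨s, e⟩ := (inj.bijective_of_nat_card_le (by
      rw [show Nat.card {y // y ≠ α} = Nat.card Ω - 1 by
        classical
        have := Fintype.ofFinite Ω
        simp [Fintype.card_subtype_compl]]
      omega)).2 ⟨y, hy⟩
    exact ⟨s, congrArg Subtype.val e, fun s' e' => inj ((Subtype.ext e').trans e.symm)⟩
  have inj : Function.Injective π := (injective_iff_map_eq_one π).2 fun r hr => by
    have k : ∀ r : stabilizer G α, π r = 1 → (r : G) • β = (σ 1 : G) • β := fun r hr => by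
      obtain ⟨s, e, -⟩ := bij _ (fa r)
      rw [← e, ← lf s r e, hr, one_left]
    have k' : ∀ r : stabilizer G α, π r = 1 → (r : G) • β = β := fun r hr => by
      rw [k r hr, ← k 1 (map_one π), coe_one, one_smul]
    have : (r : G) ∈ (toPermHom G Ω).ker := Equiv.ext fun y => by
      by_cases hy : y = α
      · exact hy ▸ r.2
      obtain ⟨s, e, -⟩ := bij y hy
      have := k' ((σ s)⁻¹ * r * σ s) (by simp [hr])
      rw [coe_mul, coe_mul, mul_smul, mul_smul, e, coe_inv, inv_smul_eq_iff, e] at this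
      exact this
    rcases IsSimpleGroup.eq_bot_or_eq_top_of_normal (toPermHom G Ω).ker inferInstance with e | e
    · exact Subtype.ext (mem_bot.1 (e ▸ this))
    · exact absurd ((DFunLike.congr_fun (e ▸ mem_top t : t ∈ (toPermHom G Ω).ker) α).symm.trans M.ta) M.ne
  let X : S →* G :=
    { toFun := fun s => σ s
      map_one' := congrArg Subtype.val (inj (by rw [hσ, map_one, map_one]) : σ 1 = 1)
      map_mul' := fun a b => congrArg Subtype.val (inj (by rw [map_mul, hσ, hσ, hσ, map_mul]) :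
        σ (a * b) = σ a * σ b) }
  have Xi : Function.Injective X := fun a b e => inl_injective (φ := φ) (by
    rw [← hσ, ← hσ]; exact congrArg π (Subtype.ext e))
  set D := stabilizer G α ⊓ stabilizer G β
  have pD : ∀ d (hd : d ∈ D), π ⟨d, hd.1⟩ = inr (π ⟨d, hd.1⟩).right := fun d hd =>
    SemidirectProduct.ext (M.left _ hd.2) rfl
  have act : ∀ d (hd : d ∈ D) s, d * X s * d⁻¹ = X (φ (π ⟨d, hd.1⟩).right s) := fun d hd s =>
    congrArg Subtype.val (inj (by rw [map_mul, map_mul, map_inv, hσ, hσ, inl_aut, map_inv, ← pD d hd]) :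
      ⟨d, hd.1⟩ * σ s * ⟨d, hd.1⟩⁻¹ = σ _)
  have o2 : ∀ s : S, s ≠ 1 → orderOf s = 2 := fun s h => orderOf_eq_prime (by rw [sq, el]) h
  have tr : ∀ s s' : S, s ≠ 1 → s' ≠ 1 → ∃ d ∈ D, d * X s * d⁻¹ = X s' := fun s s' h h' => by
    obtain ⟨z, -, e⟩ := M.reg s s' (o2 s h) (o2 s' h')
    obtain ⟨d, hd, e'⟩ := M.right z
    exact ⟨d, ⟨d.2, hd⟩, by rw [act d ⟨d.2, hd⟩, e', e]⟩
  obtain ⟨s1, s2, o1, o1', ne⟩ := M.big
  have n1 : s1 ≠ 1 := by rintro rfl; simp at o1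
  have n2 : s2 ≠ 1 := by rintro rfl; simp at o1'
  obtain ⟨F, _, _, x, ψ, hadd, hinj, hxP, hsurj, hconj⟩ := Cls.exists_field_of_minNormal (P := X.range) (E := D)
    (isMulCommutative_iff_forall.2 (by rintro _ ⟨a, rfl⟩ _ ⟨b, rfl⟩; rw [← map_mul, mul_comm, map_mul]))
    (isMulCommutative_iff_forall.2 fun a ha b hb => congrArg Subtype.val (inj (by
      rw [map_mul, map_mul, pD a ha, pD b hb, ← map_mul, ← map_mul, M.cZ _ trivial _ trivial]) :
        (⟨a, ha.1⟩ * ⟨b, hb.1⟩ : stabilizer G α) = ⟨b, hb.1⟩ * ⟨a, ha.1⟩))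
    ⟨ne_bot_of_mem ⟨s1, rfl⟩ fun e => n1 (Xi (e.trans (map_one X).symm)),
      le_norm_iff.2 (by rintro d hd _ ⟨s, rfl⟩; exact ⟨_, (act d hd s).symm⟩), fun W le n => by
      refine or_iff_not_imp_left.2 fun h => le_antisymm le ?_
      obtain ⟨y, hy, y1⟩ := exists_ne_one_of_ne_bot h
      obtain ⟨s, rfl⟩ := le hy
      rintro _ ⟨s', rfl⟩
      by_cases e : s' = 1
      · rw [e, map_one]; exact one_mem _
      obtain ⟨d, hd, e⟩ := tr s s' (fun e => y1 (by rw [e, map_one])) e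
      exact e ▸ conj_mem_of_le_norm n hd hy⟩
  have x0 : x 0 = 1 := by simpa using hadd 0 0
  have xs : ∀ a, a ≠ 0 → ∃ s, s ≠ 1 ∧ X s = x a := fun a ha => by
    obtain ⟨s, e⟩ := hxP a
    exact ⟨s, fun n => ha (hinj (by rw [← e, n, map_one, x0])), e⟩
  have tt : t * t = 1 := by rw [← sq, ← M.ord, pow_orderOf_eq_one]
  have reg : ∀ y, y ≠ α → ∃! a, x a • β = y := fun y hy => by
    obtain ⟨s, e, u⟩ := bij y hy
    obtain ⟨a, ha⟩ := hsurj _ ⟨s, rfl⟩
    refine ⟨a, (congrArg (· • β) ha).trans e, fun b hb => hinj ?_⟩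
    obtain ⟨s', e'⟩ := hxP b
    rw [ha, ← e', u s' ((congrArg (· • β) e').trans hb)]
  have xa : ∀ a, x a • α = α := fun a => by obtain ⟨s, e⟩ := hxP a; exact e ▸ (σ s).2
  let Z : ZE G Ω F :=
    { ω := α
      o := β
      x := x
      E := D
      ψ := ψ
      w := t
      ne := M.ne.symm
      x_add := hadd
      x_ω := xa
      E_ω := fun e he => he.1
      E_o := fun e he => he.2
      w_ω := M.ta
      w_w := tt
      w_E := fun e he => by
        have m : t * e * t ∈ D := ⟨show _ • α = α by rw [mul_smul, mul_smul, M.ta, he.2, M.tb],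
          show _ • β = β by rw [mul_smul, mul_smul, M.tb, he.1, M.ta]⟩
        have : t * e * t = e⁻¹ := congrArg Subtype.val (inj (by
          rw [map_inv, pD _ m, pD _ he, M.tau ⟨e, he.1⟩ ⟨_, m.1⟩ he.2 rfl, M.inv _ trivial, map_inv]) :
            (⟨_, m.1⟩ : stabilizer G α) = ⟨e, he.1⟩⁻¹)
        rw [← this, mul_assoc, tt, mul_one]
      E_x := hconj
      reg := reg
      stab := fun g hg => by
        obtain ⟨a, e, -⟩ := reg _ (fa ⟨g, hg⟩)
        exact ⟨a, (x a)⁻¹ * g, ⟨show _ • α = α by rw [mul_smul, hg, inv_smul_eq_iff, xa],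
          show _ • β = β by rw [mul_smul, inv_smul_eq_iff, e]⟩, by group⟩
      inj := (injective_iff_map_eq_one ψ).2 fun y hy => by
        have k : (π ⟨y, y.2.1⟩).right = 1 := M.faith _ fun s => Xi (by
          obtain ⟨a, e⟩ := hsurj _ ⟨s, rfl⟩
          rw [← act _ y.2, ← e, hconj, hy, one_mul, mul_inv_cancel_right])
        have : (⟨y, y.2.1⟩ : stabilizer G α) = 1 := inj (by rw [pD _ y.2, k, map_one, map_one])
        exact Subtype.ext (congrArg Subtype.val this :)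
      surj := fun a ha => by
        obtain ⟨s, h, e⟩ := xs 1 one_ne_zero
        obtain ⟨s', h', e'⟩ := xs a ha
        obtain ⟨d, hd, n⟩ := tr s s' h h'
        refine ⟨⟨d, hd⟩, hinj ?_⟩
        rw [← e', ← n, e, show d * x 1 = _ from hconj ⟨d, hd⟩ 1, mul_one, mul_inv_cancel_right] }
  have cF : Nat.card F = Nat.card S := by
    rw [Nat.card_congr (MonoidHom.ofInjective Xi).toEquiv]
    exact Nat.card_congr (Equiv.ofBijective (fun a => ⟨x a, hxP a⟩) ⟨fun a b e => hinj (congrArg Subtype.val e),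
      fun y => by obtain ⟨a, ha⟩ := hsurj y y.2; exact ⟨a, Subtype.ext ha⟩⟩)
  obtain ⟨n, hn⟩ := M.pS.exists_card_eq
  have n2 : 2 ≤ n := by
    have := Fintype.ofFinite S
    have : 2 < Nat.card S := by
      rw [Nat.card_eq_fintype_card]
      exact Fintype.two_lt_card_iff.2 ⟨1, s1, s2, n1.symm, n2.symm, ne⟩
    by_contra h
    have : 2 ^ n ≤ 2 ^ 1 := Nat.pow_le_pow_right (by norm_num) (by omega)
    omega
  have h2 : ringChar F = 2 := by
    obtain ⟨s, -, e⟩ := xs 1 one_ne_zero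
    exact CharP.ringChar_of_prime_eq_zero Nat.prime_two (hinj (by
      rw [Nat.cast_two, ← one_add_one_eq_two, hadd, ← e, ← map_mul, el, map_one, x0]))
  obtain ⟨e⟩ := Z.nonempty_equiv h2 (by rw [cF, hn]; exact Nat.pow_le_pow_right (n := 2) (by norm_num) n2)
  have := Fintype.ofFinite F
  have := Fintype.ofFinite (GaloisField 2 n)
  have c : Fintype.card (GaloisField 2 n) = 2 ^ n := by
    rw [← Nat.card_eq_fintype_card, GaloisField.card 2 n (by omega)]
  exact ⟨n, n2, GaloisField 2 n, inferInstance, inferInstance, c, ⟨e.trans (Cl.pslCongr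
    (FiniteField.ringEquivOfCardEq (by rw [c, ← Nat.card_eq_fintype_card, cF, hn])))⟩⟩

end Cfsg.Agent.WA
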