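import Cfsg.Agent.WA.SDef

/-! Walter's theorem, part SEA: the action on the cosets of a strongly embedded subgroup. -/

set_option autoImplicit false

namespace Cfsg.Agent.WA

open Cfsg Subgroup MulAction Cfsg.Agent.GT

universe u

theorem p9 : P9.{u} := by
  intro G _ _ _ m H h
  have fx : ∀ z g : G, z • (g : G ⧸ H) = g ↔ g⁻¹ * z * g ∈ H := fun z g => by
    rw [eq_comm, mul_assoc]; exact QuotientGroup.eq
  have sy : ∀ z : G, orderOf z = 2 → ∃ S, IsPiHallOf {2} S ⊤ ∧ z ∈ S ∧ S ≤ C1[z] := fun z o => by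
    obtain ⟨S, hS, le⟩ := exists_syl_ge Nat.prime_two (Q := zpowers z)
      (isPGroup_of_card_eq_prime (by rwa [Nat.card_zpowers])) le_top
    exact ⟨S, hS, le (mem_zpowers z), (m.ab S (syl_isPGroup Nat.prime_two hS)).trans
      (cent_le_cent1 (le (mem_zpowers z)))⟩
  refine ⟨exists_smul_eq G, QuotientGroup.nontrivial_iff.2 h.ne, fun z o => ?_, m.ab, m.rk⟩
  obtain ⟨z0, h0, o0⟩ := h.ex
  obtain ⟨S, hS, -, le⟩ := sy z0 o0
  obtain ⟨g, -, e⟩ := syl_exists_conj_le Nat.prime_two hS (Q := zpowers z)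
    (isPGroup_of_card_eq_prime (by rwa [Nat.card_zpowers])) le_top
  refine existsUnique_of_exists_of_unique ⟨(g⁻¹ : G), (fx _ _).2 (by
    rw [inv_inv]; exact h.cent z0 h0 o0 (le (e (conj_mem_conj.2 (mem_zpowers z)))))⟩ fun a b ha hb => ?_
  obtain ⟨a, rfl⟩ := QuotientGroup.mk_surjective a
  obtain ⟨b, rfl⟩ := QuotientGroup.mk_surjective b
  rw [fx] at ha hb
  have oc : ∀ g : G, orderOf (g⁻¹ * z * g) = 2 := fun g => by simpa [o] using orderOf_conj g⁻¹ z
  obtain ⟨T, hT, -, l1⟩ := sy _ (oc a)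
  have l2 : cj[b⁻¹ * a] T ≤ H := (conj_mono _ l1).trans (by
    rw [conj_cent1, show b⁻¹ * a * (a⁻¹ * z * a) * (b⁻¹ * a)⁻¹ = b⁻¹ * z * b by group]
    exact h.cent _ hb (oc b))
  replace l1 := l1.trans (h.cent _ ha (oc a))
  obtain ⟨k, hk, e⟩ := syl_exists_conj Nat.prime_two (syl_of_le hT l1 le_top)
    (syl_of_le (syl_conj_mem hT (le_normalizer (mem_top _))) l2 le_top)
  have := h.norm T hT l1 (conj_eq_self_iff.1 (show cj[k⁻¹ * (b⁻¹ * a)] T = T by rw [mul_conj, e, inv_conj_conj]))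
  exact (QuotientGroup.eq.2 ((mul_mem_cancel_left (inv_mem hk)).1 this)).symm

end Cfsg.Agent.WA
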