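import Cfsg.Agent.WA.SC6
import Cfsg.Agent.WA.SB2
import Cfsg.Agent.WA.SMC
import Cfsg.Agent.WA.SZ0
import Cfsg.Agent.WA.SZ8
import Cfsg.Agent.WA.SZ9

/-! SEA from NJ. -/

set_option autoImplicit false

namespace Cfsg.Agent.WA

universe u

theorem sea_nj (nj : NJ.{u}) : SEA.{u} := sea_of (p0 nj) p2 p3 p5 p6 p7 p8 p9

end Cfsg.Agent.WA
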