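import Cfsg.Agent.WA.Def
import Cfsg.Agent.Sig.L
import Cfsg.Agent.BS.ZStar

/-! Groups with abelian Sylow 2-subgroups: fusion, and the combinatorics of the subgroups
`S ∩ K`, `C_S(K)` for sections `K`. -/

set_option autoImplicit false
set_option linter.unusedSectionVars false
set_option linter.unusedVariables false

namespace Cfsg.Agent.WA

open Cfsg Subgroup Cfsg.Agent.GT Cfsg.Agent.Cls Cfsg.Agent.GW Cfsg.Agent.Sig
open scoped commutatorElement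

universe u
variable {G : Type u} [Group G] [Finite G] {S H K L A T V U C M U' C' M' W : Subgroup G}
  {g n x y z t : G}

theorem AB.of_surj (h : AB G) {Q : Type u} [Group Q] [Finite Q] {f : L →* Q}
    (hf : Function.Surjective f) : AB Q := fun P hP => by
  obtain ⟨T, hT⟩ := exists_syl Nat.prime_two (pre f P)
  have h1 := hT.im (f := f) pre_le
  rw [im_pre_of_surj hf] at h1
  rw [← h1.eq_self (isPi_of_isPGroup Nat.prime_two hP)]
  exact im_cent (h T (syl_isPGroup Nat.prime_two hT))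

theorem AB.sub (h : AB G) (L : Subgroup G) : AB L :=
  h.of_surj (f := MonoidHom.id L) Function.surjective_id

theorem AB.syl (h : AB G) (hS : IsPiHallOf {2} S H) : S ≤ C[S] :=
  h S (syl_isPGroup Nat.prime_two hS)

theorem AB.c1 (h : AB G) (hS : IsPiHallOf {2} S H) (hx : x ∈ S) : S ≤ C1[x] :=
  (h.syl hS).trans (cent_le_cent1 hx)

theorem AB.cent (h : AB G) (hS : IsPiHallOf {2} S H) (hA : A ≤ S) : S ≤ C[A] :=
  (h.syl hS).trans (cent_anti hA)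

theorem AB.norm (h : AB G) (hS : IsPiHallOf {2} S H) (hA : A ≤ S) : S ≤ N[A] :=
  le_norm_of_cent (h.cent hS hA)

theorem AB.comm (h : AB G) (hS : IsPiHallOf {2} S H) (hx : x ∈ S) (hy : y ∈ S) : x * y = y * x :=
  mem_cent1.1 (h.c1 hS hy hx)

theorem cne (h : x ≠ 1) (g : G) : g * x * g⁻¹ ≠ 1 := by simpa using h

theorem cne' (h : x ≠ 1) (g : G) : g⁻¹ * x * g ≠ 1 := by simpa only [inv_inv] using cne h g⁻¹

/-- Burnside's fusion theorem -/
theorem burn (ab : AB G) (hS : IsPiHallOf {2} S H) (hA : A ≤ S) (hg : g ∈ H) (h : cj[g] A ≤ S) :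
    ∃ n ∈ H ⊓ N[S], ∃ c ∈ H ⊓ C[A], g = n * c := by
  have h1 : IsPiHallOf {2} S (H ⊓ C[A]) := hS.of_le (le_inf hS.le (ab.cent hS hA)) inf_le_left
  have h2 := hS.conj_of_mem (inv_mem hg)
  have h3 : IsPiHallOf {2} (cj[g⁻¹] S) (H ⊓ C[A]) :=
    h2.of_le (le_inf h2.le (ab.cent h2 (conj_le_iff.1 h))) inf_le_left
  obtain ⟨c, hc, e⟩ := syl_exists_conj Nat.prime_two h1 h3
  refine ⟨g * c, ⟨mul_mem hg hc.1, conj_eq_self_iff.1 ?_⟩, c⁻¹, inv_mem hc, by group⟩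
  rw [mul_conj, ← e, conj_inv_conj]

theorem burn1 (ab : AB G) (hS : IsPiHallOf {2} S H) (hx : x ∈ S) (hg : g ∈ H)
    (h : g * x * g⁻¹ ∈ S) : ∃ n ∈ H ⊓ N[S], n * x * n⁻¹ = g * x * g⁻¹ := by
  obtain ⟨n, hn, c, hc, rfl⟩ := burn ab hS (zpowers_le.2 hx) hg (by
    rw [conj_zpowers]; exact zpowers_le.2 h)
  refine ⟨n, hn, ?_⟩
  have := mem_cent1.1 (cent_le_cent1 (mem_zpowers x) hc.2)
  rw [show n * c * x * (n * c)⁻¹ = n * (c * x) * c⁻¹ * n⁻¹ by group, this]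
  group

theorem exists_odd_pow (hS : IsPiHallOf {2} S H) (hn : n ∈ H ⊓ N[S]) : ∃ k, n ^ (2 * k + 1) ∈ S := by
  obtain ⟨a, m, ⟨k, hk⟩, e⟩ := Nat.exists_eq_two_pow_mul_odd (orderOf_pos n).ne'
  refine ⟨k, hS.mem_of_mem_norm (pow_mem hn.1 _) (pow_mem hn.2 _) ?_⟩
  have : orderOf (n ^ (2 * k + 1)) ∣ 2 ^ a := orderOf_dvd_of_pow_eq_one (by
    rw [← pow_mul, ← hk, mul_comm, ← e, pow_orderOf_eq_one])
  exact fun p hp hd => (Nat.prime_dvd_prime_iff_eq hp Nat.prime_two).1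
    (hp.dvd_of_dvd_pow (hd.trans this))

/-- `N(S) / S` has odd order -/
theorem odd_mem (hS : IsPiHallOf {2} S H) (hn : n ∈ H ⊓ N[S]) (hT : S ≤ T) (h : n * n ∈ T) :
    n ∈ T := by
  obtain ⟨k, hk⟩ := exists_odd_pow hS hn
  have h1 := hT hk
  rw [pow_succ, pow_mul, sq] at h1
  exact (T.mul_mem_cancel_left (pow_mem h k)).1 h1

theorem cov (ab : AB G) (hS : IsPiHallOf {2} S H) (hK : K ≤ H ⊓ N[S]) (hV : V ≤ S)
    (hn : K ≤ N[V]) : V ≤ ⁅V, K⁆ ⊔ (V ⊓ C[K]) := by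
  have h1 : IsPiHallOf {2} S (S ⊔ K) :=
    hS.of_le le_sup_left (sup_le hS.le (hK.trans inf_le_left))
  have nS : S ⊔ K ≤ N[S] := sup_le le_normalizer (hK.trans inf_le_right)
  obtain ⟨D, hD⟩ := h1.exists_hall_compl nS
  have nV : S ⊔ K ≤ N[V] := sup_le (ab.norm hS hV) hn
  have hV2 : IsPiSubgroup {2} V := hS.isPi.of_le hV
  refine (coprime_commutator_sup_cent (.inl (solvable_of_comm (comm_iff_le_cent.2
    (hV.trans (ab.cent hS hV))))) (hD.le.trans nV) (hV2.coprime hD.isPi)).ge.trans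
    (sup_le_sup ?_ ?_)
  · have c1 : ⁅V, K⁆ ≤ V := commutator_le_of_le_norm_left hn
    rw [commutator_comm]
    refine (commutator_mono hD.le le_rfl).trans (comm_sup_le (ab.norm hS (c1.trans hV))
      (le_norm_of_commutator_le_of_le c1 le_rfl) ?_ (commutator_comm K V).le)
    rw [le_cent_iff_commutator_eq_bot.1 (ab.cent hS hV)]
    exact bot_le
  · refine le_inf inf_le_left (le_cent_symm (le_sup_right.trans (h1.sup_eq hD).ge |>.trans ?_))
    exact sup_le (ab.cent hS (inf_le_left.trans hV)) (le_cent_symm inf_le_right)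

theorem zfix (ab : AB G) (hS : IsPiHallOf {2} S ⊤) (hz : z ∈ S) (z2 : z * z = 1)
    (h : N[S] ≤ C1[z]) (g : G) : z * (g * z * g⁻¹) ∈ O[(⊤ : Subgroup G)] := by
  rw [piCoreOf_top]
  refine BS.zstar z2 (fun g hg => ?_) g
  have h1 : IsPiHallOf {2} S C1[z] := hS.of_le (ab.c1 hS hz) le_top
  have w2 : IsPGroup 2 (zpowers (g * z * g⁻¹)) := by
    rw [← conj_zpowers, isPGroup_conj_iff]
    exact (syl_isPGroup Nat.prime_two hS).to_le (zpowers_le.2 hz)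
  obtain ⟨c, hc, e⟩ := syl_exists_conj_le Nat.prime_two h1 w2 (zpowers_le.2 (mem_cent1.2 hg.symm))
  rw [conj_zpowers, zpowers_le] at e
  obtain ⟨n, hn, e2⟩ := burn1 ab hS hz (mem_top (c * g)) (by
    rwa [show c * g * z * (c * g)⁻¹ = c * (g * z * g⁻¹) * c⁻¹ by group])
  have e3 := mem_cent1.1 (h hn.2)
  have e4 := mem_cent1.1 (inv_mem hc)
  rw [e3, mul_inv_cancel_right] at e2
  calc g * z * g⁻¹ = c⁻¹ * (c * g * z * (c * g)⁻¹) * c := by group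
    _ = z := by rw [← e2, e4]; group

theorem exists_inv_pow (hx : IsPGroup 2 (zpowers x)) (x1 : x ≠ 1) :
    ∃ z ∈ zpowers x, orderOf z = 2 := by
  refine exists_inv (even_iff_two_dvd.2 ?_)
  have := Fact.mk Nat.prime_two
  exact PG.dvd_card_of_ne_bot hx (by rwa [ne_eq, zpowers_eq_bot])

theorem exists_inv_of_le (hS : IsPiHallOf {2} S H) (hA : A ≤ S) (h : A ≠ ⊥) :
    ∃ z ∈ A, orderOf z = 2 := by
  refine exists_inv (even_iff_two_dvd.2 ?_)
  have := Fact.mk Nat.prime_two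
  exact PG.dvd_card_of_ne_bot ((syl_isPGroup Nat.prime_two hS).to_le hA) h

theorem fix_cent (ab : AB G) (hS : IsPiHallOf {2} S ⊤) (hO : O[(⊤ : Subgroup G)] = ⊥) (hz : z ∈ S)
    (z2 : z * z = 1) (h : N[S] ≤ C1[z]) : ⊤ ≤ C1[z] := fun g _ => by
  have := zfix ab hS hz z2 h g
  rw [hO, mem_bot] at this
  rw [mem_cent1]
  calc g * z = z * (z * (g * z * g⁻¹)) * g := by rw [tt z2]; group
    _ = z * g := by rw [this, mul_one]

theorem O_top [IsSimpleGroup G] (nc : ¬ IsMulCommutative G) : O[(⊤ : Subgroup G)] = ⊥ := by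
  have := normal_iff_top_le_norm.2 (O_norm (⊤ : Subgroup G))
  refine (this.eq_bot_or_eq_top).resolve_right fun e => nc ?_
  have h := O_solv (⊤ : Subgroup G)
  rw [e, isSolvable_top_iff] at h
  exact ⟨⟨IsSimpleGroup.comm_iff_isSolvable.2 h⟩⟩

theorem c1_ne_top [IsSimpleGroup G] (nc : ¬ IsMulCommutative G) (x1 : x ≠ 1) : C1[x] ≠ ⊤ := by
  rw [← cent_zpowers]
  exact fun e => norm_ne_top (Z := zpowers x) (by rwa [ne_eq, zpowers_eq_bot])
    (solvable_of_comm inferInstance) nc (eq_top_iff.2 (e.ge.trans (cent_le_norm _)))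

theorem nofix [IsSimpleGroup G] (nc : ¬ IsMulCommutative G) (ab : AB G)
    (hS : IsPiHallOf {2} S ⊤) (hA : A ≤ S) (h : N[S] ≤ C[A]) : A = ⊥ := by
  by_contra e
  obtain ⟨z, hz, z2⟩ := exists_inv_of_le hS hA e
  exact c1_ne_top nc (ne1 z2) (eq_top_iff.2 (fix_cent ab hS (O_top nc) (hA hz) (sq1 z2)
    (h.trans (cent_le_cent1 hz))))

/-- the data `U = S ∩ K`, `C = C_S(K)`, `M = N_K(S)` of a section `K`. -/
structure Fam (S U C M : Subgroup G) : Prop where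
  ab : AB G
  syl : IsPiHallOf {2} S ⊤
  US : U ≤ S
  CS : C ≤ S
  inf : U ⊓ C = ⊥
  sup : S ≤ U ⊔ C
  nS : M ≤ N[S]
  nU : M ≤ N[U]
  cC : M ≤ C[C]
  sq : ∀ u ∈ U, u * u = 1
  two : ∃ u ∈ U, ∃ v ∈ U, u ≠ 1 ∧ v ≠ 1 ∧ u ≠ v
  tr : ∀ u ∈ U, ∀ v ∈ U, u ≠ 1 → v ≠ 1 → ∃ n ∈ M, n * u * n⁻¹ = v

namespace Fam

theorem dec (h : Fam S U C M) (hx : x ∈ S) : ∃ u ∈ U, ∃ c ∈ C, x = u * c :=
  (mem_sup_of_le_norm (h.US.trans (h.ab.norm h.syl h.CS))).1 (h.sup hx)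

theorem eq1 (h : Fam S U C M) (h1 : x ∈ U) (h2 : x ∈ C) : x = 1 :=
  mem_bot.1 (h.inf ▸ (⟨h1, h2⟩ : x ∈ U ⊓ C))

theorem ne_bot (h : Fam S U C M) : U ≠ ⊥ := fun e => by
  obtain ⟨u, hu, -, -, u1, -⟩ := h.two
  exact u1 (mem_bot.1 (e ▸ hu))

theorem not_le (h : Fam S U C M) : ¬ U ≤ C := fun e =>
  h.ne_bot (by rw [← h.inf, inf_eq_left.2 e])

theorem irr (h : Fam S U C M) (hn : M ≤ N[W]) (hW : U ⊓ W ≠ ⊥) : U ≤ W := fun v hv => by
  obtain ⟨⟨u, hu⟩, u1⟩ := ne_bot_iff_exists_ne_one.1 hW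
  by_cases v1 : v = 1
  · exact v1 ▸ one_mem _
  obtain ⟨n, hn', rfl⟩ := h.tr u hu.1 v hv (fun e => u1 (Subtype.ext e)) v1
  exact conj_mem_of_le_norm hn hn' hu.2

theorem cent (h : Fam S U C M) (hx : x ∈ S) (hc : M ≤ C1[x]) : x ∈ C := by
  obtain ⟨u, hu, c, hc', rfl⟩ := h.dec hx
  by_cases u1 : u = 1
  · rw [u1, one_mul]; exact hc'
  have h1 : M ≤ C1[u] := fun m hm => by
    have := mul_mem (mem_cent1_comm.1 (hc hm)) (inv_mem (mem_cent1_comm.1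
      (cent_le_cent1 hc' (h.cC hm))))
    rw [mul_inv_cancel_right] at this
    exact mem_cent1_comm.1 this
  obtain ⟨a, ha, b, hb, a1, b1, ab⟩ := h.two
  obtain ⟨n, hn, e1⟩ := h.tr u hu a ha u1 a1
  obtain ⟨m, hm, e2⟩ := h.tr u hu b hb u1 b1
  rw [mem_cent1.1 (h1 hn), mul_inv_cancel_right] at e1
  rw [mem_cent1.1 (h1 hm), mul_inv_cancel_right] at e2
  exact absurd (e1.symm.trans e2) ab

theorem cent' (h : Fam S U C M) (hA : A ≤ S) (hc : M ≤ C[A]) : A ≤ C :=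
  fun _ hx => h.cent (hA hx) (hc.trans (cent_le_cent1 hx))

theorem comm (h : Fam S U C M) : ⁅S, M⁆ ≤ U := by
  refine (commutator_mono h.sup le_rfl).trans (comm_sup_le le_normalizer
    (h.CS.trans (h.ab.norm h.syl h.US)) (commutator_le_of_le_norm_left h.nU) ?_)
  rw [le_cent_iff_commutator_eq_bot'.1 h.cC]
  exact bot_le

/-- if `[S, M] ≤ W` and `M` normalizes `W`, then `U ≤ W` -/
theorem le_of_comm (h : Fam S U C M) (hn : M ≤ N[W]) (hc : ⁅U, M⁆ ≤ W) : U ≤ W :=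
  h.irr hn fun e => h.not_le (h.cent' h.US (le_cent_iff_commutator_eq_bot'.2 (eq_bot_iff.2
    (e ▸ le_inf (commutator_le_of_le_norm_left h.nU) hc))))

theorem split (h : Fam S U C M) (h1 : U' ≤ S) (h2 : C' ≤ S) (h3 : U' ⊓ C' = ⊥) (h4 : S ≤ U' ⊔ C')
    (n1 : M ≤ N[U']) (n2 : M ≤ N[C']) : (U ≤ U' ∧ C' ≤ C) ∨ (U ≤ C' ∧ U' ≤ C) := by
  have key : ∀ {X Y : Subgroup G}, X ≤ S → Y ≤ S → X ⊓ Y = ⊥ → M ≤ N[Y] → U ≤ X → Y ≤ C :=
    fun {X Y} a b c d e => h.cent' b (le_cent_iff_commutator_eq_bot'.2 (eq_bot_iff.2 (c ▸ le_inf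
      (((commutator_mono b le_rfl).trans h.comm).trans e) (commutator_le_of_le_norm_left d))))
  by_cases e : U ⊓ U' = ⊥
  · have a1 : U' ≤ C := key h.US h1 e n1 le_rfl
    refine .inr ⟨h.le_of_comm n2 ((commutator_mono (h.US.trans h4) le_rfl).trans (comm_sup_le
      (h1.trans (h.ab.norm h.syl h2)) le_normalizer ?_ (commutator_le_of_le_norm_left n2))), a1⟩
    rw [le_cent_iff_commutator_eq_bot'.1 (h.cC.trans (cent_anti a1))]
    exact bot_le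
  · exact .inl ⟨h.irr n1 e, key h1 h2 h3 n2 (h.irr n1 e)⟩

theorem eq_of_le (h : Fam S U C M) (h1 : C ≤ C') (h2 : C' ≤ S) (h3 : U ⊓ C' = ⊥) : C' = C :=
  le_antisymm (fun x hx => by
    obtain ⟨u, hu, c, hc, rfl⟩ := h.dec (h2 hx)
    have : u ∈ U ⊓ C' := ⟨hu, (C'.mul_mem_cancel_right (h1 hc)).1 hx⟩
    rw [h3, mem_bot] at this
    rw [this, one_mul]
    exact hc) h1

theorem eq_of_le' (h : Fam S U C M) (h1 : U ≤ U') (h2 : U' ≤ S) (h3 : U' ⊓ C = ⊥) : U' = U :=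
  le_antisymm (fun x hx => by
    obtain ⟨u, hu, c, hc, rfl⟩ := h.dec (h2 hx)
    have : c ∈ U' ⊓ C := ⟨(U'.mul_mem_cancel_left (h1 hu)).1 hx, hc⟩
    rw [h3, mem_bot] at this
    rw [this, mul_one]
    exact hu) h1

theorem conj (h : Fam S U C M) (hn : n ∈ N[S]) : Fam S (cj[n] U) (cj[n] C) (cj[n] M) := by
  have e := conj_eq_self hn
  refine ⟨h.ab, h.syl, e ▸ conj_mono n h.US, e ▸ conj_mono n h.CS, by
    rw [← conj_inf, h.inf, conj_bot], by rw [← conj_sup]; exact e.ge.trans (conj_mono n h.sup),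
    e ▸ conj_le_norm_conj_iff.2 h.nS, conj_le_norm_conj_iff.2 h.nU, conj_le_cent_conj_iff.2 h.cC,
    fun u hu => ?_, ?_, fun u hu v hv u1 v1 => ?_⟩
  · obtain ⟨a, ha, rfl⟩ := mem_conj_iff_exists.1 hu
    rw [show n * a * n⁻¹ * (n * a * n⁻¹) = n * (a * a) * n⁻¹ by group, h.sq a ha]; group
  · obtain ⟨a, ha, b, hb, a1, b1, ab⟩ := h.two
    exact ⟨_, conj_mem_conj.2 ha, _, conj_mem_conj.2 hb, by simpa using a1, by simpa using b1,
      by simpa using ab⟩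
  · obtain ⟨a, ha, rfl⟩ := mem_conj_iff_exists.1 hu
    obtain ⟨b, hb, rfl⟩ := mem_conj_iff_exists.1 hv
    obtain ⟨m, hm, e⟩ := h.tr a ha b hb (by simpa using u1) (by simpa using v1)
    exact ⟨_, conj_mem_conj.2 hm, by rw [← e]; group⟩

/-- if `K` normalizes `U`, it normalizes `C` -/
theorem norm_C (h : Fam S U C M) (hn : n ∈ N[S]) (hU : n ∈ N[U]) : n ∈ N[C] := by
  have h' := h.conj hn
  rw [conj_eq_self hU] at h'
  have nS : M ⊔ cj[n] M ≤ N[S] := sup_le h.nS h'.nS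
  have a1 := cov h.ab h.syl (le_inf le_top nS) le_rfl nS
  have a2 : ⁅S, M ⊔ cj[n] M⁆ ≤ U := by
    rw [commutator_comm]
    exact comm_sup_le h.nU h'.nU ((commutator_comm _ _).le.trans h.comm)
      ((commutator_comm _ _).le.trans h'.comm)
  have a3 : ∀ {D N : Subgroup G}, Fam S U D N → N ≤ M ⊔ cj[n] M → D = S ⊓ C[M ⊔ cj[n] M] :=
    fun {D N} k l => by
      have b1 : S ⊓ C[M ⊔ cj[n] M] ≤ D :=
        k.cent' inf_le_left (l.trans (le_cent_symm inf_le_right))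
      refine le_antisymm (fun x hx => ?_) b1
      obtain ⟨u, hu, c, hc, rfl⟩ := (mem_sup_of_le_norm (h.US.trans (h.ab.norm h.syl
        inf_le_left))).1 ((a1.trans (sup_le_sup_right a2 _)) (k.CS hx))
      rw [k.eq1 hu ((D.mul_mem_cancel_right (b1 hc)).1 hx), one_mul]
      exact hc
  exact conj_eq_self_iff.1 ((a3 h' le_sup_right).trans (a3 h le_sup_left).symm)

theorem sym (h : Fam S U C M) (h' : Fam S U' C' M') (e : U' ≤ C) : U ≤ C' := by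
  have n1 : M ≤ N[U'] := le_norm_of_cent (h.cC.trans (cent_anti e))
  rcases h.split h'.US h'.CS h'.inf h'.sup n1 (fun m hm => h'.norm_C (h.nS hm) (n1 hm)) with a | a
  · exact absurd (a.1.trans e) h.not_le
  · exact a.1

theorem swap_C (h : Fam S U C M) (hn : n ∈ N[S]) (e : cj[n] U ≤ C) (hc : C ⊓ cj[n] C = ⊥) :
    False := by
  have h' := h.conj hn
  have e1 : C = cj[n] U := h'.eq_of_le' e h.CS hc
  have e2 : cj[n] C = U := h.eq_of_le' (h.sym h' e) h'.CS (inf_comm C _ ▸ hc)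
  have : n ∈ N[U] := odd_mem h.syl ⟨mem_top n, hn⟩ (h.ab.norm h.syl h.US)
    (conj_eq_self_iff.1 (by rw [mul_conj, ← e1, e2]))
  rw [conj_eq_self this] at e
  exact h.not_le e

/-- conclusion (ii) of the combinatorial lemma -/
structure Two (S U C : Subgroup G) (t : G) : Prop where
  ord : orderOf t = 2
  eq : C = zpowers t
  sq : ∀ x ∈ S, x * x = 1
  tr : ∀ x ∈ S, x ≠ 1 → ∃ n ∈ N[S], n * t * n⁻¹ = x
  cU : Nat.card U = 4
  cS : Nat.card S = 8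

theorem card_S (h : Fam S U C M) : Nat.card S = Nat.card U * Nat.card C := by
  rw [← card_sup_of_inf_eq_bot (.inl (h.US.trans (h.ab.norm h.syl h.CS))) h.inf,
    le_antisymm (sup_le h.US h.CS) h.sup]

theorem four_le (h : Fam S U C M) : 4 ≤ Nat.card U := by
  obtain ⟨a, ha, b, hb, a1, b1, ab⟩ := h.two
  have a2 := ord2 (h.sq a ha) a1
  have b2 := ord2 (h.sq b hb) b1
  have := card_le_of_le (V_le ha hb)
  rwa [E4.card_V a2 b2 ab.symm (h.ab.comm h.syl (h.US hb) (h.US ha))] at this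

theorem comb (h : Fam S U C M) (hC : C ≠ ⊥)
    (T : ∀ n ∈ N[S], C ⊓ cj[n] C ≠ ⊥ → cj[n] U = U ∨ cj[n] U ≤ C) :
    (∀ n ∈ N[S], cj[n] U = U ∨ cj[n] U ≤ C) ∨ ∃ t, Two S U C t := by
  by_cases h0 : ∀ n ∈ N[S], C ⊓ cj[n] C ≠ ⊥
  · exact .inl fun n hn => T n hn (h0 n hn)
  right
  push Not at h0
  obtain ⟨n₀, hn₀, e₀⟩ := h0
  have nrm := fun {X : Subgroup G} (hX : X ≤ S) => h.ab.norm h.syl hX
  -- `S` is elementary
  have sqC : ∀ c ∈ C, c * c = 1 := fun c hc => by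
    obtain ⟨u, hu, d, hd, rfl⟩ := (h.conj hn₀).dec (h.CS hc)
    have e1 : u * d * (u * d) = d * d := by
      rw [show u * d * (u * d) = u * (d * u) * d by group, h.ab.comm h.syl ((h.conj hn₀).CS hd)
        ((h.conj hn₀).US hu), show u * (u * d) * d = u * u * (d * d) by group,
        (h.conj hn₀).sq u hu, one_mul]
    exact mem_bot.1 (e₀ ▸ (⟨mul_mem hc hc, e1 ▸ mul_mem hd hd⟩ : _ ∈ C ⊓ cj[n₀] C))
  have sq : ∀ x ∈ S, x * x = 1 := fun x hx => by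
    obtain ⟨u, hu, d, hd, rfl⟩ := h.dec hx
    rw [show u * d * (u * d) = u * (d * u) * d by group, h.ab.comm h.syl (h.CS hd) (h.US hu),
      show u * (u * d) * d = u * u * (d * d) by group, h.sq u hu, sqC d hd, one_mul]
  -- `|C| ≤ |U|`
  have le : Nat.card C ≤ Nat.card U := by
    have a1 := card_le_of_le (sup_le h.CS (h.conj hn₀).CS)
    rw [card_sup_of_inf_eq_bot (.inl (h.CS.trans (nrm (h.conj hn₀).CS))) e₀, h.card_S,
      card_conj] at a1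
    exact Nat.le_of_mul_le_mul_right a1 (card_pos' C)
  have s1 : ∀ n ∈ N[S], ¬ cj[n] U ≤ C := fun n hn e => by
    have e1 : cj[n] U = C := eq_of_le_of_card_ge e (by rwa [card_conj])
    refine h.swap_C hn e ?_
    nth_rewrite 1 [← e1]
    exact (h.conj hn).inf
  have TI : ∀ n ∈ N[S], ∀ x ∈ C, x ≠ 1 → x ∈ cj[n] C → n ∈ N[U] ∧ n ∈ N[C] :=
    fun n hn x hx x1 hx' => by
      have := conj_eq_self_iff.1 ((T n hn fun e => x1 (mem_bot.1
        (e ▸ (⟨hx, hx'⟩ : x ∈ C ⊓ cj[n] C)))).resolve_right (s1 n hn))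
      exact ⟨this, h.norm_C hn this⟩
  have TI2 : ∀ n ∈ N[S], ∀ m ∈ N[S], ∀ x, x ≠ 1 → x ∈ cj[n] C → x ∈ cj[m] C →
      cj[n] C = cj[m] C ∧ cj[n] U = cj[m] U := fun n hn m hm x x1 a b => by
    obtain ⟨c1, c2⟩ := TI (n⁻¹ * m) (mul_mem (inv_mem hn) hm) (n⁻¹ * x * n) (mem_conj.1 a)
      (cne' x1 _) (by rw [mul_conj]; simpa using (conj_mem_conj (g := n⁻¹)).2 b)
    have d1 := conj_eq_self c1
    have d2 := conj_eq_self c2
    rw [mul_conj, conj_eq_iff, inv_inv] at d1 d2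
    exact ⟨d2.symm, d1.symm⟩
  -- every other conjugate of `C` lies in `U` or meets it trivially
  have s3 : ∀ n ∈ N[S], C ⊓ cj[n] C = ⊥ → cj[n] C ≤ U ∨ U ⊓ cj[n] C = ⊥ := fun n hn e => by
    by_contra hc
    push Not at hc
    obtain ⟨z, hz, zU⟩ := SetLike.not_le_iff_exists.1 hc.1
    obtain ⟨⟨w, hw⟩, w1⟩ := ne_bot_iff_exists_ne_one.1 hc.2
    have w1 : w ≠ 1 := fun e => w1 (Subtype.ext e)
    have h' := h.conj hn
    obtain ⟨u, hu, c, hc', rfl⟩ := h.dec (h'.CS hz)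
    have uC : u ∉ cj[n] C := fun k => zU (by
      have : c ∈ C ⊓ cj[n] C := ⟨hc', ((cj[n] C).mul_mem_cancel_left k).1 hz⟩
      rw [e, mem_bot] at this
      rwa [this, mul_one])
    have cm : ∀ m ∈ M, ∀ v, m * (v * c) * m⁻¹ = m * v * m⁻¹ * c := fun m hm v => by
      rw [show m * (v * c) * m⁻¹ = m * v * m⁻¹ * (m * c) * m⁻¹ by group,
        mem_cent1.1 (cent_le_cent1 hc' (h.cC hm))]; group
    have z1 : u * c ≠ 1 := fun k => zU (k ▸ one_mem _)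
    have tr : ∀ x ∈ U ⊓ cj[n] C, ∀ y ∈ U ⊓ cj[n] C,
        ∃ m ∈ M ⊓ N[cj[n] C], m * (u * x) * m⁻¹ = u * y := fun x hx y hy => by
      have k : ∀ x ∈ U ⊓ cj[n] C, u * x ≠ 1 := fun x hx k =>
        uC (by rw [eq_inv_of_mul_eq_one_left k]; exact inv_mem hx.2)
      obtain ⟨m, hm, e1⟩ := h.tr _ (mul_mem hu hx.1) _ (mul_mem hu hy.1) (k x hx) (k y hy)
      have k2 : ∀ x ∈ U ⊓ cj[n] C, u * x * c ∈ cj[n] C := fun x hx => by
        rw [mul_assoc, h.ab.comm h.syl (h.US hx.1) (h.CS hc'), ← mul_assoc]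
        exact mul_mem hz hx.2
      refine ⟨m, ⟨hm, conj_eq_self_iff.1 ?_⟩, e1⟩
      rw [← mul_conj]
      refine (TI2 _ (mul_mem (h.nS hm) hn) n hn (u * y * c) (fun k3 => k y hy (h.eq1
        (mul_mem hu hy.1) (by rw [eq_inv_of_mul_eq_one_left k3]; exact inv_mem hc'))) ?_
        (k2 y hy)).1
      rw [mul_conj, ← e1, ← cm m hm]
      exact conj_mem_conj.2 (k2 x hx)
    have nW : M ⊓ N[cj[n] C] ≤ N[U ⊓ cj[n] C] := le_norm_inf (inf_le_left.trans h.nU) inf_le_right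
    have cu : ⁅zpowers u ⊔ (U ⊓ cj[n] C), M ⊓ N[cj[n] C]⁆ ≤ U ⊓ cj[n] C := by
      refine comm_sup_le ((zpowers_le.2 (h.US hu)).trans (nrm (inf_le_left.trans h.US)))
        le_normalizer ?_ (commutator_le_of_le_norm_left nW)
      refine comm_le_of_le_cmod (zpowers_le.2 ⟨nrm (inf_le_left.trans h.US) (h.US hu),
        fun m hm => ⟨?_, ?_⟩⟩)
      · rw [commutatorElement_def, mul_assoc, mul_assoc, ← mul_assoc m]
        exact mul_mem hu (conj_mem_of_le_norm h.nU hm.1 (inv_mem hu))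
      · have a1 := mul_mem hz (inv_mem (conj_mem_of_mem_norm hm.2 hz))
        rw [cm m hm.1] at a1
        rwa [show ⁅u, m⁆ = u * c * (m * u * m⁻¹ * c)⁻¹ by rw [commutatorElement_def]; group]
    have VS : zpowers u ⊔ (U ⊓ cj[n] C) ≤ S :=
      sup_le (zpowers_le.2 (h.US hu)) (inf_le_left.trans h.US)
    have := (cov h.ab h.syl (le_inf le_top (inf_le_left.trans h.nS)) VS
      (le_norm_of_commutator_le cu le_sup_right)).trans (sup_le_sup_right cu _)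
      (le_sup_left (b := U ⊓ cj[n] C) (mem_zpowers u))
    obtain ⟨x, hx, y, hy, e1⟩ := (mem_sup_of_le_norm ((inf_le_left.trans h.US).trans
      (nrm (inf_le_left.trans VS)))).1 this
    have e2 : u * x⁻¹ = y := by
      rw [h.ab.comm h.syl (h.US hu) (h.US (inv_mem hx.1)), e1]; group
    obtain ⟨m, hm, e3⟩ := tr _ (inv_mem hx) _ (mul_mem (inv_mem hx) hw)
    rw [← mul_assoc u, e2, mem_cent1.1 (mem_cent1_comm.1 (cent_le_cent1 hm hy.2)),
      mul_inv_cancel_right] at e3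
    exact w1 (by simpa using e3)
  obtain ⟨t, ht, t2⟩ := exists_inv_of_le h.syl h.CS hC
  have noswap : ∀ n ∈ N[S], ∀ m ∈ M, cj[m] (cj[n] C) = cj[n⁻¹] C → C ⊓ cj[n] C ≠ ⊥ :=
    fun n hn m hm e k => by
      have mC := conj_eq_self (le_norm_of_cent h.cC hm)
      have a1 : m * n ∈ N[C] := odd_mem h.syl ⟨mem_top _, mul_mem (h.nS hm) hn⟩ (nrm h.CS)
        (conj_eq_self_iff.1 (by simp only [mul_conj]; rw [e, conj_inv_conj, mC]))
      have a2 := conj_eq_self a1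
      rw [mul_conj, conj_eq_iff, conj_eq_self (inv_mem (le_norm_of_cent h.cC hm))] at a2
      rw [a2, inf_idem] at k
      exact hC k
  have flip : ∀ n ∈ N[S], C ⊓ cj[n] C = ⊥ → C ⊓ cj[n⁻¹] C = ⊥ := fun n hn e => by
    rw [← conj_eq_bot_iff (g := n), conj_inf, conj_inv_conj, inf_comm, e]
  have surj : ∀ n ∈ N[S], C ⊓ cj[n] C = ⊥ → U ⊓ cj[n] C = ⊥ → ∀ c ∈ C, c ≠ 1 →
      ∃ u ∈ U, u ≠ 1 ∧ u * c ∈ cj[n] C := fun n hn e k c hc c1 => by
    have a1 : U ⊔ cj[n] C = S := eq_of_le_of_card_ge (sup_le h.US (h.conj hn).CS) (by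
      rw [card_sup_of_inf_eq_bot (.inl (h.US.trans (nrm (h.conj hn).CS))) k, card_conj, h.card_S])
    obtain ⟨u, hu, d, hd, e1⟩ := (mem_sup_of_le_norm (h.US.trans (nrm (h.conj hn).CS))).1
      (a1.ge (h.CS hc))
    refine ⟨u⁻¹, inv_mem hu, fun k => c1 ?_, by rw [e1]; simpa using hd⟩
    rw [inv_eq_one.1 k, one_mul] at e1
    exact mem_bot.1 (e ▸ (⟨hc, e1 ▸ hd⟩ : c ∈ C ⊓ cj[n] C))
  have n22 : ∀ n ∈ N[S], C ⊓ cj[n] C = ⊥ → U ⊓ cj[n] C = ⊥ → cj[n⁻¹] C ≤ U := fun n hn e k => by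
    refine (s3 _ (inv_mem hn) (flip n hn e)).resolve_right fun k' => ?_
    obtain ⟨u, hu, u1, a⟩ := surj n hn e k t ht (ne1 t2)
    obtain ⟨v, hv, v1, b⟩ := surj _ (inv_mem hn) (flip n hn e) k' t ht (ne1 t2)
    obtain ⟨m, hm, e1⟩ := h.tr u hu v hv u1 v1
    refine noswap n hn m hm ?_ e
    rw [← mul_conj]
    refine (TI2 _ (mul_mem (h.nS hm) hn) _ (inv_mem hn) (v * t) (fun k3 => v1 (h.eq1 hv (by
      rw [eq_inv_of_mul_eq_one_left k3]; exact inv_mem ht))) ?_ b).1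
    rw [mul_conj, show v * t = m * (u * t) * m⁻¹ by
      rw [← e1, show m * (u * t) * m⁻¹ = m * u * m⁻¹ * (m * t) * m⁻¹ by group,
        mem_cent1.1 (cent_le_cent1 ht (h.cC hm))]; group]
    exact conj_mem_conj.2 a
  have n11 : ∀ n ∈ N[S], C ⊓ cj[n] C = ⊥ → cj[n] C ≤ U → U ⊓ cj[n⁻¹] C = ⊥ := fun n hn e k => by
    refine (s3 _ (inv_mem hn) (flip n hn e)).resolve_left fun k' => ?_
    have t1 := ne1 t2
    obtain ⟨m, hm, e1⟩ := h.tr _ (k (conj_mem_conj.2 ht)) _ (k' (conj_mem_conj.2 ht))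
      (cne t1 _) (cne t1 _)
    refine noswap n hn m hm ?_ e
    rw [← mul_conj]
    refine (TI2 _ (mul_mem (h.nS hm) hn) _ (inv_mem hn) (n⁻¹ * t * n⁻¹⁻¹) (cne t1 _) ?_ (conj_mem_conj.2 ht)).1
    rw [mul_conj, ← e1]
    exact conj_mem_conj.2 (conj_mem_conj.2 ht)
  obtain ⟨n, hn, e, k⟩ : ∃ n ∈ N[S], C ⊓ cj[n] C = ⊥ ∧ U ⊓ cj[n] C = ⊥ := by
    rcases s3 n₀ hn₀ e₀ with a | a
    · exact ⟨_, inv_mem hn₀, flip _ hn₀ e₀, n11 _ hn₀ e₀ a⟩
    · exact ⟨_, hn₀, e₀, a⟩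
  have CU : C ≤ cj[n] U := le_conj_iff.2 (n22 n hn e k)
  have uq : ∀ c ∈ C, c ≠ 1 → c = t := fun c hc c1 => by
    obtain ⟨m, hm, e1⟩ := (h.conj hn).tr t (CU ht) c (CU hc) (ne1 t2) c1
    obtain ⟨a1, a2⟩ := TI m ((h.conj hn).nS hm) c hc c1 (e1 ▸ conj_mem_conj.2 ht)
    obtain ⟨u, hu, -, a⟩ := surj n hn e k t ht (ne1 t2)
    have a3 := mem_cent1.1 (cent_le_cent1 a ((h.conj hn).cC hm))
    have a4 : u⁻¹ * (m * u * m⁻¹) = t * c⁻¹ := by
      rw [← e1]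
      calc u⁻¹ * (m * u * m⁻¹) = u⁻¹ * (m * (u * t)) * m⁻¹ * (m * t * m⁻¹)⁻¹ := by group
        _ = _ := by rw [a3]; group
    have := h.eq1 (mul_mem (inv_mem hu) (conj_mem_of_mem_norm a1 hu))
      (a4 ▸ mul_mem ht (inv_mem hc))
    rw [a4] at this
    exact (mul_inv_eq_one.1 this).symm
  have Ct : C = zpowers t := le_antisymm (fun c hc => by
    by_cases c1 : c = 1
    · exact c1 ▸ one_mem _
    · exact uq c hc c1 ▸ mem_zpowers _) (zpowers_le.2 ht)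
  have cC : Nat.card C = 2 := by rw [Ct, Nat.card_zpowers, t2]
  have tr : ∀ x ∈ S, x ≠ 1 → ∃ n ∈ N[S], n * t * n⁻¹ = x := fun x hx x1 => by
    obtain ⟨u, hu, c, hc, rfl⟩ := h.dec hx
    by_cases c1 : c = 1
    · rw [c1, mul_one] at x1 ⊢
      obtain ⟨m, hm, e1⟩ := h.tr _ (n22 n hn e k (conj_mem_conj.2 ht)) u hu
        (cne (ne1 t2) _) x1
      exact ⟨m * n⁻¹, mul_mem (h.nS hm) (inv_mem hn), by rw [← e1]; group⟩
    obtain rfl := uq c hc c1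
    by_cases u1 : u = 1
    · exact ⟨1, one_mem _, by rw [u1]; group⟩
    obtain ⟨v, hv, v1, a⟩ := surj n hn e k c hc c1
    obtain ⟨d, hd, e1⟩ := mem_conj_iff_exists.1 a
    obtain rfl := uq d hd fun k => v1 (h.eq1 hv (by
      rw [k, mul_one, mul_inv_cancel] at e1
      rw [eq_inv_of_mul_eq_one_left e1.symm]; exact inv_mem hc))
    obtain ⟨m, hm, e2⟩ := h.tr v hv u hu v1 u1
    refine ⟨m * n, mul_mem (h.nS hm) hn, ?_⟩
    rw [show m * n * d * (m * n)⁻¹ = m * (n * d * n⁻¹) * m⁻¹ by group, e1, ← e2,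
      show m * (v * d) * m⁻¹ = m * v * m⁻¹ * (m * d) * m⁻¹ by group,
      mem_cent1.1 (cent_le_cent1 hc (h.cC hm))]
    group
  -- the tournament
  have key : ∀ a ∈ N[S], ∀ b ∈ N[S], b * t * b⁻¹ ∈ cj[a] U → a * t * a⁻¹ ∉ cj[b] U :=
    fun a ha b hb k1 k2 => by
      have hn' := mul_mem (inv_mem ha) hb
      have c1 : cj[a⁻¹ * b] C ≤ U := by
        rw [Ct, conj_zpowers, zpowers_le]
        simpa [mul_assoc] using mem_conj.1 k1
      have c2 : cj[(a⁻¹ * b)⁻¹] C ≤ U := by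
        rw [Ct, conj_zpowers, zpowers_le]
        simpa [mul_assoc] using mem_conj.1 k2
      have c3 := n11 _ hn' (eq_bot_iff.2 (h.inf ▸ le_inf (inf_le_right.trans c1) inf_le_left)) c1
      rw [inf_eq_right.2 c2, conj_eq_bot_iff] at c3
      exact hC c3
  have idx : ∀ n ∈ N[S], (cj[n] U).relIndex S = 2 := fun n hn => by
    have a := card_mul_relIndex (h.conj hn).US
    rw [card_conj, h.card_S, cC] at a
    exact Nat.eq_of_mul_eq_mul_left (card_pos' U) a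
  obtain ⟨u, hu, w, hw, u1, w1, uw⟩ := h.two
  have uw1 : u * w ≠ 1 := fun k => uw (by
    rw [eq_inv_of_mul_eq_one_left k, inv_eq_of_mul_eq_one_right (h.sq w hw)])
  obtain ⟨a, ha, ea⟩ := tr u (h.US hu) u1
  obtain ⟨b, hb, eb⟩ := tr w (h.US hw) w1
  obtain ⟨c, hc, ec⟩ := tr _ (h.US (mul_mem hu hw)) uw1
  have I : cj[a] U ⊓ cj[b] U ⊓ cj[c] U = ⊥ := by
    by_contra k
    obtain ⟨⟨x, ⟨xa, xb⟩, xc⟩, x1⟩ := ne_bot_iff_exists_ne_one.1 k
    obtain ⟨d, hd, rfl⟩ := tr x ((h.conj ha).US xa) fun e => x1 (Subtype.ext e)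
    have a1 := key a ha d hd xa
    have a2 := key b hb d hd xb
    have a3 := key c hc d hd xc
    rw [ea] at a1
    rw [eb] at a2
    rw [ec] at a3
    have := (Subgroup.mul_mem_iff_of_index_two (H := (cj[d] U).subgroupOf S) (idx d hd)
      (a := ⟨u, h.US hu⟩) (b := ⟨w, h.US hw⟩)).2 (iff_of_false a1 a2)
    exact a3 this
  have c8 : Nat.card S ≤ 8 := by
    have a1 := relIndex_inf_le (H := cj[a] U ⊓ cj[b] U) (K := cj[c] U) (L := S)
    have a2 := relIndex_inf_le (H := cj[a] U) (K := cj[b] U) (L := S)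
    rw [I, relIndex_bot_left, idx c hc] at a1
    rw [idx a ha, idx b hb] at a2
    omega
  have := h.four_le
  have := h.card_S
  rw [cC] at this
  exact ⟨t, t2, Ct, sq, tr, by omega, by omega⟩

end Fam

end Cfsg.Agent.WA
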