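import Cfsg.Agent.WA.A2
import Cfsg.Agent.WA.B1A

/-! 2-components of proper subgroups containing a Sylow 2-subgroup. -/

set_option autoImplicit false
set_option linter.unusedSectionVars false
set_option linter.unusedVariables false

namespace Cfsg.Agent.WA

open Cfsg Subgroup Cfsg.Agent.GT Cfsg.Agent.Cls Cfsg.Agent.GW Cfsg.Agent.Sig
open Cfsg.Agent.TT (SN QS Cmp layerOf fstarOf)
open scoped commutatorElement

universe u

variable {G : Type u} [Group G] [Finite G] {S H J K K' K0 L A D O N X Y P : Subgroup G}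
  {a b c g n x y z t : G} {π : Set ℕ}

theorem sn_core (h : SN K H) (hK : IsPiSubgroup π K) : K ≤ piCoreOf π H := by
  induction h with
  | refl => exact le_piCoreOf le_rfl le_normalizer hK
  | tail _ h ih => exact ih.trans (le_piCoreOf ((piCoreOf_le _ _).trans h.1)
      (h.2.trans (norm_le_norm_piCoreOf _ _)) (piCoreOf_isPi _ _))

theorem sc_of_qs (ab : AB G) (h : QS K) : Sc (K ⊓ C[K]) K :=
  ⟨inf_le_left, le_norm_inf le_normalizer (le_norm_cent le_normalizer), ab.zodd h, h.not_solvable,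
    fun N a b c => (h.max N b c).imp (fun e => le_antisymm (le_inf b e) a) id⟩

theorem cmod_qs (h : QS K) : cmod (K ⊓ C[K]) K ≤ C[K] :=
  qs_cent h ((commutator_comm _ _).le.trans ((comm_le_of_le_cmod le_rfl).trans inf_le_right))

theorem Sc.inv (h : Sc O K) (hS : IsPiHallOf {2} S ⊤) (nK : S ≤ N[K]) :
    ∃ u ∈ S ⊓ K, orderOf u = 2 :=
  exists_inv_of_le (Sc.syl hS nK) le_rfl ((syl_ne_bot_iff Nat.prime_two (Sc.syl hS nK)).2
    (even_iff_two_dvd.1 (Nat.not_odd_iff_even.1 fun o => h.ns (solv_odd o))))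

theorem Sc.le_of (h : Sc O K) (h0 : K0 ≤ K) (cv : K ≤ O ⊔ K0) (hY : K0 ≤ N[Y]) (h1 : x ∈ K0)
    (h2 : x ∈ Y) (x2 : orderOf x = 2) : K ≤ (K0 ⊓ Y) ⊔ O :=
  h.le_sup (inf_le_left.trans h0) (cv.trans (sup_le (le_norm_self le_sup_right)
    (le_norm_sup (le_norm_inf le_normalizer hY) (h0.trans h.nO)))) ⟨h1, h2⟩ x2

theorem Sc.odd_le (h : Sc O K) (h0 : K0 ≤ K) (cv : K ≤ O ⊔ K0) (hY : K0 ≤ N[Y])
    (o : Odd (Nat.card Y)) : K0 ⊓ Y ≤ O := by
  refine le_sup_left.trans ((h.sim (K0 ⊓ Y ⊔ O) le_sup_right (sup_le (inf_le_left.trans h0) h.le)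
    (cv.trans (sup_le (le_norm_self le_sup_right) (le_norm_sup (le_norm_inf le_normalizer hY)
      (h0.trans h.nO))))).resolve_right fun e => h.ns ?_).le
  rw [← e, sup_comm]
  exact solv_sup (solv_odd h.odd) (solv_odd (odd_card_of_le o inf_le_right))
    (inf_le_left.trans (h0.trans h.nO))

/-- the common normalizer of a family. -/
def NA (p : Subgroup G → Prop) : Subgroup G := ⨅ (K : Subgroup G) (_ : p K), N[K]

theorem le_NA {p : Subgroup G → Prop} : A ≤ NA p ↔ ∀ K, p K → A ≤ N[K] := by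
  simp only [NA, le_iInf_iff]

theorem norm_NA {p : Subgroup G → Prop} (h : ∀ x ∈ X, ∀ K, p K → p (cj[x] K)) : X ≤ N[NA p] :=
  le_norm_iff.2 fun x hx y hy => zpowers_le.1 (le_NA.2 fun K hK => zpowers_le.2 (by
    have := le_NA.1 le_rfl _ (h _ (inv_mem hx) K hK) hy
    rwa [← conj_normalizer, mem_conj, inv_inv] at this))

/-- 2-components. -/
structure TC (X K : Subgroup G) : Prop where
  sc : Sc O[X] K
  sn : SN K X

section
variable {Q : Type u} [Group Q] [Finite Q] {f : X →* Q}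

theorem sn_im {f : D →* Q} (h : SN K H) : SN (im f K) (im f H) := by
  induction h with
  | refl => exact SN.refl _
  | tail _ h ih => exact ih.trans (SN.of_norm (im_mono h.1) (im_norm h.2))

theorem sn_pre {f : D →* Q} {K H : Subgroup Q} (h : SN K H) : SN (pre f K) (pre f H) := by
  induction h with
  | refl => exact SN.refl _
  | tail _ h ih => exact ih.trans (SN.of_norm (pre_mono h.1) (pre_norm h.2))

/-- `X / O(X)`. -/
structure QX (X : Subgroup G) (f : X →* Q) : Prop where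
  surj : Function.Surjective f
  ker : kr f = O[X]

theorem QX.top (q : QX X f) : im f X = ⊤ := im_dom_of_surj q.surj

theorem QX.bot (q : QX X f) : O[(⊤ : Subgroup Q)] = ⊥ := q.top ▸ piCoreOf_im_eq_bot le_rfl q.ker

theorem QX.cm (q : QX X f) (hA : A ≤ X) (hK : K ≤ X) : A ≤ cmod O[X] K ↔ im f A ≤ C[im f K] := by
  rw [im_le_cent_iff hA hK, q.ker]
  exact ⟨comm_le_of_le_cmod, le_cmod (hA.trans (O_norm X))⟩

theorem TC.pre_im (h : TC X K) (q : QX X f) : pre f (im f K) = K :=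
  pre_im_of_le h.sn.le (q.ker ▸ h.sc.le)

theorem TC.cmp (h : TC X K) (q : QX X f) : Cmp (im f K) ⊤ := by
  have hK := h.sn.le
  refine ⟨⟨?_, fun e => h.sc.ns (solv_of_le (O_solv X) (q.ker ▸ (im_eq_bot_iff hK).1 e)),
    fun N a b => ?_⟩, q.top ▸ sn_im h.sn⟩
  · have d : ⁅K, K⁆ ≤ K := commutator_le_of_le_norm_left le_normalizer
    have := (h.sc.sim (⁅K, K⁆ ⊔ O[X]) le_sup_right (sup_le d h.sc.le) (le_norm_sup
      (le_norm_commutator le_normalizer le_normalizer) h.sc.nO)).resolve_left fun e =>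
        h.sc.ns (solv_of_der (solv_of_le (O_solv X) (le_sup_left.trans e.le)))
    rw [← im_commutator hK hK, ← im_sup_kr (d.trans hK), q.ker, this]
  · refine (h.sc.sim (pre f N) (q.ker ▸ kr_le_pre) (pre_le_of_le_im hK (q.ker ▸ h.sc.le) a)
      (le_norm_pre hK b)).imp (fun e => ?_) fun e => by rw [← e, im_pre_of_surj q.surj]
    rw [← im_pre_of_surj q.surj (X := N), e, ← q.ker, im_kr]
    exact bot_le

theorem QX.tc (q : QX X f) (ab : AB Q) {K : Subgroup Q} (h : Cmp K ⊤) : TC X (pre f K) := by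
  have hZ : K ⊓ C[K] = ⊥ := eq_bot_iff.2 (q.bot ▸ sn_core ((SN.of_norm inf_le_left (le_norm_inf
    le_normalizer (le_norm_cent le_normalizer))).trans h.sn) (odd_iff_pi.2 (ab.zodd h.toQS)))
  refine ⟨⟨q.ker ▸ kr_le_pre, pre_le.trans (O_norm X), O_odd X, fun e => h.not_solvable
    (im_pre_of_surj q.surj (X := K) ▸ solvable_im e), fun N a b c => ?_⟩,
    by simpa only [pre_top] using sn_pre (f := f) h.sn⟩
  have b' : im f N ≤ K := im_le_of_le_pre b
  refine (h.max (im f N) b' (im_pre_of_surj q.surj (X := K) ▸ im_norm c)).imp (fun e => ?_)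
    fun e => by rw [← e, pre_im_of_le (b.trans pre_le) (q.ker ▸ a)]
  exact le_antisymm (q.ker ▸ (im_eq_bot_iff (b.trans pre_le)).1 (eq_bot_iff.2 (hZ ▸ le_inf b' e))) a

end

theorem exists_qx (X : Subgroup G) :
    ∃ (Q : Type u) (_ : Group Q) (_ : Finite Q) (f : X →* Q), QX X f := by
  obtain ⟨Q, _, _, f, h1, h2⟩ := exists_quo' X O[X] (O_le X) (O_norm X)
  exact ⟨Q, _, ‹_›, f, h1, h2⟩

theorem cmp_nD (ab : AB G) (hS : IsPiHallOf {2} S ⊤) (SX : S ≤ X) (h : Cmp J X)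
    (oD : Odd (Nat.card D)) (DX : D ≤ X) (nD : S ≤ N[D]) : D ≤ N[J] := by
  obtain ⟨u, hu, u2⟩ := (sc_of_qs ab h.toQS).inv hS
    (ab.normS h (syl_isPGroup Nat.prime_two hS) (le_norm_self SX))
  exact ab.normW h oD (le_norm_self DX) hu.2 u2 (nD hu.1)

namespace TC

theorem le (h : TC X K) : K ≤ X := h.sn.le

theorem ne_top (h : TC X K) (hX : X ≠ ⊤) : K ≠ ⊤ := fun e => hX (eq_top_iff.2 (e ▸ h.le))

theorem nS (ab : AB G) (h : TC X K) (hP : IsPGroup 2 P) (PX : P ≤ X) : P ≤ N[K] := by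
  obtain ⟨Q, _, _, f, q⟩ := exists_qx X
  exact h.pre_im q ▸ le_norm_pre PX ((ab.of_surj q.surj).normS (h.cmp q) (isPGroup_im hP)
    (le_top.trans norm_top.ge))

theorem eq_or (h : TC X K) (h' : TC X K') : K = K' ∨ K ≤ cmod O[X] K' := by
  obtain ⟨Q, _, _, f, q⟩ := exists_qx X
  exact ((h.cmp q).eq_or_cent (h'.cmp q)).imp (fun e => by rw [← h.pre_im q, e, h'.pre_im q])
    (q.cm h.le h'.le).2

theorem conj (h : TC X K) (g : G) : TC (cj[g] X) (cj[g] K) :=
  ⟨conj_piCoreOf (H := X) g ▸ h.sc.conj g, h.sn.map _⟩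

theorem conj' (h : TC X K) (hg : g ∈ X) : TC X (cj[g] K) := by
  have := h.conj g
  rwa [conj_eq_self_of_mem hg] at this

theorem nD (ab : AB G) (hS : IsPiHallOf {2} S ⊤) (SX : S ≤ X) (h : TC X K) (oD : Odd (Nat.card D))
    (DX : D ≤ X) (nD : S ≤ N[D]) : D ≤ N[K] := by
  obtain ⟨Q, _, _, f, q⟩ := exists_qx X
  exact h.pre_im q ▸ le_norm_pre DX (cmp_nD (ab.of_surj q.surj)
    (q.top ▸ (hS.of_le SX le_top).im le_rfl) le_top (h.cmp q) (odd_im oD) le_top (im_norm nD))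

theorem of_cmp (ab : AB G) (h : Cmp J X) : TC X (J ⊔ O[X]) := by
  obtain ⟨Q, _, _, f, q⟩ := exists_qx X
  have := q.tc (ab.of_surj q.surj) (K := im f J) ⟨(by
    have h1 : QS (J.subgroupOf X) := QS.of_map X.subtype_injective (by
      rw [map_subgroupOf_eq_of_le h.le]; exact h.toQS)
    exact h1.map f fun e => h.not_le_of_solvable (O_solv X) (q.ker ▸ (im_eq_bot_iff h.le).1 e)),
    q.top ▸ sn_im h.sn⟩
  rwa [GT.pre_im h.le, q.ker] at this

end TC

theorem fst_aux {Q : Type u} [Group Q] [Finite Q] {f : X →* Q} (q : QX X f) (ab : AB G) (hA : A ≤ X)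
    (h1 : im f A ≤ C[piCoreOf {2} (⊤ : Subgroup Q)]) (h2 : ∀ K, TC X K → A ≤ cmod O[X] K) :
    im f A ≤ piCoreOf {2} (⊤ : Subgroup Q) := by
  have e := fittingOf_le_piCoreOf (π := {2}) q.bot
  refine le_trans (le_inf le_top ?_) ((TT.inf_cent_fstarOf_le ⊤).trans e)
  rw [fstarOf, cent_sup]
  refine le_inf (le_cent_symm (TT.layerOf_le_of_forall fun K hK => le_cent_symm ?_))
    (h1.trans (cent_anti e))
  exact im_pre_of_surj q.surj (X := K) ▸ (q.cm hA pre_le).1 (h2 _ (q.tc (ab.of_surj q.surj) hK))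

theorem le_O' (ab : AB G) (hS : IsPiHallOf {2} S ⊤) (SX : S ≤ X) (oD : Odd (Nat.card D))
    (DX : D ≤ X) (nD : S ≤ N[D]) (h : ∀ K, TC X K → D ≤ cmod O[X] K) : D ≤ O[X] := by
  obtain ⟨Q, _, _, f, q⟩ := exists_qx X
  have s : IsPiHallOf {2} (im f S) ⊤ := q.top ▸ (hS.of_le SX le_top).im le_rfl
  have c := cop2' (odd_im (f := f) oD) (piCoreOf_isPGroup Nat.prime_two (⊤ : Subgroup Q))
  rw [← q.ker, ← im_eq_bot_iff DX]
  exact eq_bot_of_le_of_coprime le_rfl (fst_aux q ab DX (le_cent_of_norm_of_coprime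
    (le_top.trans (self_le_norm_piCoreOf _ _)) ((piCoreOf_le_hall s).trans (im_norm nD)) c) h) c

theorem le_T (ab : AB G) (hS : IsPiHallOf {2} S ⊤) (SX : S ≤ X) (hA : A ≤ S)
    (h : ∀ K, TC X K → A ≤ cmod O[X] K) : A ≤ piCore2Of {2}ᶜ {2} X := by
  obtain ⟨Q, _, _, f, q⟩ := exists_qx X
  have s : IsPiHallOf {2} (im f S) ⊤ := q.top ▸ (hS.of_le SX le_top).im le_rfl
  rw [← pre_piCoreOf_of_kr_eq (f := f) le_rfl q.ker, q.top, ← im_le_iff (hA.trans SX)]
  exact fst_aux q ab (hA.trans SX) ((im_mono hA).trans ((ab.of_surj q.surj).cent s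
    (piCoreOf_le_hall s))) h

theorem T_le (hS : IsPiHallOf {2} S ⊤) (SX : S ≤ X) : piCore2Of {2}ᶜ {2} X ≤ O[X] ⊔ S :=
  (piCoreOf_sup_eq_piCore2Of (hall_inf_piCore2Of (hS.of_le SX le_top))).ge.trans
    (sup_le_sup_left inf_le_left _)

theorem T_solv (hS : IsPiHallOf {2} S ⊤) (SX : S ≤ X) :
    Group.IsSolvable (piCore2Of {2}ᶜ {2} X) :=
  solv_of_le (solv_sup (O_solv X) (solvable_of_isPGroup Nat.prime_two
    (syl_isPGroup Nat.prime_two hS)) (SX.trans (O_norm X))) (T_le hS SX)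

theorem gen_tc (k : KR G) (hS : IsPiHallOf {2} S ⊤) (SX : S ≤ X) (hX : X ≠ ⊤) (h1 : O[X] ≤ H)
    (h2 : X ⊓ N[S] ≤ H) (h3 : ∀ K, TC X K → K ≤ H) : X ≤ H := by
  have pS := syl_isPGroup Nat.prime_two hS
  set E := sSup {K | TC X K} with hE
  have key : ∀ T : Set (Subgroup G), T.Finite → (∀ K ∈ T, TC X K) → ∀ s ∈ S, ∃ y ∈ E, ∃ c ∈ S,
      (∀ K ∈ T, c ∈ cmod O[X] K) ∧ s = y * c := fun T hT => by
    induction T, hT using Set.Finite.induction_on with
    | empty => exact fun _ s hs => ⟨1, one_mem _, s, hs, fun _ h => h.elim, (one_mul s).symm⟩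
    | @insert K T hK _ ih =>
      intro hT s hs
      have tK := hT K (Set.mem_insert _ _)
      obtain ⟨y, hy, c, hc, e, rfl⟩ := ih (fun K hK => hT K (Set.mem_insert_of_mem _ hK)) s hs
      obtain ⟨u, hu, d, hd, rfl⟩ := (tK.sc.fam k hS (tK.ne_top hX) (tK.nS k.ab pS SX)
        (SX.trans (O_norm X))).dec hc
      refine ⟨y * u, mul_mem hy (le_sSup (s := {K | TC X K}) tK hu.2), d, hd.1, fun K' hK' => ?_,
        (mul_assoc _ _ _).symm⟩
      rcases hK' with rfl | hK'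
      · exact hd.2
      · exact (Subgroup.mul_mem_cancel_left _ (((tK.eq_or (hT K' (Set.mem_insert_of_mem _
          hK'))).resolve_left fun e => hK (e ▸ hK')) hu.2)).1 (e K' hK')
  have h4 : S ≤ E ⊔ piCore2Of {2}ᶜ {2} X := fun s hs => by
    obtain ⟨y, hy, c, hc, e, rfl⟩ := key {K | TC X K} (Set.toFinite _) (fun _ h => h) s hs
    exact mul_mem_sup hy (le_T k.ab hS SX (zpowers_le.2 hc) (fun K hK => zpowers_le.2 (e K hK))
      (mem_zpowers c))
  have h5 : E ⊔ piCore2Of {2}ᶜ {2} X ≤ X := sup_le (sSup_le fun K hK => hK.le) (piCore2Of_le _ _ _)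
  rw [← frattini_arg Nat.prime_two (hS.of_le h4 le_top) h5 (le_norm_sup
    (le_norm_sSup_of_conj_mem fun a ha K hK => hK.conj' ha) (self_le_norm_piCore2Of _ _ _))]
  exact sup_le (sup_le (sSup_le h3) ((T_le hS SX).trans (sup_le h1
    ((le_inf SX le_normalizer).trans h2)))) h2

end Cfsg.Agent.WA
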