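import Cfsg.Agent.WA.A3

/-! 2-components of involution centralizers: pump-ups, terminal families, genuine components. -/

set_option autoImplicit false
set_option linter.unusedSectionVars false
set_option linter.unusedVariables false

namespace Cfsg.Agent.WA

open Cfsg Subgroup Cfsg.Agent.GT Cfsg.Agent.Cls Cfsg.Agent.GW Cfsg.Agent.Sig
open Cfsg.Agent.TT (SN QS Cmp layerOf fstarOf)
open scoped commutatorElement

universe u

variable {G : Type u} [Group G] [Finite G] {S H J J' K K' K0 L A D O N U C U' C' X Y P : Subgroup G}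
  {a b c d e g n x y z t : G} {π : Set ℕ}

/-- Standing data of part B2. -/
structure Bs (S : Subgroup G) : Prop where
  k : KR G
  syl : IsPiHallOf {2} S ⊤
  nc : ¬ IsMulCommutative G
  t26 : T26 (⊤ : Subgroup G)
  rk : Rk3 G
  nse : ∀ H : Subgroup G, ¬ SE H

/-- `K` is a 2-component of `C(b)`, `b` an involution of `S`. -/
structure Fm (S : Subgroup G) (b : G) (K : Subgroup G) : Prop where
  mem : b ∈ S
  ord : orderOf b = 2
  tc : TC C1[b] K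

/-- elements acting trivially on `K / O(C(b))`. -/
abbrev Cf (b : G) (K : Subgroup G) : Subgroup G := cmod O[C1[b]] K

/-- terminal families. -/
def Term (S U C : Subgroup G) : Prop :=
  ∀ c ∈ C, orderOf c = 2 → ∃ K, Fm S c K ∧ S ⊓ K = U ∧ S ⊓ Cf c K = C

theorem Fm.conj (h : Fm S b K) (hn : n ∈ N[S]) : Fm S (n * b * n⁻¹) (cj[n] K) :=
  ⟨conj_mem_of_mem_norm hn h.mem, ord2_conj h.ord n, conj_cent1 n b ▸ h.tc.conj n⟩

theorem conj_Cf (g : G) : cj[g] (Cf b K) = Cf (g * b * g⁻¹) (cj[g] K) := by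
  rw [conj_cmod, conj_piCoreOf, conj_cent1]

theorem Fm.self (h : Fm S b K) : b ∈ Cf b K :=
  cent_le_cmod (zp_norm (O_norm _ (self_mem_cent1 b))) (zpowers_le.2 (mem_cent_iff.2 h.tc.le))
    (mem_zpowers b)

theorem Fm.O_le (h : Fm S b K) : O[C1[b]] ≤ Cf b K := h.tc.sc.O_le

namespace Bs

variable [IsSimpleGroup G] (B : Bs S)
include B

theorem ab : AB G := B.k.ab
theorem pg : IsPGroup 2 S := syl_isPGroup Nat.prime_two B.syl
theorem c1 (h : b ∈ S) : S ≤ C1[b] := B.ab.c1 B.syl h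
theorem nW (h : b ∈ S) : S ≤ N[O[C1[b]]] := (B.c1 h).trans (O_norm _)
theorem nC (h : b ∈ S) : S ≤ N[C1[b]] := le_norm_self (B.c1 h)
theorem ne (h : orderOf b = 2) : C1[b] ≠ ⊤ := c1_ne_top B.nc (ne1 h)
theorem kne (h : Fm S b K) : K ≠ ⊤ := h.tc.ne_top (B.ne h.ord)
theorem nK (h : Fm S b K) : S ≤ N[K] := h.tc.nS B.ab B.pg (B.c1 h.mem)
theorem nCf (h : Fm S b K) : S ≤ N[Cf b K] := norm_cmod (B.nW h.mem) (B.nK h)

theorem nD (h : Fm S b K) (o : Odd (Nat.card D)) (h1 : D ≤ C1[b]) (h2 : S ≤ N[D]) : D ≤ N[K] :=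
  h.tc.nD B.ab B.syl (B.c1 h.mem) o h1 h2

theorem fam (h : Fm S b K) : Fam S (S ⊓ K) (S ⊓ Cf b K) (K ⊓ N[S]) :=
  h.tc.sc.fam B.k B.syl (B.kne h) (B.nK h) (B.nW h.mem)

theorem cv (h : Fm S b K) (hc : c ∈ S) (c2 : orderOf c = 2) (cc : c ∈ Cf b K) :
    K ≤ O[C1[b]] ⊔ (K ⊓ C1[c]) := h.tc.sc.cov1 c2 (B.nK h hc) cc

theorem c4 (h : Fm S b K) (ha : a ∈ S) (a2 : orderOf a = 2)
    (h5 : a ∈ Cf b K ∨ Nat.card ↥(S ⊓ K) ≠ 4) : O[C1[a]] ⊓ C1[b] ≤ Cf b K :=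
  have o := odd_card_of_le (O_odd C1[a]) (inf_le_left (b := C1[b]))
  h.tc.sc.c4 B.k B.syl (B.kne h) (B.nK h) (B.nW h.mem) ha a2 o (inf_le_left.trans (O_le _))
    (B.nD h o inf_le_right (le_norm_inf (B.nW ha) (B.nC h.mem))) (inf_le_right.trans (O_norm _))
    (le_norm_inf (inf_le_right.trans (O_norm _)) (le_norm_self (inf_le_left.trans h.tc.le))) h5

theorem se (hH : H ≠ ⊤) (h1 : N[S] ≤ H) (h2 : ∀ b ∈ S, orderOf b = 2 → C1[b] ≤ H) : False := by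
  have s := B.syl.of_le (le_normalizer.trans h1) le_top
  obtain ⟨a, -, -, a2, -⟩ := B.rk
  obtain ⟨g, -, hg⟩ := conj_into B.syl (sq1 a2) (mem_top a)
  refine B.nse H ⟨hH, ⟨_, s.le hg, ord2_conj a2 g⟩, fun z hz z2 => ?_, fun T hT TH => ?_⟩
  · obtain ⟨g, gH, hg⟩ := conj_into s (sq1 z2) hz
    have := h2 _ hg (ord2_conj z2 g)
    rwa [← conj_cent1, conj_le_iff, conj_eq_self_of_mem (inv_mem gH)] at this
  · obtain ⟨g, gH, rfl⟩ := syl_exists_conj Nat.prime_two s (hT.of_le TH le_top)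
    rw [← conj_normalizer]
    exact conj_le_of_mem gH h1

theorem k0 (h : Fm S b K) (hc : c ∈ S) (c2 : orderOf c = 2) (cc : c ∈ Cf b K)
    (h1 : C1[c] ≤ N[Y]) (h2 : S ≤ Y) (h3 : O[C1[b]] ⊓ C1[c] ≤ Y) : K ⊓ C1[c] ≤ Y := by
  obtain ⟨u, hu, u2⟩ := h.tc.sc.inv B.syl (B.nK h)
  have := h.tc.sc.le_of inf_le_left (B.cv h hc c2 cc) (inf_le_right.trans h1)
    ⟨hu.2, B.c1 hc hu.1⟩ (h2 hu.1) u2
  refine (le_inf (inf_le_left.trans this) inf_le_right).trans ?_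
  rw [dedekind (.inl ((inf_le_left.trans inf_le_left).trans h.tc.sc.nO))
    (inf_le_left.trans inf_le_right)]
  exact sup_le inf_le_right h3

theorem k0T (h : Fm S b K) (h' : Fm S c K') (cc : c ∈ Cf b K) : K ⊓ C1[c] ≤ N[K'] :=
  le_NA.1 (B.k0 h h'.mem h'.ord cc (Y := NA (TC C1[c])) (norm_NA fun x hx K hK => hK.conj' hx)
    (le_NA.2 fun K hK => B.nK ⟨h'.mem, h'.ord, hK⟩) (le_NA.2 fun K hK => B.nD ⟨h'.mem, h'.ord, hK⟩
      (odd_card_of_le (O_odd _) inf_le_left) inf_le_right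
      (le_norm_inf (B.nW h.mem) (B.nC h'.mem)))) _ h'.tc

theorem k0C (h : Fm S b K) (hc : c ∈ S) (c2 : orderOf c = 2) (cc : c ∈ Cf b K)
    (hJ : Cmp J C1[c]) : K ⊓ C1[c] ≤ N[J] :=
  le_NA.1 (B.k0 h hc c2 cc (Y := NA (Cmp · C1[c])) (norm_NA fun x hx K hK => hK.conj
    (le_normalizer hx)) (le_NA.2 fun K hK => B.ab.normS hK B.pg (B.nC hc))
    (le_NA.2 fun K hK => cmp_nD B.ab B.syl (B.c1 hc) hK (odd_card_of_le (O_odd _) inf_le_left)
      inf_le_right (le_norm_inf (B.nW h.mem) (B.nC hc)))) _ hJ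

theorem nJ (h : Fm S b K) (hc : c ∈ S) (c2 : orderOf c = 2) (cc : c ∈ Cf b K)
    (hJ : Cmp J C1[c]) (hW : O[C1[b]] ≤ N[J]) : K ≤ N[J] :=
  (B.cv h hc c2 cc).trans (sup_le hW (B.k0C h hc c2 cc hJ))

theorem pump (h : Fm S b K) (hc : c ∈ S) (c2 : orderOf c = 2) (cc : c ∈ Cf b K) :
    ∃ K', Fm S c K' ∧ S ⊓ K ≤ S ⊓ K' ∧ S ⊓ Cf c K' ≤ S ⊓ Cf b K ∧
      ∀ Y, Y ≤ C1[b] → Y ≤ C1[c] → Y ≤ N[K] → Y ≤ Cf c K' → Y ≤ Cf b K := by
  have F := B.fam h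
  have cv := B.cv h hc c2 cc
  obtain ⟨u, hu, u2⟩ := h.tc.sc.inv B.syl (B.nK h)
  have hu0 : u ∈ K ⊓ C1[c] := ⟨hu.2, B.c1 hc hu.1⟩
  have M0 : K ⊓ N[S] ≤ K ⊓ C1[c] := le_inf inf_le_left (F.cC.trans (cent_le_cent1 ⟨hc, cc⟩))
  obtain ⟨K', t, e⟩ : ∃ K', TC C1[c] K' ∧ ¬ S ⊓ K ≤ Cf c K' := by
    by_contra hn
    push Not at hn
    have := h.tc.sc.le_of inf_le_left cv (inf_le_right.trans (self_le_norm_piCore2Of {2}ᶜ {2} _))
      hu0 (le_T B.ab B.syl (B.c1 hc) inf_le_left hn hu) u2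
    rw [sup_comm] at this
    exact h.tc.sc.ns (solv_of_le (solv_sup (O_solv _) (solv_of_le (T_solv B.syl (B.c1 hc))
      inf_le_right) ((inf_le_left.trans inf_le_left).trans h.tc.sc.nO)) this)
  have h' : Fm S c K' := ⟨hc, c2, t⟩
  have F' := B.fam h'
  have n0 := B.k0T h h' cc
  obtain ⟨a1, a2⟩ := (F.split F'.US F'.CS F'.inf F'.sup (le_norm_inf inf_le_right (M0.trans n0))
    (le_norm_inf inf_le_right (norm_cmod (M0.trans (inf_le_right.trans (O_norm _)))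
      (M0.trans n0)))).resolve_right fun h => e (h.1.trans inf_le_right)
  refine ⟨K', h', a1, a2, fun Y y1 y2 y3 y4 => le_cmod (y1.trans (O_norm _)) ?_⟩
  refine (commutator_mono le_rfl (h.tc.sc.le_of inf_le_left cv n0 hu0 (a1 hu).2 u2)).trans ?_
  rw [commutator_comm]
  refine comm_sup_le ((inf_le_left.trans inf_le_left).trans h.tc.sc.nO) le_normalizer ?_
    (commutator_le_of_le_norm_left (y1.trans (O_norm _)))
  refine le_trans (le_inf ?_ ?_) (h.tc.sc.odd_le inf_le_left cv (inf_le_right.trans (O_norm _))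
    (O_odd _))
  · exact (commutator_mono inf_le_left le_rfl).trans (commutator_le_of_le_norm_left
      (le_norm_inf y3 (le_norm_self y2)))
  · exact (commutator_comm _ _).le.trans ((commutator_mono le_rfl inf_le_right).trans
      (comm_le_of_le_cmod y4))

theorem eq_C (h : Fm S b K) (h' : Fm S c K') (h1 : S ⊓ K = S ⊓ K')
    (h2 : S ⊓ Cf c K' ≤ S ⊓ Cf b K) : S ⊓ Cf c K' = S ⊓ Cf b K :=
  ((B.fam h').eq_of_le h2 inf_le_left (h1 ▸ (B.fam h).inf)).symm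

theorem term_max (h : Fm S b K)
    (hm : ∀ b' K', Fm S b' K' → Nat.card ↥(S ⊓ K') ≤ Nat.card ↥(S ⊓ K)) :
    Term S (S ⊓ K) (S ⊓ Cf b K) := fun c hc c2 => by
  obtain ⟨K', h', a1, a2, -⟩ := B.pump h hc.1 c2 hc.2
  have := eq_of_le_of_card_ge a1 (hm _ _ h')
  exact ⟨K', h', this.symm, B.eq_C h h' this a2⟩

theorem card4 (h : Fm S b K) (h' : Fm S c K') (h1 : S ⊓ K ≤ S ⊓ K')
    (h4 : Nat.card ↥(S ⊓ K') = 4) : S ⊓ K = S ⊓ K' :=
  eq_of_le_of_card_ge h1 (h4 ▸ (B.fam h).four_le)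

theorem term_unb (h : Fm S b K) (ha : a ∈ S) (a2 : orderOf a = 2)
    (hu : ¬ O[C1[a]] ⊓ C1[b] ≤ Cf b K) : Term S (S ⊓ K) (S ⊓ Cf b K) := fun c hc c2 => by
  obtain ⟨K', h', a1, a2', a3⟩ := B.pump h hc.1 c2 hc.2
  by_cases h4 : Nat.card ↥(S ⊓ K') = 4
  · have := B.card4 h h' a1 h4
    exact ⟨K', h', this.symm, B.eq_C h h' this a2'⟩
  exfalso
  have o := odd_card_of_le (O_odd C1[a]) (inf_le_left (b := C1[b]))
  have nS := le_norm_inf (B.nW ha) (B.nC h.mem)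
  have nK := B.nD h o inf_le_right nS
  refine hu ((coprime_commutator_sup_cent (.inl (solv_odd o)) (zp_norm (nS hc.1))
    (cop2 o c2)).ge.trans (sup_le ?_ ?_))
  · exact (commutator_mono le_rfl (zpowers_le.2 hc.2)).trans (commutator_le_of_le_norm_right
      (norm_cmod (inf_le_right.trans (O_norm _)) nK))
  · rw [cent_zpowers]
    exact a3 _ (inf_le_left.trans inf_le_right) inf_le_right (inf_le_left.trans nK)
      ((inf_le_inf_right _ inf_le_left).trans (B.c4 h' ha a2 (.inr h4)))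

theorem term_T (F : Fam S U C A) (T : Term S U C) (hn : n ∈ N[S]) (h : C ⊓ cj[n] C ≠ ⊥) :
    cj[n] U = U ∨ cj[n] U ≤ C := by
  obtain ⟨d, hd, d2⟩ := exists_inv_of_le B.syl (inf_le_left.trans F.CS) h
  obtain ⟨K, k, rfl, e⟩ := T d hd.1 d2
  obtain ⟨K', k', e1, -⟩ := T _ (mem_conj.1 hd.2) (by
    simpa only [inv_inv] using ord2_conj d2 n⁻¹)
  have k2 := k'.conj hn
  rw [show n * (n⁻¹ * d * n) * n⁻¹ = d by group] at k2
  have : cj[n] (S ⊓ K) = S ⊓ cj[n] K' := by rw [← e1, conj_inf, conj_eq_self hn]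
  rw [this, ← e]
  exact (k2.tc.eq_or k.tc).imp (fun e => by rw [e]) (inf_le_inf_left _)

theorem of_cmp (hc : c ∈ S) (c2 : orderOf c = 2) (hJ : Cmp J C1[c]) :
    Fm S c (J ⊔ O[C1[c]]) ∧ S ⊓ (J ⊔ O[C1[c]]) = S ⊓ J ∧
      S ⊓ Cf c (J ⊔ O[C1[c]]) = S ⊓ C[J] := by
  have nJ := B.ab.normS hJ B.pg (B.nC hc)
  have cW : J ≤ C[O[C1[c]]] := hJ.le_cent_of_solvable (SN.of_norm (O_le _) (O_norm _)) (O_solv _)
  refine ⟨⟨hc, c2, TC.of_cmp B.ab hJ⟩, ?_, le_antisymm (le_inf inf_le_left (qs_cent hJ.toQS ?_))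
    (le_inf inf_le_left (le_cmod (inf_le_left.trans (B.nW hc)) ?_))⟩
  · refine le_antisymm (le_inf inf_le_left fun x hx => ?_) (inf_le_inf_left _ le_sup_left)
    obtain ⟨j, hj, w, hw, rfl⟩ := (mem_sup_of_le_norm (le_norm_of_cent cW)).1 hx.2
    obtain ⟨k, hk⟩ := B.pg ⟨_, hx.1⟩
    have cm : Commute j w := (cW hj w hw).symm
    have e : j ^ 2 ^ k * w ^ 2 ^ k = 1 := cm.mul_pow _ ▸ congrArg Subtype.val hk
    have m : w ^ 2 ^ k ∈ J := by
      rw [eq_inv_of_mul_eq_one_right e]; exact inv_mem (pow_mem hj _)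
    exact mul_mem hj (zpowers_le.2 m (mem_zpowers_pow_iff.2 ((Nat.coprime_two_left.2
      (odd_ord (O_odd _) hw)).pow_left k)))
  · refine ((commutator_comm _ _).le.trans ((commutator_mono inf_le_right le_sup_left).trans
      (comm_le_of_le_cmod le_rfl))).trans (le_cent_symm cW)
  · rw [commutator_comm]
    refine comm_sup_le (le_norm_of_cent cW) le_normalizer ?_
      (commutator_le_of_le_norm_left (inf_le_left.trans (B.nW hc)))
    rw [le_cent_iff_commutator_eq_bot'.1 inf_le_right]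
    exact bot_le

theorem genuine (h : Fm S c K) (hW : S ⊓ K ≤ C[O[C1[c]]]) :
    ∃ J, Cmp J C1[c] ∧ S ⊓ J = S ⊓ K ∧ S ⊓ C[J] = S ⊓ Cf c K := by
  obtain ⟨u, hu, u2⟩ := h.tc.sc.inv B.syl (B.nK h)
  have nF : C1[c] ≤ N[C[fittingOf C1[c]]] := le_norm_cent (self_le_norm_fittingOf _)
  have uF : u ∈ C[fittingOf C1[c]] := cent_anti (fittingOf_le_sup_piCoreOf {2}) (by
    rw [cent_sup]
    exact ⟨B.ab.cent B.syl (piCoreOf_le_hall (B.syl.of_le (B.c1 h.mem) le_top)) hu.1, hW hu⟩)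
  have := h.tc.sc.le_of le_rfl le_sup_right (h.tc.le.trans nF) hu.2 uF u2
  obtain ⟨J, hJ, JK⟩ := TT.exists_cmp_le ((SN.of_norm inf_le_left (le_norm_inf le_normalizer
    (h.tc.le.trans nF))).trans h.tc.sn) inf_le_right fun e => h.tc.sc.ns (solv_of_le
      (solv_sup (O_solv _) (solv_of_le (fittingOf_solvable _) e) (inf_le_left.trans h.tc.sc.nO))
        (this.trans (sup_comm _ _).le))
  obtain ⟨h', e1, e2⟩ := B.of_cmp h.mem h.ord hJ
  have := (h'.tc.eq_or h.tc).resolve_right fun e => hJ.not_le_of_solvable (O_solv _)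
    (h.tc.sc.inf ▸ le_inf (JK.trans inf_le_left) (le_sup_left.trans e))
  exact ⟨J, hJ, this ▸ e1.symm, this ▸ e2.symm⟩

end Bs

end Cfsg.Agent.WA
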