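import Cfsg.Agent.WA.A4
import Cfsg.Agent.WA.Sg5
import Cfsg.Agent.WA.SZ0

/-! The signalizer functor of good subgroups. -/

set_option autoImplicit false
set_option linter.unusedSectionVars false
set_option linter.unusedVariables false

namespace Cfsg.Agent.WA

open Cfsg Subgroup Cfsg.Agent.GT Cfsg.Agent.Cls Cfsg.Agent.GW Cfsg.Agent.Sig
open Cfsg.Agent.TT (SN QS Cmp layerOf fstarOf)
open scoped commutatorElement

universe u

def GL2P : Prop := ∀ (G : Type u) [Group G] [Finite G] (W N : Subgroup G) (b c : G),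
  orderOf b = 2 → orderOf c = 2 → c ≠ b → c * b = b * c → Odd (Nat.card W) → b ∈ N[W] → c ∈ N[W] →
  W ⊓ C[zpowers b ⊔ zpowers c] ≤ N[N] → (∀ x ∈ zpowers b ⊔ zpowers c, x ≠ 1 →
    ⁅W ⊓ C1[x], zpowers b ⊔ zpowers c⁆ ⊓ C[zpowers b ⊔ zpowers c] ≤ N) →
  ⁅W, zpowers b ⊔ zpowers c⁆ ⊓ C[zpowers b ⊔ zpowers c] ≤ N

def G1P : Prop := ∀ (G : Type u) [Group G] [Finite G] [IsSimpleGroup G] (S X Y : Subgroup G) (x : G)
  (s : ℕ), Mn G → T26 (⊤ : Subgroup G) → IsPiHallOf {2} S ⊤ → x ∈ S → orderOf x = 2 → s.Prime →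
  s ≠ 2 → X ≠ ⊥ → X ≤ piCoreOf {s} C1[x] → S ≤ N[X] → IsPGroup s Y → Y ≤ C[X] →
  ⁅Y, zpowers x⁆ = Y → Y ≠ ⊥ → S ≤ N[Y] → ∃ J, Cmp J N[X] ∧ ¬ Y ⊓ J ≤ C[J]

variable {G : Type u} [Group G] [Finite G] {S H J J' K K' K0 L A D O N U C U' C' X Y Z P : Subgroup G}
  {a b c d e g n x y z t : G} {π : Set ℕ} {s : ℕ}

/-- good subgroups. -/
structure Gd (S Y : Subgroup G) : Prop where
  odd : Odd (Nat.card Y)
  nS : S ≤ N[Y]
  c : ∀ b ∈ S, orderOf b = 2 → Y ⊓ C1[b] ≤ O[C1[b]]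

/-- case `β`. -/
def Bt (S : Subgroup G) : Prop :=
  ∀ b K, Fm S b K → Nat.card ↥(S ⊓ K) = 4 → ∃ e ∈ S ⊓ Cf b K, orderOf e = 2 ∧ e ≠ b

structure ZP (S : Subgroup G) (a b : G) (K Z : Subgroup G) : Prop where
  nW : O[C1[a]] ≤ N[Z]
  nS : S ≤ N[Z]
  c : O[C1[a]] ⊓ Z ⊓ C1[b] ≤ Cf b K
  gd : ∀ Y, Gd S Y → Y ≤ C1[a] → Y ≤ Z
  cm : ∀ V, V ≤ S → V ≤ Cf b K ∨ O[C1[a]] ⊓ C1[b] ≤ Cf b K → ⁅O[C1[a]], V⁆ ≤ Z

def TH (S : Subgroup G) (a : G) : Subgroup G := sSup {Y | Gd S Y ∧ Y ≤ C1[a]}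

def TA (S : Subgroup G) : Subgroup G := sSup {Y | Gd S Y}

theorem Gd.of_le (h : Gd S Y) (h1 : Z ≤ Y) (h2 : S ≤ N[Z]) : Gd S Z :=
  ⟨odd_card_of_le h.odd h1, h2, fun b hb b2 => (inf_le_inf_right _ h1).trans (h.c b hb b2)⟩

theorem Gd.le (h : Gd S Y) (ha : a ∈ S) (a2 : orderOf a = 2) (h1 : Y ≤ C1[a]) : Y ≤ O[C1[a]] :=
  (le_inf le_rfl h1).trans (h.c a ha a2)

theorem Gd.conj (h : Gd S Y) (hn : n ∈ N[S]) : Gd S (cj[n] Y) := by
  refine ⟨by rw [card_conj]; exact h.odd, conj_eq_self hn ▸ conj_le_norm_conj_iff.2 h.nS,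
    fun b hb b2 => ?_⟩
  have := conj_mono n (h.c _ (conj_mem_of_mem_norm (inv_mem hn) hb) (ord2_conj b2 _))
  rwa [conj_inf, conj_piCoreOf, conj_cent1, show n * (n⁻¹ * b * n⁻¹⁻¹) * n⁻¹ = b by group] at this

theorem le_TH (h : Gd S Y) (h1 : Y ≤ C1[a]) : Y ≤ TH S a := le_sSup ⟨h, h1⟩

theorem TH_le : TH S a ≤ C1[a] := sSup_le fun _ h => h.2

theorem norm_TA : N[S] ≤ N[TA S] := le_norm_sSup_of_conj_mem fun _ hn _ h => h.conj hn

namespace Bs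

variable [IsSimpleGroup G] (B : Bs S)
include B

theorem mn : Mn G := ⟨B.nc, B.ab, B.rk, B.k.ih⟩

theorem om : ∃ A : Subgroup G, (∀ x, x ∈ A ↔ x ∈ S ∧ x * x = 1) ∧ 8 ∣ Nat.card A := by
  let A : Subgroup G :=
    { carrier := {x | x ∈ S ∧ x * x = 1}
      mul_mem' := fun {x y} hx hy => ⟨mul_mem hx.1 hy.1, by
        rw [(show Commute y x from B.ab.comm B.syl hy.1 hx.1).mul_mul_mul_comm, hx.2, hy.2, one_mul]⟩
      one_mem' := ⟨one_mem _, one_mul 1⟩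
      inv_mem' := fun {x} hx => ⟨inv_mem hx.1, by rw [← mul_inv_rev, hx.2, inv_one]⟩ }
  obtain ⟨E, c, sq⟩ := SZ.rk8 B.rk
  obtain ⟨g, -, hg⟩ := syl_exists_conj_le Nat.prime_two B.syl (Q := E)
    (IsPGroup.of_card (n := 3) c) le_top
  refine ⟨A, fun _ => Iff.rfl, c ▸ card_conj g E ▸ card_dvd_of_le fun x hx => ⟨hg hx, ?_⟩⟩
  obtain ⟨y, hy, rfl⟩ := mem_conj_iff_exists.1 hx
  exact sq_conj (sq y hy) g

theorem e8 (hb : b ∈ S) (b2 : orderOf b = 2) :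
    ∃ E, PnElem 2 3 ⊤ E ∧ E ≤ S ∧ b ∈ E ∧ ∀ x ∈ E, x * x = 1 := by
  obtain ⟨A, hA, c⟩ := B.om
  have := Fact.mk Nat.prime_two
  have bA := (hA b).2 ⟨hb, sq1 b2⟩
  obtain ⟨E, c1, c2⟩ := Sylow.exists_subgroup_card_pow_prime_le 2 (G := A) (n := 1) (m := 3) c
    (zpowers ⟨b, bA⟩) (by rw [Nat.card_zpowers, ← orderOf_coe, b2]; rfl) (by norm_num)
  have m : ∀ x ∈ E.map A.subtype, x ∈ S ∧ x * x = 1 := fun x hx => (hA x).1 (map_subtype_le E hx)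
  exact ⟨E.map A.subtype, ⟨le_top, ⟨isMulCommutative_iff_forall.2 fun x hx y hy =>
    B.ab.comm B.syl (m x hx).1 (m y hy).1, fun x hx => (sq x).trans (m x hx).2⟩,
    (card_map_of_injective A.subtype_injective).trans c1⟩, fun x hx => (m x hx).1,
    ⟨_, c2 (mem_zpowers _), rfl⟩, fun x hx => (m x hx).2⟩

theorem exists_Z (gl : GL2P.{u}) (bt : Bt S) (ha : a ∈ S) (a2 : orderOf a = 2) (h : Fm S b K) :
    ∃ Z, ZP S a b K Z := by
  set W := O[C1[a]] with hW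
  have nW : S ≤ N[W] := B.nW ha
  have oW : Odd (Nat.card W) := O_odd _
  by_cases hb : W ⊓ C1[b] ≤ Cf b K
  · exact ⟨W, le_normalizer, nW, (inf_le_inf_right _ inf_le_left).trans hb,
      fun Y g y => g.le ha a2 y, fun V v _ => commutator_le_of_le_norm_left (v.trans nW)⟩
  obtain ⟨e, he, e2, eb⟩ := bt b K h (by
    by_contra h4; exact hb (B.c4 h ha a2 (.inr h4)))
  have cm := B.ab.comm B.syl he.1 h.mem
  have g := gl G W (W ⊓ C[zpowers b ⊔ zpowers e] ⊓ Cf b K) b e h.ord e2 eb cm oW (nW h.mem) (nW he.1)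
  have sq : ∀ x ∈ zpowers b ⊔ zpowers e, x ≠ 1 → orderOf x = 2 := fun x hx x1 => by
    rcases (mem_V h.ord e2 cm).1 hx with rfl | rfl | rfl | rfl
    exacts [absurd rfl x1, h.ord, e2, ord2_mul h.ord e2 eb cm]
  have ES : zpowers b ⊔ zpowers e ≤ S := V_le h.mem he.1
  have EC : zpowers b ⊔ zpowers e ≤ Cf b K := V_le h.self he.2
  have cE : C[zpowers b ⊔ zpowers e] ≤ C1[b] := cent_le_cent1 (mem_sup_left (mem_zpowers b))
  have pE := V_pg h.ord e2 cm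
  generalize zpowers b ⊔ zpowers e = E at *
  have nE : S ≤ N[E] := B.ab.norm B.syl ES
  have nf : ∀ D : Subgroup G, Odd (Nat.card D) → D ≤ C1[b] → S ≤ N[D] → D ≤ N[Cf b K] := fun D o d n =>
    norm_cmod (d.trans (O_norm _)) (B.nD h o d n)
  have dec : ∀ D : Subgroup G, Odd (Nat.card D) → S ≤ N[D] → D ≤ ⁅D, E⁆ ⊔ (D ⊓ C[E]) := fun D o n =>
    (coprime_commutator_sup_cent (.inl (solv_odd o)) (ES.trans n) (cop2' o pE)).ge
  have oE : Odd (Nat.card ↥(W ⊓ C[E])) := odd_card_of_le oW inf_le_left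
  have sE : S ≤ N[W ⊓ C[E]] := le_norm_inf nW (le_norm_cent nE)
  have fE := nf _ oE (inf_le_right.trans cE) sE
  have hn : W ⊓ C[E] ≤ N[W ⊓ C[E] ⊓ Cf b K] := le_norm_inf le_normalizer fE
  have WE : ⁅W, E⁆ ≤ W := commutator_le_of_le_norm_left (ES.trans nW)
  have g := g hn fun x hx x1 => by
    have x2 := sq x hx x1
    obtain ⟨K', h', a1, a2', a3⟩ := B.pump h (ES hx) x2 (EC hx)
    have n := le_norm_inf nW (B.nC (ES hx))
    have l : ⁅W ⊓ C1[x], E⁆ ≤ W ⊓ C1[x] := commutator_le_of_le_norm_left (ES.trans n)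
    have l' : ⁅W ⊓ C1[x], E⁆ ⊓ C[E] ≤ W ⊓ C[E] := inf_le_inf_right _ (l.trans inf_le_left)
    refine le_inf l' (a3 _ (inf_le_right.trans cE) (inf_le_left.trans (l.trans inf_le_right))
      (l'.trans (B.nD h oE (inf_le_right.trans cE) sE)) (inf_le_left.trans ?_))
    by_cases h4 : Nat.card ↥(S ⊓ K') = 4
    · have := B.eq_C h h' (B.card4 h h' a1 h4) a2'
      exact (commutator_mono le_rfl ((le_inf ES EC).trans (this.ge.trans inf_le_right))).trans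
        (commutator_le_of_le_norm_right (norm_cmod (inf_le_right.trans (O_norm _))
          (B.nD h' (odd_card_of_le oW inf_le_left) inf_le_right n)))
    · exact l.trans (B.c4 h' ha a2 (.inr h4))
  have n1 : W ⊓ C[E] ≤ N[⁅W, E⁆ ⊔ (W ⊓ C[E] ⊓ Cf b K)] :=
    le_norm_sup (inf_le_left.trans (normalizer_commutator_ge_left _ _)) hn
  have n2 : S ≤ N[⁅W, E⁆ ⊔ (W ⊓ C[E] ⊓ Cf b K)] :=
    le_norm_sup (le_norm_commutator nW nE) (le_norm_inf sE (B.nCf h))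
  refine ⟨⁅W, E⁆ ⊔ (W ⊓ C[E] ⊓ Cf b K), (dec W oW nW).trans (sup_le (le_norm_self le_sup_left) n1),
    n2, ?_, fun Y y1 y2 => ?_, fun V v1 v2 => ?_⟩
  · have o := odd_card_of_le oW ((inf_le_left (b := C1[b])).trans
      (inf_le_left (b := ⁅W, E⁆ ⊔ (W ⊓ C[E] ⊓ Cf b K))))
    have n := le_norm_inf (le_norm_inf nW n2) (B.nC h.mem)
    refine (dec _ o n).trans (sup_le ((commutator_mono le_rfl EC).trans
      (commutator_le_of_le_norm_right (nf _ o inf_le_right n))) ?_)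
    refine (inf_le_inf_right _ (inf_le_left.trans inf_le_right)).trans ?_
    rw [dedekind' (.inr ((inf_le_left.trans inf_le_left).trans (normalizer_commutator_ge_left _ _)))
      (inf_le_left.trans inf_le_right)]
    exact (sup_le g le_rfl).trans inf_le_right
  · have l := y1.le ha a2 y2
    exact (dec Y y1.odd y1.nS).trans (sup_le_sup (commutator_mono l le_rfl) (le_inf
      (inf_le_inf_right _ l) ((inf_le_inf_left _ cE).trans ((y1.c b h.mem h.ord).trans h.O_le))))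
  · refine (commutator_mono (dec W oW nW) le_rfl).trans (comm_sup_le (le_norm_self le_sup_left) n1
      ((commutator_le_of_le_norm_left (v1.trans (le_norm_commutator nW nE))).trans le_sup_left)
      (le_trans (le_inf (commutator_le_of_le_norm_left (v1.trans sE)) ?_) le_sup_right))
    exact (commutator_mono le_rfl (v2.resolve_right hb)).trans (commutator_le_of_le_norm_right fE)

theorem theta (gl : GL2P.{u}) (bt : Bt S) (ha : a ∈ S) (a2 : orderOf a = 2) :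
    Gd S (TH S a) ∧ O[C1[a]] ≤ N[TH S a] ∧ ∀ V, V ≤ S → (∀ b K, Fm S b K →
      V ≤ Cf b K ∨ O[C1[a]] ⊓ C1[b] ≤ Cf b K) → ⁅O[C1[a]], V⁆ ≤ TH S a := by
  choose Z hZ using fun b K (h : Fm S b K) => B.exists_Z gl bt ha a2 h
  have nS : S ≤ N[O[C1[a]] ⊓ ⨅ b, ⨅ K, ⨅ h, Z b K h] := le_norm_inf (B.nW ha) (Sg.le_norm_iInf
    fun b => Sg.le_norm_iInf fun K => Sg.le_norm_iInf fun h => (hZ b K h).nS)
  have g : Gd S (O[C1[a]] ⊓ ⨅ b, ⨅ K, ⨅ h, Z b K h) := ⟨odd_card_of_le (O_odd _) inf_le_left, nS,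
    fun b hb b2 => le_O' B.ab B.syl (B.c1 hb) (odd_card_of_le (O_odd _)
      (inf_le_left.trans inf_le_left)) inf_le_right (le_norm_inf nS (B.nC hb)) fun K hK =>
        (inf_le_inf_right _ (inf_le_inf_left _ (iInf_le_of_le b (iInf_le_of_le K
          (iInf_le _ ⟨hb, b2, hK⟩))))).trans (hZ b K ⟨hb, b2, hK⟩).c⟩
  have e : TH S a = O[C1[a]] ⊓ ⨅ b, ⨅ K, ⨅ h, Z b K h := le_antisymm (sSup_le fun Y y => le_inf
    (y.1.le ha a2 y.2) (le_iInf fun b => le_iInf fun K => le_iInf fun h => (hZ b K h).gd Y y.1 y.2))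
    (le_TH g (inf_le_left.trans (O_le _)))
  rw [e]
  exact ⟨g, le_norm_inf le_normalizer (Sg.le_norm_iInf fun b => Sg.le_norm_iInf fun K =>
    Sg.le_norm_iInf fun h => (hZ b K h).nW), fun V v hV => le_inf (commutator_le_of_le_norm_left
      (v.trans (B.nW ha))) (le_iInf fun b => le_iInf fun K => le_iInf fun h =>
        (hZ b K h).cm V v (hV b K h))⟩

theorem gd_TA (gl : GL2P.{u}) (bt : Bt S) : Gd S (TA S) := by
  have key : ∀ b ∈ S, orderOf b = 2 → Odd (Nat.card (TA S)) ∧ TA S ⊓ C1[b] ≤ O[C1[b]] :=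
    fun b hb b2 => by
    obtain ⟨E, h1, ES, bE, sq⟩ := B.e8 hb b2
    have t := fun a (ha : a ∈ E) a1 => (B.theta gl bt (ES ha) (ord2 (sq a ha) a1)).1
    have nd : ∀ {Y : Subgroup G}, Odd (Nat.card Y) → ¬ 2 ∣ Nat.card Y := fun o =>
      o.not_two_dvd_nat
    have F : Sg.SF 2 E (TH S) := ⟨Nat.prime_two, rfl, h1, fun _ _ _ => TH_le,
      fun a ha a1 => ES.trans (t a ha a1).nS, fun a ha a1 => solv_odd (t a ha a1).odd,
      fun a ha a1 => nd (t a ha a1).odd, fun a ha a1 c hc c1 => le_TH ((t a ha a1).of_le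
        inf_le_left (le_norm_inf (t a ha a1).nS (B.nC (ES hc)))) inf_le_right⟩
    obtain ⟨M, m1, m2⟩ := F.complete
    have l : TA S ≤ M := sSup_le fun Y y => F.le_of_complete m2 ⟨ES.trans y.nS, solv_odd y.odd,
      nd y.odd, fun a ha a1 => le_TH (y.of_le inf_le_left (le_norm_inf y.nS (B.nC (ES ha))))
        inf_le_right⟩
    exact ⟨odd_card_of_le (Nat.not_even_iff_odd.1 fun e => m1.cop e.two_dvd) l,
      (inf_le_inf_right _ l).trans ((m1.cent b bE (ne1 b2)).trans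
        ((t b bE (ne1 b2)).le hb b2 TH_le))⟩
  obtain ⟨a, -, -, a2, -⟩ := B.rk
  obtain ⟨g, -, hg⟩ := conj_into B.syl (sq1 a2) (mem_top a)
  exact ⟨(key _ hg (ord2_conj a2 g)).1, le_normalizer.trans norm_TA, fun b hb b2 => (key b hb b2).2⟩

theorem cfQ (h : QS J) (nJ : S ≤ N[J]) : S ⊓ cmod (J ⊓ C[J]) J = S ⊓ C[J] :=
  le_antisymm (inf_le_inf_left _ (cmod_qs h)) (le_inf inf_le_left (cent_le_cmod
    (inf_le_left.trans (le_norm_inf nJ (le_norm_cent nJ))) inf_le_right))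

theorem famQ (h : QS J) (ne : J ≠ ⊤) (nJ : S ≤ N[J]) : Fam S (S ⊓ J) (S ⊓ C[J]) (J ⊓ N[S]) :=
  B.cfQ h nJ ▸ (sc_of_qs B.ab h).fam B.k B.syl ne nJ (le_norm_inf nJ (le_norm_cent nJ))

theorem c4Q (h : QS J) (ne : J ≠ ⊤) (nJ : S ≤ N[J]) (hb : b ∈ S) (b2 : orderOf b = 2)
    (h5 : b ∈ C[J] ∨ Nat.card ↥(S ⊓ J) ≠ 4) : O[C1[b]] ⊓ J ≤ C[J] :=
  ((sc_of_qs B.ab h).c4 B.k B.syl ne nJ (le_norm_inf nJ (le_norm_cent nJ)) hb b2
    (odd_card_of_le (O_odd _) inf_le_left) (inf_le_left.trans (O_le _))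
    (le_norm_self inf_le_right) (inf_le_right.trans (sc_of_qs B.ab h).nO)
    (le_norm_inf (inf_le_right.trans (O_norm _)) (le_norm_self inf_le_left))
    (h5.imp_left fun e => ((B.cfQ h nJ).ge ⟨hb, e⟩).2)).trans (cmod_qs h)

theorem ne4 (F : Fam S U C A) (h : C = ⊥) : Nat.card U ≠ 4 := fun h4 => by
  obtain ⟨A, hA, c⟩ := B.om
  have := c.trans (card_dvd_of_le fun x hx => ((hA x).1 hx).1)
  rw [F.card_S, h, card_bot, h4] at this
  omega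

theorem gdQ (h : QS J) (ne : J ≠ ⊤) (nJ : S ≤ N[J]) (g : Gd S Y) (hY : Y ≤ J) : Y ≤ C[J] := by
  have F := B.famQ h ne nJ
  by_cases hc : S ⊓ C[J] = ⊥
  · have k := fun b hb b2 => (le_inf (g.c b hb b2) (inf_le_left.trans hY)).trans
      (B.c4Q h ne nJ hb b2 (.inr (B.ne4 F hc)))
    obtain ⟨u, hu, v, hv, u1, v1, uv⟩ := F.two
    have u2 := ord2 (F.sq u hu) u1
    have v2 := ord2 (F.sq v hv) v1
    have cm := B.ab.comm B.syl hv.1 hu.1
    exact gen3 u2 v2 uv.symm cm g.odd (g.nS hu.1) (g.nS hv.1) (k u hu.1 u2) (k v hv.1 v2)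
      (k _ (mul_mem hu.1 hv.1) (ord2_mul u2 v2 uv.symm cm))
  · obtain ⟨b, hb, b2⟩ := exists_inv_of_le B.syl inf_le_left hc
    exact (le_inf (g.le hb.1 b2 (hY.trans (mem_cent_iff.1 hb.2))) hY).trans
      (B.c4Q h ne nJ hb.1 b2 (.inl hb.2))

theorem nne (X1 : X ≠ ⊥) (x2 : orderOf x = 2) (h : X ≤ C1[x]) : N[X] ≠ ⊤ := fun e =>
  (normal_iff_top_le_norm.2 e.ge).eq_bot_or_eq_top.elim X1 fun e' => B.ne x2 (eq_top_iff.2 (e' ▸ h))

/-- the standard use of `G1`. -/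
theorem useG1 (g1 : G1P.{u}) (hx : x ∈ S) (x2 : orderOf x = 2) (hs : s.Prime) (s2 : s ≠ 2)
    (X1 : X ≠ ⊥) (hX : X ≤ piCoreOf {s} C1[x]) (nX : S ≤ N[X]) (pP : IsPGroup s P)
    (nP : S ≤ N[P]) (XP : X ≤ N[P]) (h : x ∉ C[P]) :
    ∃ J Y, Cmp J N[X] ∧ J ≠ ⊤ ∧ S ≤ N[J] ∧ Y ≤ P ∧ Y ≤ J ∧ S ≤ N[Y] ∧ ¬ Y ≤ C[J] := by
  have Xx := hX.trans (piCoreOf_le _ _)
  have n := le_norm_inf nP (le_norm_cent nX)
  have l : ⁅P ⊓ C[X], zpowers x⁆ ≤ P ⊓ C[X] := commutator_le_of_le_norm_left (zp_norm (n hx))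
  have nY := le_norm_commutator n (B.ab.norm B.syl (zpowers_le.2 hx))
  obtain ⟨J, hJ, e⟩ := g1 G S X ⁅P ⊓ C[X], zpowers x⁆ x s B.mn B.t26 B.syl hx x2 hs s2 X1 hX nX
    (pP.to_le (l.trans inf_le_left)) (l.trans inf_le_right)
    (comm_comm2 x2 (n hx) (odd_p hs s2 (pP.to_le inf_le_left))) (fun e => h (thompson_AxB_pgroup hs
      pP ((piCoreOf_isPGroup hs _).to_le hX) (A := zpowers x) (PiNat.mono (isPi_of_isPGroup
        Nat.prime_two (pg2 x2)) (by simpa using s2)) (zp_norm (nP hx)) XP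
      (zpowers_le.2 (mem_cent_iff.2 Xx)) (cent_zpowers x ▸ comm_eq_bot_iff.1 e) (mem_zpowers x))) nY
  have nJ := B.ab.normS hJ B.pg (le_norm_self nX)
  exact ⟨J, _, hJ, fun e => B.nne X1 x2 Xx (eq_top_iff.2 (e ▸ hJ.le)), nJ,
    inf_le_left.trans (l.trans inf_le_left), inf_le_right, le_norm_inf nY nJ, e⟩

theorem gd_cent (gl : GL2P.{u}) (g1 : G1P.{u}) (bt : Bt S) (g : Gd S Y) (hx : x ∈ S)
    (x2 : x * x = 1) : x ∈ C[Y] := by
  have T := B.gd_TA gl bt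
  obtain ⟨A, hA, -⟩ := B.om
  have AS : A ≤ S := fun x hx => ((hA x).1 hx).1
  have nA : N[S] ≤ N[A] := le_norm_iff.2 fun n hn x hx => (hA _).2
    ⟨conj_mem_of_mem_norm hn (AS hx), sq_conj ((hA x).1 hx).2 n⟩
  refine cent_anti (le_sSup g) (coprime_le_cent_of_le_cent_fittingOf (solv_odd T.odd)
    (AS.trans T.nS) (cop2' T.odd (B.pg.to_le AS)) (fittingOf_le_cent_of_forall fun s hs => ?_)
    ((hA x).2 ⟨hx, x2⟩))
  have PT : piCoreOf {s} (TA S) ≤ TA S := piCoreOf_le _ _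
  have nP : N[S] ≤ N[piCoreOf {s} (TA S)] := norm_TA.trans (norm_le_norm_piCoreOf _ _)
  have nT := self_le_norm_piCoreOf {s} (TA S)
  have pP := piCoreOf_isPGroup hs (TA S)
  generalize piCoreOf {s} (TA S) = P at *
  have oP := odd_card_of_le T.odd PT
  have sP := le_normalizer.trans nP
  by_cases s2 : s = 2
  · subst s2
    rw [eq_bot_of_le_of_coprime le_rfl le_rfl (cop2' oP pP), cent_bot]
    exact le_top
  have k : ∀ x ∈ A, x ∈ C[P] ∨ ∀ y ∈ P, x * y * x⁻¹ = y⁻¹ := fun x hx => by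
    obtain ⟨hx, x2⟩ := (hA x).1 hx
    by_cases x1 : x = 1
    · exact .inl (x1 ▸ one_mem _)
    have o := ord2 x2 x1
    by_cases e : P ⊓ C1[x] = ⊥
    · exact .inr fun y hy => inv_of_fpf x2 (sP hx) oP e hy
    refine .inl (by_contra fun hc => ?_)
    obtain ⟨t1, t2, -⟩ := B.theta gl bt hx o
    have l : TH S x ≤ TA S := le_sSup t1
    obtain ⟨J, Y, hJ, ne, nJ, y1, y2, y3, y4⟩ := B.useG1 g1 hx o hs s2 e (sn_core
      ((SN.of_norm (le_TH (T.of_le (inf_le_left.trans PT) (le_norm_inf sP (B.nC hx))) inf_le_right)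
        (le_norm_inf (l.trans nT) (le_norm_self TH_le))).trans ((SN.of_norm (t1.le hx o TH_le)
        t2).trans (SN.of_norm (O_le _) (O_norm _)))) (isPi_of_isPGroup hs (pP.to_le inf_le_left)))
      (le_norm_inf sP (B.nC hx)) pP sP (le_norm_self inf_le_left) hc
    exact y4 (B.gdQ hJ.toQS ne nJ (T.of_le (y1.trans PT) y3) y2)
  refine (cov B.ab B.syl (K := N[S]) (le_inf le_top le_rfl) AS nA).trans (sup_le ?_ ?_)
  · refine commutator_le.2 fun x hx n hn => ?_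
    have m : n * x⁻¹ * n⁻¹ ∈ A := conj_mem_of_le_norm nA hn (inv_mem hx)
    rw [show ⁅x, n⁆ = x * (n * x⁻¹ * n⁻¹) by simp only [commutatorElement_def]; group]
    rcases k x hx with h | h
    · exact mul_mem h (conj_mem_of_le_norm (le_norm_cent nP) hn (inv_mem h))
    intro y hy
    have h1 := h _ (conj_mem_of_le_norm' nP hn (inv_mem hy))
    have h2 : n * x⁻¹ * n⁻¹ * y * (n * x⁻¹ * n⁻¹)⁻¹ = y⁻¹ := by
      calc _ = n * x⁻¹ * (n⁻¹ * y⁻¹ * n)⁻¹ * x * n⁻¹ := by group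
        _ = y⁻¹ := by rw [← h1]; group
    calc y * (x * (n * x⁻¹ * n⁻¹)) = (x * y⁻¹ * x⁻¹) * (x * (n * x⁻¹ * n⁻¹)) := by
          rw [h _ (inv_mem hy), inv_inv]
      _ = _ := by rw [← h2]; group
  · rw [nofix B.nc B.ab B.syl (inf_le_left.trans AS) (le_cent_symm inf_le_right)]
    exact bot_le

end Bs

end Cfsg.Agent.WA
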