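import Cfsg.Agent.WA.A5

/-! Case `β` is impossible. -/

set_option autoImplicit false
set_option linter.unusedSectionVars false
set_option linter.unusedVariables false

namespace Cfsg.Agent.WA

open Cfsg Subgroup Cfsg.Agent.GT Cfsg.Agent.Cls Cfsg.Agent.GW Cfsg.Agent.Sig
open Cfsg.Agent.TT (SN QS Cmp layerOf fstarOf)
open scoped commutatorElement

universe u

variable {G : Type u} [Group G] [Finite G] {S H J J' K K' K0 L A D O N U C U' C' X Y Z P : Subgroup G}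
  {a b c d e g n x y z t v : G} {π : Set ℕ} {s : ℕ}

/-- a terminal component. -/
structure GJ (S J : Subgroup G) : Prop where
  qs : QS J
  ne : J ≠ ⊤
  nS : S ≤ N[J]
  cmp : ∀ c ∈ S ⊓ C[J], orderOf c = 2 → Cmp J C1[c]

theorem GJ.conj (h : GJ S J) (hn : n ∈ N[S]) : GJ S (cj[n] J) := by
  refine ⟨h.qs.map _ fun e => h.qs.ne (conj_eq_bot_iff.1 e), fun e => h.ne (conj_eq_top_iff.1 e),
    conj_eq_self hn ▸ conj_le_norm_conj_iff.2 h.nS, fun c hc c2 => ?_⟩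
  rw [← conj_centralizer, ← conj_eq_self hn, ← conj_inf] at hc
  obtain ⟨d, hd, rfl⟩ := mem_conj_iff_exists.1 hc
  rw [orderOf_conj] at c2
  exact conj_cent1 n d ▸ (h.cmp d hd c2).map _ fun e => h.qs.ne (conj_eq_bot_iff.1 e)

namespace Bs

variable [IsSimpleGroup G] (B : Bs S)
include B

theorem beta0 (gl : GL2P.{u}) (g1 : G1P.{u}) (bt : Bt S) : ∃ b K, Fm S b K := by
  by_contra hn
  push Not at hn
  obtain ⟨A, hA, c⟩ := B.om
  have AS : A ≤ S := fun x hx => ((hA x).1 hx).1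
  have nA : N[S] ≤ N[A] := le_norm_iff.2 fun n hn x hx => (hA _).2
    ⟨conj_mem_of_mem_norm hn (AS hx), sq_conj ((hA x).1 hx).2 n⟩
  refine B.se (H := N[A]) (fun e => ?_) nA fun b hb b2 => gen_tc B.k B.syl (B.c1 hb) (B.ne b2) ?_
    (inf_le_right.trans nA) fun K hK => (hn b K ⟨hb, b2, hK⟩).elim
  · rcases (normal_iff_top_le_norm.2 e.ge).eq_bot_or_eq_top with e | e
    · rw [e, card_bot] at c
      omega
    · exact B.nc ⟨⟨fun x y => B.ab.comm B.syl (AS (e ▸ mem_top x)) (AS (e ▸ mem_top y))⟩⟩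
  · exact le_norm_of_cent (le_cent_symm fun x hx => B.gd_cent gl g1 bt ⟨O_odd _, B.nW hb,
      fun c hc c2 => le_O' B.ab B.syl (B.c1 hc) (odd_card_of_le (O_odd _) inf_le_left) inf_le_right
        (le_norm_inf (B.nW hb) (B.nC hc)) fun K hK => (hn c K ⟨hc, c2, hK⟩).elim⟩ (AS hx)
          ((hA x).1 hx).2)

theorem comb1 (bt : Bt S) (h : Fm S b K) (T : Term S (S ⊓ K) (S ⊓ Cf b K)) :
    ∀ n ∈ N[S], cj[n] (S ⊓ K) = S ⊓ K ∨ cj[n] (S ⊓ K) ≤ S ⊓ Cf b K := by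
  refine ((B.fam h).comb (ne_bot_of_mem ⟨h.mem, h.self⟩ (ne1 h.ord)) fun n hn =>
    B.term_T (B.fam h) T hn).resolve_right fun ⟨t, k⟩ => ?_
  obtain ⟨e, he, e2, eb⟩ := bt b K h k.cU
  have hb : b ∈ S ⊓ Cf b K := ⟨h.mem, h.self⟩
  rw [k.eq] at he hb
  exact eb (((zp2' (sq1 k.ord) he).resolve_left (ne1 e2)).trans
    ((zp2' (sq1 k.ord) hb).resolve_left (ne1 h.ord)).symm)

theorem beta1 (gl : GL2P.{u}) (g1 : G1P.{u}) (bt : Bt S) :
    ∃ b K, Fm S b K ∧ Term S (S ⊓ K) (S ⊓ Cf b K) ∧ ∀ c ∈ S ⊓ Cf b K, orderOf c = 2 →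
      ∀ b' K', Fm S b' K' → S ⊓ K ≤ Cf b' K' ∨ O[C1[c]] ⊓ C1[b'] ≤ Cf b' K' := by
  by_cases hu : ∃ a ∈ S, orderOf a = 2 ∧ ∃ b K, Fm S b K ∧ ¬ O[C1[a]] ⊓ C1[b] ≤ Cf b K
  swap
  · push Not at hu
    obtain ⟨b, K, h⟩ := B.beta0 gl g1 bt
    obtain ⟨K, ⟨b, h⟩, hm⟩ := Set.exists_max_image {K | ∃ b, Fm S b K}
      (fun K => Nat.card ↥(S ⊓ K)) (Set.toFinite _) ⟨K, b, h⟩
    exact ⟨b, K, h, B.term_max h fun b' K' h' => hm K' ⟨b', h'⟩,
      fun c hc c2 b' K' h' => .inr (hu c hc.1 c2 b' K' h')⟩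
  obtain ⟨a, ha, a2, b, K, h, hu⟩ := hu
  have T := B.term_unb h ha a2 hu
  refine ⟨b, K, h, T, fun c hc c2 b' K' h' => or_iff_not_imp_right.2 fun hu' => ?_⟩
  have T' := B.term_unb h' hc.1 c2 hu'
  have c' : c ∉ Cf b' K' := fun e => hu' (B.c4 h' hc.1 c2 (.inl e))
  have h4 : Nat.card ↥(S ⊓ K') = 4 := by
    by_contra e; exact hu' (B.c4 h' hc.1 c2 (.inr e))
  have F := B.fam h
  have F' := B.fam h'
  have cb := B.comb1 bt h T
  generalize S ⊓ K = U at *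
  generalize S ⊓ Cf b K = C at *
  by_cases hi : C ⊓ (S ⊓ Cf b' K') = ⊥
  · have cC : Nat.card C ≤ 4 := by
      have := card_le_of_le (sup_le F.CS F'.CS)
      rw [card_sup_of_inf_eq_bot (.inl (F.CS.trans (B.ab.norm B.syl F'.CS))) hi, F'.card_S,
        h4] at this
      exact Nat.le_of_mul_le_mul_right this (card_pos' _)
    have nU : N[S] ≤ N[U] := fun n hn => by
      refine conj_eq_self_iff.1 ((cb n hn).resolve_right fun e => F.swap_C hn e ?_)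
      rw [← eq_of_le_of_card_ge (F.sym (F.conj hn) e) (by
        rw [card_conj]; exact cC.trans F.four_le), inf_comm, F.inf]
    rcases F'.split F.US F.CS F.inf F.sup (F'.nS.trans nU)
      fun m hm => F.norm_C (F'.nS hm) (nU (F'.nS hm)) with e | e
    · exact (c' (e.2 hc).2).elim
    · exact e.2.trans inf_le_right
  obtain ⟨d, hd, d2⟩ := exists_inv_of_le B.syl (inf_le_left.trans F.CS) hi
  obtain ⟨K1, k1, rfl, rfl⟩ := T d hd.1 d2
  obtain ⟨K2, k2, e1, e2⟩ := T' d hd.2 d2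
  rcases k1.tc.eq_or k2.tc with rfl | e
  · exact (c' (e2.le hc).2).elim
  · exact (inf_le_inf_left S e).trans (e2.le.trans inf_le_right)

theorem beta2 (gl : GL2P.{u}) (g1 : G1P.{u}) (bt : Bt S) : ∃ J, GJ S J ∧ S ⊓ C[J] ≠ ⊥ ∧
    ∀ n ∈ N[S], cj[n] (S ⊓ J) = S ⊓ J ∨ cj[n] (S ⊓ J) ≤ S ⊓ C[J] := by
  obtain ⟨b, K, h, T, hQ⟩ := B.beta1 gl g1 bt
  have F := B.fam h
  have cb := B.comb1 bt h T
  have hb : b ∈ S ⊓ Cf b K := ⟨h.mem, h.self⟩
  generalize S ⊓ K = U at *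
  generalize S ⊓ Cf b K = C at *
  have key : ∀ c ∈ C, orderOf c = 2 → ∃ J, Cmp J C1[c] ∧ S ⊓ J = U ∧ S ⊓ C[J] = C :=
    fun c hc c2 => by
    obtain ⟨K, k, rfl, rfl⟩ := T c hc c2
    obtain ⟨t1, -, t3⟩ := B.theta gl bt hc.1 c2
    exact B.genuine k (le_cent_symm (coprime_le_cent_of_commutator_le_cent (F.US.trans (B.nW hc.1))
      (cop2' (O_odd _) (B.pg.to_le F.US)) ((t3 _ F.US (hQ c hc c2)).trans (le_cent_symm
        fun x hx => B.gd_cent gl g1 bt t1 hx.1 (F.sq x hx)))))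
  obtain ⟨J, hJ, rfl, rfl⟩ := key b hb h.ord
  refine ⟨J, ⟨hJ.toQS, fun e => B.ne h.ord (eq_top_iff.2 (e ▸ hJ.le)),
    B.ab.normS hJ B.pg (B.nC h.mem), fun c hc c2 => ?_⟩, ne_bot_of_mem hb (ne1 h.ord), cb⟩
  obtain ⟨J', hJ', e1, e2⟩ := key c hc c2
  rcases (hJ.of_le (le_inf hJ.le (mem_cent_iff.1 hc.2)) inf_le_left).eq_or_cent
    (hJ'.of_le (le_inf (mem_cent_iff.1 (e2.ge hb).2) hJ'.le) inf_le_right) with e | e
  · exact e ▸ hJ'
  · exact (F.not_le ((inf_le_inf_left S e).trans e2.le)).elim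

theorem kill (hJ : Cmp J H) (hH : H ≠ ⊤) (v2 : orderOf v = 2) (h : C1[v] ≤ H) : v ∈ C[J] :=
  le_cent_symm (hJ.le_cent_of_solvable (SN.of_norm (piCoreOf_le _ _) (self_le_norm_piCoreOf _ _))
    (solvable_of_isPGroup Nat.prime_two (piCoreOf_isPGroup Nat.prime_two H)))
    (B.t26 v (mem_top _) v2 H le_top hH (inf_le_right.trans h))

theorem njne (h : GJ S J) : N[J] ≠ ⊤ := fun e =>
  (normal_iff_top_le_norm.2 e.ge).eq_bot_or_eq_top.elim h.qs.ne h.ne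

theorem beta (gl : GL2P.{u}) (g1 : G1P.{u}) (bt : Bt S) : False := by
  obtain ⟨J, h, hC, cb⟩ := B.beta2 gl g1 bt
  have F := B.famQ h.qs h.ne h.nS
  have eC : ∀ n ∈ N[S], cj[n] (S ⊓ C[J]) = S ⊓ C[cj[n] J] := fun n hn => by
    rw [conj_inf, conj_eq_self hn, conj_centralizer]
  have pair : ∀ n ∈ N[S], cj[n] J = J ∨ cj[n] J ≤ C[J] := fun n hn => by
    obtain ⟨d, hd, d2⟩ := exists_inv_of_le B.syl (A := S ⊓ C[J] ⊓ cj[n] (S ⊓ C[J]))
      (inf_le_left.trans inf_le_left) ((cb n hn).elim (fun e => by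
        rwa [conj_eq_self (F.norm_C hn (conj_eq_self_iff.1 e)), inf_idem]) (F.swap_C hn))
    exact ((h.conj hn).cmp d (eC n hn ▸ hd.2) d2).eq_or_cent (h.cmp d hd.1 d2)
  obtain ⟨a, ha, a2⟩ := exists_inv_of_le B.syl F.US F.ne_bot
  by_cases hr : ∀ n ∈ N[S], cj[n] J = J
  · have nJ : N[S] ≤ N[J] := fun n hn => conj_eq_self_iff.1 (hr n hn)
    have nU : N[S] ≤ N[S ⊓ J] := le_norm_inf le_rfl nJ
    have nC : N[S] ≤ N[S ⊓ C[J]] := le_norm_inf le_rfl (le_norm_cent nJ)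
    obtain ⟨c, hc, c2⟩ := exists_inv_of_le B.syl F.CS hC
    obtain ⟨e, he, e2, ec⟩ : ∃ e ∈ S ⊓ C[J], orderOf e = 2 ∧ e ≠ c := by
      by_contra hn
      push Not at hn
      exact ne1 c2 (zpowers_eq_bot.1 (nofix B.nc B.ab B.syl (zpowers_le.2 hc.1) (by
        rw [cent_zpowers]
        exact fun n m => mem_cent1.2 (mul_inv_eq_iff_eq_mul.1
          (hn _ (conj_mem_of_le_norm nC m hc) (ord2_conj c2 n))))))
    have ca : c ≠ a := fun e => ne1 a2 (F.eq1 ha (e ▸ hc))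
    have v2 := ord2_mul a2 c2 ca (B.ab.comm B.syl hc.1 ha.1)
    have hv := mul_mem ha.1 hc.1
    have cm := B.ab.comm B.syl he.1 hc.1
    have k : ∀ x ∈ S ⊓ C[J], orderOf x = 2 → O[C1[a * c]] ⊓ C1[x] ≤ N[J] := fun x hx x2 =>
      cmp_nD B.ab B.syl (B.c1 hx.1) (h.cmp x hx x2) (odd_card_of_le (O_odd _) inf_le_left)
        inf_le_right (le_norm_inf (B.nW hv) (B.nC hx.1))
    have hW : O[C1[a * c]] ≤ N[J] := gen3 c2 e2 ec cm (O_odd _) (B.nW hv hc.1) (B.nW hv he.1)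
      (k c hc c2) (k e he e2) (k _ (mul_mem hc he) (ord2_mul c2 e2 ec cm))
    have := B.kill ⟨h.qs, SN.of_norm le_normalizer le_rfl⟩ (B.njne h) v2 (gen_tc B.k B.syl (B.c1 hv)
      (B.ne v2) hW (inf_le_right.trans nJ) fun K hK => by
        have f : Fm S (a * c) K := ⟨hv, v2, hK⟩
        have F' := B.fam f
        refine B.nJ f hc.1 c2 ?_ (h.cmp c hc c2) hW
        rcases F'.split F.US F.CS F.inf F.sup (F'.nS.trans nU) (F'.nS.trans nC) with e | e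
        · exact (e.2 hc).2
        · exact (Subgroup.mul_mem_cancel_left _ (e.2 ha).2).1 f.self)
    exact ne1 a2 (F.eq1 ha ⟨ha.1, (Subgroup.mul_mem_cancel_right _ hc.2).1 this⟩)
  push Not at hr
  obtain ⟨n, hn, hr⟩ := hr
  have h1 := h.conj hn
  have l1 := (pair n hn).resolve_left hr
  obtain ⟨a', ha', a2'⟩ := (sc_of_qs B.ab h1.qs).inv B.syl h1.nS
  have k1 : Cmp (cj[n] J) C1[a] := h1.cmp a ⟨ha.1, le_cent_symm l1 ha.2⟩ a2
  have k2 : Cmp J C1[a'] := h.cmp a' ⟨ha'.1, l1 ha'.2⟩ a2'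
  have w0 : ∀ J, Cmp J C1[a] → O[C1[a]] ≤ C[J] := fun J k => le_cent_symm
    (k.le_cent_of_solvable (SN.of_norm (O_le _) (O_norm _)) (O_solv _))
  have w1 : O[C1[a]] ≤ N[J] := cmp_nD B.ab B.syl (B.c1 ha'.1) k2 (O_odd _)
    ((w0 _ k1).trans (cent_le_cent1 ha'.2)) (B.nW ha.1)
  have all : ∀ Y : Subgroup G, Y ≤ N[J] → (∀ J, Cmp J C1[a] → Y ≤ N[J]) →
      Y ≤ N[sSup {J' | ∃ m ∈ N[S], J' = cj[m] J}] := fun Y y1 y2 => le_norm_sSup (by
    rintro _ ⟨m, hm, rfl⟩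
    rcases pair m hm with e | e
    · rwa [e]
    · exact y2 _ ((h.conj hm).cmp a ⟨ha.1, le_cent_symm e ha.2⟩ a2))
  have JE : J ≤ sSup {J' | ∃ m ∈ N[S], J' = cj[m] J} := le_sSup ⟨1, one_mem _, (one_conj J).symm⟩
  have EJ : sSup {J' | ∃ m ∈ N[S], J' = cj[m] J} ≤ N[J] := sSup_le (by
    rintro _ ⟨m, hm, rfl⟩
    exact (pair m hm).elim (fun e => e.le.trans le_normalizer) le_norm_of_cent)
  have := B.kill ⟨h.qs, (SN.of_norm JE EJ).trans (SN.of_norm le_normalizer le_rfl)⟩ (fun e =>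
    (normal_iff_top_le_norm.2 e.ge).eq_bot_or_eq_top.elim (ne_bot_of_le h.qs.ne JE) fun e =>
      B.njne h (eq_top_iff.2 (e ▸ EJ))) a2 (gen_tc B.k B.syl (B.c1 ha.1) (B.ne a2)
    (all _ w1 fun J k => le_norm_of_cent (w0 J k)) (inf_le_right.trans
      (le_norm_sSup_of_conj_mem (by
        rintro g hg _ ⟨m, hm, rfl⟩
        exact ⟨g * m, mul_mem hg hm, (mul_conj g m J).symm⟩))) fun K hK => by
      have f : Fm S a K := ⟨ha.1, a2, hK⟩
      refine all _ ?_ fun J k => B.nJ f ha.1 a2 f.self k (le_norm_of_cent (w0 J k))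
      rcases (TC.of_cmp B.ab k1).eq_or hK with e | e
      · exact e ▸ sup_le (le_norm_of_cent l1) w1
      · exact B.nJ f ha'.1 a2' (e (mem_sup_left ha'.2)) k2 w1)
  exact ne1 a2 (F.eq1 ha ⟨ha.1, this⟩)

end Bs

end Cfsg.Agent.WA
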