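import Cfsg.Agent.WA.A6

/-! Case `α`, and part B2. -/

set_option autoImplicit false
set_option linter.unusedSectionVars false
set_option linter.unusedVariables false

namespace Cfsg.Agent.WA

open Cfsg Subgroup Cfsg.Agent.GT Cfsg.Agent.Cls Cfsg.Agent.GW Cfsg.Agent.Sig
open Cfsg.Agent.TT (SN QS Cmp layerOf fstarOf)
open scoped commutatorElement

universe u

def FAP : Prop := ∀ (G : Type u) [Group G] [Finite G] [IsSimpleGroup G] (S J : Subgroup G) (t : G),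
  Mn G → (∀ H : Subgroup G, ¬ SE H) → T26 (⊤ : Subgroup G) → IsPiHallOf {2} S ⊤ → orderOf t = 2 →
  t ∈ S → Nat.card S = 8 → (∀ x ∈ S, x * x = 1) →
  (∀ x ∈ S, x ≠ 1 → ∃ n ∈ N[S], n * t * n⁻¹ = x) → Cmp J C1[t] → Nat.card ↥(S ⊓ J) = 4 →
  S ≤ C[O[C1[t]]] → ∃ L D, JR' S t L D

variable {G : Type u} [Group G] [Finite G] {S H J J' K K' K0 L A D O M N U C U' C' X Y Z P : Subgroup G}
  {a b c d e g n x y z t v : G} {π : Set ℕ} {r : ℕ}

theorem card_V2 (a2 : orderOf a = 2) (t2 : orderOf t = 2) (ne : a ≠ t) (cm : a * t = t * a) :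
    Nat.card ↥(zpowers a ⊔ zpowers t) = 4 := by
  rw [card_sup_of_inf_eq_bot (.inl (le_norm_of_cent (by
    rw [cent_zpowers, zpowers_le]; exact mem_cent1.2 cm))) (eq_bot_iff.2 fun x hx =>
      (zp2' (sq1 a2) hx.1).elim id fun e => (zp2' (sq1 t2) hx.2).resolve_right (e ▸ ne)),
    Nat.card_zpowers, Nat.card_zpowers, a2, t2]

namespace Bs

variable [IsSimpleGroup G] (B : Bs S)
include B

theorem alpha0 (h : Fm S b K) (hu : ∀ e ∈ S ⊓ Cf b K, orderOf e = 2 → e = b) :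
    Fam.Two S (S ⊓ K) (S ⊓ Cf b K) b := by
  have F := B.fam h
  have hb : b ∈ S ⊓ Cf b K := ⟨h.mem, h.self⟩
  rcases F.comb (ne_bot_of_mem hb (ne1 h.ord)) fun n hn => B.term_T F (fun c hc c2 =>
    ⟨K, (hu c hc c2).symm ▸ h, rfl, by rw [hu c hc c2]⟩) hn with k | ⟨t, k⟩
  · obtain ⟨u, hu', v, hv, u1, v1, uv⟩ := F.two
    refine absurd (zpowers_eq_bot.1 (nofix B.nc B.ab B.syl (zpowers_le.2 h.mem) ?_)) (ne1 h.ord)
    rw [cent_zpowers]
    intro n hn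
    have := conj_eq_self_iff.1 ((k n hn).resolve_right fun e => uv (by
      have e1 := hu _ (e (conj_mem_conj.2 hu')) (ord2_conj (ord2 (F.sq u hu') u1) n)
      have e2 := hu _ (e (conj_mem_conj.2 hv)) (ord2_conj (ord2 (F.sq v hv) v1) n)
      simpa using e1.trans e2.symm))
    exact mem_cent1.2 (mul_inv_eq_iff_eq_mul.1 (hu _ (conj_mem_of_mem_norm (F.norm_C hn this) hb)
      (ord2_conj h.ord n)))
  · exact hu t (k.eq ▸ mem_zpowers t) k.ord ▸ k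

theorem alpha1 (g1 : G1P.{u}) (F : Fam S U C M) (k : Fam.Two S U C b) (hr : r.Prime) (r2 : r ≠ 2) :
    S ≤ C[piCoreOf {r} C1[b]] := by
  by_contra hb
  have o2 : ∀ {a}, a ∈ S → a ≠ 1 → orderOf a = 2 := fun ha a1 => ord2 (k.sq _ ha) a1
  obtain ⟨P, hP⟩ : ∃ P : G → Subgroup G, ∀ a, P a = piCoreOf {r} C1[a] := ⟨_, fun _ => rfl⟩
  have pP : ∀ a : G, IsPGroup r (P a) := fun a => by rw [hP]; exact piCoreOf_isPGroup hr _
  have lP : ∀ a : G, P a ≤ C1[a] := fun a => by rw [hP]; exact piCoreOf_le _ _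
  have nP : ∀ a : G, C1[a] ≤ N[P a] := fun a => by rw [hP]; exact self_le_norm_piCoreOf _ _
  have cP : ∀ g a : G, cj[g] (P a) = P (g * a * g⁻¹) := fun g a => by
    rw [hP, hP, conj_piCoreOf, conj_cent1]
  have OP : ∀ a : G, P a ≤ O[C1[a]] := fun a => by rw [hP]; exact Op_le_O r2 _
  rw [← hP] at hb
  have zP : ∀ a : G, zpowers a ≤ C[P a] := fun a => zpowers_le.2 (mem_cent_iff.2 (lP a))
  have all : ∀ a ∈ S, a ≠ 1 → ¬ S ≤ C[P a] ∧ ∃ U M, Fam S U (zpowers a) M ∧ M ≤ N[P a] :=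
    fun a ha a1 => by
    obtain ⟨n, hn, rfl⟩ := k.tr a ha a1
    have F' := F.conj hn
    rw [k.eq, conj_zpowers] at F'
    refine ⟨fun e => hb ?_, _, _, F', (F'.cC.trans (cent_zpowers _).le).trans (nP _)⟩
    rwa [← cP, ← conj_centralizer, ← conj_eq_self hn, conj_le_conj_iff] at e
  have dec : ∀ {a t : G} {U M : Subgroup G}, Fam S U (zpowers a) M → a ∈ S → t ∈ S → t ≠ 1 →
      a ≠ t → ∃ u ∈ U, ∃ c ∈ zpowers a, u ≠ 1 ∧ t = u * c := fun {a t U M} F ha ht t1 ne => by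
    obtain ⟨u, hu, c, hc, rfl⟩ := F.dec ht
    refine ⟨u, hu, c, hc, fun e => ?_, rfl⟩
    rw [e, one_mul] at t1 ne
    exact ne ((zp2' (k.sq a ha) hc).resolve_left t1).symm
  have h2 : ∀ a ∈ S, ∀ t ∈ S, a ≠ 1 → t ≠ 1 → a ≠ t → a ∉ C[P t] := fun a ha t ht a1 t1 ne e => by
    obtain ⟨n, U, M, F, m⟩ := all t ht t1
    obtain ⟨u, hu, c, hc, u1, rfl⟩ := dec F ht ha a1 ne.symm
    exact n (F.sup.trans (sup_le (F.irr (le_norm_cent m) (ne_bot_of_mem (x := u) ⟨hu,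
      (Subgroup.mul_mem_cancel_right _ (zP t hc)).1 e⟩ u1)) (zP t)))
  have h1 : ∀ a ∈ S, ∀ t ∈ S, a ≠ 1 → t ≠ 1 → a ≠ t → ¬ S ≤ C[P a ⊓ C1[t]] :=
    fun a ha t ht a1 t1 ne e => by
    obtain ⟨n, U, M, F, m⟩ := all a ha a1
    obtain ⟨u, hu, c, hc, u1, rfl⟩ := dec F ha ht t1 ne
    have e1 : P a ⊓ C1[u] ≤ C[S] := (le_inf inf_le_left fun y hy =>
      c1_mul hy.2 (mem_cent_iff.1 (zP a hc) hy.1)).trans (le_cent_symm e)
    have e2 : ∀ v ∈ U, v ≠ 1 → P a ⊓ C1[v] ≤ C[S] := fun v hv v1 => by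
      obtain ⟨g, hg, rfl⟩ := F.tr u hu v hv u1 v1
      have := conj_mono g e1
      rwa [conj_inf, conj_eq_self (m hg), conj_cent1, conj_centralizer,
        conj_eq_self (F.nS hg)] at this
    obtain ⟨v, hv, w, hw, v1, w1, vw⟩ := F.two
    have cm := B.ab.comm B.syl (F.US hw) (F.US hv)
    have n' := (B.c1 ha).trans (nP a)
    exact n (le_cent_symm (gen3 (o2 (F.US hv) v1) (o2 (F.US hw) w1) vw.symm cm (odd_p hr r2 (pP a))
      (n' (F.US hv)) (n' (F.US hw)) (e2 v hv v1) (e2 w hw w1) (e2 _ (mul_mem hv hw)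
        (ne1 (ord2_mul (o2 (F.US hv) v1) (o2 (F.US hw) w1) vw.symm cm)))))
  have key : ∀ a ∈ S, ∀ t ∈ S, a ≠ 1 → t ≠ 1 → a ≠ t → P a ⊓ C1[t] ≤ P t ∧
      ∃ c ∈ S, c ≠ 1 ∧ t ≠ c ∧ ¬ P t ⊓ C1[c] ≤ P c := fun a ha t ht a1 t1 ne => by
    have nX : S ≤ N[P a ⊓ C1[t]] := le_norm_inf ((B.c1 ha).trans (nP a)) (B.nC ht)
    have n1 := h1 a ha t ht a1 t1 ne
    obtain ⟨J, Y, hJ, nt, nJ, y1, y2, -, y4⟩ := B.useG1 g1 ha (o2 ha a1) hr r2 (X := P a ⊓ C1[t])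
      (fun e => n1 (by rw [e, cent_bot]; exact le_top)) (inf_le_left.trans (hP a).le) nX
      (pP t) ((B.c1 ht).trans (nP t)) (inf_le_right.trans (nP t)) (h2 a ha t ht a1 t1 ne)
    have F := B.famQ hJ.toQS nt nJ
    have c4 := fun h => y4 ((le_inf (y1.trans (OP t)) y2).trans
      (B.c4Q hJ.toQS nt nJ ht (o2 ht t1) h))
    have hC : S ⊓ C[J] ≠ ⊥ := fun e => c4 (.inr (B.ne4 F e))
    obtain ⟨c, hc, c2⟩ := exists_inv_of_le B.syl inf_le_left hC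
    refine ⟨?_, c, hc.1, ne1 c2, fun e => c4 (.inl (e ▸ hc.2)), fun e => y4 ((le_inf ((le_inf y1
      (y2.trans (mem_cent_iff.1 hc.2))).trans (e.trans (OP c))) y2).trans
        (B.c4Q hJ.toQS nt nJ hc.1 c2 (.inl hc.2)))⟩
    have cX : J ≤ C[P a ⊓ C1[t]] := hJ.le_cent_of_solvable (SN.of_norm le_normalizer le_rfl)
      (solvable_of_isPGroup hr ((pP a).to_le inf_le_left))
    have aV : a ∈ S ⊓ C[P a ⊓ C1[t]] := ⟨ha, mem_cent_iff.2 (inf_le_left.trans (lP a))⟩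
    have tV : t ∈ S ⊓ C[P a ⊓ C1[t]] := ⟨ht, mem_cent_iff.2 inf_le_right⟩
    have UV : S ⊓ J ≤ S ⊓ C[P a ⊓ C1[t]] := inf_le_inf_left _ cX
    have c1 := F.card_S
    have c3 := F.four_le
    have c5 := ne_bot_iff_one_lt_card.1 hC
    have c6 := card_lt_of_lt (lt_of_le_of_ne (inf_le_left (b := C[P a ⊓ C1[t]])) fun e =>
      n1 (e.ge.trans inf_le_right))
    have c7 := card_dvd_of_le (inf_le_left (a := S) (b := C[P a ⊓ C1[t]]))
    rw [k.cS] at c1 c6 c7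
    have e := eq_of_le_of_card_ge UV (by
      generalize Nat.card ↥(S ⊓ C[P a ⊓ C1[t]]) = m at *
      interval_cases m <;> omega)
    obtain ⟨g, hg, rfl⟩ := F.tr a (e ▸ aV) t (e ▸ tV) a1 t1
    rw [← cP, ← conj_eq_self_of_mem_cent (cX hg.1)]
    exact conj_mono g inf_le_left
  obtain ⟨u, hu, v, hv, u1, v1, uv⟩ := F.two
  obtain ⟨c, hc, c1, ne, e⟩ := (key u (F.US hu) v (F.US hv) u1 v1 uv).2
  exact e (key v (F.US hv) c hc v1 c1 ne).1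

theorem alpha (g1 : G1P.{u}) (fa : FAP.{u}) (h : ¬ Bt S) : ∃ t L D, JR' S t L D := by
  unfold Bt at h
  push Not at h
  obtain ⟨b, K, h, h4, hu⟩ := h
  have k := B.alpha0 h hu
  have hW : S ≤ C[O[C1[b]]] := coprime_le_cent_of_le_cent_fittingOf (O_solv _) (B.nW h.mem)
    (cop2' (O_odd _) B.pg) (fittingOf_le_cent_of_forall fun r hr => le_trans (by
      by_cases r2 : r = 2
      · exact r2 ▸ B.ab.cent B.syl (piCoreOf_le_hall (B.syl.of_le (B.c1 h.mem) le_top))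
      · exact B.alpha1 g1 (B.fam h) k hr r2) (cent_anti (sn_core ((SN.of_norm (piCoreOf_le _ _)
        (self_le_norm_piCoreOf _ _)).trans (SN.of_norm (O_le _) (O_norm _))) (piCoreOf_isPi _ _))))
  obtain ⟨J, hJ, e, -⟩ := B.genuine h (inf_le_left.trans hW)
  exact ⟨b, fa G S J b B.mn B.nse B.t26 B.syl h.ord h.mem k.cS k.sq k.tr hJ (e ▸ h4) hW⟩

end Bs

theorem b2_of (rig : RIG.{u}) (gl : GL2P.{u}) (g1 : G1P.{u}) (fa : FAP.{u}) : B2.{u} :=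
  fun G _ _ _ m nse t26 => by
  obtain ⟨S, hS⟩ := exists_syl Nat.prime_two (⊤ : Subgroup G)
  have B : Bs S := ⟨⟨m.ab, m.ih, rig⟩, hS, m.nc, t26, m.rk, nse⟩
  exact ⟨S, B.alpha g1 fa (B.beta gl g1)⟩

end Cfsg.Agent.WA
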