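import Cfsg.Agent.WA.B1A

/-! Walter's theorem, part B1: subgroups normalized by an involution centralizer. -/

set_option autoImplicit false
set_option linter.unusedSectionVars false
set_option linter.unusedVariables false

namespace Cfsg.Agent.WA

open Cfsg Subgroup Cfsg.Agent.GT Cfsg.Agent.Cls Cfsg.Agent.GW
open Cfsg.Agent.TT (QS Cmp SN layerOf fstarOf)
open scoped commutatorElement

universe u

variable {G : Type u} [Group G] [Finite G] {p q n : ℕ}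
  {A B D E H J K L M P Q R S T U W X Y Γ : Subgroup G} {a b c d e g k k' s t v w x y z : G}

theorem cent_pq (hp : p.Prime) (hq : q.Prime) (hpq : p ≠ q) (hP : IsPGroup p P) (hQ : IsPGroup q Q)
    (h1 : P ≤ N[Q]) (h2 : Q ≤ N[P]) : P ≤ C[Q] :=
  le_cent_of_norm_of_coprime h1 h2 (cop_pq hp hq hpq hP hQ)

/-- `[X, Y] ≤ P ⊓ Q = 1`. -/
theorem cent_pq' (hp : p.Prime) (hq : q.Prime) (hpq : p ≠ q) (hP : IsPGroup p P) (hQ : IsPGroup q Q)
    (hX : X ≤ P) (hY : Y ≤ Q) (h1 : X ≤ N[Q]) (h2 : Y ≤ N[P]) : X ≤ C[Y] :=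
  le_cent_iff_commutator_eq_bot.2 (eq_bot_of_le_of_coprime ((commutator_mono hX le_rfl).trans
    (commutator_le_of_le_norm_left h2)) ((commutator_mono le_rfl hY).trans
      (commutator_le_of_le_norm_right h1)) (cop_pq hp hq hpq hP hQ))

theorem AB.cmp_cent (h : AB G) (hK : Cmp K U) (hq : q.Prime) (hX : IsPGroup q X) (h1 : K ≤ N[X])
    (h2 : X ≤ N[U]) : X ≤ C[K] := by
  refine (qs_or hK.toQS h1 ?_).resolve_left (hK.not_le_of_solvable (solvable_of_isPGroup hq hX))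
  by_cases e : q = 2
  · subst e; exact h.normS hK hX h2
  · obtain ⟨k, hk, ok⟩ := qs_inv hK.toQS
    exact h.normW hK (odd_p hq e hX) h2 hk ok (h1 hk)

theorem comm_cent_of (ht : t * t = 1) (k2 : k * k = 1) (e : t * k ∈ C[K]) (hW : W ≤ N[K])
    (h : W ≤ C1[k]) : ⁅W, zpowers t⁆ ≤ C[K] := comm_zp_le ht fun w hw => by
  have := mul_mem (conj_mem_of_mem_norm (norm_le_norm_cent K (hW hw)) e) (inv_mem e)
  rwa [show w * (t * k) * w⁻¹ * (t * k)⁻¹ = w * t * w⁻¹ * (w * k * w⁻¹ * k⁻¹) * t⁻¹ by group,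
    mem_cent1.1 (h hw), mul_inv_cancel_right, mul_inv_cancel, mul_one] at this

theorem KG.k1c (h : KG G n) (hK : Cmp K U) (hc : Nat.card K < n) (ho : Odd (Nat.card W))
    (hU : W ≤ N[U]) (hn : K ⊓ C1[t] ≤ N[W]) (hk : k ∈ K) (k2 : k * k = 1) (e : t * k ∈ C[K]) :
    W ≤ N[K] ∧ W ≤ C1[k] := by
  by_cases k1 : k = 1
  · subst k1
    obtain ⟨j, hj, oj⟩ := qs_inv hK.toQS
    exact ⟨h.ab.normW hK ho hU hj oj (hn ⟨hj, mem_cent_iff.1 (mul_one t ▸ e) hj⟩), by simp⟩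
  have kW : k ∈ N[W] := hn ⟨hk, (c1_of_inner hk k2 e hk).2 (self_mem_cent1 k)⟩
  have h1 := h.ab.normW hK ho hU hk (ord2 k2 k1) kW
  refine ⟨h1, le_c1 k2 kW ho ((le_inf (commutator_le_of_le_norm_left (zp_norm kW))
    ((commutator_mono le_rfl (zpowers_le.2 hk)).trans (commutator_le_of_le_norm_right h1))).trans
    (h.t26a hK.toQS hc hk (ord2 k2 k1) inf_le_right (le_norm_inf (fun x hx => hn ⟨hx.1,
      (c1_of_inner hk k2 e hx.1).2 hx.2⟩) (le_norm_self inf_le_left))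
      (odd_card_of_le ho inf_le_left)))⟩

theorem le_fit (hX : X ≤ H) (h1 : ∀ q, q.Prime → X ≤ C[piCoreOf {q} H])
    (h2 : ∀ K, Cmp K H → X ≤ C[K]) : X ≤ fittingOf H := by
  refine (le_inf hX ?_).trans (TT.inf_cent_fstarOf_le H)
  rw [fstarOf, cent_sup]
  exact le_inf (le_cent_symm (TT.layerOf_le_of_forall fun K hK => le_cent_symm (h2 K hK)))
    (fittingOf_le_cent_of_forall h1)

theorem eq_bot_of_cent (hp : p.Prime) (h0 : piCoreOf {p} H = ⊥) (hX : X ≤ H) (pX : IsPGroup p X)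
    (h1 : ∀ q, q.Prime → q ≠ p → X ≤ C[piCoreOf {q} H]) (h2 : ∀ K, Cmp K H → X ≤ C[K]) : X = ⊥ :=
  le_bot_iff.1 (h0 ▸ le_piCoreOf_of_le_fittingOf (le_fit hX (fun q hq => by
    by_cases e : q = p
    · rw [e, h0, cent_bot]; exact le_top
    · exact h1 q hq e) h2) (isPi_of_isPGroup hp pX))

theorem card_lt_of_le (h : K ≤ H) (hc : Nat.card H < n) : Nat.card K < n :=
  (card_le_of_le h).trans_lt hc

theorem KG.k1core (h : KG G n) (hc : Nat.card H < n) (hp : p.Prime) (hp2 : p ≠ 2)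
    (h0 : piCoreOf {p} H = ⊥) (ht : t * t = 1) (tH : t ∈ H) (hW : IsPGroup p W) (WH : W ≤ H)
    (hn : H ⊓ C1[t] ≤ N[W]) : ⁅W, zpowers t⁆ = ⊥ := by
  have tW : t ∈ N[W] := hn ⟨tH, self_mem_cent1 t⟩
  have W1 : ⁅W, zpowers t⁆ ≤ W := commutator_le_of_le_norm_left (zp_norm tW)
  have ho := odd_p hp hp2 hW
  refine eq_bot_of_cent hp h0 (W1.trans WH) (hW.to_le W1) (fun q hq hqp => ?_) fun K hK => ?_
  · have pQ := piCoreOf_isPGroup hq H
    have nQ := self_le_norm_piCoreOf {q} H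
    have h1 : W ≤ C[piCoreOf {q} H ⊓ C1[t]] := cent_pq' hp hq hqp.symm hW pQ le_rfl inf_le_left
      (WH.trans nQ) ((inf_le_inf_right _ (piCoreOf_le _ _)).trans hn)
    by_cases e : q = 2
    · subst e
      rw [inf_eq_left.2 (h.ab.pc1 pQ ht (nQ tH))] at h1
      exact W1.trans h1
    refine comm_zp_le ht fun w hw => ?_
    have hy := W1 (commutator_mem_commutator hw (mem_zpowers t))
    refine lem_inv (nilpotent_of_isPGroup hq pQ) (odd_p hq e pQ) ht (nQ tH) (nQ (WH hy))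
      ((cop_pq hq hp hqp pQ hW).coprime_dvd_right (orderOf_dvd_card_of_mem hy)) ?_ (odd_ord ho hy)
      (mem_cent_iff.1 (h1 hy))
    rw [commutatorElement_def, inv_eq_of_mul_eq_one_right ht,
      show t * (w * t * w⁻¹ * t) * t = t * w * t * w⁻¹ * (t * t) by group, ht, mul_one, mul_inv_rev,
      mul_inv_rev, mul_inv_rev, inv_eq_of_mul_eq_one_right ht]
    group
  · obtain ⟨k, hk, k2, e⟩ := h.ab.inner hK.toQS ht (h.ab.norm2' hK ht (le_normalizer tH))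
    obtain ⟨h1, h2⟩ := h.k1c hK (card_lt_of_le hK.le hc) ho (WH.trans le_normalizer)
      ((inf_le_inf_right _ hK.le).trans hn) hk k2 e
    exact comm_cent_of ht k2 e h1 h2

theorem KG.quoP (h : KG G n) (hc : Nat.card L < n) (hp : p.Prime) (hp2 : p ≠ 2) :
    ∃ (Q : Type u) (_ : Group Q) (_ : Finite Q) (f : L →* Q), Function.Surjective f ∧
      kr f = piCoreOf {p} L ∧ Odd (Nat.card (kr f)) ∧ KG Q n ∧ Nat.card (⊤ : Subgroup Q) < n ∧
      piCoreOf {p} (⊤ : Subgroup Q) = ⊥ := by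
  obtain ⟨Q, _, _, f, hf, hk⟩ := exists_quo' L _ (piCoreOf_le {p} L) (self_le_norm_piCoreOf _ _)
  refine ⟨Q, _, inferInstance, f, hf, hk, hk ▸ odd_p hp hp2 (piCoreOf_isPGroup hp L),
    ⟨h.ab.of_surj hf, h.ih, h.g3⟩, ?_, ?_⟩
  · rw [card_top]; exact (Nat.card_le_card_of_surjective f hf).trans_lt hc
  · rw [← im_dom_of_surj hf]; exact piCoreOf_im_eq_bot le_rfl hk

theorem KG.k1 (h : KG G n) (hc : Nat.card L < n) (hp : p.Prime) (hp2 : p ≠ 2)
    (ht : orderOf t = 2) (tL : t ∈ L) (hW : IsPGroup p W) (WL : W ≤ L)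
    (hn : L ⊓ C1[t] ≤ N[W]) : ⁅W, zpowers t⁆ ≤ piCoreOf {p} L := by
  obtain ⟨Q, _, _, f, hf, hk, ho, hQ, c, h0⟩ := h.quoP hc hp hp2
  have := hQ.k1core c hp hp2 h0 (sq1 (im_ord2 ho ht tL)) (mem_top _) (isPGroup_im (f := f) hW) le_top
    (by rw [top_inf_eq, ← im_cent1 hf ho ht tL]; exact im_norm hn)
  rwa [← im_zpowers tL, ← im_commutator WL (zpowers_le.2 tL), im_eq_bot_iff
    ((commutator_mono WL (zpowers_le.2 tL)).trans (der1_le L)), hk] at this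

theorem KG.k1e (h : KG G n) (hc : Nat.card L < n) (ha : orderOf a = 2) (aL : a ∈ L)
    (hK : Cmp K U) (hn : L ⊓ C1[a] ≤ N[U]) (aK : a ∉ C[K]) (KL : K ≤ L) : Cmp K L := by
  by_contra h0
  have ab := h.ab
  have a2 := sq1 ha
  have aN : a ∈ N[K] := ab.norm2' hK a2 (hn ⟨aL, self_mem_cent1 a⟩)
  have per := qs_comm hK.toQS aN aK
  refine hK.not_le_of_solvable (fittingOf_solvable L) (le_fit KL (fun q hq => ?_) fun J hJ => ?_)
  · obtain ⟨k, hk, k2, e⟩ := ab.inner hK.toQS a2 aN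
    have ok : orderOf k = 2 := ord2 k2 fun e1 => aK (by rwa [e1, mul_one] at e)
    have ka : k ∈ C1[a] := (c1_of_inner hk k2 e hk).2 (self_mem_cent1 k)
    have pQ := piCoreOf_isPGroup hq L
    have nQ := self_le_norm_piCoreOf {q} L
    have h1 : piCoreOf {q} L ⊓ C1[a] ≤ N[U] := (inf_le_inf_right _ (piCoreOf_le _ _)).trans hn
    have h2 : piCoreOf {q} L ⊓ C1[a] ≤ N[K] := by
      by_cases e : q = 2
      · subst e; exact ab.normS hK (pQ.to_le inf_le_left) h1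
      · exact ab.normW hK (odd_p hq e (pQ.to_le inf_le_left)) h1 hk ok
          (le_norm_inf (zp_norm (nQ (KL hk))) (zp_norm (le_normalizer ka)) (mem_zpowers k))
    have h3 : piCoreOf {q} L ⊓ C1[a] ≤ C[K] := qs_cent hK.toQS ((le_inf
      (commutator_le_of_le_norm_left h2) ((commutator_mono le_rfl inf_le_left).trans
        (commutator_le_of_le_norm_right (KL.trans nQ)))).trans
      ((hK.max _ inf_le_left (le_norm_inf le_normalizer (KL.trans nQ))).resolve_right fun e =>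
        hK.not_le_of_solvable (solvable_of_isPGroup hq pQ) (inf_eq_left.1 e)))
    by_cases e2 : q = 2
    · subst e2
      rw [inf_eq_left.2 (ab.pc1 pQ a2 (nQ aL))] at h3
      exact le_cent_symm h3
    obtain ⟨g, hg, c1, ne⟩ := ab.four hK.toQS hk ok
    have cg := mem_cent1.1 (mem_cent_iff.1 e hg)
    have ea : g * a * g⁻¹ = a * k * (g * k * g⁻¹) := by
      rw [← mul_assoc, ← mul_assoc, ← cg, mul_assoc g (a * k) k, mul_assoc a k k, k2, mul_one]
    have c2 := mem_cent1.1 (mem_cent_iff.1 e (cj_mem hg hk))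
    have e3 : a * (g * a * g⁻¹) = k * (g * k * g⁻¹) := by rw [ea, mul_assoc a k, tt a2]
    have k3 : k * (g * k * g⁻¹) ∈ K := mul_mem hk (cj_mem hg hk)
    have o3 := ord2_mul ok (ord2_conj ok g) ne c1.symm
    have h4 : piCoreOf {q} L ≤ C1[k * (g * k * g⁻¹)] := by
      refine gen3 ha (ord2_conj ha g) (fun e4 => ne1 o3 (by rw [← e3, e4, a2])) ?_ (odd_p hq e2 pQ)
        (nQ aL) (nQ (cj_mem (KL hg) aL)) (h3.trans (cent_le_cent1 k3)) ?_ (e3 ▸ inf_le_right)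
      · rw [e3, ea, mul_assoc a k, ← mem_cent1.1 ((c1_of_inner hk k2 e k3).2
          (mem_cent1.2 (by rw [mul_assoc, ← c1]))), mul_assoc, a2, mul_one]
      · rw [← conj_cent1, ← conj_eq_self (nQ (KL hg)), ← conj_inf]
        refine (conj_mono g h3).trans ?_
        rw [conj_eq_self (norm_le_norm_cent K (le_normalizer hg))]
        exact cent_le_cent1 k3
    exact qs_le hK.toQS (le_norm_cent (KL.trans nQ)) k3 (mem_cent_iff.2 h4) (ab.nc hK.toQS k3 o3)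
  · have aJ : a ∈ N[J] := ab.norm2' hJ a2 (le_normalizer aL)
    have KJ : K ≤ N[J] := by
      rw [← per]
      exact comm_zp_le a2 fun x hx => mul_mem (ab.norm2' hJ (sq_conj a2 x)
        (le_normalizer (cj_mem (KL hx) aL))) (inv_mem aJ)
    obtain ⟨j, hj, j2, e⟩ := ab.inner hJ.toQS a2 aJ
    by_cases jK : j ∈ C[K]
    · rw [← per]; exact comm_cent_of a2 j2 e KJ (mem_cent_iff.1 jK)
    have oj : orderOf j = 2 := ord2 j2 fun e1 => jK (e1 ▸ one_mem _)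
    have n1 : J ⊓ C1[j] ≤ N[U] := fun x hx => hn ⟨hJ.le hx.1, (c1_of_inner hj j2 e hx.1).2 hx.2⟩
    have per' := qs_comm hK.toQS (ab.norm2' hK j2 (n1 ⟨hj, self_mem_cent1 j⟩)) jK
    have KJ' : K ≤ J := per' ▸ (commutator_mono le_rfl (zpowers_le.2 hj)).trans
      (commutator_le_of_le_norm_right KJ)
    rcases h.t26 hJ.toQS (card_lt_of_le hJ.le hc) hj oj (J := U ⊓ J) inf_le_right
      (le_norm_inf n1 (le_norm_self inf_le_left)) with e1 | e1
    · exact absurd ((hK.of_le KJ' (e1.trans inf_le_left)).trans hJ.sn) h0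
    · exact absurd (per' ▸ commutator_mono (le_inf hK.le KJ') le_rfl) (hK.not_le_of_solvable e1.1)

theorem KG.wbcore (h : KG G n) (hc : Nat.card H < n) (hp : p.Prime) (hp2 : p ≠ 2)
    (h0 : piCoreOf {p} H = ⊥) (od : orderOf d = 2) (oe : orderOf e = 2) (b2 : b * b = 1)
    (dH : d ∈ H) (eH : e ∈ H) (bH : b ∈ H) (ne : e ≠ d) (c1 : e * d = d * e) (c2 : b * d = d * b)
    (c3 : b * e = e * b) (h1 : R ≤ piCoreOf {p} (H ⊓ C1[d])) (h2 : R ≤ piCoreOf {p} (H ⊓ C1[e]))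
    (h3 : R ≤ piCoreOf {p} (H ⊓ C1[d * e])) (bR : b ∈ N[R]) : ⁅R, zpowers b⁆ = ⊥ := by
  have ab := h.ab
  have R1 : ⁅R, zpowers b⁆ ≤ R := commutator_le_of_le_norm_left (zp_norm bR)
  have pO : ∀ x : G, IsPGroup p (piCoreOf {p} (H ⊓ C1[x])) := fun x => piCoreOf_isPGroup hp _
  have lO : ∀ x : G, piCoreOf {p} (H ⊓ C1[x]) ≤ H := fun x => (piCoreOf_le _ _).trans inf_le_left
  have nO : ∀ x : G, H ⊓ C1[x] ≤ N[piCoreOf {p} (H ⊓ C1[x])] := fun x => self_le_norm_piCoreOf _ _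
  have pR := (pO d).to_le h1
  refine eq_bot_of_cent hp h0 (R1.trans (h1.trans (lO d))) (pR.to_le R1) (fun q hq hqp => ?_)
    fun K hK => ?_
  · have pQ := piCoreOf_isPGroup hq H
    have nQ := self_le_norm_piCoreOf {q} H
    have k : ∀ x : G, R ≤ piCoreOf {p} (H ⊓ C1[x]) → piCoreOf {q} H ⊓ C1[x] ≤ C[R] := fun x hx =>
      cent_pq' hq hp hqp pQ (pO x) inf_le_left hx ((inf_le_inf_right _ (piCoreOf_le _ _)).trans (nO x))
        (hx.trans ((lO x).trans nQ))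
    refine R1.trans (le_cent_symm ?_)
    by_cases e2 : q = 2
    · subst e2
      exact (le_inf le_rfl (ab.pc1 pQ (sq1 od) (nQ dH))).trans (k d h1)
    · exact gen3 od oe ne c1 (odd_p hq e2 pQ) (nQ dH) (nQ eH) (k d h1) (k e h2) (k _ h3)
  have k : ∀ x : G, R ≤ piCoreOf {p} (H ⊓ C1[x]) → x ∈ C[K] → ⁅R, zpowers b⁆ ≤ C[K] := fun x hx xK =>
    R1.trans (hx.trans (ab.cmp_cent hK hp (pO x) ((le_inf hK.le (mem_cent_iff.1 xK)).trans (nO x))
      ((lO x).trans le_normalizer)))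
  have nK : ∀ x : G, x * x = 1 → x ∈ H → x ∈ N[K] := fun x x2 xH => ab.norm2' hK x2 (le_normalizer xH)
  obtain ⟨d', hd, d2, ed⟩ := ab.inner hK.toQS (sq1 od) (nK d (sq1 od) dH)
  obtain ⟨e', he, e2, ee⟩ := ab.inner hK.toQS (sq1 oe) (nK e (sq1 oe) eH)
  obtain ⟨b', hb, b2', eb⟩ := ab.inner hK.toQS b2 (nK b b2 bH)
  by_cases d1 : d' = 1
  · exact k d h1 (by rwa [d1, mul_one] at ed)
  by_cases e1 : e' = 1
  · exact k e h2 (by rwa [e1, mul_one] at ee)
  have cm : ∀ {x y x' y' : G}, x * x = 1 → x ∈ H → x' ∈ K → y' ∈ K → x' * x' = 1 → y' * y' = 1 →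
      x * x' ∈ C[K] → y * y' ∈ C[K] → x * y = y * x → x' ∈ C1[y] ∧ x' ∈ C1[y'] :=
    fun {x y x' y'} x2 xH hx hy x2' y2 ex ey c => by
      have := ab.fix hK.toQS hy y2 ey (nK x x2 xH) (mem_cent1.2 c)
      have := mem_cent1_comm.1 ((c1_of_inner hx x2' ex hy).1 (mem_cent1_comm.1 this))
      exact ⟨(c1_of_inner hy y2 ey hx).2 this, this⟩
  by_cases de : e' = d'
  · refine k _ h3 ?_
    have := mul_mem ed (inv_mem ee)
    rwa [de, show d * d' * (e * d')⁻¹ = d * e⁻¹ by group, inv2 oe] at this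
  have cK := card_lt_of_le hK.le hc
  have kk : ∀ {x x' : G}, x' ∈ K → x' * x' = 1 → x * x' ∈ C[K] →
      piCoreOf {p} (H ⊓ C1[x]) ≤ N[K] ∧ piCoreOf {p} (H ⊓ C1[x]) ≤ C1[x'] := fun {x x'} hx x2 ex =>
    h.k1c hK cK (odd_p hp hp2 (pO x)) ((lO x).trans le_normalizer)
      ((inf_le_inf_right _ hK.le).trans (nO x)) hx x2 ex
  obtain ⟨n1, n2⟩ := kk hd d2 ed
  obtain ⟨-, n3⟩ := kk he e2 ee
  refine comm_cent_of b2 b2' eb (h1.trans n1) ?_
  by_cases b1 : b' = 1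
  · rw [b1, cent1_one]; exact le_top
  have bd := cm b2 bH hb hd b2' d2 eb ed c2
  rcases h.g3' hK.toQS cK with g | g
  · rcases g d' hd e' he b' hb (ord2 d2 d1) (ord2 e2 e1) (ord2 b2' b1) de
      (mem_cent1.1 (cm (sq1 oe) eH he hd e2 d2 ee ed c1).2) (mem_cent1.1 bd.2)
      (mem_cent1.1 (cm b2 bH hb he b2' e2 eb ee c3).2) with e3 | e3 | e3 <;> rw [e3]
    exacts [h1.trans n2, h2.trans n3, fun x hx => c1_mul (n2 (h1 hx)) (n3 (h2 hx))]
  · have bO := nO d ⟨hK.le hb, bd.1⟩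
    have := g d' hd (ord2 d2 d1) (piCoreOf {p} (H ⊓ C1[d]) ⊓ K)
      (odd_card_of_le (odd_p hp hp2 (pO d)) inf_le_left) (le_inf inf_le_right (inf_le_left.trans n2))
      (le_norm_inf (fun x hx => nO d ⟨hK.le hx.1, (c1_of_inner hd d2 ed hx.1).2 hx.2⟩)
        (le_norm_self inf_le_left))
    exact h1.trans (le_c1 b2' bO (odd_p hp hp2 (pO d)) ((le_inf
      (commutator_le_of_le_norm_left (zp_norm bO)) ((commutator_mono le_rfl (zpowers_le.2 hb)).trans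
        (commutator_le_of_le_norm_right n1))).trans (this.trans (cent_le_cent1 hb))))

theorem KG.wb (h : KG G n) (hc : Nat.card L < n) (hp : p.Prime) (hp2 : p ≠ 2)
    (od : orderOf d = 2) (oe : orderOf e = 2) (ob : orderOf b = 2)
    (dH : d ∈ L) (eH : e ∈ L) (bH : b ∈ L) (ne : e ≠ d) (c1 : e * d = d * e) (c2 : b * d = d * b)
    (c3 : b * e = e * b) (RL : R ≤ L) (h1 : R ≤ piCoreOf {p} C1[d]) (h2 : R ≤ piCoreOf {p} C1[e])
    (h3 : R ≤ piCoreOf {p} C1[d * e]) (bR : b ∈ N[R]) : ⁅R, zpowers b⁆ ≤ piCoreOf {p} L := by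
  obtain ⟨Q, _, _, f, hf, hk, ho, hQ, c, h0⟩ := h.quoP hc hp hp2
  have k : ∀ {x : G} (hx : x ∈ L), orderOf x = 2 → R ≤ piCoreOf {p} C1[x] →
      im f R ≤ piCoreOf {p} (⊤ ⊓ C1[f ⟨x, hx⟩]) := fun {x} hx ox hR => by
    rw [top_inf_eq, ← im_cent1 hf ho ox hx]
    exact (im_mono ((le_inf hR (le_inf RL (hR.trans (piCoreOf_le _ _)))).trans
      (piCoreOf_inf_le inf_le_right))).trans (im_piCoreOf_le inf_le_left)
  have cm : ∀ {x y : G} (hx : x ∈ L) (hy : y ∈ L), x * y = y * x →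
      f ⟨x, hx⟩ * f ⟨y, hy⟩ = f ⟨y, hy⟩ * f ⟨x, hx⟩ := fun hx hy e => by
    rw [← map_mul, ← map_mul]; exact congrArg f (Subtype.ext e)
  have ode := ord2_mul od oe ne c1
  have := hQ.wbcore c hp hp2 h0 (im_ord2 ho od dH) (im_ord2 ho oe eH) (sq1 (im_ord2 ho ob bH))
    (mem_top _) (mem_top _) (mem_top _) (fun e1 => ne1 (im_ord2 ho ode (mul_mem dH eH)) (by
      rw [fmul f dH eH, e1, sq1 (im_ord2 ho od dH)])) (cm eH dH c1) (cm bH dH c2) (cm bH eH c3)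
    (k dH od h1) (k eH oe h2) (fmul f dH eH ▸ k (mul_mem dH eH) ode h3)
    (im_norm (zp_norm bR) (mem_im_of_mem bH (mem_zpowers b)))
  rwa [← im_zpowers bH, ← im_commutator RL (zpowers_le.2 bH), im_eq_bot_iff
    ((commutator_mono RL (zpowers_le.2 bH)).trans (der1_le L)), hk] at this

end Cfsg.Agent.WA
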