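import Cfsg.Agent.WA.B1B

/-! Walter's theorem, part B1: Bender's theorem on maximal subgroups with `F*`. -/

set_option autoImplicit false
set_option linter.unusedSectionVars false
set_option linter.unusedVariables false

namespace Cfsg.Agent.WA

open Cfsg Subgroup Cfsg.Agent.GT Cfsg.Agent.Cls Cfsg.Agent.GW
open Cfsg.Agent.TT (QS Cmp SN layerOf fstarOf)
open scoped commutatorElement

universe u

variable {G : Type u} [Group G] [Finite G] {p q r n : ℕ}
  {A B C D E H J K L M P Q R S T U W X X' Y Γ : Subgroup G} {a b c d e g k k' s t v w x y z : G}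

theorem AB.dh (h : AB G) (ox : orderOf x = 2) (oy : orderOf y = 2) (hx : x ∈ H) (hy : y ∈ H)
    (nc : ∀ g ∈ H, g * y * g⁻¹ ≠ x) :
    ∃ z ∈ H, orderOf z = 2 ∧ x ∈ C1[z] ∧ y ∈ C1[z] ∧ ∃ g ∈ H ⊓ C1[z], x * z = g * y * g⁻¹ := by
  have x2 := sq1 ox
  have y2 := sq1 oy
  have m := mul_mem hx hy
  have hev : Even (orderOf (x * y)) := by
    by_contra h0
    obtain ⟨k, hk⟩ := BS.conj_of_odd x2 y2 (Nat.not_even_iff_odd.1 h0)
    exact nc ((x * y) ^ k)⁻¹ (inv_mem (pow_mem m k)) (by rw [inv_inv, ← hk])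
  obtain ⟨k, h1, h2, h3, h4⟩ := BS.central_of_even x2 y2 hev
  refine ⟨_, pow_mem m k, h2, mem_cent1.2 h3.symm, mem_cent1.2 h4.symm, ?_⟩
  rcases Nat.even_or_odd' k with ⟨j, rfl | rfl⟩
  · exfalso
    have e := BS.invol_mul_pow x2 y2 j
    have pg : IsPGroup 2 (zpowers ((x * y) ^ j)) := (isPGroup_zpowers_iff Nat.prime_two).2
      ((piNat_single_pow Nat.prime_two 2).of_dvd (orderOf_dvd_of_pow_eq_one (by
        rw [← pow_mul, show j * 2 ^ 2 = 2 * (2 * j) by ring, ← h1, pow_orderOf_eq_one])))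
    have := mem_cent1.1 (h.pc1 pg x2 (conj_eq_self_iff.1 (by
      rw [conj_zpowers, e, mul_inv_cancel_right, zpowers_inv])) (mem_zpowers _))
    rw [e, mul_left_inj] at this
    exact ne1 h2 (by rw [two_mul, pow_add]; nth_rewrite 2 [this]; rw [mul_inv_cancel])
  · refine ⟨((x * y) ^ j)⁻¹, mem_inf.2 ⟨inv_mem (pow_mem m j), inv_mem (mem_cent1.2 ?_)⟩, ?_⟩
    · rw [← pow_add, ← pow_add, add_comm]
    · rw [inv_inv, BS.invol_mul_pow_odd x2 y2]

theorem AB.qs_norm (h : AB G) (hK : Cmp K U) (hJ : QS J) (hn : J ≤ N[U]) : J ≤ N[K] := by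
  obtain ⟨j, hj, oj⟩ := qs_inv hJ
  rw [← qs_comm hJ (le_normalizer hj) (h.nc hJ hj oj)]
  exact comm_zp_le (sq1 oj) fun x hx => mul_mem (h.norm2' hK (sq_conj (sq1 oj) x)
    (hn (cj_mem hx hj))) (inv_mem (h.norm2' hK (sq1 oj) (hn hj)))

theorem AB.inv_lay (h : AB G) (s2 : s * s = 1) (hs : s ∈ M) :
    ∃ e ∈ layerOf M, s * e ∈ C[layerOf M] ∧ s * e * (s * e) = 1 := by
  induction hn : {J | Cmp J M ∧ s ∉ C[J]}.ncard using Nat.strong_induction_on generalizing s with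
  | _ m ih =>
  by_cases h0 : ∃ J, Cmp J M ∧ s ∉ C[J]
  · obtain ⟨J, hJ, sJ⟩ := h0
    obtain ⟨j, hj, j2, e⟩ := h.inner hJ.toQS s2 (h.norm2' hJ s2 (le_normalizer hs))
    have c := mem_cent1.1 ((c1_of_inner hj j2 e hj).2 (self_mem_cent1 j))
    obtain ⟨e', he, h1, h2⟩ := ih _ (by
      rw [← hn]
      refine Set.ncard_lt_ncard (Set.ssubset_iff_subset_ne.2 ⟨?_, fun e1 => ?_⟩) (Set.toFinite _)
      · rintro K ⟨hK, h1⟩
        refine ⟨hK, fun h2 => h1 ?_⟩
        rcases hJ.eq_or_cent hK with rfl | e1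
        exacts [e, mul_mem h2 (e1 hj)]
      · have : J ∈ {J | Cmp J M ∧ s * j ∉ C[J]} := e1 ▸ ⟨hJ, sJ⟩
        exact this.2 e) (s := s * j) (by rw [mul_assoc, ← mul_assoc j, c, mul_assoc, j2, mul_one, s2])
      (mul_mem hs (hJ.le hj)) rfl
    exact ⟨j * e', mul_mem (hJ.le_layerOf hj) he, by rwa [← mul_assoc], by rwa [← mul_assoc s j]⟩
  · push Not at h0
    exact ⟨1, one_mem _, by
      rw [mul_one]; exact mem_cent_iff.2 (TT.layerOf_le_of_forall fun J hJ =>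
        mem_cent_iff.1 (h0 J hJ)), by rwa [mul_one]⟩

theorem AB.lay (h : AB G) (hK : QS K) (KM : K ≤ M) (hc : K ≤ C[fittingOf M]) : K ≤ layerOf M := by
  obtain ⟨k, hk, ok⟩ := qs_inv hK
  obtain ⟨e, he, h1, -⟩ := h.inv_lay (sq1 ok) (KM hk)
  have nZ : M ≤ N[M ⊓ C[fstarOf M]] := le_norm_inf le_normalizer (le_norm_cent (TT.le_norm_fstarOf M))
  refine hK.le_of_le_sup (X := M ⊓ C[fstarOf M]) (qs_le hK (KM.trans (le_norm_sup
    (TT.le_norm_layerOf M) nZ)) hk ?_ (h.nc hK hk ok)) (inf_le_right.trans (cent_anti (sup_le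
      le_sup_left ((TT.inf_cent_fstarOf_le M).trans le_sup_right))))
  have : k * e ∈ M ⊓ C[fstarOf M] := mem_inf.2 ⟨mul_mem (KM hk) (TT.layerOf_le M he), by
    rw [fstarOf, cent_sup]
    exact ⟨h1, mul_mem (hc hk) (TT.layerOf_le_cent_fittingOf M he)⟩⟩
  have := mul_mem (mem_sup_right (S := layerOf M) this) (inv_mem (mem_sup_left he))
  rwa [mul_inv_cancel_right] at this

theorem conj_layerOf (g : G) : cj[g] (layerOf M) = layerOf (cj[g] M) :=
  TT.layerOf_map (conj_hom_injective g)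

theorem cmp_cj (h : Cmp K M) (g : G) : Cmp (cj[g] K) (cj[g] M) :=
  (TT.cmp_map_iff (conj_hom_injective g)).2 h

theorem cmp_cent_O (hK : Cmp K M) (hp : p.Prime) : K ≤ C[piCoreOf {p} M] :=
  hK.le_cent_fittingOf.trans (cent_anti (piCoreOf_single_le_fittingOf hp))

/-- characteristic `p`. -/
def Chp (p : ℕ) (M : Subgroup G) : Prop := M ⊓ C[piCoreOf {p} M] ≤ piCoreOf {p} M

theorem Chp.conj (h : Chp p M) (g : G) : Chp p (cj[g] M) := by
  unfold Chp at *
  rw [← conj_piCoreOf, ← conj_centralizer, ← conj_inf]; exact conj_mono g h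

theorem not_chp (hp : p.Prime) (h : ¬ Chp p M) :
    (∃ r, r.Prime ∧ r ≠ p ∧ piCoreOf {r} M ≠ ⊥) ∨ layerOf M ≠ ⊥ := by
  by_contra h0
  push Not at h0
  have e : fittingOf M = piCoreOf {p} M :=
    le_antisymm (fittingOf_le_of_forall_piCoreOf fun q hq => by
      by_cases e : q = p
      · rw [e]
      · rw [h0.1 q hq e]; exact bot_le) (piCoreOf_single_le_fittingOf hp)
  have := TT.inf_cent_fstarOf_le M
  rw [fstarOf, h0.2, bot_sup_eq, e] at this
  exact h this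

theorem Chp.eq_bot (h : Chp p M) (hp : p.Prime) (hq : q.Prime) (hqp : q ≠ p) (hQ : IsPGroup q Q)
    (h1 : Q ≤ M) (h2 : Q ≤ C[piCoreOf {p} M]) : Q = ⊥ :=
  eq_bot_of_le_of_coprime le_rfl ((le_inf h1 h2).trans h) (cop_pq hq hp hqp hQ (piCoreOf_isPGroup hp M))

theorem Chp.not_qs (h : Chp p M) (hp : p.Prime) (hK : QS K) (h1 : K ≤ M)
    (h2 : K ≤ C[piCoreOf {p} M]) : False :=
  hK.not_le_of_solvable (solvable_of_isPGroup hp (piCoreOf_isPGroup hp M)) ((le_inf h1 h2).trans h)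

/-- not of characteristic `q` for any `q`. -/
def NC (M : Subgroup G) : Prop := ∀ q : ℕ, q.Prime → ¬ Chp q M

theorem nc_of (hp : p.Prime) (h : ¬ Chp p M) (h1 : piCoreOf {p} M ≠ ⊥) : NC M := fun q hq h2 => by
  by_cases e : p = q
  · exact h (e ▸ h2)
  · exact h1 (h2.eq_bot hq hp e (piCoreOf_isPGroup hp M) (piCoreOf_le _ _) (Op_cent hp hq e))

theorem nc_of_cmp (hK : Cmp K M) : NC M := fun _ hq h => h.not_qs hq hK.toQS hK.le (cmp_cent_O hK hq)

theorem NC.conj (h : NC M) (g : G) : NC (cj[g] M) := fun q hq h1 => h q hq (by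
  have := h1.conj g⁻¹
  rwa [inv_conj_conj] at this)

variable [IsSimpleGroup G]

theorem nO (hM : IsCoatom M) (h : piCoreOf {q} M ≠ ⊥) : N[piCoreOf {q} M] = M :=
  norm_eq_of_coatom hM h (piCoreOf_le _ _) (self_le_norm_piCoreOf _ _)

theorem nE (hM : IsCoatom M) (h : layerOf M ≠ ⊥) : N[layerOf M] = M :=
  norm_eq_of_coatom hM h (TT.layerOf_le _) (TT.le_norm_layerOf _)

theorem nZ (hM : IsCoatom M) (hq : q.Prime) (h : piCoreOf {q} M ≠ ⊥) :
    N[piCoreOf {q} M ⊓ C[piCoreOf {q} M]] = M :=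
  norm_eq_of_coatom hM (ZOp_ne hq h) (inf_le_left.trans (piCoreOf_le _ _)) ZOp_norm

/-- a subgroup centralizing `O^p(F*(M)) ≠ 1` lies in `M`. -/
theorem le_of_cent_Y (hM : IsCoatom M) (hp : p.Prime) (h : ¬ Chp p M)
    (h1 : ∀ r, r.Prime → r ≠ p → X ≤ C[piCoreOf {r} M]) (h2 : ∀ K, Cmp K M → X ≤ C[K]) : X ≤ M := by
  rcases not_chp hp h with ⟨r, hr, hrp, h0⟩ | h0
  · exact nO hM h0 ▸ le_norm_of_cent (h1 r hr hrp)
  · exact nE hM h0 ▸ le_norm_of_cent (le_cent_symm (TT.layerOf_le_of_forall fun K hK =>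
      le_cent_symm (h2 K hK)))

theorem AB.mc (h : AB G) (hM : IsCoatom M) (hL : IsCoatom L) (nc : NC M) (h1 : fstarOf M ≤ L)
    (h2 : fstarOf L ≤ M) : M = L := by
  have key : ∀ {M L : Subgroup G}, fstarOf M ≤ L → fstarOf L ≤ M → layerOf L ≤ layerOf M :=
    fun {M L} h1 h2 => TT.layerOf_le_of_forall fun K hK => by
      have KM : K ≤ M := hK.le_layerOf.trans (le_sup_left.trans h2)
      exact h.lay hK.toQS KM (fittingOf_le_cent_of_forall fun q hq => le_cent_symm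
        (h.cmp_cent hK hq (piCoreOf_isPGroup hq M) (KM.trans (self_le_norm_piCoreOf _ _))
          (le_norm_self ((piCoreOf_single_le_fittingOf hq).trans (le_sup_right.trans h1)))))
  have e := le_antisymm (key h2 h1) (key h1 h2)
  by_cases h0 : layerOf M = ⊥
  swap
  · rw [← nE hM h0, e, nE hL (e ▸ h0)]
  have cM : GW.Con M := by
    have := TT.inf_cent_fstarOf_le M
    rwa [fstarOf, h0, bot_sup_eq] at this
  have cL : GW.Con L := by
    have := TT.inf_cent_fstarOf_le L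
    rwa [fstarOf, ← e, h0, bot_sup_eq] at this
  obtain ⟨p, hp, -, p0⟩ := (not_chp Nat.prime_two (nc 2 Nat.prime_two)).resolve_right (not_not.2 h0)
  obtain ⟨q, hq, hqp, q0⟩ := (not_chp hp (nc p hp)).resolve_right (not_not.2 h0)
  replace h1 := le_sup_right.trans h1
  replace h2 := le_sup_right.trans h2
  refine bender hM hL cM cL le_rfl h1 (inf_le_left.trans h1) (fun r hr r0 e1 => r0 ?_) hp hq hqp.symm
    p0 q0
  have rM := (piCoreOf_single_le_fittingOf hr).trans h2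
  exact eq_bot_of_cent hr e1 rM (piCoreOf_isPGroup hr L) (fun s hs hsr => cent_pq hr hs hsr.symm
    (piCoreOf_isPGroup hr L) (piCoreOf_isPGroup hs M) (rM.trans (self_le_norm_piCoreOf _ _))
    (((piCoreOf_single_le_fittingOf hs).trans h1).trans (self_le_norm_piCoreOf _ _)))
    fun K hK => absurd hK (TT.layerOf_eq_bot_iff.1 h0 K)

/-- `L ⇝ M` through `X ≤ O_p(L)`. -/
structure Arw (p : ℕ) (X L M : Subgroup G) : Prop where
  ab : AB G
  hp : p.Prime
  hp2 : p ≠ 2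
  co : IsCoatom L
  ne : X ≠ ⊥
  le : X ≤ piCoreOf {p} L
  nle : N[X] ≤ M

namespace Arw
variable (h : Arw p X L M)
include h

theorem cle : C[X] ≤ M := (cent_le_norm X).trans h.nle
theorem cle' : C[piCoreOf {p} L] ≤ M := (cent_anti h.le).trans h.cle
theorem XM : X ≤ M := le_normalizer.trans h.nle
theorem pR : IsPGroup p (piCoreOf {p} L) := piCoreOf_isPGroup h.hp L
theorem ne' : piCoreOf {p} L ≠ ⊥ := ne_bot_of_le h.ne h.le
theorem a1 (hq : q.Prime) (hqp : q ≠ p) : piCoreOf {q} L ≤ M := (Op_cent hq h.hp hqp).trans h.cle'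
theorem a1' (hK : Cmp K L) : K ≤ M := (cmp_cent_O hK h.hp).trans h.cle'

theorem axb (hA : A ≤ L) (hπ : IsPiSubgroup {p}ᶜ A) (hc : piCoreOf {p} L ⊓ M ≤ C[A]) :
    A ≤ C[piCoreOf {p} L] :=
  thompson_AxB_pgroup h.hp h.pR (h.pR.to_le h.le) hπ (hA.trans (self_le_norm_piCoreOf _ _))
    (le_norm_self h.le) (le_cent_symm ((le_inf h.le h.XM).trans hc))
    ((inf_le_inf_left _ h.cle).trans hc)

theorem axb1 (hk : k ∈ L) (k2 : k * k = 1) (hc : piCoreOf {p} L ⊓ M ≤ C1[k]) :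
    k ∈ C[piCoreOf {p} L] :=
  h.axb (zpowers_le.2 hk) (isPi_of_isPGroup_mem Nat.prime_two (pg2' k2) (by simpa using h.hp2.symm))
    (by rwa [cent_zpowers]) (mem_zpowers k)

theorem a2 (hq : q.Prime) (hqp : q ≠ p) : piCoreOf {q} M ⊓ L ≤ C[piCoreOf {p} L] :=
  h.axb inf_le_right (isPi_of_isPGroup_mem hq ((piCoreOf_isPGroup hq M).to_le inf_le_left)
    (by simpa using hqp)) (cent_pq' h.hp hq hqp.symm h.pR (piCoreOf_isPGroup hq M) inf_le_left
      inf_le_left (inf_le_right.trans (self_le_norm_piCoreOf _ _))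
      (inf_le_right.trans (self_le_norm_piCoreOf _ _)))

theorem a3 (hK : Cmp K M) (KL : K ≤ L) : K ≤ C[piCoreOf {p} L] := by
  obtain ⟨k, hk, ok⟩ := qs_inv hK.toQS
  have nR := KL.trans (self_le_norm_piCoreOf {p} L)
  exact qs_le hK.toQS (le_norm_cent nR) hk (h.axb1 (KL hk) (sq1 ok) ((h.ab.cmp_cent hK h.hp
    (h.pR.to_le inf_le_left) (le_norm_inf nR (le_norm_self hK.le)) (le_norm_self inf_le_right)).trans
      (cent_le_cent1 hk))) (h.ab.nc hK.toQS hk ok)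

theorem axb' (hA : A ≤ M) (hπ : IsPiSubgroup {p}ᶜ A) (h1 : A ≤ C[piCoreOf {p} L])
    (hc : piCoreOf {p} M ⊓ L ≤ C[A]) : A ≤ C[piCoreOf {p} M] :=
  thompson_AxB_pgroup h.hp (piCoreOf_isPGroup h.hp M) (h.pR.to_le inf_le_left) hπ
    (hA.trans (self_le_norm_piCoreOf _ _))
    ((inf_le_right.trans h.cle').trans (self_le_norm_piCoreOf _ _)) (h1.trans (cent_anti inf_le_left))
    ((inf_le_inf_left _ ((cent_le_norm _).trans (nZ h.co h.hp h.ne').le)).trans hc)

theorem a4 (hq : q.Prime) (hqp : q ≠ p) : piCoreOf {q} L ≤ C[piCoreOf {p} M] :=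
  h.axb' (h.a1 hq hqp) (isPi_of_isPGroup_mem hq (piCoreOf_isPGroup hq L) (by simpa using hqp))
    (Op_cent hq h.hp hqp) (cent_pq' h.hp hq hqp.symm (piCoreOf_isPGroup h.hp M)
      (piCoreOf_isPGroup hq L) inf_le_left le_rfl (inf_le_right.trans (self_le_norm_piCoreOf _ _))
      ((h.a1 hq hqp).trans (self_le_norm_piCoreOf _ _)))

theorem a4' (hK : Cmp K L) : K ≤ C[piCoreOf {p} M] := by
  obtain ⟨k, hk, ok⟩ := qs_inv hK.toQS
  have nP := (h.a1' hK).trans (self_le_norm_piCoreOf {p} M)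
  refine qs_le hK.toQS (le_norm_cent nP) hk (h.axb' (zpowers_le.2 (h.a1' hK hk))
    (isPi_of_isPGroup_mem Nat.prime_two (pg2 ok) (by simpa using h.hp2.symm))
    (zpowers_le.2 (cmp_cent_O hK h.hp hk)) ((h.ab.cmp_cent hK h.hp
      ((piCoreOf_isPGroup h.hp M).to_le inf_le_left) (le_norm_inf nP (le_norm_self hK.le))
      (le_norm_self inf_le_right)).trans (cent_anti (zpowers_le.2 hk))) (mem_zpowers k))
    (h.ab.nc hK.toQS hk ok)

theorem a5 (hq : q.Prime) (hqp : q ≠ p) (hU : IsPGroup q U) (UM : U ≤ M)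
    (h1 : U ≤ C[piCoreOf {p} L]) (h2 : C[U] ≤ L) : piCoreOf {q} M ≤ L := by
  rw [← nZ h.co h.hp h.ne']
  exact le_norm_of_cent (le_cent_symm (thompson_AxB_pgroup hq (piCoreOf_isPGroup hq M) hU
    (isPi_of_isPGroup_mem h.hp (h.pR.to_le inf_le_left) (by simpa using hqp.symm))
    ((inf_le_right.trans h.cle').trans (self_le_norm_piCoreOf _ _))
    (UM.trans (self_le_norm_piCoreOf _ _)) (inf_le_left.trans (le_cent_symm h1))
    (((inf_le_inf_left _ h2).trans (h.a2 hq hqp)).trans (cent_anti inf_le_left))))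

theorem chp (hc : Chp p M) : Chp p L := by
  by_contra h0
  rcases not_chp h.hp h0 with ⟨r, hr, hrp, h1⟩ | h1
  · exact h1 (hc.eq_bot h.hp hr hrp (piCoreOf_isPGroup hr L) (h.a1 hr hrp) (h.a4 hr hrp))
  · obtain ⟨K, hK⟩ := TT.exists_cmp_of_ne_bot h1
    exact hc.not_qs h.hp hK.toQS (h.a1' hK) (h.a4' hK)

theorem Ple (hc : ¬ Chp p L) : piCoreOf {p} M ≤ L :=
  le_of_cent_Y h.co h.hp hc (fun r hr hrp => le_cent_symm (h.a4 hr hrp))
    fun K hK => le_cent_symm (h.a4' hK)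

theorem Rle (hM : IsCoatom M) (nc : ¬ Chp p M) (h1 : ∀ r, r.Prime → r ≠ p → piCoreOf {r} M ≤ L)
    (h2 : ∀ K, Cmp K M → K ≤ L) : piCoreOf {p} L ≤ M :=
  le_of_cent_Y hM h.hp nc (fun r hr hrp => le_cent_symm ((le_inf le_rfl (h1 r hr hrp)).trans
    (h.a2 hr hrp))) fun K hK => le_cent_symm (h.a3 hK (h2 K hK))

theorem fin (hM : IsCoatom M) (nc : NC M) (h1 : fstarOf M ≤ L) : M = L := by
  refine h.ab.mc hM h.co nc h1 (sup_le (TT.layerOf_le_of_forall fun K hK => h.a1' hK)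
    (fittingOf_le_of_forall_piCoreOf fun q hq => ?_))
  by_cases e : q = p
  · subst e
    exact h.Rle hM (nc q hq) (fun r hr _ => (piCoreOf_single_le_fittingOf hr).trans
      (le_sup_right.trans h1)) fun K hK => hK.le_layerOf.trans (le_sup_left.trans h1)
  · exact h.a1 hq e

theorem bt (hM : IsCoatom M) (nc : NC M) (hq : q.Prime) (h0 : X' ≠ ⊥) (h1 : X' ≤ piCoreOf {q} M)
    (h2 : N[X'] ≤ L) : M = L := by
  have c : C[piCoreOf {q} M] ≤ L := (cent_anti h1).trans ((cent_le_norm _).trans h2)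
  have k1 : ∀ K, Cmp K M → K ≤ L := fun K hK => (cmp_cent_O hK hq).trans c
  have k2 : ∀ r, r.Prime → r ≠ q → piCoreOf {r} M ≤ L := fun r hr e => (Op_cent hr hq e).trans c
  refine h.fin hM nc (sup_le (TT.layerOf_le_of_forall k1)
    (fittingOf_le_of_forall_piCoreOf fun r hr => ?_))
  by_cases e : r = q
  swap
  · exact k2 r hr e
  subst e
  by_cases e : r = p
  · subst e
    refine h.Ple fun hc => ?_
    rcases not_chp hr (nc r hr) with ⟨s, hs, hsr, h3⟩ | h3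
    · exact h3 (hc.eq_bot hr hs hsr (piCoreOf_isPGroup hs M) (k2 s hs hsr)
        ((le_inf le_rfl (k2 s hs hsr)).trans (h.a2 hs hsr)))
    · obtain ⟨K, hK⟩ := TT.exists_cmp_of_ne_bot h3
      exact hc.not_qs hr hK.toQS (k1 K hK) (h.a3 hK (k1 K hK))
  · exact h.a5 hr e ((piCoreOf_isPGroup hr M).to_le h1) (h1.trans (piCoreOf_le _ _))
      ((le_inf h1 (le_normalizer.trans h2)).trans (h.a2 hr e)) ((cent_le_norm _).trans h2)

end Arw

theorem Arw.n1 (h : Arw p X (cj[g] M) M) (hM : IsCoatom M) (nc : NC M) : M = cj[g] M := by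
  have hF : fittingOf M ≤ cj[g] M := fittingOf_le_of_forall_piCoreOf fun q hq => by
    by_cases e : q = p
    · subst e; exact h.Ple (nc.conj g q hq)
    by_cases h0 : piCoreOf {q} M = ⊥
    · rw [h0]; exact bot_le
    have h1 : piCoreOf {q} (cj[g] M) ≠ ⊥ := by rwa [← conj_piCoreOf, Ne, conj_eq_bot_iff]
    exact h.a5 hq e ((piCoreOf_isPGroup hq _).to_le inf_le_left) (inf_le_left.trans (h.a1 hq e))
      (inf_le_left.trans (Op_cent hq h.hp e)) ((cent_le_norm _).trans (nZ h.co hq h1).le)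
  have hE : layerOf (cj[g] M) ≤ layerOf M := TT.layerOf_le_of_forall fun K hK =>
    h.ab.lay hK.toQS (h.a1' hK) (fittingOf_le_cent_of_forall fun q hq => le_cent_symm
      (h.ab.cmp_cent hK hq (piCoreOf_isPGroup hq M) ((h.a1' hK).trans (self_le_norm_piCoreOf _ _))
        (le_norm_self ((piCoreOf_single_le_fittingOf hq).trans hF))))
  refine h.fin hM nc (sup_le ?_ hF)
  rw [← eq_of_le_of_card_ge hE (by rw [← conj_layerOf, card_conj])]
  exact TT.layerOf_le _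

end Cfsg.Agent.WA
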