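import Cfsg.Agent.WA.B1C
import Cfsg.Agent.WA.A2
import Cfsg.Agent.WA.G3

/-! Walter's theorem, part B1: global data; involutions centralize the layer. -/

set_option autoImplicit false
set_option linter.unusedSectionVars false
set_option linter.unusedVariables false

namespace Cfsg.Agent.WA

open Cfsg Subgroup Cfsg.Agent.GT Cfsg.Agent.Cls Cfsg.Agent.GW
open Cfsg.Agent.TT (QS Cmp SN layerOf fstarOf)
open scoped commutatorElement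

universe u

variable {G : Type u} [Group G] [Finite G] [IsSimpleGroup G] {p q r : ℕ}
  {A B C D E H J K L M M₀ P Q R S T U V W X X' Y Γ : Subgroup G}
  {a b c d e g k k' m n s t u v w x y z : G}

theorem glob (hM : M ≠ ⊤) (hb : b ≠ 1) (h : ∀ g, g * b * g⁻¹ ∈ M) : False := by
  rcases (M.normalCore_normal).eq_bot_or_eq_top with e | e
  · exact hb (mem_bot.1 (e ▸ (h : b ∈ M.normalCore)))
  · exact hM (top_le_iff.1 (e ▸ M.normalCore_le))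

theorem norm_co (hM : IsCoatom M) (h : M ≠ ⊥) : N[M] = M :=
  norm_eq_of_coatom hM h le_rfl le_normalizer

theorem c1_fix (h : g * b * g⁻¹ = n * b * n⁻¹) : n⁻¹ * g ∈ C1[b] :=
  mem_cent1.2 (by
    rw [show n⁻¹ * g * b = n⁻¹ * (g * b * g⁻¹) * g by group, h]; group)

theorem mem_cent_cj : g * a * g⁻¹ ∈ C[cj[g] K] ↔ a ∈ C[K] := by
  rw [← conj_centralizer, conj_mem_conj]

/-- the global data. -/
structure Gl (S A : Subgroup G) : Prop extends Mn G where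
  rig : RIG.{u}
  syl : IsPiHallOf {2} S ⊤
  memA : ∀ x, x ∈ A ↔ x ∈ S ∧ x * x = 1
  nse : ∀ H : Subgroup G, ¬ SE H

namespace Gl
variable (h : Gl S A)
include h

theorem kg : KG G (Nat.card G) := ⟨h.ab, h.ih, g3⟩
theorem kr : KR G := ⟨h.ab, h.ih, h.rig⟩
theorem AS : A ≤ S := fun x hx => ((h.memA x).1 hx).1
theorem sq (hx : x ∈ A) : x * x = 1 := ((h.memA x).1 hx).2
theorem mem (hx : x ∈ S) (x2 : x * x = 1) : x ∈ A := (h.memA x).2 ⟨hx, x2⟩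
theorem o2 (hx : x ∈ A) (x1 : x ≠ 1) : orderOf x = 2 := ord2 (h.sq hx) x1
theorem pS : IsPGroup 2 S := syl_isPGroup Nat.prime_two h.syl
theorem sc (hx : x ∈ A) : S ≤ C1[x] := h.ab.c1 h.syl (h.AS hx)
theorem cm (hx : x ∈ A) (hy : y ∈ A) : x * y = y * x := h.ab.comm h.syl (h.AS hx) (h.AS hy)
theorem cjm (hn : n ∈ N[S]) (hx : x ∈ A) : n * x * n⁻¹ ∈ A :=
  h.mem (conj_mem_of_mem_norm hn (h.AS hx)) (sq_conj (h.sq hx) n)
theorem cjm' (hn : n ∈ N[S]) (hx : x ∈ A) : n⁻¹ * x * n ∈ A := by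
  simpa using h.cjm (inv_mem hn) hx
theorem nA : N[S] ≤ N[A] := fun n hn =>
  mem_normalizer_of_conj_le (conj_le_iff_forall.2 fun x hx => h.cjm hn hx)
theorem sub (hS : S ≤ H) : IsPiHallOf {2} S H := syl_of_le h.syl hS le_top
theorem fus (hS : S ≤ H) (hx : x ∈ A) (hg : g ∈ H) (hy : g * x * g⁻¹ ∈ S) :
    ∃ n ∈ H ⊓ N[S], n * x * n⁻¹ = g * x * g⁻¹ := h.ab.fus (h.sub hS) (h.AS hx) hg hy
theorem into (hS : S ≤ H) (hz : z * z = 1) (zH : z ∈ H) : ∃ g ∈ H, g * z * g⁻¹ ∈ A := by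
  obtain ⟨g, hg, e⟩ := conj_into (h.sub hS) hz zH
  exact ⟨g, hg, h.mem e (sq_conj hz g)⟩
theorem c1t (x1 : x ≠ 1) : C1[x] ≠ ⊤ := c1_ne_top h.nc x1
theorem fix (hx : x ∈ A) (hn : N[S] ≤ C1[x]) : x = 1 :=
  zpowers_eq_bot.1 (nofix h.nc h.ab h.syl (zpowers_le.2 (h.AS hx)) (by rwa [cent_zpowers]))
theorem exA : ∃ t ∈ A, t ≠ 1 := by
  obtain ⟨a, -, -, ha, -⟩ := h.rk
  obtain ⟨g, -, e⟩ := h.into le_top (sq1 ha) (mem_top a)
  exact ⟨_, e, cne (ne1 ha) g⟩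
theorem nM (hM : IsCoatom M) (hS : S ≤ M) (e : cj[g] M = M) : g ∈ M := by
  obtain ⟨t, ht, t1⟩ := h.exA
  exact norm_co hM (ne_bot_of_mem (hS (h.AS ht)) t1) ▸ conj_eq_self_iff.1 e
theorem Scj (hn : n ∈ N[S]) (hS : S ≤ M) : S ≤ cj[n] M :=
  (conj_eq_self hn).ge.trans (conj_mono n hS)

theorem se (hM : M ≠ ⊤) (hN : N[S] ≤ M) (hc : ∀ t ∈ A, t ≠ 1 → C1[t] ≤ M) : False := by
  have hS := le_normalizer.trans hN
  obtain ⟨t, ht, t1⟩ := h.exA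
  refine h.nse M ⟨hM, ⟨t, hS (h.AS ht), h.o2 ht t1⟩, fun z hz oz => ?_, fun S' h1 h2 => ?_⟩
  · obtain ⟨g, hg, e⟩ := h.into hS (sq1 oz) hz
    have := conj_le_of_mem (inv_mem hg) (hc _ e (cne (ne1 oz) g))
    rwa [← conj_cent1, inv_conj_conj] at this
  · obtain ⟨g, hg, rfl⟩ := syl_exists_conj Nat.prime_two (h.sub hS) (syl_of_le h1 h2 le_top)
    rw [← conj_normalizer]
    exact conj_le_of_mem hg hN

theorem loc0 (hS : S ≤ H) (hb : b ∈ A) (b1 : b ≠ 1) (hc : c ∈ A) (c1 : c ≠ 1) (cM : C1[c] ≤ M)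
    (h1 : ∀ n ∈ H ⊓ N[S], n * b * n⁻¹ ≠ c ∧ C1[c * (n * b * n⁻¹)] ≤ M) (hg : g ∈ H) :
    g * b * g⁻¹ ∈ M := by
  have cj2 : ∀ k : G, k * (g * b * g⁻¹) * k⁻¹ = k * g * b * (k * g)⁻¹ := fun k => by group
  obtain ⟨z, hz, oz, cz, yz, k, hk, e⟩ := h.ab.dh (H := H) (h.o2 hc c1) (ord2_conj (h.o2 hb b1) g)
    (hS (h.AS hc)) (cj_mem hg (hS (h.AS hb))) fun k hk e => by
      rw [cj2] at e
      obtain ⟨n, hn, e'⟩ := h.fus hS hb (mul_mem hk hg) (e ▸ h.AS hc)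
      exact (h1 n hn).1 (e'.trans e)
  obtain ⟨m, hm, mz⟩ := h.into (le_inf hS (h.sc hc)) (sq1 oz) ⟨hz, mem_cent1_comm.1 cz⟩
  have e1 : m * k * g * b * (m * k * g)⁻¹ = c * (m * z * m⁻¹) := by
    rw [show m * k * g * b * (m * k * g)⁻¹ = m * (k * (g * b * g⁻¹) * k⁻¹) * m⁻¹ by group, ← e,
      ← mul_assoc m, mem_cent1.1 hm.2]; group
  obtain ⟨n, hn, e2⟩ := h.fus hS hb (mul_mem (mul_mem hm.1 hk.1) hg)
    (e1 ▸ h.AS (mul_mem hc mz))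
  have h2 := (h1 n hn).2
  rw [e2, e1, tt (h.sq hc), ← conj_cent1] at h2
  have := h2 (conj_mem_conj.2 yz)
  exact (M.mul_mem_cancel_left (cM hm.2)).1 ((M.mul_mem_cancel_right (inv_mem (cM hm.2))).1 this)

theorem loc (hS : S ≤ H) (hN : N[S] ≤ M) (hb : b ∈ A) (b1 : b ≠ 1) (bM : C1[b] ≤ M) (hc : c ∈ A)
    (c1 : c ≠ 1) (cM : C1[c] ≤ M)
    (h1 : ∀ n ∈ H ⊓ N[S], n * b * n⁻¹ ≠ c ∧ C1[c * (n * b * n⁻¹)] ≤ M) : H ≤ M := fun g hg => by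
  obtain ⟨m, hm, e⟩ := h.into (le_inf hS (le_normalizer.trans hN)) (sq_conj (h.sq hb) g)
    ⟨cj_mem hg (hS (h.AS hb)), h.loc0 hS hb b1 hc c1 cM h1 hg⟩
  rw [show m * (g * b * g⁻¹) * m⁻¹ = m * g * b * (m * g)⁻¹ by group] at e
  obtain ⟨n, hn, e2⟩ := h.fus hS hb (mul_mem hm.1 hg) (h.AS e)
  exact (M.mul_mem_cancel_left hm.2).1
    ((M.mul_mem_cancel_left (inv_mem (hN hn.2))).1 (bM (c1_fix e2.symm)))

theorem fam (hK : QS K) (h1 : K ≠ ⊤) (nK : S ≤ N[K]) : Fam S (S ⊓ K) (S ⊓ C[K]) (K ⊓ N[S]) := by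
  have nZ : N[K] ≤ N[K ⊓ C[K]] := le_norm_inf le_rfl (norm_le_norm_cent K)
  have := Sc.fam h.kr h.syl (O := K ⊓ C[K]) ⟨inf_le_left, le_normalizer.trans nZ, h.ab.zodd hK,
    hK.not_solvable, fun N h1 h2 h3 => (hK.max N h2 h3).imp_left fun e =>
      le_antisymm (le_inf h2 e) h1⟩ h1 nK (nK.trans nZ)
  rwa [show Sig.cmod (K ⊓ C[K]) K = C[K] from le_antisymm (qs_cent hK (by
    rw [commutator_comm]; exact (Sig.comm_le_of_le_cmod le_rfl).trans inf_le_right))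
      (cent_le_cmod ((cent_le_norm K).trans nZ) le_rfl)] at this

theorem k1e (hL : L ≠ ⊤) (ha : orderOf a = 2) (aL : a ∈ L) (hK : Cmp K U) (hn : C1[a] ≤ U)
    (aK : a ∉ C[K]) (KL : K ≤ L) : Cmp K L :=
  h.kg.k1e (card_lt_of_ne_top hL) ha aL hK (inf_le_right.trans (hn.trans le_normalizer)) aK KL

end Gl

/-- a component not centralized by `a`. -/
structure Kb (S A : Subgroup G) (a : G) (K M : Subgroup G) : Prop extends Gl S A where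
  aA : a ∈ A
  oa : orderOf a = 2
  co : IsCoatom M
  ca : C1[a] ≤ M
  cmp : Cmp K M
  na : a ∉ C[K]
  nK : N[K] ≤ M

theorem Gl.kb (h : Gl S A) (aA : a ∈ A) (oa : orderOf a = 2) (h0 : M₀ ≠ ⊤) (ca : C1[a] ≤ M₀)
    (hK : Cmp K M₀) (na : a ∉ C[K]) : ∃ M, Kb S A a K M := by
  have aM := ca (self_mem_cent1 a)
  set 𝒦 := {J | Cmp J M₀ ∧ a ∉ C[J]}
  have KE : K ≤ sSup 𝒦 := le_sSup ⟨hK, na⟩
  have cE : C1[a] ≤ N[sSup 𝒦] := le_norm_sSup_of_conj_mem fun x hx J hJ =>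
    ⟨hJ.1.conj (le_normalizer (ca hx)), fun e => hJ.2 (by
      rwa [← mem_cent_cj (g := x), mem_cent1.1 hx, mul_inv_cancel_right])⟩
  obtain ⟨M, hM, hN⟩ := exists_coatom_ge (Cl.normalizer_ne_top_of_simple (ne_bot_of_le hK.ne KE)
    fun e => h0 (top_le_iff.1 (e ▸ sSup_le fun J hJ => hJ.1.le)))
  obtain ⟨L, hL, hL'⟩ := exists_coatom_ge (Cl.normalizer_ne_top_of_simple hK.ne
    fun e => h0 (top_le_iff.1 (e ▸ hK.le)))
  have KM := h.k1e hM.1 oa (hN (cE (self_mem_cent1 a))) hK ca na (KE.trans (le_normalizer.trans hN))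
  refine ⟨M, h, aA, oa, hM, cE.trans hN, KM, na, ?_⟩
  rwa [h.ab.mc hM hL (nc_of_cmp KM) (KM.fstarOf_le_norm.trans hL') ((le_norm_sSup fun J hJ =>
    (h.k1e hL.1 oa (hL' (h.ab.norm2' hK (sq1 oa) (le_normalizer aM))) hJ.1 ca hJ.2
      (hJ.1.le_layerOf.trans (hK.layerOf_le_norm.trans hL'))).fstarOf_le_norm).trans hN)]

namespace Kb
variable (h : Kb S A a K M)
include h

theorem SM : S ≤ M := (h.sc h.aA).trans h.ca
theorem SK : S ≤ N[K] := h.ab.normS h.cmp h.pS (h.SM.trans le_normalizer)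
theorem fm : Fam S (S ⊓ K) (S ⊓ C[K]) (K ⊓ N[S]) :=
  h.fam h.cmp.toQS (fun e => h.co.1 (top_le_iff.1 (e ▸ h.cmp.le))) h.SK

theorem uq (hL : IsCoatom L) (hS : S ≤ L) (KL : K ≤ L) : M = L := by
  have hK := h.k1e hL.1 h.oa (hS (h.AS h.aA)) h.cmp h.ca h.na KL
  set 𝒦 := {J | ∃ x ∈ L, J = cj[x] K}
  have nE : N[sSup 𝒦] = L := norm_eq_of_coatom hL
    (ne_bot_of_le hK.ne (le_sSup ⟨1, one_mem _, (one_conj K).symm⟩))
    (sSup_le (by rintro _ ⟨x, hx, rfl⟩; exact conj_le_of_mem hx KL))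
    (le_norm_sSup_of_conj_mem (by
      rintro y hy _ ⟨x, hx, rfl⟩; exact ⟨y * x, mul_mem hy hx, (mul_conj _ _ _).symm⟩))
  refine h.ab.mc h.co hL (nc_of_cmp h.cmp) (nE ▸ le_norm_sSup ?_) (hK.fstarOf_le_norm.trans h.nK)
  rintro _ ⟨x, hx, rfl⟩
  have hJ := hK.conj (le_normalizer hx)
  obtain ⟨y, hy, e⟩ := syl_exists_conj Nat.prime_two (h.sub (le_inf hS h.SK))
    (syl_of_le ((h.sub hS).conj_of_mem (inv_mem hx)) (le_inf (conj_le_of_mem (inv_mem hx) hS) (by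
      rw [← le_conj_iff, conj_normalizer]
      exact h.ab.normS hJ h.pS (hS.trans le_normalizer))) inf_le_left)
  have hn : x * y ∈ N[S] := conj_eq_self_iff.1 (by rw [mul_conj, ← e, conj_inv_conj])
  have e2 : cj[x * y] K = cj[x] K := by rw [mul_conj, conj_eq_self hy.2]
  refine Cmp.fstarOf_le_norm ?_
  rw [← e2] at hJ ⊢
  exact h.k1e h.co.1 (ord2_conj h.oa _) (h.SM (h.AS (h.cjm hn h.aA))) (cmp_cj h.cmp _)
    (conj_cent1 _ a ▸ conj_mono _ h.ca) (mt mem_cent_cj.1 h.na)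
    (hJ.le_layerOf.trans (hK.layerOf_le_norm.trans h.nK))

theorem cB (hu : u ∈ S ⊓ C[K]) (u1 : u ≠ 1) : C1[u] ≤ M := by
  obtain ⟨L, hL, h1⟩ := exists_coatom_ge (h.c1t u1)
  rwa [h.uq hL ((h.ab.c1 h.syl hu.1).trans h1) ((mem_cent_iff.1 hu.2).trans h1)]

theorem nB (hn : n ∈ N[S]) (h0 : S ⊓ C[K] ⊓ cj[n] (S ⊓ C[K]) ≠ ⊥) : n ∈ M := by
  obtain ⟨u, hu, u1⟩ := exists_ne_one_of_ne_bot h0
  obtain ⟨v, hv, rfl⟩ := mem_conj_iff_exists.1 hu.2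
  refine h.nM h.co h.SM (h.uq (isCoatom_conj n h.co) (h.Scj hn h.SM) ?_).symm
  refine (mem_cent_iff.1 hu.1.2).trans ?_
  rw [← conj_cent1]
  exact conj_mono n (h.cB hv fun e => u1 (by rw [e]; group))

theorem alt (hn : n ∈ N[S]) (nM : n ∈ M) :
    n ∈ N[K] ∨ (cj[n] K ≤ C[K] ∧ cj[n] (S ⊓ K) ≤ S ⊓ C[K]) :=
  ((h.cmp.conj (le_normalizer nM)).eq_or_cent h.cmp).imp conj_eq_self_iff.1 fun e =>
    ⟨e, by rw [conj_inf, conj_eq_self hn]; exact inf_le_inf_left _ e⟩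

theorem NM0 (h0 : S ⊓ C[K] = ⊥) : N[S] ≤ M ∧ ∀ t ∈ A, t ≠ 1 → C1[t] ≤ M := by
  have f := h.fm
  have hU : S ≤ S ⊓ K := by simpa [h0] using f.sup
  have key : ∀ t ∈ A, t ≠ 1 → ∃ m ∈ M, m * a * m⁻¹ = t := fun t ht t1 => by
    obtain ⟨m, hm, e⟩ := f.tr a (hU (h.AS h.aA)) t (hU (h.AS ht)) (ne1 h.oa) t1
    exact ⟨m, h.cmp.le hm.1, e⟩
  refine ⟨fun n hn => ?_, fun t ht t1 => ?_⟩
  · obtain ⟨m, hm, e⟩ := key _ (h.cjm hn h.aA) (cne (ne1 h.oa) n)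
    exact (M.mul_mem_cancel_left (inv_mem hm)).1 (h.ca (c1_fix e.symm))
  · obtain ⟨m, hm, rfl⟩ := key t ht t1
    rw [← conj_cent1]; exact conj_le_of_mem hm h.ca

theorem NM (h0 : S ⊓ C[K] ≠ ⊥) : N[S] ≤ M := by
  have f := h.fm
  have nU : ∀ n ∈ N[S], n ∈ N[K] → cj[n] (S ⊓ K) = S ⊓ K := fun n h1 h2 => by
    rw [conj_inf, conj_eq_self h1, conj_eq_self h2]
  rcases f.comb h0 (fun n hn e => (h.alt hn (h.nB hn e)).imp (nU n hn) fun e => e.2) with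
    h1 | ⟨t, h1⟩
  · refine fun n hn => h.nB hn fun e => ?_
    rcases h1 n hn with e1 | e1
    · rw [conj_eq_self (f.norm_C hn (conj_eq_self_iff.1 e1)), inf_idem] at e
      exact h0 e
    · exact f.swap_C hn e1 e
  · exfalso
    obtain ⟨n, hn, e⟩ := h1.tr a (h.AS h.aA) (ne1 h.oa)
    have ht : t ∈ S ⊓ C[K] := h1.eq ▸ mem_zpowers t
    have nM : n⁻¹ ∈ M := h.nM h.co h.SM (h.uq (isCoatom_conj _ h.co) (h.Scj (inv_mem hn) h.SM)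
      (conj_le_iff.1 ((conj_mono n (mem_cent_iff.1 ht.2)).trans (by
        rw [conj_cent1, e]; exact h.ca)))).symm
    rcases h.alt hn (inv_mem_iff.1 nM) with e1 | e1
    · exact h.na (by rw [← e, ← conj_eq_self e1]; exact mem_cent_cj.2 ht.2)
    · have := card_le_of_le e1.2
      rw [card_conj, h1.cU, h1.eq, Nat.card_zpowers, h1.ord] at this
      omega

theorem false : False := by
  have f := h.fm
  by_cases h0 : S ⊓ C[K] = ⊥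
  · exact h.se h.co.1 (h.NM0 h0).1 (h.NM0 h0).2
  have hN := h.NM h0
  have UA : S ⊓ K ≤ A := fun x hx => h.mem hx.1 (f.sq x hx)
  -- conjugates of `C_S(K)`
  have cB' : ∀ n ∈ N[S], ∀ x ∈ S ⊓ C[cj[n] K], x ≠ 1 → C1[x] ≤ M := fun n hn x hx x1 => by
    have := conj_le_of_mem (hN hn) (h.cB (u := n⁻¹ * x * n)
      ⟨conj_mem_of_le_norm' le_rfl hn hx.1, mem_conj.1 (conj_centralizer n K ▸ hx.2)⟩
      (cne' x1 n))
    rwa [conj_cent1, show n * (n⁻¹ * x * n) * n⁻¹ = x by group] at this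
  have dec : ∀ x ∈ A, ∃ k ∈ S ⊓ K, ∃ c ∈ S ⊓ C[K], x = k * c ∧ c ∈ A := fun x hx => by
    obtain ⟨k, hk, c, hc, rfl⟩ := f.dec (h.AS hx)
    exact ⟨k, hk, c, hc, rfl, (A.mul_mem_cancel_left (UA hk)).1 hx⟩
  have oth : ∀ k : G, ∃ c ∈ S ⊓ K, c ≠ 1 ∧ c ≠ k := fun k => by
    obtain ⟨a, ha, b, hb, a1, b1, ab⟩ := f.two
    by_cases e : a = k
    exacts [⟨b, hb, b1, e ▸ ab.symm⟩, ⟨a, ha, a1, e⟩]
  by_cases h1 : N[S] ≤ N[K]
  · have nC : N[S] ≤ N[S ⊓ C[K]] := le_norm_inf le_rfl (le_norm_cent h1)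
    have nU : N[S] ≤ N[S ⊓ K] := le_norm_inf le_rfl h1
    have othC : ∀ k : G, ∃ c ∈ S ⊓ C[K], c ∈ A ∧ c ≠ 1 ∧ c ≠ k := fun k => by
      by_contra h2
      push Not at h2
      obtain ⟨z, hz, oz⟩ := exists_inv_of_le h.syl inf_le_left h0
      have zA := h.mem hz.1 (sq1 oz)
      refine ne1 oz (h.fix zA fun n hn => mem_cent1.2 ?_)
      rw [← mul_inv_eq_iff_eq_mul, h2 _ (conj_mem_of_le_norm nC hn hz) (h.cjm hn zA)
        (cne (ne1 oz) n), h2 z hz zA (ne1 oz)]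
    have key : ∀ u ∈ A, u ∉ S ⊓ K → C1[u] ≤ M := fun u hu uK => by
      obtain ⟨k, hk, u₀, h2, rfl, h3⟩ := dec u hu
      have u1 : u₀ ≠ 1 := fun e => uK (by rwa [e, mul_one])
      obtain ⟨c, hc, cA, c1, cu⟩ := othC u₀
      refine h.loc (h.sc hu) hN h3 u1 (h.cB h2 u1) cA c1 (h.cB hc c1) fun n hn => ?_
      have e : n * u₀ * n⁻¹ = u₀ := by
        have e1 : (n * k * n⁻¹)⁻¹ * k = n * u₀ * n⁻¹ * u₀⁻¹ := by
          rw [show n * u₀ * n⁻¹ = (n * k * n⁻¹)⁻¹ * (n * (k * u₀) * n⁻¹) by group,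
            mem_cent1.1 hn.1]; group
        exact mul_inv_eq_one.1 (f.eq1 (e1 ▸ mul_mem (inv_mem (conj_mem_of_le_norm nU hn.2 hk)) hk)
          (mul_mem (conj_mem_of_le_norm nC hn.2 h2) (inv_mem h2)))
      rw [e]
      exact ⟨cu.symm, h.cB (mul_mem hc h2) fun e => cu (by
        rw [eq_inv_of_mul_eq_one_left e, inv2 (h.o2 h3 u1)])⟩
    obtain ⟨k, hk, k1, -⟩ := oth 1
    obtain ⟨c, hc, cA, c1, -⟩ := othC 1
    refine glob h.co.1 k1 fun g => h.loc0 le_top (UA hk) k1 cA c1 (h.cB hc c1)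
      (fun n hn => ?_) (mem_top g)
    have h2 := conj_mem_of_le_norm nU hn.2 hk
    exact ⟨fun e => c1 (f.eq1 (e ▸ h2) hc), key _ (mul_mem cA (UA h2)) fun e =>
      c1 (f.eq1 (((S ⊓ K).mul_mem_cancel_right h2).1 e) hc)⟩
  · obtain ⟨l, hl, lK⟩ := SetLike.not_le_iff_exists.1 h1
    have cU : ∀ x ∈ S ⊓ K, x ≠ 1 → C1[x] ≤ M := fun x hx =>
      cB' l hl x ⟨hx.1, le_cent_symm ((h.alt hl (hN hl)).resolve_left lK).1 hx.2⟩
    refine h.se h.co.1 hN fun u hu u1 => ?_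
    obtain ⟨k, hk, u₀, h2, rfl, h3⟩ := dec u hu
    by_cases k1 : k = 1
    · exact h.cB (by rwa [k1, one_mul]) u1
    obtain ⟨c, hc, c1, ck⟩ := oth k
    refine h.loc (h.sc hu) hN (UA hk) k1 (cU k hk k1) (UA hc) c1 (cU c hc c1) fun n hn => ?_
    rcases h.alt hn.2 (hN hn.2) with e | e
    · have e1 : n * k * n⁻¹ = k := by
        rw [mem_cent1.1 (h.ab.fix h.cmp.toQS hk.2 (f.sq k hk) (by
          rw [h.cm (UA hk) h3, mul_assoc, f.sq k hk, mul_one]; exact h2.2) e hn.1)]; group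
      rw [e1]
      exact ⟨ck.symm, cU _ (mul_mem hc hk) fun e => ck (by
        rw [eq_inv_of_mul_eq_one_left e, inv2 (h.o2 (UA hk) k1)])⟩
    · have h4 := e.2 (conj_mem_conj.2 hk)
      have nK : n ∉ N[K] := fun e1 => h.cmp.not_le_cent ((conj_eq_self e1).ge.trans e.1)
      have nn := mul_mem hn.2 hn.2
      have e2 := ((h.alt nn (hN nn)).resolve_left fun e1 =>
        nK (odd_mem h.syl ⟨mem_top n, hn.2⟩ h.SK e1)).1
      refine ⟨fun e1 => c1 (f.eq1 hc (e1 ▸ h4)), cB' _ nn _ ⟨mul_mem hc.1 h4.1, mul_mem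
        (le_cent_symm e2 hc.2) ?_⟩ fun e1 => c1 (f.eq1 hc ?_)⟩
      · rw [mul_conj]; exact mem_cent_cj.2 (le_cent_symm e.1 hk.2)
      · rw [eq_inv_of_mul_eq_one_left e1]; exact inv_mem h4

end Kb

/-- B1b. -/
theorem Gl.cmp (h : Gl S A) (aA : a ∈ A) (h0 : M ≠ ⊤) (ca : C1[a] ≤ M) (hK : Cmp K M) :
    a ∈ C[K] := by
  by_contra na
  obtain ⟨M, k⟩ := h.kb aA (h.o2 aA fun e => na (e ▸ one_mem _)) h0 ca hK na
  exact k.false

end Cfsg.Agent.WA
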