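import Cfsg.Agent.WA.B1D

/-! Walter's theorem, part B1: hyperplanes of `Ω₁(S)` and the subgroup `X`. -/

set_option autoImplicit false
set_option linter.unusedSectionVars false
set_option linter.unusedVariables false

namespace Cfsg.Agent.WA

open Cfsg Subgroup Cfsg.Agent.GT Cfsg.Agent.Cls Cfsg.Agent.GW
open Cfsg.Agent.TT (QS Cmp SN layerOf fstarOf)
open scoped commutatorElement

universe u

variable {G : Type u} [Group G] [Finite G] [IsSimpleGroup G] {p q r : ℕ}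
  {A B B' C D E H J K L M M₀ P Q R S T U V W X X' Y Γ : Subgroup G}
  {a b c d e g k k' m n s t u v w x y z : G}

/-- the `T`-core of `P`. -/
def cor (T P : Subgroup G) : Subgroup G where
  carrier := {x | ∀ g ∈ T, g * x * g⁻¹ ∈ P}
  one_mem' := fun g _ => by simp
  mul_mem' := fun {x y} hx hy g hg => by
    rw [show g * (x * y) * g⁻¹ = g * x * g⁻¹ * (g * y * g⁻¹) by group]
    exact mul_mem (hx g hg) (hy g hg)
  inv_mem' := fun {x} hx g hg => by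
    rw [show g * x⁻¹ * g⁻¹ = (g * x * g⁻¹)⁻¹ by group]
    exact inv_mem (hx g hg)

theorem cor_le : cor T P ≤ P := fun x hx => by simpa using hx 1 (one_mem T)

theorem cor_norm : T ≤ N[cor T P] := fun n hn =>
  mem_normalizer_of_conj_le (conj_le_iff_forall.2 fun x hx g hg => by
    rw [show g * (n * x * n⁻¹) * g⁻¹ = g * n * x * (g * n)⁻¹ by group]
    exact hx _ (mul_mem hg hn))

/-- `B` contains a hyperplane of `A`. -/
def Hyp (A B : Subgroup G) : Prop := ∀ x ∈ A, ∀ y ∈ A, x ∉ B → y ∉ B → x * y ∈ B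

theorem Hyp.mono (h : Hyp A B) (h1 : B ≤ B') : Hyp A B' :=
  fun x hx y hy a b => h1 (h x hx y hy (mt (@h1 x) a) (mt (@h1 y) b))

theorem Hyp.idx (h : Hyp A B) : B.relIndex A ≤ 2 := by
  refine Nat.le_of_dvd two_pos (relIndex_dvd_two_iff.2 ?_)
  by_cases h0 : A ≤ B
  · exact ⟨1, one_mem _, fun b hb => .inr (h0 hb)⟩
  · obtain ⟨a, ha, a1⟩ := SetLike.not_le_iff_exists.1 h0
    exact ⟨a, ha, fun b hb => (em (b ∈ B)).symm.imp_left fun e => h b hb a ha e a1⟩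

theorem Hyp.conj (h : Hyp A B) (hg : g ∈ N[A]) : Hyp A (cj[g] B) := fun x hx y hy a b => by
  rw [mem_conj] at a b ⊢
  rw [show g⁻¹ * (x * y) * g = g⁻¹ * x * g * (g⁻¹ * y * g) by group]
  exact h _ (conj_mem_of_le_norm' le_rfl hg hx) _ (conj_mem_of_le_norm' le_rfl hg hy) a b

theorem Hyp.card2 (h : Hyp A B) (h' : Hyp A B') : Nat.card A ≤ Nat.card ↥(B ⊓ B' ⊓ A) * 4 := by
  rw [← card_inf_mul_relIndex (B ⊓ B') A]
  exact Nat.mul_le_mul_left _ (relIndex_inf_le.trans (Nat.mul_le_mul h.idx h'.idx))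

theorem ex_ne (h : 3 ≤ Nat.card D) (k : G) : ∃ d ∈ D, d ≠ 1 ∧ d ≠ k := by
  by_contra h0
  push Not at h0
  have : (D : Set G) ⊆ {1, k} := fun d hd => (em (d = 1)).imp_right (h0 d hd)
  have h1 := (Set.ncard_le_ncard this).trans (Set.ncard_insert_le 1 {k})
  rw [Set.ncard_singleton] at h1
  have : (D : Set G).ncard = Nat.card D := rfl
  omega

theorem card_orb (Γ : Subgroup G) (t : G) :
    {x | ∃ n ∈ Γ, n * t * n⁻¹ = x}.ncard = C1[t].relIndex Γ := by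
  let _ : MulAction Γ G := MulAction.compHom G ((MulAut.conj (G := G)).comp Γ.subtype)
  have e : MulAction.stabilizer Γ t = C1[t].subgroupOf Γ := by
    ext n
    rw [mem_subgroupOf, mem_cent1, MulAction.mem_stabilizer_iff, ← mul_inv_eq_iff_eq_mul]
    rfl
  rw [relIndex, ← e, MulAction.index_stabilizer]
  congr 1
  ext x
  exact ⟨fun ⟨d, hd, e⟩ => ⟨⟨d, hd⟩, e⟩, fun ⟨d, e⟩ => ⟨d.1, d.2, e⟩⟩

namespace Gl
variable (h : Gl S A)
include h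

theorem co2 (hn : N[S] ≤ N[B]) (ht : t ∈ A) (h1 : ∀ m ∈ N[S], m * t * m⁻¹ * t ∈ B) : t ∈ B := by
  let V : Subgroup G :=
    { carrier := {x | x ∈ A ∧ ∀ m ∈ N[S], m * x * m⁻¹ * x ∈ B}
      one_mem' := ⟨one_mem _, fun m _ => by simp⟩
      mul_mem' := fun {x y} hx hy => ⟨mul_mem hx.1 hy.1, fun m hm => by
        rw [show m * (x * y) * m⁻¹ * (x * y) = m * x * m⁻¹ * (m * y * m⁻¹ * x) * y by group,
          h.cm (h.cjm hm hy.1) hx.1,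
          show m * x * m⁻¹ * (x * (m * y * m⁻¹)) * y = m * x * m⁻¹ * x * (m * y * m⁻¹ * y) by group]
        exact mul_mem (hx.2 m hm) (hy.2 m hm)⟩
      inv_mem' := fun {x} hx => by rwa [inv_eq_of_mul_eq_one_right (h.sq hx.1)] }
  have VS : V ≤ S := fun x hx => h.AS hx.1
  have nV : N[S] ≤ N[V] := fun n hn' => mem_normalizer_of_conj_le (conj_le_iff_forall.2
    fun x hx => ⟨h.cjm hn' hx.1, fun m hm => by
      rw [show m * (n * x * n⁻¹) * m⁻¹ * (n * x * n⁻¹) =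
        n * ((n⁻¹ * m * n) * x * (n⁻¹ * m * n)⁻¹ * x) * n⁻¹ by group]
      exact conj_mem_of_le_norm hn hn' (hx.2 _ (mul_mem (mul_mem (inv_mem hn') hm) hn'))⟩)
  refine (cov h.ab h.syl (le_inf le_top le_rfl) VS nV).trans (sup_le (commutator_le.2
    fun x hx m hm => ?_) fun x hx => ?_) (⟨ht, h1⟩ : t ∈ V)
  · rw [commutatorElement_def, inv_eq_of_mul_eq_one_right (h.sq hx.1), mul_assoc, mul_assoc,
      ← mul_assoc m, h.cm hx.1 (h.cjm hm hx.1)]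
    exact hx.2 m hm
  · rw [h.fix hx.1.1 (mem_cent_iff.1 hx.2)]; exact one_mem _

theorem thm (hB : Hyp A B) (ht : t ∈ A) : ∃ n ∈ N[S], n * t * n⁻¹ ∈ B := by
  by_contra h0
  push Not at h0
  refine h0 1 (one_mem _) (h.co2 (B := cor N[S] B) cor_norm ht (fun m hm g hg => ?_) 1 (one_mem _))
  rw [show g * (m * t * m⁻¹ * t) * g⁻¹ = g * m * t * (g * m)⁻¹ * (g * t * g⁻¹) by group]
  exact hB _ (h.cjm (mul_mem hg hm) ht) _ (h.cjm hg ht) (h0 _ (mul_mem hg hm)) (h0 _ hg)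

theorem hyp (hB : B ≤ A) (ha : a ∈ A) (e : B ⊔ zpowers a = A) : Hyp A B := by
  have key : ∀ x ∈ A, x ∉ B → x * a ∈ B := fun x hx xB => by
    obtain ⟨b, hb, c, hc, rfl⟩ := (mem_sup_of_le_norm ((hB.trans h.AS).trans
      (h.ab.norm h.syl (zpowers_le.2 (h.AS ha))))).1 (e.ge hx)
    rcases zp2' (h.sq ha) hc with rfl | rfl
    · exact absurd (by rwa [mul_one]) xB
    · rwa [mul_assoc, h.sq ha, mul_one]
  intro x hx y hy h1 h2
  have := mul_mem (key x hx h1) (key y hy h2)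
  rwa [h.cm hy ha, mul_assoc, tt (h.sq ha)] at this

theorem d8 : 8 ∣ Nat.card A := by
  obtain ⟨a, b, c, oa, ob, oc, ab, ac, bc, n1, n2, n3, n4⟩ := h.rk
  have pV := pg_sup Nat.prime_two (V_pg oa ob ab.symm) (pg2 oc) (.inl (le_norm_of_cent (by
    rw [cent_zpowers]; exact V_le (mem_cent1.2 ac) (mem_cent1.2 bc))))
  obtain ⟨g, -, hg⟩ := syl_exists_conj_le Nat.prime_two h.syl pV le_top
  have m : ∀ x, orderOf x = 2 → x ∈ (zpowers a ⊔ zpowers b) ⊔ zpowers c → g * x * g⁻¹ ∈ A :=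
    fun x ox hx => h.mem (hg (conj_mem_conj.2 hx)) (sq_conj (sq1 ox) g)
  have ma := m a oa (mem_sup_left (mem_sup_left (mem_zpowers a)))
  have mb := m b ob (mem_sup_left (mem_sup_right (mem_zpowers b)))
  have mc := m c oc (mem_sup_right (mem_zpowers c))
  have o : ∀ {x} (hx : g * x * g⁻¹ ∈ A), orderOf x = 2 → orderOf (⟨_, hx⟩ : A) = 2 :=
    fun hx ox => by rw [orderOf_mk, ord2_conj ox]
  refine eight_dvd (o ma oa) (o mb ob) (o mc oc) (fun e => n1 (by simpa using e))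
    (Subtype.ext (h.cm mb ma)) (Subtype.ext (h.cm mc ma)) (Subtype.ext (h.cm mc mb))
    (fun e => n2 (by simpa using e)) (fun e => n3 (by simpa using e)) fun e => n4 ?_
  simpa using congrArg Subtype.val e

theorem c8 : 8 ≤ Nat.card A := Nat.le_of_dvd Nat.card_pos h.d8

theorem c16 (h8 : Nat.card A ≠ 8) : 16 ≤ Nat.card A := by
  obtain ⟨k, e⟩ := h.d8
  have := h.c8
  omega

theorem four (h8 : Nat.card A ≠ 8) (h1 : Hyp A B) (h2 : Hyp A B') :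
    ∃ d ∈ B ⊓ B' ⊓ A, ∃ e ∈ B ⊓ B' ⊓ A, orderOf d = 2 ∧ orderOf e = 2 ∧ e ≠ d := by
  have := h1.card2 h2
  have := h.c16 h8
  obtain ⟨d, hd, d1, -⟩ := ex_ne (D := B ⊓ B' ⊓ A) (by omega) 1
  obtain ⟨e, he, e1, ed⟩ := ex_ne (D := B ⊓ B' ⊓ A) (by omega) d
  exact ⟨d, hd, e, he, h.o2 hd.2 d1, h.o2 he.2 e1, ed⟩

theorem i7 (h8 : Nat.card A = 8) (ht : t ∈ A) (t1 : t ≠ 1) : C1[t].relIndex N[S] = 7 := by
  let O : G → Set G := fun t => {x | ∃ n ∈ N[S], n * t * n⁻¹ = x}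
  let I : Set G := (A : Set G) \ {1}
  have cI : I.ncard = 7 := by
    have : (A : Set G).ncard = 8 := h8
    rw [Set.ncard_sdiff_singleton_of_mem (one_mem A), this]
  have sub : ∀ t ∈ I, O t ⊆ I := by
    rintro t ht _ ⟨n, hn, rfl⟩
    exact ⟨h.cjm hn ht.1, cne ht.2 n⟩
  have c3 : ∀ t ∈ I, 3 ≤ (O t).ncard ∧ (O t).ncard % 2 = 1 := fun t ht => by
    have h1 : ¬ 2 ∣ C1[t].relIndex N[S] := fun e => syl_not_dvd Nat.prime_two (h.sub le_normalizer)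
      (e.trans (relIndex_dvd_of_le_left _ (h.sc ht.1)))
    have h2 : C1[t].relIndex N[S] ≠ 1 := fun e => ht.2 (h.fix ht.1 (relIndex_eq_one.1 e))
    rw [card_orb]; omega
  have dis : ∀ s t, s ∉ O t → Disjoint (O t) (O s) := fun s t e => Set.disjoint_left.2 (by
    rintro _ ⟨n, hn, rfl⟩ ⟨m, hm, e1⟩
    exact e ⟨m⁻¹ * n, mul_mem (inv_mem hm) hn, by
      rw [show m⁻¹ * n * t * (m⁻¹ * n)⁻¹ = m⁻¹ * (n * t * n⁻¹) * m by group, ← e1]; group⟩)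
  have ex : ∀ Z ⊆ I, Z.ncard ≠ 7 → ∃ s ∈ I, s ∉ Z := fun Z h1 h2 => by
    by_contra h0
    push Not at h0
    exact h2 (Set.Subset.antisymm h1 h0 ▸ cI)
  have tI : t ∈ I := ⟨ht, t1⟩
  rw [← card_orb]
  by_contra h0
  obtain ⟨s, sI, h1⟩ := ex _ (sub t tI) h0
  have e1 := Set.ncard_union_eq (dis s t h1)
  have := c3 t tI
  have := c3 s sI
  obtain ⟨r, rI, h2⟩ := ex _ (Set.union_subset (sub t tI) (sub s sI)) (by omega)
  have e2 := Set.ncard_union_eq (Set.disjoint_union_left.2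
    ⟨dis r t fun e => h2 (.inl e), dis r s fun e => h2 (.inr e)⟩)
  have := c3 r rI
  have := Set.ncard_le_ncard (Set.union_subset (Set.union_subset (sub t tI) (sub s sI)) (sub r rI))
  omega

theorem tr8 (h8 : Nat.card A = 8) (ht : t ∈ A) (t1 : t ≠ 1) (hs : s ∈ A) (s1 : s ≠ 1) :
    ∃ n ∈ N[S], n * t * n⁻¹ = s := by
  have : (A : Set G).ncard = 8 := h8
  have e := Set.eq_of_subset_of_ncard_le (s := {x | ∃ n ∈ N[S], n * t * n⁻¹ = x})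
    (t := (A : Set G) \ {1}) (by
      rintro _ ⟨n, hn, rfl⟩
      exact ⟨h.cjm hn ht, cne t1 n⟩) (by
      rw [Set.ncard_sdiff_singleton_of_mem (one_mem A), this, card_orb, h.i7 h8 ht t1])
  exact e.ge ⟨hs, s1⟩

theorem no8 (h8 : Nat.card A = 8) (hM : M ≠ ⊤) (ha : a ∈ A) (a1 : a ≠ 1) (ca : C1[a] ≤ M)
    (hb : b ∈ A) (b1 : b ≠ 1) (ba : b ≠ a) (uq : ∀ g ∈ N[S], C1[b] ≤ cj[g] M → g ∈ M) : False := by
  obtain ⟨g, hg, rfl⟩ := h.tr8 h8 ha a1 hb b1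
  have gM := uq g hg (conj_cent1 g a ▸ conj_mono g ca)
  have e := relIndex_mul_relIndex (C1[a] ⊓ N[S]) (M ⊓ N[S]) N[S] (inf_le_inf_right _ ca) inf_le_right
  rw [inf_relIndex_right, inf_relIndex_right, h.i7 h8 ha a1] at e
  have hN : N[S] ≤ M := by
    rcases (Nat.dvd_prime (by norm_num : Nat.Prime 7)).1 (Dvd.intro _ e) with e1 | e1
    · exact absurd (by rw [mem_cent1.1 (relIndex_eq_one.1 e1 ⟨gM, hg⟩).1]; group) ba
    · exact relIndex_eq_one.1 (by rw [e1] at e; omega)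
  refine h.se hM hN fun t ht t1 => ?_
  obtain ⟨n, hn, rfl⟩ := h.tr8 h8 ha a1 ht t1
  rw [← conj_cent1]; exact conj_le_of_mem (hN hn) ca

end Gl

/-- the minimal `C(a)`-invariant `p`-subgroup not centralized by `a`. -/
structure Wd (S A : Subgroup G) (p : ℕ) (a : G) (W : Subgroup G) : Prop extends Gl S A where
  hp : p.Prime
  hp2 : p ≠ 2
  aA : a ∈ A
  pg : IsPGroup p W
  hn : C1[a] ≤ N[W]
  na : ¬ W ≤ C1[a]
  mini : ∀ V, V ≤ W → C1[a] ≤ N[V] → ¬ V ≤ C1[a] → V = W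

/-- the subgroup `X`. -/
structure Xp (S A : Subgroup G) (p : ℕ) (a : G) (W X : Subgroup G) : Prop where
  ne : X ⊓ C[W] ≠ ⊥
  le : X ≤ W
  sX : S ≤ N[X]
  kk : ∀ L, L ≠ ⊤ → S ≤ L → X ≤ L → X ≤ piCoreOf {p} L
  cs : Hyp A C[X] ∨ (Nat.card A = 8 ∧ ∃ b ∈ A, b ≠ 1 ∧ b ≠ a ∧ b ∈ C[X])

theorem Gl.wd (h : Gl S A) (hp : p.Prime) (hp2 : p ≠ 2) (aA : a ∈ A) (pg : IsPGroup p P)
    (hn : C1[a] ≤ N[P]) (na : ¬ P ≤ C1[a]) : ∃ W, Wd S A p a W := by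
  obtain ⟨W, ⟨pW, nW, cW⟩, -, hmin⟩ := exists_minimal_le
    (S := {W : Subgroup G | IsPGroup p W ∧ C1[a] ≤ N[W] ∧ ¬ W ≤ C1[a]}) ⟨pg, hn, na⟩
  exact ⟨W, h, hp, hp2, aA, pW, nW, cW, fun V h1 h2 h3 => hmin V ⟨pW.to_le h1, h2, h3⟩ h1⟩

namespace Wd
variable (h : Wd S A p a W)
include h

theorem a1 : a ≠ 1 := fun e => h.na fun x _ => mem_cent1.2 (by rw [e, mul_one, one_mul])
theorem oa : orderOf a = 2 := h.o2 h.aA h.a1
theorem odd : Odd (Nat.card W) := odd_p h.hp h.hp2 h.pg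
theorem SW : S ≤ N[W] := (h.sc h.aA).trans h.hn
theorem aS : a ∈ S := h.AS h.aA
theorem Sa : S ≤ N[zpowers a] := h.ab.norm h.syl (zpowers_le.2 h.aS)
theorem ne : W ≠ ⊥ := fun e => h.na (e ▸ bot_le)

theorem per : ⁅W, zpowers a⁆ = W :=
  h.mini _ (commutator_le_of_le_norm_left (zp_norm (h.SW h.aS)))
    (le_norm_commutator h.hn (le_norm_of_cent (cent_zpowers a).ge))
    fun e => h.na (le_c1_of_comm h.oa (h.SW h.aS) h.odd e)

theorem k1 (hL : L ≠ ⊤) (aL : a ∈ L) : ⁅W ⊓ L, zpowers a⁆ ≤ piCoreOf {p} L :=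
  h.kg.k1 (card_lt_of_ne_top hL) h.hp h.hp2 h.oa aL (h.pg.to_le inf_le_left) inf_le_right
    (le_norm_inf (inf_le_right.trans h.hn) (inf_le_left.trans le_normalizer))

theorem leO (hL : L ≠ ⊤) (aL : a ∈ L) (hW : W ≤ L) : W ≤ piCoreOf {p} L := by
  have := h.k1 hL aL
  rwa [inf_eq_left.2 hW, h.per] at this

theorem der : ⁅W, W⁆ ≤ C1[a] := by
  by_contra h0
  exact (commutator_lt_of_solvable (solvable_of_isPGroup h.hp h.pg) h.ne).ne
    (h.mini _ (der1_le W) (le_norm_commutator h.hn h.hn) h0)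

theorem derZ : ⁅W, W⁆ ≤ C[W] := by
  have := commutator_le_cent_of_norm_of_cent (self_le_norm_der1 W)
    (zpowers_le.2 (mem_cent_iff.2 h.der))
  rw [h.per] at this
  exact le_cent_symm this

theorem SD (hD : D ≤ A) : S ≤ N[W ⊓ C[D]] :=
  le_norm_inf h.SW (le_norm_cent (h.ab.norm h.syl (hD.trans h.AS)))

theorem Xle (hD : D ≤ A) : ⁅W ⊓ C[D], zpowers a⁆ ≤ W ⊓ C[D] :=
  commutator_le_of_le_norm_left (zp_norm (h.SD hD h.aS))

theorem SX (hD : D ≤ A) : S ≤ N[⁅W ⊓ C[D], zpowers a⁆] := le_norm_commutator (h.SD hD) h.Sa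

theorem XX (hD : D ≤ A) : ⁅⁅W ⊓ C[D], zpowers a⁆, zpowers a⁆ = ⁅W ⊓ C[D], zpowers a⁆ :=
  comm_comm2 h.oa (h.SD hD h.aS) (odd_card_of_le h.odd inf_le_left)

theorem XO (hD : D ≤ A) (hL : L ≠ ⊤) (aL : a ∈ L) (hX : ⁅W ⊓ C[D], zpowers a⁆ ≤ L) :
    ⁅W ⊓ C[D], zpowers a⁆ ≤ piCoreOf {p} L := by
  rw [← h.XX hD]
  exact (commutator_mono (le_inf ((h.Xle hD).trans inf_le_left) hX) le_rfl).trans (h.k1 hL aL)

theorem exB (hT : W ≤ N[T]) (h0 : ¬ W ≤ T) :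
    ∃ B, B ≤ A ∧ Hyp A B ∧ ¬ ⁅W ⊓ C[B], zpowers a⁆ ≤ T := by
  by_contra h1
  push Not at h1
  refine h0 (h.per ▸ Sig.comm_le_of_le_cmod (coprime_abelian_gen_cent (A := A)
    (isMulCommutative_iff.2 fun x y => Subtype.ext (h.cm x.2 y.2)) (h.AS.trans h.SW)
    (cop2' h.odd (h.pS.to_le h.AS)) fun B hB ⟨b, hb, e⟩ => ?_))
  exact Sig.le_cmod (inf_le_left.trans hT) (h1 B hB (h.hyp hB hb e))

theorem mkX (hD : D ≤ A) (h1 : ⁅W ⊓ C[D], zpowers a⁆ ⊓ C[W] ≠ ⊥)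
    (h2 : Hyp A D ∨ (Nat.card A = 8 ∧ ∃ b ∈ D, b ≠ 1 ∧ b ≠ a)) :
    Xp S A p a W ⁅W ⊓ C[D], zpowers a⁆ :=
  have c := le_cent_symm ((h.Xle hD).trans inf_le_right)
  ⟨h1, (h.Xle hD).trans inf_le_left, h.SX hD, fun L hL hS hX => h.XO hD hL (hS h.aS) hX,
    h2.imp (fun e => e.mono c) fun ⟨e, b, hb, b1, ba⟩ => ⟨e, b, hD hb, b1, ba, c hb⟩⟩

theorem exX : ∃ X, Xp S A p a W X := by
  by_cases hW : W ≤ C[W]
  · obtain ⟨B, hB, h1, h2⟩ := h.exB (T := ⊥) le_norm_of_normal (by simpa using h.ne)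
    exact ⟨_, h.mkX hB (by
      rw [inf_eq_left.2 ((h.Xle hB).trans (inf_le_left.trans hW))]; simpa using h2) (.inl h1)⟩
  obtain ⟨B, hB, h1, h2⟩ := h.exB (le_norm_cent le_normalizer) hW
  have X1 := h.Xle hB
  obtain ⟨B', hB', h1', h2'⟩ := h.exB (T := W ⊓ C[⁅W ⊓ C[B], zpowers a⁆])
    (le_norm_of_commutator_le (commutator_mono inf_le_left le_rfl) (le_inf (der1_le W)
      (h.derZ.trans (cent_anti (X1.trans inf_le_left)))))
    fun e => h2 (le_cent_symm (e.trans inf_le_right))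
  have X2 := h.Xle hB'
  have na : ∀ {B}, ⁅W ⊓ C[B], zpowers a⁆ ≠ ⊥ → a ∉ B := fun e aB =>
    e (comm_eq_bot_iff.2 (inf_le_right.trans (cent_le_cent1 aB)))
  have aB := na fun e => h2 (e ▸ bot_le)
  have aB' := na fun e => h2' (e ▸ bot_le)
  have hD : B ⊓ B' ⊓ A ≤ A := inf_le_right
  have m1 : ⁅W ⊓ C[B], zpowers a⁆ ≤ ⁅W ⊓ C[B ⊓ B' ⊓ A], zpowers a⁆ :=
    commutator_mono (inf_le_inf_left _ (cent_anti (inf_le_left.trans inf_le_left))) le_rfl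
  have m2 : ⁅W ⊓ C[B'], zpowers a⁆ ≤ ⁅W ⊓ C[B ⊓ B' ⊓ A], zpowers a⁆ :=
    commutator_mono (inf_le_inf_left _ (cent_anti (inf_le_left.trans inf_le_right))) le_rfl
  have s1 := h.SX hB
  have s2 := h.SX hB'
  have x2 := h.XX hB'
  set X₁ := ⁅W ⊓ C[B], zpowers a⁆
  set X₂ := ⁅W ⊓ C[B'], zpowers a⁆
  have Z1 : ⁅X₂, X₁⁆ ≠ ⊥ := fun e =>
    h2' (le_inf (X2.trans inf_le_left) (le_cent_iff_commutator_eq_bot.2 e))
  have ZW : ⁅X₂, X₁⁆ ≤ ⁅W, W⁆ := commutator_mono (X2.trans inf_le_left) (X1.trans inf_le_left)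
  have ZD := (commutator_mono m2 m1).trans (der1_le _)
  have hne := ne_bot_of_le Z1 (le_inf ZD (ZW.trans h.derZ))
  by_cases h8 : Nat.card A = 8
  · refine ⟨_, h.mkX hD hne (.inr ⟨h8, ?_⟩)⟩
    have := h1.card2 h1'
    obtain ⟨b, hb, b1⟩ := exists_ne_one_of_ne_bot (H := B ⊓ B' ⊓ A) fun e => by
      rw [e, card_bot] at this; omega
    exact ⟨b, hb, b1, fun e => aB (e ▸ hb.1.1)⟩
  by_cases hBB : B ≤ B'
  · exact ⟨_, h.mkX hD hne (.inl (h1.mono (le_inf (le_inf le_rfl hBB) hB)))⟩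
  obtain ⟨b, hb, bB⟩ := SetLike.not_le_iff_exists.1 hBB
  have bA := hB hb
  have ob := h.o2 bA fun e => bB (e ▸ one_mem _)
  have sZ : S ≤ N[⁅X₂, X₁⁆] := le_norm_commutator s2 s1
  have oZ := odd_card_of_le h.odd (ZW.trans (der1_le W))
  have XZ : ⁅⁅X₂, X₁⁆, zpowers b⁆ ≤ ⁅X₂, X₁⁆ := commutator_le_of_le_norm_left (zp_norm (sZ (h.AS bA)))
  have sX : S ≤ N[⁅⁅X₂, X₁⁆, zpowers b⁆] :=
    le_norm_commutator sZ (h.ab.norm h.syl (zpowers_le.2 (h.AS bA)))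
  refine ⟨⁅⁅X₂, X₁⁆, zpowers b⁆, ?_, XZ.trans (ZW.trans (der1_le W)), sX, fun L hL hS hX => ?_,
    .inl ?_⟩
  · rw [inf_eq_left.2 (XZ.trans (ZW.trans h.derZ))]
    refine fun e => Z1 (le_bot_iff.1 ((commutator_mono (x2.ge.trans (comm_zp_le (sq1 h.oa)
      fun x hx => ?_)) le_rfl).trans (commutator_commutator_eq_bot_of_rotate
        (H₁ := X₂) (H₂ := zpowers b) (H₃ := X₁) ?_ (by rwa [commutator_comm X₁])).le))
    · have c := mem_cent1.1 (cent_le_cent1 (h1' b bA a h.aA bB aB') (X2 hx).2)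
      have : ⁅x, a⁆ = ⁅x, b⁆ := by
        calc ⁅x, a⁆ = ⁅x, b * (b * a)⁆ := by rw [tt (sq1 ob) a]
          _ = x * b * x⁻¹ * (x * (b * a)) * x⁻¹ * (b * a)⁻¹ * b⁻¹ := by
            rw [commutatorElement_def]; group
          _ = _ := by rw [c, commutatorElement_def]; group
      exact this ▸ commutator_mem_commutator hx (mem_zpowers b)
    · rw [commutator_comm (zpowers b), comm_eq_bot_iff.2 (X1.trans (inf_le_right.trans
        (cent_le_cent1 hb))), commutator_bot_left]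
  · obtain ⟨d, hd, e, he, od, oe, ed⟩ := h.four h8 h1 h1'
    have k : ∀ d ∈ B ⊓ B' ⊓ A, d ≠ 1 → ⁅⁅X₂, X₁⁆, zpowers b⁆ ≤ piCoreOf {p} C1[d] := fun d hd d1 =>
      XZ.trans (ZD.trans (h.XO hD (h.c1t d1) (h.sc hd.2 h.aS)
        ((h.Xle hD).trans (inf_le_right.trans (cent_le_cent1 hd)))))
    rw [← comm_comm2 ob (sZ (h.AS bA)) oZ]
    exact h.kg.wb (card_lt_of_ne_top hL) h.hp h.hp2 od oe ob (hS (h.AS hd.2)) (hS (h.AS he.2))
      (hS (h.AS bA)) ed (h.cm he.2 hd.2) (h.cm bA hd.2) (h.cm bA he.2) hX (k d hd (ne1 od))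
      (k e he (ne1 oe)) (k _ (mul_mem hd he) (ne1 (ord2_mul od oe ed (h.cm he.2 hd.2))))
      (sX (h.AS bA))
  · have c1 : B ⊓ B' ⊓ A ≤ C[⁅⁅X₂, X₁⁆, zpowers b⁆] :=
      le_cent_symm (XZ.trans (ZD.trans ((h.Xle hD).trans inf_le_right)))
    have c2 : a ∈ C[⁅⁅X₂, X₁⁆, zpowers b⁆] := mem_cent_iff.2 (XZ.trans (ZW.trans h.der))
    have k : ∀ x ∈ A, (x ∈ B ↔ x ∈ B') → x ∈ C[⁅⁅X₂, X₁⁆, zpowers b⁆] := fun x hx e => by
      by_cases xB : x ∈ B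
      · exact c1 ⟨⟨xB, e.1 xB⟩, hx⟩
      · exact (Subgroup.mul_mem_cancel_right _ c2).1 (c1 ⟨⟨h1 x hx a h.aA xB aB,
          h1' x hx a h.aA (mt e.2 xB) aB'⟩, mul_mem hx h.aA⟩)
    have k2 : ∀ {B}, Hyp A B → ∀ x ∈ A, ∀ y ∈ A, (x * y ∈ B ↔ (x ∈ B ↔ y ∈ B)) :=
      fun {B} hB x hx y hy => by
        by_cases xB : x ∈ B
        · simp [xB, B.mul_mem_cancel_left xB]
        by_cases yB : y ∈ B
        · simp [xB, yB, B.mul_mem_cancel_right yB]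
        · simp [xB, yB, hB x hx y hy xB yB]
    intro x hx y hy n1 n2
    refine k _ (mul_mem hx hy) ?_
    have n1 := mt (k x hx) n1
    have n2 := mt (k y hy) n2
    rw [k2 h1 x hx y hy, k2 h1' x hx y hy]
    tauto

end Wd

end Cfsg.Agent.WA
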