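import Cfsg.Agent.WA.B1E

/-! Walter's theorem, part B1: the characteristic `p` case. -/

set_option autoImplicit false
set_option linter.unusedSectionVars false
set_option linter.unusedVariables false

namespace Cfsg.Agent.WA

open Cfsg Subgroup Cfsg.Agent.GT Cfsg.Agent.Cls Cfsg.Agent.GW
open Cfsg.Agent.TT (QS Cmp SN layerOf fstarOf)
open scoped commutatorElement

universe u

variable {G : Type u} [Group G] [Finite G] [IsSimpleGroup G] {p q r : ℕ}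
  {A B B' C D E H J K L L₁ L₂ M M₀ P Q R S T U V W X X' Y Γ : Subgroup G}
  {a b c d e g k k' m n s t u v w x y z : G}

theorem Chp.eq (h : Chp p L) (ab : AB G) (hp : p.Prime) (hp2 : p ≠ 2) (co : IsCoatom L)
    (h1 : L ≠ ⊥) (hR : IsPiHallOf {p} R L) : N[zPuigOf R] = L :=
  norm_eq_of_coatom co (zPuigOf_ne_bot hp (syl_isPGroup hp hR) (ne_bot_of_le (fun e => h1 (by
    unfold Chp at h
    rwa [e, cent_bot, inf_top_eq, le_bot_iff] at h)) (piCoreOf_le_hall hR)))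
    ((zPuigOf_le R).trans hR.le) (puig' ab hp hp2 h hR)

theorem Chp.cj (h : Chp p M) (h' : Chp p L) (ab : AB G) (hp : p.Prime) (hp2 : p ≠ 2)
    (co : IsCoatom M) (co' : IsCoatom L) (h1 : M ≠ ⊥) (h2 : L ≠ ⊥) : ∃ g, L = cj[g] M := by
  obtain ⟨R, hR⟩ := exists_syl hp M
  obtain ⟨R', hR'⟩ := exists_syl hp L
  have e1 := h.eq ab hp hp2 co h1 hR
  have e2 := h'.eq ab hp hp2 co' h2 hR'
  obtain ⟨g, -, e⟩ := syl_exists_conj hp
    (syl_top_of_norm_le hp hR ((norm_le_norm_zPuigOf R).trans e1.le))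
    (syl_top_of_norm_le hp hR' ((norm_le_norm_zPuigOf R').trans e2.le))
  exact ⟨g, by rw [← e1, conj_normalizer, conj_zPuigOf, ← e, e2]⟩

theorem Gl.S1 (h : Gl S A) (hS : S ≤ M) : M ≠ ⊥ :=
  let ⟨_, ht, t1⟩ := h.exA; ne_bot_of_mem (hS (h.AS ht)) t1

theorem Gl.cjN (h : Gl S A) (hS : S ≤ M) (h1 : S ≤ cj[g] M) : ∃ n ∈ N[S], cj[g] M = cj[n] M := by
  obtain ⟨m, hm, e⟩ := syl_exists_conj Nat.prime_two (h.sub hS)
    (syl_of_le (conj_top g⁻¹ ▸ h.syl.conj g⁻¹) (le_conj_iff.1 h1) le_top)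
  exact ⟨g * m, conj_eq_self_iff.1 (by rw [mul_conj, ← e, conj_inv_conj]), by
    rw [mul_conj, conj_eq_self_of_mem hm]⟩

theorem Gl.exL (h : Gl S A) (hp : p.Prime) (pX : IsPGroup p X) (h1 : X ≠ ⊥) :
    ∃ L, IsCoatom L ∧ N[X] ≤ L :=
  exists_coatom_ge (norm_ne_top h1 (solvable_of_isPGroup hp pX) h.nc)

/-- the data of a counterexample. -/
structure Bd (S A : Subgroup G) (p : ℕ) (a : G) (W X M : Subgroup G) : Prop
    extends Wd S A p a W where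
  xp : Xp S A p a W X
  co : IsCoatom M
  nle : N[W] ≤ M

theorem Gl.bd (h : Gl S A) (hp : p.Prime) (hp2 : p ≠ 2) (aA : a ∈ A) (pg : IsPGroup p P)
    (hn : C1[a] ≤ N[P]) (na : ¬ P ≤ C1[a]) : ∃ W X M, Bd S A p a W X M := by
  obtain ⟨W, w⟩ := h.wd hp hp2 aA pg hn na
  obtain ⟨X, x⟩ := w.exX
  obtain ⟨M, hM, hN⟩ := h.exL hp w.pg w.ne
  exact ⟨W, X, M, w, x, hM, hN⟩

namespace Bd
variable (h : Bd S A p a W X M)
include h

theorem ca : C1[a] ≤ M := h.hn.trans h.nle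
theorem SM : S ≤ M := (h.sc h.aA).trans h.ca
theorem WP : W ≤ piCoreOf {p} M := h.leO h.co.1 (h.SM h.aS) (le_normalizer.trans h.nle)
theorem XP : X ≤ piCoreOf {p} M := h.xp.le.trans h.WP
theorem XM : X ≤ M := h.XP.trans (piCoreOf_le _ _)
theorem X1 : X ≠ ⊥ := ne_bot_of_le h.xp.ne inf_le_left
theorem pX : IsPGroup p X := h.pg.to_le h.xp.le
theorem naP : a ∉ C[piCoreOf {p} M] := fun e => h.na (h.WP.trans (mem_cent_iff.1 e))

theorem exZ : ∃ L₁, N[X ⊓ C[W]] ≤ L₁ ∧ Arw p W L₁ M := by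
  obtain ⟨L, hL, hN⟩ := h.exL h.hp (h.pX.to_le inf_le_left) h.xp.ne
  exact ⟨L, hN, h.ab, h.hp, h.hp2, hL, h.ne, h.leO hL.1 (hN (le_norm_inf h.xp.sX (le_norm_cent h.SW)
    h.aS)) ((le_norm_of_cent (le_cent_symm inf_le_right)).trans hN), h.nle⟩

theorem arZ (hN : N[X ⊓ C[W]] ≤ L₁) (hL : IsCoatom L) (hS : S ≤ L) (hX : X ≤ L) :
    Arw p (X ⊓ C[W]) L L₁ :=
  ⟨h.ab, h.hp, h.hp2, hL, h.xp.ne, inf_le_left.trans (h.xp.kk L hL.1 hS hX), hN⟩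

theorem hyp16 (uq : ∀ g ∈ N[S], X ≤ cj[g] M → g ∈ M) : Hyp A C[X] ∧ Nat.card A ≠ 8 := by
  have key : Nat.card A = 8 → ∀ b ∈ A, b ≠ 1 → b ≠ a → b ∈ C[X] → False := fun h8 b hb b1 ba bX =>
    h.no8 h8 h.co.1 h.aA h.a1 h.ca hb b1 ba fun g hg e => uq g hg ((mem_cent_iff.1 bX).trans e)
  rcases h.xp.cs with h1 | ⟨h8, b, hb, b1, ba, bX⟩
  · refine ⟨h1, fun h8 => ?_⟩
    have e1 := card_inf_mul_relIndex C[X] A
    have e2 := h1.idx
    obtain ⟨b, hb, b1, ba⟩ := ex_ne (D := C[X] ⊓ A) (by nlinarith) a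
    exact key h8 b hb.2 b1 ba hb.1
  · exact (key h8 b hb b1 ba bX).elim

variable (hc : Chp p M)
include hc

theorem cp2 (hL : IsCoatom L) (hS : S ≤ L) (hX : X ≤ L) : ∃ n ∈ N[S], L = cj[n] M := by
  obtain ⟨L₁, hN, ar⟩ := h.exZ
  obtain ⟨g, rfl⟩ := hc.cj ((h.arZ hN hL hS hX).chp (ar.chp hc)) h.ab h.hp h.hp2 h.co hL
    (h.S1 h.SM) (h.S1 hS)
  exact h.cjN h.SM hS

theorem cp3 (hg : g ∈ N[S]) (hP : piCoreOf {p} M ≤ cj[g] M) : g ∈ M := by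
  let T₀ : Submonoid G :=
    { carrier := {x | x ∈ N[S] ∧ ∀ y ∈ N[S], W ≤ cj[y] M → W ≤ cj[y * x] M}
      one_mem' := ⟨one_mem _, fun y _ e => by rwa [mul_one]⟩
      mul_mem' := fun {x z} hx hz => ⟨mul_mem hx.1 hz.1, fun y hy e => by
        rw [← mul_assoc]; exact hz.2 _ (mul_mem hy hx.1) (hx.2 y hy e)⟩ }
  let T : Subgroup G := { T₀ with
    inv_mem' := fun {x} hx => (Submonoid.powers_le.2 hx : _ ≤ T₀)
      (mem_powers_iff_mem_zpowers.2 (inv_mem (mem_zpowers x))) }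
  have kW : ∀ y ∈ N[S], W ≤ cj[y] M → W ≤ cj[y] (piCoreOf {p} M) := fun y hy e => by
    rw [conj_piCoreOf]
    exact h.leO (isCoatom_conj y h.co).1 (h.Scj hy h.SM h.aS) e
  have kT : ∀ x ∈ N[S], piCoreOf {p} M ≤ cj[x] M → x ∈ T := fun x hx e => ⟨hx, fun y hy e1 => by
    rw [mul_conj]; exact (kW y hy e1).trans (conj_mono y e)⟩
  have WD : W ≤ cor T (piCoreOf {p} M) := fun w hw x hx => by
    have h1 : x⁻¹ ∈ T := inv_mem hx
    have := kW _ h1.1 (by simpa using h1.2 1 (one_mem _) (by simpa using le_normalizer.trans h.nle)) hw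
    simpa using this
  have MT : M ⊓ N[S] ≤ T := fun x hx => kT x hx.2 (by
    rw [conj_eq_self_of_mem hx.1]; exact piCoreOf_le _ _)
  obtain ⟨L, hL, hN⟩ := h.exL h.hp ((piCoreOf_isPGroup h.hp M).to_le cor_le) (ne_bot_of_le h.ne WD)
  have TL := cor_norm.trans hN
  obtain ⟨n, hn, rfl⟩ := h.cp2 hc hL ((le_inf h.SM le_normalizer).trans (MT.trans TL))
    (h.xp.le.trans (WD.trans (le_normalizer.trans hN)))
  have e : M ⊓ N[S] = cj[n] M ⊓ N[S] := eq_of_le_of_card_ge (le_inf (MT.trans TL) inf_le_right) (by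
    rw [← card_conj n (M ⊓ N[S]), conj_inf, conj_eq_self_of_mem hn])
  exact (e.ge ⟨TL (kT g hg hP), hg⟩).1

theorem cp4 (hL : IsCoatom L) (hS : S ≤ L) (hX : X ≤ L) : L = M := by
  by_contra h0
  obtain ⟨T, ⟨pT, sT, L₁, L₂, c1, c2, ne, s1, s2, t1, t2⟩, XT, hmax⟩ := exists_maximal_ge
    (S := {T : Subgroup G | IsPGroup p T ∧ S ≤ N[T] ∧ ∃ L₁ L₂, IsCoatom L₁ ∧ IsCoatom L₂ ∧ L₁ ≠ L₂ ∧
      S ≤ L₁ ∧ S ≤ L₂ ∧ T ≤ L₁ ∧ T ≤ L₂})
    ⟨h.pX, h.xp.sX, L, M, hL, h.co, h0, hS, h.SM, hX, h.XM⟩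
  obtain ⟨L, hL, hN⟩ := h.exL h.hp pT (ne_bot_of_le h.X1 XT)
  have key : ∀ L₁, IsCoatom L₁ → S ≤ L₁ → T ≤ L₁ → L₁ = L := fun L₁ c1 s1 t1 => by
    by_contra ne
    have pP := piCoreOf_isPGroup h.hp L₁
    have nP := self_le_norm_piCoreOf {p} L₁
    have pTP := pg_sup h.hp pT pP (.inl (t1.trans nP))
    have PT : piCoreOf {p} L₁ ≤ T := by
      by_contra h1
      have := lt_inf_norm_of_nilpotent (nilpotent_of_isPGroup h.hp pTP)
        (lt_of_le_of_ne le_sup_left fun e => h1 (le_sup_right.trans e.ge))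
      exact this.ne' (hmax _ ⟨pTP.to_le inf_le_left, le_norm_inf (le_norm_sup sT (s1.trans nP))
        (sT.trans le_normalizer), L₁, L, c1, hL, ne, s1, sT.trans hN,
        inf_le_left.trans (sup_le t1 (piCoreOf_le _ _)), inf_le_right.trans hN⟩ this.le)
    obtain ⟨n, hn, rfl⟩ := h.cp2 hc c1 s1 (XT.trans t1)
    obtain ⟨m, hm, rfl⟩ := h.cp2 hc hL (sT.trans hN) (XT.trans (le_normalizer.trans hN))
    have := h.cp3 hc (mul_mem (inv_mem hn) hm) (by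
      rw [mul_conj, ← conj_le_iff, conj_piCoreOf]; exact PT.trans (le_normalizer.trans hN))
    exact ne (by rw [← mul_inv_cancel_left n m, mul_conj, conj_eq_self_of_mem this])
  exact ne ((key L₁ c1 s1 t1).trans (key L₂ c2 s2 t2).symm)

theorem cpF : False := by
  have uq : ∀ g ∈ N[S], X ≤ cj[g] M → g ∈ M := fun g hg e =>
    h.nM h.co h.SM (h.cp4 hc (isCoatom_conj g h.co) (h.Scj hg h.SM) e)
  obtain ⟨hB, h8⟩ := h.hyp16 uq
  have cB : ∀ u ∈ A, u ≠ 1 → u ∈ C[X] → C1[u] ≤ M := fun u hu u1 uX => by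
    obtain ⟨H, hH, h1⟩ := exists_coatom_ge (h.c1t u1)
    rwa [← h.cp4 hc hH ((h.sc hu).trans h1) ((mem_cent_iff.1 uX).trans h1)]
  have hN : N[S] ≤ M := fun g hg => by
    obtain ⟨u, hu, -, -, ou, -⟩ := h.four h8 hB (hB.conj (h.nA hg))
    refine uq g hg ((mem_cent_iff.1 hu.1.1).trans ?_)
    have := conj_mono g (cB _ (h.cjm' hg hu.2) (cne' (ne1 ou) g) (mem_conj.1 hu.1.2))
    rwa [conj_cent1, show g * (g⁻¹ * u * g) * g⁻¹ = u by group] at this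
  refine h.se h.co.1 hN fun t ht t1 => ?_
  obtain ⟨n, hn, e⟩ := h.thm hB ht
  have := conj_le_of_mem (inv_mem (hN hn)) (cB _ (h.cjm hn ht) (cne t1 n) e)
  rwa [← conj_cent1, inv_conj_conj] at this

end Bd

end Cfsg.Agent.WA
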