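import Cfsg.Agent.WA.DNB1

/-! Groups of Janko-Ree type, `q = 3 ^ n`: centralizers of elements of `T`. -/

set_option autoImplicit false
set_option linter.unusedSectionVars false
set_option linter.unusedVariables false

namespace Cfsg.Agent.WA

open Cfsg Subgroup Cfsg.Agent.GT Cfsg.Agent.GW
open scoped commutatorElement

universe u

variable {G : Type u} [Group G] [Finite G] {S L D U T V X Y Z P H K M : Subgroup G}
  {t u a c e f g s v w x y : G} {p q : ℕ} {Q : ℤ}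

theorem conj_into_idx (hp : p.Prime) (h1 : H ≤ L) (hi : ¬ p ∣ H.relIndex L) (pX : IsPGroup p X)
    (h2 : X ≤ L) : ∃ l ∈ L, cj[l] X ≤ H := by
  obtain ⟨P, hP⟩ := exists_syl hp H
  obtain ⟨l, hl, e⟩ := syl_exists_conj_le hp (syl_trans hp hP h1 hi) pX h2
  exact ⟨l, hl, e.trans hP.le⟩

theorem pg_ord (h : orderOf v = p) : IsPGroup p (zpowers v) :=
  isPGroup_of_card_eq_prime (by rw [Nat.card_zpowers, h])

theorem c1_conj (h : x ∈ C1[y]) (g : G) : g * x * g⁻¹ ∈ C1[g * y * g⁻¹] :=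
  conj_cent1 g y ▸ conj_mem_conj.2 h

theorem inv_conj (h : s * y * s⁻¹ = y⁻¹) (g : G) :
    g * s * g⁻¹ * (g * y * g⁻¹) * (g * s * g⁻¹)⁻¹ = (g * y * g⁻¹)⁻¹ := by
  rw [conj_inv, conj_mul, conj_mul, h, conj_inv]

namespace B3

variable (h : B3 S t u L D U T q)
include h

theorem s2 (hs : s = u ∨ s = t * u) : orderOf s = 2 :=
  hs.elim (· ▸ h.ou) (· ▸ ord2_mul h.jr.ord h.ou h.ne h.ut)

theorem sS (hs : s = u ∨ s = t * u) : s ∈ S := hs.elim (· ▸ h.uS) (· ▸ mul_mem h.jr.mem h.uS)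

theorem sT (hs : s = u ∨ s = t * u) (hy : y ∈ T) : s * y * s⁻¹ = y⁻¹ := by
  rcases hs with rfl | rfl
  · exact h.uT y hy
  · rw [show t * u * y * (t * u)⁻¹ = t * (u * y * u⁻¹) * t⁻¹ by group, h.uT y hy,
      ← mem_cent1.1 (h.Tt (inv_mem hy)), mul_inv_cancel_right]

theorem fusS (hs : s = u ∨ s = t * u) : ∃ n ∈ N[S], n * s * n⁻¹ = t :=
  h.jr.fus (h.sS hs) (ne1 (h.s2 hs))

theorem sq1' : q ^ 2 - 1 = 2 * Nat.card T * (q + 1) := by
  rw [← h.cardT, show (2 * Nat.card T + 1) ^ 2 = 2 * Nat.card T * (2 * Nat.card T + 1 + 1) + 1 by ring,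
    Nat.add_sub_cancel]

theorem inL (hp : p.Prime) (p2 : p ≠ 2) (hd : p ∣ q ^ 2 - 1) (pX : IsPGroup p X) (hX : X ≤ C1[t]) :
    X ≤ L := fun v hv => h.jr.mem_L (h.jr.mem_K (hX hv) ((PiNat.coprime (isPi_of_isPGroup hp pX)
      ((piNat_single_compl_iff hp).2 (not_dvd_of_coprime h.cop.symm hp hd))).coprime_dvd_left
        (orderOf_dvd_card_of_mem hv))) (odd_ord (odd_p hp p2 pX) hv)

theorem p2T (hd : p ∣ Nat.card T) : p ≠ 2 := fun e => h.oT.not_two_dvd_nat (e ▸ hd)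

theorem pq (hd : p ∣ Nat.card T) : p ∣ q ^ 2 - 1 := h.sq1' ▸ (hd.mul_left 2).mul_right _

theorem toT (hp : p.Prime) (hd : p ∣ Nat.card T) (pX : IsPGroup p X) (hX : X ≤ C1[t]) :
    ∃ l ∈ L, cj[l] X ≤ T := by
  refine conj_into_idx hp h.TL (fun e => ?_) pX (h.inL hp (h.p2T hd) (h.pq hd) pX hX)
  have e1 := card_mul_relIndex h.TL
  rw [h.cardL', mul_comm q, mul_assoc, Nat.mul_right_inj (card_pos' T).ne'] at e1
  have k := hd.mul_left 2
  rw [e1, ← h.cardT] at e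
  rcases (Nat.Prime.dvd_mul hp).1 e with e | e
  · exact hp.one_lt.ne' (Nat.dvd_one.1 ((Nat.dvd_add_right k).1 e))
  · exact h.p2T hd ((Nat.prime_dvd_prime_iff_eq hp Nat.prime_two).1 ((Nat.dvd_add_right k).1 e))

theorem ex_v (hp : p.Prime) (p2 : p ≠ 2) (pY : IsPGroup p Y) (n1 : t ∈ N[Y]) (n2 : u ∈ N[Y])
    (hn : ¬ Y ≤ C1[t]) :
    ∃ s, (s = u ∨ s = t * u) ∧ ∃ v ∈ Y, orderOf v = p ∧ v ∈ C1[s] ∧ t * v * t⁻¹ = v⁻¹ := by
  have := Fact.mk hp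
  have oY := odd_p hp p2 pY
  obtain ⟨s, hs, k⟩ : ∃ s, (s = u ∨ s = t * u) ∧ ¬ Y ⊓ C1[s] ≤ C1[t] := by
    by_contra k
    push Not at k
    exact hn (gen3 h.jr.ord h.ou h.ne h.ut oY n1 n2 inf_le_right (k _ (.inl rfl)) (k _ (.inr rfl)))
  obtain ⟨b, hb, bt⟩ := SetLike.not_le_iff_exists.1 k
  have n : t ∈ N[Y ⊓ C1[s]] := zpowers_le.1 (le_norm_inf (zp_norm n1) (le_norm_self (zpowers_le.2
    (mem_cent1_comm.1 (h.jr.St (h.sS hs))))))
  obtain ⟨c, hc, a, ha, ia, rfl⟩ := dec2 h.jr.tt n (odd_card_of_le oY inf_le_left) hb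
  have m := commutator_le_of_le_norm_left (zp_norm n) ha
  obtain ⟨v, hv, ov⟩ := exists_mem_orderOf_eq hp (PG.dvd_card_of_ne_bot (pY.to_le (zpowers_le.2 m.1))
    fun e => bt (by rw [zpowers_eq_bot.1 e, mul_one]; exact hc.2))
  exact ⟨s, hs, v, zpowers_le.2 m.1 hv, ov, zpowers_le.2 m.2 hv, inv_zp ia hv⟩

theorem ordx (j : JT S t u g w x L D Q) : 4 * orderOf x = q + 1 := by
  have e := j.card.symm.trans h.cardL
  have q8 := j.q8
  have := h.q27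
  have k : Q.natAbs = q := by
    have mono : ∀ a b : ℕ, a < b → 2 ≤ b → a * (a ^ 2 - 1) < b * (b ^ 2 - 1) := fun a b ab b2 =>
      Nat.mul_lt_mul_of_lt_of_le ab (Nat.sub_le_sub_right (Nat.pow_le_pow_left ab.le 2) 1)
        (Nat.sub_pos_of_lt (Nat.one_lt_pow (by norm_num) b2))
    rcases lt_trichotomy Q.natAbs q with k | k | k
    · exact absurd e (mono _ _ k (by omega)).ne
    · exact k
    · exact absurd e (mono _ _ k (by omega)).ne'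
  rw [j.ord]
  omega

variable [IsSimpleGroup G]

theorem nR (cn : PCN.{u}) (j : JT S t u g w x L D Q) (ih : IH.{u} (Nat.card G)) (hy : y ∈ T)
    (y1 : y ≠ 1) (hp : p.Prime) (p2 : p ≠ 2) (hd : ¬ p ∣ Nat.card T) (pY : IsPGroup p Y)
    (hY : Y ≤ C1[y]) (n1 : t ∈ N[Y]) (n2 : u ∈ N[Y]) : Y ≤ C1[t] := by
  by_cases p3 : p = 3
  · exact (p3 ▸ h.ni).fg hp p2 pY h.jr.ord h.ou h.ne h.ut n1 n2
  by_cases pL : p ∣ Nat.card L
  swap
  · exact (h.jr.ni hp pL).fg hp p2 pY h.jr.ord h.ou h.ne h.ut n1 n2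
  have nq : ¬ p ∣ q := fun e => by
    obtain ⟨m, -, e'⟩ := h.q3
    exact p3 ((Nat.prime_dvd_prime_iff_eq hp Nat.prime_three).1 (hp.dvd_of_dvd_pow (e' ▸ e)))
  rw [h.cardL'] at pL
  have pq : p ∣ q + 1 := ((Nat.Prime.dvd_mul hp).1 pL).resolve_left fun e =>
    ((Nat.Prime.dvd_mul hp).1 e).elim nq hd
  by_contra hn
  obtain ⟨s, hs, v, hv, ov, vs, -⟩ := h.ex_v hp p2 pY n1 n2 hn
  obtain ⟨n, -, e⟩ := h.fusS hs
  have o' : orderOf (n * v * n⁻¹) = p := (orderOf_conj n v).trans ov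
  obtain ⟨l, -, k⟩ := conj_into_idx hp (zpowers_le.2 j.xL) (fun e => by
    have e1 := card_mul_relIndex (zpowers_le.2 j.xL)
    rw [h.cardL', ← h.ordx j, Nat.card_zpowers, ← mul_assoc, mul_comm _ (orderOf x),
      Nat.mul_right_inj (orderOf_pos x).ne'] at e1
    rw [e1] at e
    rcases (Nat.Prime.dvd_mul hp).1 e with e | e
    · exact ((Nat.Prime.dvd_mul hp).1 e).elim nq hd
    · exact p2 ((Nat.prime_dvd_prime_iff_eq hp Nat.prime_two).1 (hp.dvd_of_dvd_pow (n := 2) e)))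
    (pg_ord o') (h.inL hp p2 (h.sq1' ▸ pq.mul_left _) (pg_ord o') (zpowers_le.2 (e ▸ c1_conj vs n)))
  have := cn G S L D t u g w x (l * (n * v * n⁻¹) * l⁻¹) (l * (n * y * n⁻¹) * l⁻¹)
    (l * (n * s * n⁻¹) * l⁻¹) Q j ih (k (conj_mem_conj.2 (mem_zpowers _)))
    (cne (cne (fun e => hp.one_lt.ne' (by rw [← ov, e, orderOf_one])) n) l)
    (mem_cent1.1 (c1_conj (c1_conj (mem_cent1_comm.1 (hY hv)) n) l))
    (mem_cent1.1 (c1_conj (c1_conj (mem_cent1_comm.1 vs) n) l))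
    (sq_conj (sq_conj (sq1 (h.s2 hs)) n) l) (inv_conj (inv_conj (h.sT hs hy) n) l)
    (by rw [orderOf_conj, orderOf_conj]; exact odd_ord h.oT hy)
  rw [orderOf_conj, orderOf_conj] at this
  have c : (Nat.card T).Coprime 15 := Nat.Coprime.mul_right (m := 3) (n := 5)
    ((Nat.prime_three.coprime_iff_not_dvd.2 h.T3).symm) ((Nat.prime_five.coprime_iff_not_dvd.2 (by
      have := h.q27; have := h.cardT; omega)).symm)
  exact y1 (orderOf_eq_one_iff.1 (Nat.eq_one_of_dvd_coprimes c (orderOf_dvd_card_of_mem hy) this))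

omit [IsSimpleGroup G] in
theorem nO (hy : y ∈ T) : zpowers t ⊔ zpowers u ≤ N[O[C1[y]]] :=
  (V_le (cent_le_norm _ (cent_zpowers y ▸ mem_cent1_comm.1 (h.Tt hy))) (h.u_norm hy)).trans
    ((norm_le_norm_cent _).trans (cent_zpowers y ▸ norm_le_norm_piCoreOf _ _))

omit [IsSimpleGroup G] in
theorem memO (hy : y ∈ T) (y1 : y ≠ 1) (hc : c ∈ C1[y]) (o : Odd (orderOf c)) : c ∈ O[C1[y]] :=
  mem_O_of_odd (h.sylT hy y1 le_rfl (mem_cent1_comm.1 (h.Tt hy))) hc o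

omit [IsSimpleGroup G] in
theorem memT (hy : y ∈ T) (y1 : y ≠ 1) (hc : c ∈ C1[y]) (hL : c ∈ L) (o : Odd (orderOf c)) :
    c ∈ T := by
  obtain ⟨τ, hτ, k, hk, rfl⟩ := h.nH_odd hy y1 (h.jr.le hL) (by
    rwa [mem_cent1.1 hc, mul_inv_cancel_right]) o
  rwa [h.jr.KD (mem_sup_right ((Subgroup.mul_mem_cancel_left _ (h.TL hτ)).1 hL)) hk, mul_one]

theorem sym (cn : PCN.{u}) (j : JT S t u g w x L D Q) (ih : IH.{u} (Nat.card G)) (hy : y ∈ T)
    (py : (orderOf y).Prime) (hn : ¬ C1[y] ≤ C1[t]) :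
    ∃ s, (s = u ∨ s = t * u) ∧ ∃ v ∈ C1[y], orderOf v = orderOf y ∧ v ∈ C1[s] := by
  have y1 : y ≠ 1 := fun e => py.one_lt.ne' (by rw [e, orderOf_one])
  have dy := orderOf_dvd_card_of_mem hy
  have r2 := h.p2T dy
  have t2 := h.jr.ord
  have cW := cop2' (O_odd C1[y]) (V_pg t2 h.ou h.ut)
  have mt : t ∈ zpowers t ⊔ zpowers u := mem_sup_left (mem_zpowers t)
  have mu : u ∈ zpowers t ⊔ zpowers u := mem_sup_right (mem_zpowers u)
  obtain ⟨Y2, hY2, nY2⟩ := coprime_exists_syl py (.inl (O_solv _)) (h.nO hy) cW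
  suffices ¬ Y2 ≤ C1[t] by
    obtain ⟨s, hs, v, hv, ov, vs, -⟩ := h.ex_v py r2 (syl_isPGroup py hY2) (nY2 mt) (nY2 mu) this
    exact ⟨s, hs, v, O_le _ (hY2.le hv), ov, vs⟩
  intro c2
  refine hn ((sd_zp (h.sylT hy y1 le_rfl (mem_cent1_comm.1 (h.Tt hy)))).1.sup_eq.ge.trans (sup_le
    (le_of_forall_syl_le fun p hp hd => ?_) (zpowers_le.2 (self_mem_cent1 t))))
  have p2 : p ≠ 2 := fun e => (O_odd C1[y]).not_two_dvd_nat (e ▸ hd)
  obtain ⟨Y, hY, nY⟩ := coprime_exists_syl hp (.inl (O_solv _)) (h.nO hy) cW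
  have pY := syl_isPGroup hp hY
  refine ⟨Y, hY, ?_⟩
  by_cases pT : p ∣ Nat.card T
  swap
  · exact h.nR cn j ih hy y1 hp p2 pT pY (hY.le.trans (O_le _)) (nY mt) (nY mu)
  by_contra hn
  obtain ⟨s, hs, v, hv, ov, vs, -⟩ := h.ex_v hp p2 pY (nY mt) (nY mu) hn
  obtain ⟨n, -, e⟩ := h.fusS hs
  obtain ⟨l, hl, k⟩ := h.toT hp pT (pg_ord ((orderOf_conj n v).trans ov))
    (zpowers_le.2 (e ▸ c1_conj vs n))
  have hv' := k (conj_mem_conj.2 (mem_zpowers _))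
  have v1 := cne (cne (fun e => hp.one_lt.ne' (by rw [← ov, e, orderOf_one]) : v ≠ 1) n) l
  have yv := c1_conj (c1_conj (mem_cent1_comm.1 (O_le _ (hY.le hv))) n) l
  have iy := inv_conj (inv_conj (h.sT hs hy) n) l
  rw [e, mem_cent1.1 (h.jr.le hl), mul_inv_cancel_right] at iy
  have oy : orderOf (l * (n * y * n⁻¹) * l⁻¹) = orderOf y := by rw [orderOf_conj, orderOf_conj]
  generalize l * (n * v * n⁻¹) * l⁻¹ = v' at *
  generalize l * (n * y * n⁻¹) * l⁻¹ = y' at *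
  have tO : zpowers t ≤ N[O[C1[v']]] := le_sup_left.trans (h.nO hv')
  have cO := cop2 (O_odd C1[v']) t2
  obtain ⟨Y', hY', nY', l'⟩ := coprime_exists_syl_ge py (.inl (O_solv _)) tO cO
    (zpowers_le.2 (h.memO hv' v1 yv (oy ▸ odd_ord h.oT hy))) (pg_ord oy)
    (zp_norm (norm_zp (iy ▸ inv_mem (mem_zpowers _))))
  have pY' := syl_isPGroup py hY'
  obtain ⟨y0, hy0, o0⟩ := exists_mem_orderOf_eq py ((coprime_syl_inf_cent py (.inl (O_solv _)) tO cO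
    hY' nY').prime_dvd py rfl (orderOf_dvd_card_of_mem ⟨h.memO hv' v1 (cent_le_cent1 hv' (h.TT hy))
      (odd_ord h.oT hy), cent_zpowers t ▸ h.Tt hy⟩))
  have yY : zpowers y ≤ Y' := by
    rw [PG.eq_of_isCyclic_of_card_eq py h.cycT (zpowers_le.2 hy) (zpowers_le.2 (h.memT hv' v1
      (O_le _ (hY'.le hy0.1)) (h.inL py r2 (h.pq dy) (pg_ord o0) (zpowers_le.2
        (cent_zpowers t ▸ hy0.2)) (mem_zpowers _)) (o0 ▸ odd_ord h.oT hy))) (Nat.card_zpowers y)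
          ((Nat.card_zpowers y0).trans o0)]
    exact zpowers_le.2 hy0.1
  have ty : zpowers t ≤ C[zpowers y] := le_cent_symm (cent_zpowers t ▸ zpowers_le.2 (h.Tt hy))
  obtain ⟨c, hc, k'⟩ := coprime_syl_le_conj py (.inl (O_solv _)) (le_sup_left.trans (h.nO hy))
    (cop2 (O_odd _) t2) hY2 (le_sup_left.trans nY2) (X := Y' ⊓ C[zpowers y])
    (fun a ha => h.memO hy y1 (cent_zpowers y ▸ ha.2) (odd_ord (odd_p py r2 pY') ha.1))
    (pY'.to_le inf_le_left) (le_norm_inf nY' (le_norm_cent (le_norm_of_cent ty)))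
  have := thompson_AxB_pgroup py pY' (pg_ord rfl) (PiNat.mono (isPi_of_isPGroup Nat.prime_two
    (pg2 t2)) (by simpa using r2)) nY' (le_norm_self yY) ty
    (k'.trans (conj_le_of_mem hc.2 (cent_zpowers t ▸ c2)))
  exact py.one_lt.ne' (by
    rw [← oy, eq1_of_inv_fix (oy ▸ odd_ord h.oT hy) iy (mem_cent_iff.1 (this (mem_zpowers t))
      (l' (mem_zpowers _))), orderOf_one])

omit [IsSimpleGroup G] in
theorem align (hs : s = u ∨ s = t * u) (hp : p.Prime) (hd : p ∣ Nat.card T) (ov : orderOf v = p)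
    (vs : v ∈ C1[s]) (he : e ∈ D) (n : e ∈ N[zpowers v]) :
    ∃ n, n * v * n⁻¹ ∈ T ∧ e * (n * v * n⁻¹) * e⁻¹ = n * (e * v * e⁻¹) * n⁻¹ := by
  obtain ⟨m, hm, e1⟩ := h.fusS hs
  obtain ⟨l, hl, k⟩ := h.toT hp hd (pg_ord ((orderOf_conj m v).trans ov))
    (zpowers_le.2 (e1 ▸ c1_conj vs m))
  have hv' := k (conj_mem_conj.2 (mem_zpowers _))
  have me := mem_cent1.1 (h.jr.NS he hm)
  have e2 : l * e * l⁻¹ * (l * (m * v * m⁻¹) * l⁻¹) * (l * e * l⁻¹)⁻¹ =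
      l * (m * (e * v * e⁻¹) * m⁻¹) * l⁻¹ := by
    rw [show l * e * l⁻¹ * (l * (m * v * m⁻¹) * l⁻¹) * (l * e * l⁻¹)⁻¹ =
      l * (e * m * v * (e * m)⁻¹) * l⁻¹ by group, ← me]; group
  obtain ⟨τ, hτ, d, hd, e3⟩ := h.nH_odd hv' (cne (cne (fun e => hp.one_lt.ne' (by
    rw [← ov, e, orderOf_one])) m) l) (cj_mem (h.jr.le hl) (h.jr.Dt he)) (by
      rw [e2]
      refine k (conj_mem_conj.2 ?_)
      rw [← conj_zpowers]
      exact conj_mem_conj.2 (conj_mem_of_mem_norm n (mem_zpowers v)))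
    (by rw [orderOf_conj]; exact h.jr.oD he)
  have e4 : d * e⁻¹ = 1 := h.jr.KD (mem_sup_right ((Subgroup.mul_mem_cancel_left _ (h.TL hτ)).1 (by
    rw [← mul_assoc, ← e3]; exact h.jr.comm_L (h.jr.le hl) (h.jr.Dt he)))) (mul_mem hd (inv_mem he))
  obtain rfl := mul_inv_eq_one.1 e4
  refine ⟨l * m, by simpa only [mul_inv_rev, mul_assoc] using hv', ?_⟩
  rw [e3, show τ * d * (l * (m * v * m⁻¹) * l⁻¹) * (τ * d)⁻¹ =
    τ * (d * (l * (m * v * m⁻¹) * l⁻¹) * d⁻¹) * τ⁻¹ by group,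
    ← h.TT hτ _ (conj_mem_of_le_norm h.DT hd hv'), mul_inv_cancel_right] at e2
  simpa only [mul_inv_rev, mul_assoc] using e2

omit [IsSimpleGroup G] in
theorem cycS (hs : s = u ∨ s = t * u) (hp : p.Prime) (hd : p ∣ Nat.card T) (pY : IsPGroup p Y)
    (hY : Y ≤ C1[s]) : IsCyclic Y := by
  obtain ⟨m, hm, e1⟩ := h.fusS hs
  obtain ⟨l, hl, k⟩ := h.toT hp hd (X := cj[m] Y) (pY.map _) (e1 ▸ conj_cent1 m s ▸ conj_mono m hY)
  exact isCyclic_conj_iff.1 (isCyclic_conj_iff.1 (cyc_of_le h.cycT k))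

omit [IsSimpleGroup G] in
theorem finv (hy : y ∈ T) (y1 : y ≠ 1) (hs : s = u ∨ s = t * u) (hp : p.Prime) (hd : p ∣ Nat.card T)
    (ov : orderOf v = p) (vy : v ∈ C1[y]) (vs : v ∈ C1[s]) (hf : f ∈ D) (f3 : orderOf f = 3) :
    ∃ v ∈ C1[y], orderOf v = p ∧ v ∈ C1[s] ∧ f ∈ N[zpowers v] := by
  obtain ⟨m, hm, e1⟩ := h.fusS hs
  have fm : zpowers f ≤ C1[m⁻¹] := zpowers_le.2 (mem_cent1_comm.1 (h.jr.NS hf (inv_mem hm)))
  have n : zpowers f ≤ N[C1[y] ⊓ C1[s] ⊓ cj[m⁻¹] L] := le_norm_inf (le_norm_inf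
    (cent_zpowers y ▸ le_norm_cent (zp_norm (h.normT hy (h.DT hf)))) (le_norm_self (zpowers_le.2
      (cent_le_cent1 (h.sS hs) (h.jr.DS hf))))) (by
    rw [← conj_normalizer, ← conj_eq_self_of_mem_cent (mem_cent_iff.2 fm)]
    exact conj_mono _ (zp_norm (h.jr.DL hf)))
  obtain ⟨Y, hY, nY⟩ := coprime_exists_syl hp (.inr (solv_odd (odd3 (pg_ord f3)))) n (by
    rw [Nat.card_zpowers, f3]
    refine (Nat.prime_three.coprime_iff_not_dvd.2 fun e => ?_).symm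
    obtain ⟨a, ha, a3⟩ := exists_mem_orderOf_eq Nat.prime_three e
    obtain ⟨c, -, k⟩ := h.cy h.ni Nat.prime_three (by decide) hy y1 (pg_ord a3) (zpowers_le.2 ha.1.1)
    have k := k (conj_mem_conj.2 (mem_zpowers a))
    have aL : m * a * m⁻¹ ∈ L := by simpa only [inv_inv] using mem_conj.1 ha.2
    have e2 : m * c⁻¹ * (c * a * c⁻¹) * (m * c⁻¹)⁻¹ = m * a * m⁻¹ := by group
    have := h.jr.f1L k (e2 ▸ h.jr.le aL)
    rw [e2, Subgroup.mul_mem_cancel_left _ aL, inv_mem_iff] at this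
    rw [conj_eq_one_iff.1 (h.jr.KD (mem_sup_right this) k), orderOf_one] at a3
    omega)
  obtain ⟨v', hv', o'⟩ := exists_mem_orderOf_eq hp (hY.prime_dvd hp rfl (ov ▸ orderOf_dvd_card_of_mem
    ⟨⟨vy, vs⟩, mem_conj.2 (by
      rw [inv_inv]
      exact h.inL hp (h.p2T hd) (h.pq hd) (pg_ord ((orderOf_conj m v).trans ov))
        (zpowers_le.2 (e1 ▸ c1_conj vs m)) (mem_zpowers _))⟩))
  exact ⟨v', (hY.le hv').1.1, o', (hY.le hv').1.2, PG.norm_le_norm_of_isCyclic (h.cycS hs hp hd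
    (syl_isPGroup hp hY) (hY.le.trans (inf_le_left.trans inf_le_right))) (zpowers_le.2 hv')
      (nY (mem_zpowers f))⟩

end B3

end Cfsg.Agent.WA
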