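import Cfsg.Agent.WA.J0

/-! Groups of Janko-Ree type with field automorphisms: the local data for the order formula. -/

set_option autoImplicit false

namespace Cfsg.Agent.WA

open Cfsg Subgroup Cfsg.Agent.GT Cfsg.Agent.B84H

universe u

/-- `W = ⟨t, u⟩`, `X = ⟨x⟩ = R_s`, `K = R_{s'} D`, `K0 = R_{s'}`, `C(W) = W × (X × K)⟨w⟩`; `g` of order three
rotates `W` and is fixed point free on `X`. -/
structure JG {G : Type u} [Group G] (t u g w x : G) (K K0 : Subgroup G) (Q : ℤ) : Prop extends Q3 t u g where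
  g3' : g ^ 3 = 1
  ww : w * w = 1
  wt : Commute w t
  wu : Commute w u
  wW : w ∉ toQ3.ψ.range
  wx : w * x * w⁻¹ = x⁻¹
  x1 : x ≠ 1
  odd : Odd (orderOf x)
  xt : Commute x t
  xu : Commute x u
  gx : g * x * g⁻¹ ∈ zpowers x
  fp : ∀ a ∈ zpowers x, Commute g a → a = 1
  oK : Odd (Nat.card K)
  cop : (orderOf x).Coprime (Nat.card K)
  Kt : ∀ k ∈ K, Commute k t
  Ku : ∀ k ∈ K, Commute k u
  Kx : ∀ k ∈ K, Commute k x
  gK : ∀ k ∈ K, g * k * g⁻¹ ∈ K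
  wK : ∀ k ∈ K, w * k * w⁻¹ ∈ K
  le0 : K0 ≤ K
  iK : ∀ k ∈ K, w * k * w⁻¹ = k⁻¹ ↔ k ∈ K0
  cU : ∀ c, Commute c t → Commute c u →
    ∃ e ∈ toQ3.ψ.range, ∃ y ∈ zpowers x, ∃ k ∈ K, c = e * y * k ∨ c = e * y * k * w
  nrm : ∀ a ∈ zpowers x, a ≠ 1 → ∀ c, Commute c t → Commute c a → Commute c u
  cj : ∀ s : G, s * s = 1 → s ≠ 1 → IsConj t s
  two : ∀ (s : G) (k : ℕ), s ^ 2 ^ k = 1 → s * s = 1
  q8 : Q % 8 = 5
  pp : IsPrimePow Q.natAbs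
  big : 27 ≤ |Q|
  c8 : ∃ N : ℤ, Odd N ∧ (Nat.card G : ℤ) = 8 * N
  card : (4 * orderOf x * Nat.card K0 ^ 2 * Nat.card C1[t] : ℤ) = Nat.card K * (Q * (Q - 1) ^ 2 * (Q + 1))

end Cfsg.Agent.WA
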