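import Cfsg.Agent.WA.JM
import Cfsg.Agent.WA.JG0

/-! Groups of Janko-Ree type: `D = 1`. The interfaces between the pieces. -/

set_option autoImplicit false

namespace Cfsg.Agent.WA

open Cfsg Subgroup Cfsg.Agent.GT Cfsg.Agent.B84H

universe u

section
variable {G : Type u} [Group G]

/-- Standing hypothesis: `D = ⟨d⟩ ≠ 1` acts on `L = L₂(q)` by field automorphisms. -/
structure DD (S : Subgroup G) (t : G) (L D : Subgroup G) (q : ℕ) (d : G) : Prop extends JR' S t L D where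
  ih : IH.{u} (Nat.card G)
  ne : d ≠ 1
  gen : D = zpowers d
  cardL : 2 * Nat.card L = q * (q ^ 2 - 1)
  fix : ∀ e ∈ D, ∃ q1 : ℕ, q = q1 ^ orderOf e ∧ 2 * Nat.card ↥(L ⊓ C1[e]) = q1 * (q1 ^ 2 - 1)

/-- The data `JD` with `D`: `W = ⟨t, u⟩`, `R = ⟨x⟩`, `C(W) = W × R D ⟨w⟩`. -/
structure JT (S : Subgroup G) (t u g w x : G) (L D : Subgroup G) (Q : ℤ) : Prop extends Q3 t u g where
  jr : JR' S t L D
  cyc : IsCyclic D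
  uS : u ∈ S
  wS : w ∈ S
  uL : u ∈ L
  xL : x ∈ L
  g3' : g ^ 3 = 1
  gS : g ∈ N[S]
  wg : Commute w g
  wW : w ∉ toQ3.ψ.range
  wx : w * x * w⁻¹ = x⁻¹
  odd : Odd (orderOf x)
  xt : Commute x t
  xu : Commute x u
  gx : g * x * g⁻¹ ∈ zpowers x
  Dx : D ≤ N[zpowers x]
  cU : ∀ c, Commute c t → Commute c u →
    ∃ e ∈ toQ3.ψ.range, ∃ y ∈ zpowers x, ∃ k ∈ D, c = e * y * k ∨ c = e * y * k * w
  nrm : ∀ a ∈ zpowers x, a ≠ 1 → ∀ c, Commute c t → c * a * c⁻¹ ∈ zpowers x → Commute c u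
  cjL : ∀ s ∈ L, s * s = 1 → s ≠ 1 → ∃ c ∈ L, c * u * c⁻¹ = s
  q8 : Q % 8 = 5
  q3 : Q ≠ -3
  pp : IsPrimePow Q.natAbs
  ord : 4 * orderOf x = (Q - 1).natAbs
  card : 2 * Nat.card L = Q.natAbs * (Q.natAbs ^ 2 - 1)

/-- The Borel subgroup `U T` of `L = L₂(q)`, `q = 3 ^ n`; `u` inverts `T`. -/
structure B3 (S : Subgroup G) (t u : G) (L D U T : Subgroup G) (q : ℕ) : Prop where
  jr : JR' S t L D
  cyc : IsCyclic D
  uS : u ∈ S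
  uL : u ∈ L
  u1 : u ≠ 1
  q3 : ∃ m, 1 ≤ m ∧ q = 3 ^ (2 * m + 1)
  cardL : 2 * Nat.card L = q * (q ^ 2 - 1)
  cop : (Nat.card D).Coprime (q ^ 2 - 1)
  UL : U ≤ L
  TL : T ≤ L
  cardU : Nat.card U = q
  cardT : 2 * Nat.card T + 1 = q
  cycT : IsCyclic T
  comm : U ≤ C[U]
  exp : ∀ a ∈ U, a ^ 3 = 1
  TU : T ≤ N[U]
  DU : D ≤ N[U]
  DT : D ≤ N[T]
  uT : ∀ y ∈ T, u * y * u⁻¹ = y⁻¹
  ti : ∀ a ∈ U, a ≠ 1 → ∀ l ∈ L, l * a * l⁻¹ ∈ U → l ∈ U ⊔ T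
  sr : ∀ y ∈ T, ∀ a ∈ U, Commute y a → y = 1 ∨ a = 1
  nT : ∀ y ∈ T, y ≠ 1 → ∀ l ∈ L, l * y * l⁻¹ ∈ T → l ∈ T ∨ u * l ∈ T
  fU : ∀ y ∈ T, ∀ e ∈ D, y * e ∈ C[U] → y = 1 ∧ e = 1
  fT : ∀ e ∈ D, e ∈ C[T] → e = 1
  mx : ∀ Y : Subgroup G, U ⊔ T ≤ Y → Y ≤ L → Odd (Nat.card Y) → Y ≤ U ⊔ T

/-- The 3-subgroup `P*`. -/
structure W4 (t : G) (D U T P : Subgroup G) : Prop where
  pg : IsPGroup 3 P
  le : U ≤ P
  tP : t ∈ N[P]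
  TP : T ≤ N[P]
  DP : D ≤ N[P]
  ct : P ⊓ C1[t] = U
  syl : ¬ 3 ∣ (P ⊔ D).index

/-- Hypotheses of the local argument for a prime `l ≥ 5`. -/
structure LC (l : ℕ) (d x z : G) : Prop where
  pr : l.Prime
  five : 5 ≤ l
  d1 : d ≠ 1
  pd : IsPGroup l (zpowers d)
  ox : orderOf x = l
  oz : Odd (orderOf z)
  xd : Commute x d
  zd : Commute z d
  zx : z * x * z⁻¹ ∈ zpowers x
  nc : ¬ Commute z x
  syl : ¬ l ^ 2 * orderOf d ∣ Nat.card C1[d]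
  f1 : ∀ a ∈ zpowers d, ∀ g, g * a * g⁻¹ ∈ zpowers d → g * a * g⁻¹ = a
  f2 : ∀ y s : G, IsPGroup l (zpowers y) → orderOf s = 2 → Commute y s → ∃ g, g * y * g⁻¹ ∈ zpowers d
  two : ∀ (s : G) (k : ℕ), s ^ 2 ^ k = 1 → s * s = 1

end

/-- `a = |C_L(e)|`, `i = |C(e) : C(e) ∩ C(t)|`. -/
def Ix (a i : ℕ) : Prop := (a = 12 ∧ (i = 7 ∨ i = 63)) ∨ (a = 60 ∧ i = 1463) ∨
  ∃ m q : ℕ, 1 ≤ m ∧ q = 3 ^ (2 * m + 1) ∧ 2 * a = q * (q ^ 2 - 1) ∧ i = q ^ 2 * (q ^ 2 - q + 1)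

def PMod : Prop := ∀ (G : Type u) [Group G] [Finite G] (S L D : Subgroup G) (t : G), JR' S t L D →
  IH.{u} (Nat.card G) → D ≠ ⊥ → ∃ q d, DD S t L D q d

def PB3 : Prop := ∀ (G : Type u) [Group G] [Finite G] (S L D : Subgroup G) (t d u : G) (q m : ℕ), DD S t L D q d →
  1 ≤ m → q = 3 ^ (2 * m + 1) → (Nat.card D).Coprime (q ^ 2 - 1) → u ∈ S → u ∈ L → u ≠ 1 →
  ∃ U T, B3 S t u L D U T q

def PJT : Prop := ∀ (G : Type u) [Group G] [Finite G] (S L D : Subgroup G) (t : G), JR' S t L D → IsCyclic D →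
  ∃ u g w x Q, JT S t u g w x L D Q

def PIdx : Prop := ∀ (G : Type u) [Group G] [Finite G] [IsSimpleGroup G] (S L D : Subgroup G) (t d e : G) (q : ℕ),
  DD S t L D q d → e ∈ D → e ≠ 1 → Ix (Nat.card ↥(L ⊓ C1[e])) (C1[t].relIndex C1[e])

def PInv : Prop := ∀ (G : Type u) [Group G] [Finite G] [IsSimpleGroup G] (S L D : Subgroup G) (t d u g w x : G)
  (q : ℕ) (Q : ℤ), DD S t L D q d → JT S t u g w x L D Q → 60 < Nat.card ↥(L ⊓ C1[d]) →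
  ∃ a ∈ zpowers x, Commute a d ∧ ¬ Commute g a

def PJ1 : Prop := ∀ (G : Type u) [Group G] [Finite G] [IsSimpleGroup G] (S L D : Subgroup G) (t d : G) (q l : ℕ),
  DD S t L D q d → Nat.card ↥(L ⊓ C1[d]) = 60 → l = 11 ∨ l = 19 → ∃ x z, orderOf x = l ∧ Odd (orderOf z) ∧
    Commute x d ∧ Commute z d ∧ z * x * z⁻¹ ∈ zpowers x ∧ ¬ Commute z x

def PSeven : Prop := ∀ (G : Type u) [Group G] [Finite G] (S L D : Subgroup G) (t : G), JR' S t L D →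
  ∃ x ∈ N[S], ∃ z ∈ N[S], orderOf x = 7 ∧ Odd (orderOf z) ∧ z * x * z⁻¹ ∈ zpowers x ∧ ¬ Commute z x

def PCN : Prop := ∀ (G : Type u) [Group G] [Finite G] [IsSimpleGroup G] (S L D : Subgroup G) (t u g w x v y i : G)
  (Q : ℤ), JT S t u g w x L D Q → IH.{u} (Nat.card G) → v ∈ zpowers x → v ≠ 1 → Commute y v → Commute i v →
  i * i = 1 → i * y * i⁻¹ = y⁻¹ → Odd (orderOf y) → orderOf y ∣ 15

def PLoc : Prop := ∀ (G : Type u) [Group G] [Finite G] [IsSimpleGroup G] (l : ℕ) (d x z : G), ¬ LC l d x z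

def PNB : Prop := ∀ (G : Type u) [Group G] [Finite G] (S L D U T : Subgroup G) (t u y : G) (q : ℕ),
  B3 S t u L D U T q → y ∈ T → (orderOf y).Prime → C1[y] ≤ C1[t] → ∃ P, W4 t D U T P

/-- `y0`, the order of `G` known. -/
def PCTE : Prop := ∀ (G : Type u) [Group G] [Finite G] [IsSimpleGroup G] (S L D U T : Subgroup G) (t u g w x y : G)
  (q : ℕ) (Q : ℤ), B3 S t u L D U T q → JT S t u g w x L D Q → IH.{u} (Nat.card G) →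
  C1[t].index.Coprime (q ^ 2 - 1) → y ∈ T → (orderOf y).Prime → C1[y] ≤ C1[t]

/-- `y0`, `3 ∣ |D|`. -/
def PCTA : Prop := ∀ (G : Type u) [Group G] [Finite G] [IsSimpleGroup G] (S L D U T : Subgroup G) (t u g w x f : G)
  (q q1 : ℕ) (Q : ℤ), B3 S t u L D U T q → JT S t u g w x L D Q → IH.{u} (Nat.card G) → f ∈ D → orderOf f = 3 →
  q = q1 ^ 3 → 2 * Nat.card ↥(L ⊓ C1[f]) = q1 * (q1 ^ 2 - 1) → C1[t].relIndex C1[f] ∣ q1 ^ 2 * (q1 ^ 2 - q1 + 1) →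
  (q1 = 3 → D = zpowers f) → ∃ y ∈ T, (orderOf y).Prime ∧ C1[y] ≤ C1[t]

/-- `H¹` of a Frobenius complement. -/
def PH1 : Prop := ∀ (G : Type u) [Group G] [Finite G] (K W : Subgroup G) (e y : G), IsPGroup 3 W →
  ¬ 3 ∣ Nat.card K → K ≤ N[W] → e ∈ N[W] → e ∈ N[K] → W ⊓ C[K] = ⊥ →
  (∀ a ∈ zpowers e, ∀ k ∈ K, Commute a k → a = 1 ∨ k = 1) → y ∈ W → (y * e) ^ orderOf e = 1 →
  ∃ c ∈ W, c * (y * e) * c⁻¹ = e

/-- (A): `e` generates the Sylow 3-subgroup of `D`. -/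
def PAA : Prop := ∀ (G : Type u) [Group G] [Finite G] [IsSimpleGroup G] (S L D U T P : Subgroup G) (t u e : G)
  (q q1 : ℕ), B3 S t u L D U T q → W4 t D U T P → e ∈ D → e ≠ 1 → IsPGroup 3 (zpowers e) →
  ¬ 3 * orderOf e ∣ Nat.card D → q = q1 ^ orderOf e → 2 * Nat.card ↥(L ⊓ C1[e]) = q1 * (q1 ^ 2 - 1) →
  C1[t].relIndex C1[e] ∣ q1 ^ 2 * (q1 ^ 2 - q1 + 1) → False

/-- (E), the order of `G`. -/
def PJG : Prop := ∀ (G : Type u) [Group G] [Finite G] [IsSimpleGroup G] (S L D : Subgroup G) (t u g w x a : G)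
  (Q : ℤ), JT S t u g w x L D Q → 27 ≤ |Q| → (Nat.card D).Coprime (orderOf x) → ¬ 3 ∣ orderOf x → a ∈ zpowers x →
  a ∈ C[D] → ¬ Commute g a → (C1[t].index : ℤ) = Q ^ 2 * (Q ^ 2 + Q + 1)

/-- (E), double transitivity and the Hecke algebra. -/
def PEE : Prop := ∀ (G : Type u) [Group G] [Finite G] [IsSimpleGroup G] (S L D U T P : Subgroup G) (t u : G)
  (q l : ℕ), B3 S t u L D U T q → W4 t D U T P → C1[t].index = q ^ 2 * (q ^ 2 - q + 1) → ¬ 3 ∣ Nat.card D →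
  l.Prime → l ∣ Nat.card D → l ∣ q ^ 2 - q + 1 → False

end Cfsg.Agent.WA
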