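import Cfsg.Agent.WA.SB1
import Cfsg.Agent.B84C.A
import Cfsg.Agent.BS.Block
import Cfsg.Agent.Cls.BSW1

/-! The Hecke algebra of a linear character of a point stabiliser in a doubly transitive group. -/

set_option autoImplicit false
set_option linter.unusedSectionVars false

namespace Cfsg.Agent.WA.EE

open Cfsg Subgroup Cfsg.Agent.GT Cfsg.Agent.Char Cfsg.Agent.BS Cfsg.Agent.B84C Cfsg.Agent.Cls
open scoped Classical ComplexConjugate

universe u

variable {G : Type u} [Group G] [Fintype G] {B P T : Subgroup G} {u : G}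

/-- `G = B ∪ P u B` -/
structure Br (B P : Subgroup G) (u : G) (lam : B →* ℂˣ) : Prop where
  uu : u * u = 1
  le : P ≤ B
  uB : u ∉ B
  un : ∀ p ∈ P, u * p * u ∈ B → p = 1
  card : Nat.card G = (Nat.card P + 1) * Nat.card B
  lP : ∀ b : B, (b : G) ∈ P → lam b = 1
  lu : ∀ a a' : B, (a' : G) = u * a * u → lam a' = lam a

/-- coset representatives -/
def rp (P : Subgroup G) (u : G) : Option P → G
  | none => 1
  | some p => p * u

/-- `λ * χ` -/
noncomputable def E (lam : B →* ℂˣ) (χ : G → ℂ) (g : G) : ℂ := ∑ b : B, lam b * χ ((b : G)⁻¹ * g)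

variable {lam : B →* ℂˣ} {χ ψ : G → ℂ}

theorem E_left (b : B) (g : G) : E lam χ (b * g) = lam b * E lam χ g := by
  rw [E, E, Finset.mul_sum, ← Equiv.sum_comp (Equiv.mulLeft b)]
  exact Finset.sum_congr rfl fun c _ => by simp [mul_assoc]

theorem E_right (hχ : IsClassFunction G χ) (b : B) (g : G) : E lam χ (g * b) = lam b * E lam χ g := by
  rw [E, E, Finset.mul_sum, ← Equiv.sum_comp (Equiv.mulRight b)]
  refine Finset.sum_congr rfl fun c _ => ?_
  rw [← mul_assoc, hχ.mul_comm _ b]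
  simp [mul_assoc, mul_left_comm]

theorem E_one (hχ : IsCharacter G χ) : E lam χ 1 = Nat.card B * ⟪ch lam, fun b : B => χ b⟫ := by
  rw [card_mul_ci]
  exact Finset.sum_congr rfl fun b _ => by rw [mul_one, hχ.apply_inv]; rfl

theorem E_conv (hχ : IsIrrCharacter G χ) (hψ : IsIrrCharacter G ψ) (g : G) :
    ψ 1 * ∑ h, E lam χ h * ψ (h⁻¹ * g) = Nat.card G * ⟪χ, ψ⟫ * E lam ψ g := by
  simp only [E, Finset.sum_mul]
  rw [Finset.sum_comm, Finset.mul_sum, Finset.mul_sum]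
  refine Finset.sum_congr rfl fun b _ => ?_
  rw [mul_left_comm, ← conv_irr hψ hχ, ← Equiv.sum_comp (Equiv.mulLeft (b : G)), mul_left_comm, Finset.mul_sum]
  simp [mul_assoc, Finset.mul_sum]

namespace Br

variable (h : Br B P u lam)
include h

theorem bij : Function.Bijective fun p : Option P × B => rp P u p.1 * p.2 := by
  refine (Nat.bijective_iff_injective_and_card _).2 ⟨?_, by rw [h.card]; simp⟩
  have ui := inv_eq_of_mul_eq_one_right h.uu
  have k : ∀ (p : P) (b : B), (p : G) * u * b ∉ B := fun p b m =>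
    h.uB ((mul_mem_cancel_left (h.le p.2)).1 ((mul_mem_cancel_right b.2).1 m))
  rintro ⟨_ | p, b⟩ ⟨_ | p', b'⟩ e <;> simp only [rp, one_mul] at e
  · rw [Subtype.ext e]
  · exact (k p' b' (e ▸ b.2)).elim
  · exact (k p b (e ▸ b'.2)).elim
  · obtain rfl : p = p' := Subtype.ext (inv_mul_eq_one.1 (h.un _ (mul_mem (inv_mem p.2) p'.2) (by
      rw [show u * ((p : G)⁻¹ * p') * u = u * (p : G)⁻¹ * (p' * u * b') * (b' : G)⁻¹ by group, ← e, ← ui]
      simpa [mul_assoc, ui, GW.tt h.uu] using mul_mem b.2 (inv_mem b'.2))))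
    rw [Subtype.ext (mul_left_cancel e)]

theorem dec {g : G} (n : g ∉ B) : ∃ (p : P) (b : B), g = p * u * b := by
  obtain ⟨⟨_ | p, b⟩, e⟩ := h.bij.2 g <;> simp only [rp, one_mul] at e
  exacts [(n (e ▸ b.2)).elim, ⟨p, b, e.symm⟩]

theorem E_P (p : P) (g : G) : E lam χ (p * g) = E lam χ g := by
  simpa [h.lP ⟨p, h.le p.2⟩ p.2] using E_left (lam := lam) (χ := χ) ⟨p, h.le p.2⟩ g

theorem conv (hχ : IsClassFunction G χ) (g : G) :
    ∑ c, E lam χ c * ψ (c⁻¹ * g) = E lam χ 1 * E lam ψ g + E lam χ u * ∑ p : P, E lam ψ (u * (p : G)⁻¹ * g) := by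
  rw [← Fintype.sum_bijective _ h.bij (fun p => E lam χ (rp P u p.1 * p.2) * ψ ((rp P u p.1 * p.2)⁻¹ * g)) _
    fun _ => rfl, Fintype.sum_prod_type, Fintype.sum_option, Finset.mul_sum]
  congr 1
  · rw [E.eq_1 lam ψ, Finset.mul_sum]
    exact Finset.sum_congr rfl fun b _ => by rw [E_right hχ]; simp [rp]; ring
  refine Finset.sum_congr rfl fun p _ => ?_
  rw [E.eq_1 lam ψ, Finset.mul_sum]
  refine Finset.sum_congr rfl fun b _ => ?_
  rw [E_right hχ, rp, h.E_P]
  simp [inv_eq_of_mul_eq_one_right h.uu, mul_assoc, mul_left_comm]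

theorem ind_val (g : G) : indFun B (ch lam) g =
    extendByZero B (ch lam) g + ∑ p : P, extendByZero B (ch lam) (u * ((p : G)⁻¹ * g * p) * u) := by
  rw [indFun_trans B (ch_irr lam).isClassFunction _ h.bij, Fintype.sum_option]
  simp [rp, inv_eq_of_mul_eq_one_right h.uu, mul_assoc]

theorem norm : ⟪indFun B (ch lam), indFun B (ch lam)⟫ = 2 := by
  have ui := inv_eq_of_mul_eq_one_right h.uu
  have c := sb_card (X := B) (Y := cj[u] B) (fun p : P => (p : G)) (fun p => h.le p.2)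
    (fun p p' m => Subtype.ext (inv_mul_eq_one.1 (h.un _ (mul_mem (inv_mem p.2) p'.2) (by
      simpa [ui] using mem_conj.1 m)))) fun x hx => by
      obtain ⟨p, b, e⟩ := h.dec (g := x * u) fun m => h.uB ((mul_mem_cancel_left hx).1 m)
      exact ⟨p, mem_conj.2 (by rw [ui, mul_assoc, mul_assoc, e]; simp [← mul_assoc, h.uu])⟩
  have c2 := card_inf_mul_relIndex (cj[u] B) B
  have k : ∀ p : P, ∑ y : B, ch lam y * conj (extendByZero B (ch lam) (u * ((p : G)⁻¹ * y * p) * u)) =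
      Nat.card ↥(cj[u] B ⊓ B) := fun p => by
    rw [← Equiv.sum_comp (MulAut.conj (⟨p, h.le p.2⟩ : B)).toEquiv, ← card_subgroupOf', ← BSW.sum_ite_mem]
    refine Finset.sum_congr rfl fun y _ => ?_
    simp only [MulEquiv.toEquiv_eq_coe, EquivLike.coe_coe, MulAut.conj_apply, coe_mul, coe_inv, mul_assoc,
      inv_mul_cancel_left, inv_mul_cancel, mul_one, mem_subgroupOf, mem_conj, ui]
    rw [← mul_assoc (⟨p, h.le p.2⟩ : B), (ch_irr lam).isClassFunction]
    split_ifs with m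
    · rw [extendByZero_of_mem _ _ m, ch, ch, h.lu y ⟨_, m⟩ (mul_assoc _ _ _).symm, unitsHom_mul_conj]
    · rw [extendByZero_of_not_mem _ _ m, map_zero, mul_zero]
  rw [ci_indFun_left _ _ (isClassFunction_indFun _ _), ci_def]
  simp only [h.ind_val, map_add, map_sum, mul_add, Finset.sum_add_distrib, Finset.mul_sum, extendByZero_coe]
  rw [Finset.sum_comm]
  simp only [← Finset.mul_sum, k]
  simp only [ch, unitsHom_mul_conj]
  have := card_ne_zero_complex B
  rw [← c] at c2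
  simp only [Finset.sum_const, Finset.card_univ, nsmul_eq_mul, ← Nat.card_eq_fintype_card]
  rw [← Nat.cast_mul, mul_comm (Nat.card P), c2]
  field_simp; norm_num

theorem resP : ⟪fun p : P => indFun B (ch lam) p, fun _ => 1⟫ = 2 := by
  have := card_ne_zero_complex P
  have k : ∀ y : P, indFun B (ch lam) y = 1 + if y = 1 then (Nat.card P : ℂ) else 0 := fun y => by
    rw [h.ind_val, extendByZero_of_mem _ _ (h.le y.2), ch, h.lP _ y.2]
    split_ifs with e
    · simp [e, h.uu, extendByZero_of_mem _ _ B.one_mem, ch, h.lP ⟨1, B.one_mem⟩ P.one_mem]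
    · rw [Finset.sum_eq_zero fun p _ => extendByZero_of_not_mem _ _ fun m => e ?_]
      · simp
      simpa [mul_assoc, inv_mul_eq_one] using h.un _ (mul_mem (mul_mem (inv_mem p.2) y.2) p.2) m
  simp only [ci_one_right, k, Finset.sum_add_distrib]
  simp [← Nat.card_eq_fintype_card]
  field_simp; norm_num

theorem hecke : ∃ (χ : Fin 2 → G → ℂ) (a : Fin 2 → ℕ) (s : Multiset ℂ), (∀ i, IsIrrCharacter G (χ i) ∧ χ i 1 = a i ∧
    ⟪fun b : B => χ i b, ch lam⟫ = 1 ∧ ⟪fun p : P => χ i p, fun _ => 1⟫ = 1) ∧ a 0 + a 1 = Nat.card P + 1 ∧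
    s.card + 1 = Nat.card P ∧ (∀ z ∈ s, ∃ b, z = lam b) ∧
    s.sum ^ 2 * (a 0 * a 1) = Nat.card P * ((a 0 : ℂ) - a 1) ^ 2 := by
  have hΘ := (ch_irr lam).isCharacter.indFun
  obtain ⟨α, β, hα, hβ, o, e⟩ := hΘ.virt.exists_of_nsq_two (nsq_eq_of_ci (by simpa using h.norm))
  have key : ∀ {α}, IsSIrr G α → ⟪indFun B (ch lam), α⟫ = 1 → IsIrrCharacter G α ∧
      ⟪ch lam, fun b : B => α b⟫ = 1 ∧ ∃ n : ℕ, ⟪fun p : P => α p, fun _ => 1⟫ = 1 + n := fun {α} hα c => by
    have i : IsIrrCharacter G α := hα.resolve_right fun i => by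
      obtain ⟨n, hn⟩ := hΘ.ci_irr_nat i
      rw [ci_neg_right, c] at hn
      have : (-1 : ℤ) = n := by exact_mod_cast hn
      omega
    rw [ci_indFun_left _ _ i.isClassFunction] at c
    have c' : ⟪fun b : B => α b, ch lam⟫ = 1 := by rw [← ci_conj_symm, c, map_one]
    obtain ⟨n, hn⟩ := (((i.isCharacter.restrict B).sub_irr (ch_irr lam) (by rw [c']; exact one_ne_zero)).comp
      (inclusion h.le)).ci_nat isCharacter_one
    refine ⟨i, c, n, ?_⟩
    rw [← hn]
    nth_rw 2 [← ci_one_one (G := P)]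
    rw [← ci_add_left]
    congr 1; ext p; simp [ch, h.lP ⟨p, h.le p.2⟩ p.2, inclusion]
  obtain ⟨iα, cα, m, hm⟩ := key hα (by rw [e, ci_add_left, hα.ci_self, ci_eq_zero_symm o, add_zero])
  obtain ⟨iβ, cβ, n, hn⟩ := key hβ (by rw [e, ci_add_left, hβ.ci_self, o, zero_add])
  have r := h.resP
  rw [e, show (fun p : P => (α + β) p) = (fun p : P => α p) + fun p : P => β p from rfl, ci_add_left, hm, hn] at r
  have r' : 1 + m + (1 + n) = 2 := by exact_mod_cast r
  obtain rfl : m = 0 := by omega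
  obtain rfl : n = 0 := by omega
  obtain ⟨a, a0, ha⟩ := iα.exists_degree
  obtain ⟨b, b0, hb⟩ := iβ.exists_degree
  have B0 := card_ne_zero_complex B
  have cG : (Nat.card G : ℂ) = (Nat.card P + 1) * Nat.card B := by exact_mod_cast h.card
  have d : (a : ℂ) + b = Nat.card P + 1 := by
    have := congrFun e 1
    rw [indFun_apply_one, ← card_div_card_eq_index, cG, Pi.add_apply, ha, hb, ch, map_one] at this
    rw [← this]; field_simp; simp
  have nB : ∀ p : P, p ≠ 1 → u * (p : G)⁻¹ * u ∉ B := fun p n m =>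
    n (Subtype.ext (inv_eq_one.1 (h.un _ (inv_mem p.2) m)))
  choose! p' b' hp using fun p n => h.dec (nB p n)
  have s1 : ∀ {χ}, IsClassFunction G χ → ∑ p : P, E lam χ (u * (p : G)⁻¹ * 1) = Nat.card P * E lam χ u := fun hχ => by
    rw [Finset.sum_congr rfl fun (p : P) _ => (by
      rw [mul_one, ← coe_inv, E_right hχ ⟨_, h.le p⁻¹.2⟩, h.lP _ p⁻¹.2, Units.val_one, one_mul] :
        E lam _ (u * (p : G)⁻¹ * 1) = E lam _ u)]
    simp
  have s2 : ∑ p : P, E lam β (u * (p : G)⁻¹ * u) =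
      E lam β 1 + (∑ p ∈ Finset.univ.erase (1 : P), (lam (b' p) : ℂ)) * E lam β u := by
    rw [← Finset.add_sum_erase _ _ (Finset.mem_univ 1), Finset.sum_mul]
    congr 1
    · simp [h.uu]
    refine Finset.sum_congr rfl fun p n => ?_
    rw [hp p (Finset.ne_of_mem_erase n), E_right iβ.isClassFunction, h.E_P]
  have e1 := E_conv (lam := lam) iα iβ 1
  have e2 := E_conv (lam := lam) iα iβ u
  have e3 := E_conv (lam := lam) iα iα 1
  have e4 := E_conv (lam := lam) iβ iβ 1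
  rw [h.conv iα.isClassFunction] at e1 e2 e3
  rw [h.conv iβ.isClassFunction] at e4
  rw [s1 iβ.isClassFunction] at e1 e4
  rw [s1 iα.isClassFunction] at e3
  rw [s2] at e2
  simp only [E_one iα.isCharacter, E_one iβ.isCharacter, cα, cβ, o, ha, hb, iα.ci_self, iβ.ci_self, cG, mul_one,
    mul_zero, zero_mul, mul_eq_zero, Nat.cast_eq_zero, b0.ne', false_or] at e1 e2 e3 e4
  refine ⟨![α, β], ![a, b], (Finset.univ.erase (1 : P)).val.map fun p => (lam (b' p) : ℂ), fun i => ?_,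
    by exact_mod_cast d, by simp [Nat.sub_add_cancel Fintype.card_pos], fun z hz => ?_, ?_⟩
  · fin_cases i
    exacts [⟨iα, ha, by rw [← ci_conj_symm]; simp [cα], by simpa using hm⟩,
      ⟨iβ, hb, by rw [← ci_conj_symm]; simp [cβ], by simpa using hn⟩]
  · obtain ⟨p, -, e⟩ := Multiset.mem_map.1 hz
    exact ⟨_, e.symm⟩
  · change (∑ p ∈ Finset.univ.erase (1 : P), (lam (b' p) : ℂ)) ^ 2 * (a * b) = Nat.card P * ((a : ℂ) - b) ^ 2
    generalize ∑ p ∈ Finset.univ.erase (1 : P), (lam (b' p) : ℂ) = c at *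
    generalize E lam α u = x at *
    generalize E lam β u = y at *
    generalize (Nat.card B : ℂ) = k at *
    generalize (Nat.card P : ℂ) = N at *
    have f1 : c * k = N * (x + y) := mul_left_cancel₀ B0 (by linear_combination c * e1 - N * e2)
    refine mul_left_cancel₀ (pow_ne_zero 2 B0) ?_
    linear_combination (a * b * (c * k + N * (x + y))) * f1 + N * b * e3 + N * a * e4 + 2 * N * a * b * e1 -
      N * k ^ 2 * (a + b) * d

end Br

/-- Wielandt's formula modulo `|T|` -/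
theorem wie (hχ : IsCharacter G χ) (n : T ≤ N[P]) (fp : ∀ y ∈ T, y ≠ 1 → P ⊓ C1[y] = ⊥) (i : P ⊓ T = ⊥) {a : ℕ}
    (ha : χ 1 = a) (c : ⟪fun p : P => χ p, fun _ => 1⟫ = 1) : (Nat.card T : ℤ) ∣ a - 1 := by
  have P0 := card_ne_zero_complex P
  have T0 := card_ne_zero_complex T
  obtain ⟨m, hm⟩ := (hχ.restrict (P ⊔ T)).ci_nat isCharacter_one
  obtain ⟨k, hk⟩ := (hχ.restrict T).ci_nat isCharacter_one
  have cM := card_sup_of_inf_eq_bot (.inr n) i
  have bij : Function.Bijective fun p : T × P => (⟨p.2 * p.1, mul_mem (mem_sup_left p.2.2) (mem_sup_right p.1.2)⟩ :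
      ↥(P ⊔ T)) := (Nat.bijective_iff_surjective_and_card _).2 ⟨fun z => by
    obtain ⟨p, hp, y, hy, e⟩ := (mem_sup_of_le_norm' n).1 z.2
    exact ⟨(⟨y, hy⟩, ⟨p, hp⟩), Subtype.ext e.symm⟩, by rw [Nat.card_prod, cM, mul_comm]⟩
  have s : ∀ y : T, y ≠ 1 → ∑ p : P, χ (p * y) = Nat.card P * χ y := fun y y1 => by
    have b : Function.Bijective fun p : P => (⟨p * (y * (p : G)⁻¹ * (y : G)⁻¹), mul_mem p.2
        (conj_mem_of_mem_norm (n y.2) (inv_mem p.2))⟩ : P) := Finite.injective_iff_bijective.1 fun p p' e =>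
      Subtype.ext (inv_mul_eq_one.1 (mem_bot.1 ((fp y y.2 fun e => y1 (Subtype.ext e)).le
        ⟨P.mul_mem (P.inv_mem p.2) p'.2, mem_cent1.2 (by
          have : (p : G) * (y * (p : G)⁻¹ * (y : G)⁻¹) = p' * (y * (p' : G)⁻¹ * (y : G)⁻¹) := congrArg Subtype.val e
          calc (p : G)⁻¹ * p' * y = (p : G)⁻¹ * (p' * (y * (p' : G)⁻¹ * (y : G)⁻¹)) * y * p' := by group
            _ = _ := by rw [← this]; group)⟩)))
    rw [← Fintype.sum_bijective _ b (fun _ => χ y) _ fun p => by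
      rw [← hχ.isClassFunction y p]; simp [mul_assoc]]
    simp
  rw [ci_one_right, inv_mul_eq_iff_eq_mul₀ (card_ne_zero_complex _)] at hm hk c
  rw [← Fintype.sum_bijective _ bij (fun p => χ (p.2 * p.1)) _ fun _ => rfl, Fintype.sum_prod_type,
    ← Finset.add_sum_erase _ _ (Finset.mem_univ 1), Finset.sum_congr rfl fun y hy => s y (Finset.ne_of_mem_erase hy),
    ← Finset.mul_sum, Finset.sum_erase_eq_sub (Finset.mem_univ 1), hk, cM] at hm
  simp only [coe_one, mul_one, c, ha] at hm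
  refine ⟨k - m, ?_⟩
  have : ((a : ℂ) - 1) = Nat.card T * (k - m) := mul_left_cancel₀ P0 (by push_cast at hm; linear_combination -hm)
  exact_mod_cast this

theorem ar {n l a b τ : ℕ} {z : ℤ} {c : ℂ} (n3 : 3 ≤ n) (hτ : 2 * τ + 1 = 3 ^ n) (a1 : a ≠ 1) (le : a ≤ b) (a0 : 0 < a)
    (s : a + b = (3 ^ n) ^ 3 + 1) (ta : (τ : ℤ) ∣ a - 1) (tb : (τ : ℤ) ∣ b - 1) (hz : c ^ 2 = z)
    (e : (z : ℤ) * (a * b) = (3 ^ n) ^ 3 * (a - b) ^ 2) (hl : l.Prime) (lq : l ∣ (3 ^ n) ^ 2 - 3 ^ n + 1)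
    (H : ∀ m : ℤ, c = m → (l : ℤ) ∣ (3 ^ n) ^ 3 - 1 - m) : False := by
  obtain ⟨g, r, s', g0, cp, rfl, rfl⟩ := Nat.exists_coprime' (Nat.gcd_pos_of_pos_left b a0)
  have e1 : (z : ℤ) * (r * s') = (3 ^ n) ^ 3 * (r - s') ^ 2 := mul_left_cancel₀ (a := (g : ℤ) ^ 2) (by positivity)
    (by push_cast at e; linear_combination e)
  have p : ∀ {r s : ℕ}, r.Coprime s → (z : ℤ) * (r * s) = (3 ^ n) ^ 3 * (r - s) ^ 2 → ∃ k, r = 3 ^ k :=
    fun {r s} cp e => by
      have : (r : ℤ) ∣ (3 ^ (n * 3) * s ^ 2 : ℕ) := ⟨z * s - (3 ^ n) ^ 3 * (r - 2 * s), by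
        push_cast; rw [pow_mul]; linear_combination -e⟩
      exact ((Nat.dvd_prime_pow Nat.prime_three).1 ((cp.pow_right 2).dvd_of_dvd_mul_right
        (Int.natCast_dvd_natCast.1 this))).imp fun _ => (·.2)
  obtain ⟨i, rfl⟩ := p cp e1
  obtain ⟨k, rfl⟩ := p cp.symm (by linear_combination e1)
  obtain rfl : i = 0 := by
    by_contra i0
    have : i ≤ k := (Nat.pow_le_pow_iff_right (by norm_num)).1 (Nat.le_of_mul_le_mul_right le g0)
    exact absurd (Nat.eq_one_of_dvd_coprimes cp (dvd_pow_self 3 i0) (dvd_pow_self 3 (by omega))) (by norm_num)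
  have t1 : (τ : ℤ) ∣ 3 ^ (k % n) - 1 := by
    have h1 : (τ : ℤ) ∣ 3 ^ k - 1 := by
      have := tb.sub (ta.mul_left (3 ^ k))
      push_cast at this
      rwa [show (3 : ℤ) ^ k * g - 1 - 3 ^ k * (1 * g - 1) = 3 ^ k - 1 by ring] at this
    have h2 : (τ : ℤ) ∣ (3 ^ n) ^ (k / n) - 1 := (show (τ : ℤ) ∣ 3 ^ n - 1 from
      ⟨2, by have := congrArg (Nat.cast : ℕ → ℤ) hτ; push_cast at this; linarith⟩).trans (sub_one_dvd_pow_sub_one _ _)
    have := h1.sub (h2.mul_left (3 ^ (k % n)))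
    rw [← pow_mul, mul_sub, ← pow_add, Nat.mod_add_div] at this
    simpa using this
  have k0 : k % n = 0 := by
    obtain ⟨n, rfl⟩ : ∃ m, n = m + 1 := ⟨n - 1, by omega⟩
    have l1 : 3 ^ (k % (n + 1)) ≤ 3 ^ n := Nat.pow_le_pow_right (by norm_num) (Nat.le_of_lt_succ (Nat.mod_lt _ (by omega)))
    have l2 : 0 < 3 ^ (k % (n + 1)) := by positivity
    have := Int.eq_zero_of_dvd_of_nonneg_of_lt (by zify at l2; omega) (by rw [pow_succ] at hτ; zify at l1 hτ; omega) t1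
    exact (Nat.pow_eq_one.1 (show 3 ^ (k % (n + 1)) = 1 by zify; linarith)).resolve_left (by norm_num)
  obtain ⟨m, rfl⟩ := Nat.dvd_of_mod_eq_zero k0
  have q3 : 3 ∣ 3 ^ n := dvd_pow_self 3 (by omega)
  have q27 : 27 ≤ 3 ^ n := Nat.pow_le_pow_right (n := 3) (i := 3) (by norm_num) n3
  have lq' : (l : ℤ) ∣ (3 ^ n) ^ 2 - 3 ^ n + 1 := by
    have := Int.natCast_dvd_natCast.2 lq
    rwa [Nat.cast_add, Nat.cast_sub (Nat.le_self_pow two_ne_zero _), Nat.cast_pow, Nat.cast_pow] at this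
  rw [pow_mul] at s e1
  push_cast at e1
  have cq : ((3 : ℤ) ^ n) = (3 ^ n : ℕ) := by simp
  rw [cq] at e1 lq' H
  generalize 3 ^ n = q at *
  have bad : ∀ j : ℕ, j ≤ 3 → j ≠ 0 → ¬ (l : ℤ) ∣ j := fun j j3 j0 d => by
    have := Nat.le_of_dvd (by omega) (Int.natCast_dvd_natCast.1 d)
    have := hl.two_le
    obtain ⟨k, rfl⟩ := q3
    obtain ⟨j, rfl⟩ : ∃ j, k = 2 * j + 1 := ⟨k / 2, by omega⟩
    have e : ((3 * (2 * j + 1) : ℕ) : ℤ) ^ 2 - (3 * (2 * j + 1) : ℕ) + 1 = 6 * (6 * j ^ 2 + 5 * j + 1) + 1 := by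
      push_cast; ring
    rw [e] at lq'
    obtain rfl | rfl : l = 2 ∨ l = 3 := by omega
    all_goals omega
  simp only [pow_zero, one_mul] at s a1 e1 a0
  rcases m with _ | _ | _ | _ | m
  · simp only [pow_zero, sub_self] at e1
    have : c = (0 : ℤ) := by
      obtain rfl : z = 0 := by simpa using e1
      simpa using hz
    exact bad 2 (by omega) (by omega) (by
      have := (lq'.mul_left (q + 1)).sub (H 0 this)
      rwa [show ((q : ℤ) + 1) * (q ^ 2 - q + 1) - (q ^ 3 - 1 - 0) = (2 : ℕ) by push_cast; ring] at this)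
  · have e2 : (z : ℤ) = (q * (q - 1)) ^ 2 := mul_left_cancel₀ (a := (q : ℤ)) (by omega) (by
      push_cast at e1; linear_combination e1)
    have : c ^ 2 = ((q * (q - 1) : ℤ) : ℂ) ^ 2 := by rw [hz]; exact_mod_cast e2
    rcases sq_eq_sq_iff_eq_or_eq_neg.1 this with e | e
    · exact bad 1 (by omega) (by omega) (by
        have := (lq'.mul_left q).sub (H _ e)
        rwa [show (q : ℤ) * (q ^ 2 - q + 1) - (q ^ 3 - 1 - q * (q - 1)) = (1 : ℕ) by push_cast; ring] at this)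
    · exact bad 3 (by omega) (by omega) (by
        have := (lq'.mul_left (q + 2)).sub (H (-(q * (q - 1))) (by rw [e]; simp))
        rwa [show ((q : ℤ) + 2) * (q ^ 2 - q + 1) - (q ^ 3 - 1 - -(q * (q - 1))) = (3 : ℕ) by push_cast; ring] at this)
  · replace s : g + q ^ 2 * g = q ^ 3 + 1 := s
    clear * - s q27
    rcases lt_or_ge g q with k | k
    · have := Nat.mul_le_mul_left (q ^ 2 + 1) (show g + 1 ≤ q from k)
      nlinarith
    · have := Nat.mul_le_mul_left (q ^ 2 + 1) k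
      nlinarith
  · replace s : g + q ^ 3 * g = q ^ 3 + 1 := s
    have := Nat.mul_le_mul_left (q ^ 3 + 1) (show 2 ≤ g by omega)
    linarith [Nat.zero_le (q ^ 3)]
  · have := Nat.mul_le_mul (Nat.pow_le_pow_right (n := q) (by omega) (show 4 ≤ m + 1 + 1 + 1 + 1 by omega)) g0
    have := Nat.mul_le_mul_left (q ^ 3) q27
    have : 0 < q ^ 3 := by positivity
    nlinarith

end Cfsg.Agent.WA.EE
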