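import Cfsg.Agent.GT.OddGL2

/-! The local argument: a matrix lemma. -/

set_option autoImplicit false

namespace Cfsg.Agent.WA.Loc

open Cfsg Subgroup Cfsg.Agent.GT Matrix
open scoped commutatorElement

theorem mat {l : ℕ} [hl : Fact l.Prime] (l2 : l ≠ 2) (Γ : Subgroup (GL (Fin 2) (ZMod l))) {Z : GL (Fin 2) (ZMod l)}
    {b : ZMod l} (hZ : Z ∈ Γ) (eZ : Z.val = !![b, 0; 0, 1]) {n : ℕ} (on : Odd n) (bn : b ^ n = 1) (b1 : b ≠ 1)
    (line : ∀ g ∈ Γ, g.val 0 1 = 0 → g.val 1 1 = 1) {g : GL (Fin 2) (ZMod l)} (hg : g ∈ Γ) : g.val 1 1 = 1 := by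
  have two : (2 : ZMod l) ≠ 0 := fun e => l2 ((Nat.prime_dvd_prime_iff_eq hl.out Nat.prime_two).1
    ((ZMod.natCast_eq_zero_iff 2 l).1 (by exact_mod_cast e)))
  have b0 : b ≠ 0 := by rintro rfl; rw [zero_pow on.pos.ne'] at bn; exact zero_ne_one bn
  have Zi : (Z⁻¹).val = !![b⁻¹, 0; 0, 1] := by
    rw [GeneralLinearGroup.coe_inv, eZ]
    exact Matrix.inv_eq_right_inv (by ext i j; fin_cases i <;> fin_cases j <;> simp [b0, Matrix.mul_apply])
  have key : ∀ g ∈ Γ, g.val 0 0 * g.val 0 1 * g.val 1 0 * g.val 1 1 = 0 := fun g hg => by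
    let H := zpowers Z ⊔ zpowers (g * Z * g⁻¹)
    have HΓ : H ≤ Γ := sup_le (zpowers_le.2 hZ) (zpowers_le.2 (mul_mem (mul_mem hg hZ) (inv_mem hg)))
    have dZ : GeneralLinearGroup.det Z ^ n = 1 := Units.ext (by simp [eZ, Matrix.det_fin_two, bn])
    have Hd : H ≤ ((powMonoidHom n).comp GeneralLinearGroup.det).ker :=
      sup_le (zpowers_le.2 dZ) (zpowers_le.2 (by simpa [MonoidHom.mem_ker] using dZ))
    have o : Odd (Nat.card H) := Nat.not_even_iff_odd.1 fun e => by
      obtain ⟨s, hs, o⟩ := exists_mem_orderOf_eq Nat.prime_two (even_iff_two_dvd.1 e)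
      have ss : s * s = 1 := by rw [← sq]; exact orderOf_dvd_iff_pow_eq_one.1 o.dvd
      have d1 : s.val.det = 1 := by
        have a : GeneralLinearGroup.det s ^ n = 1 := Hd hs
        have c : GeneralLinearGroup.det s ^ 2 = 1 := by rw [← map_pow, sq, ss, map_one]
        obtain ⟨k, rfl⟩ := on
        rw [pow_succ, pow_mul, c, one_pow, one_mul] at a
        exact congrArg Units.val a
      have q := mat2_sq s.val
      rw [← Units.val_mul, ss, d1] at q
      have q0 := congrFun (congrFun q 0) 0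
      have q1 := congrFun (congrFun q 0) 1
      have q2 := congrFun (congrFun q 1) 0
      have q3 := congrFun (congrFun q 1) 1
      simp [Matrix.trace_fin_two] at q0 q1 q2 q3
      have t0 : s.val 0 0 + s.val 1 1 ≠ 0 := fun e => two (by rw [e] at q0; linear_combination q0)
      have s1 := q1.resolve_left t0
      have s2 := q2.resolve_left t0
      have s3 := line s (HΓ hs) s1
      rw [Matrix.det_fin_two, s1, s3] at d1
      have : s = 1 := Units.ext (by
        ext i j; fin_cases i <;> fin_cases j <;> simp [s1, s2, s3]; linear_combination d1)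
      rw [this, orderOf_one] at o
      omega
    obtain ⟨k, hk⟩ := der1_odd_GL2_isPGroup (p := l) H.subtype Subtype.val_injective o
      ⟨_, commutator_mem_commutator (mem_sup_left (mem_zpowers Z)) (mem_sup_right (mem_zpowers _))⟩
    have u := mat2_unipotent (p := l) (x := (⁅Z, g * Z * g⁻¹⁆ : GL (Fin 2) (ZMod l)).val) (k := k)
      (by rw [← Units.val_pow_eq_pow_val]; exact congrArg (fun x => x.1.val) hk)
    have d0 : g.val.det ≠ 0 := g.det_ne_zero
    have gi : (g⁻¹).val = g.val.det⁻¹ • !![g.val 1 1, -g.val 0 1; -g.val 1 0, g.val 0 0] := by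
      rw [GeneralLinearGroup.coe_inv, Matrix.inv_def, Matrix.adjugate_fin_two, Ring.inverse_eq_inv']
    have tr : ∀ c : Matrix (Fin 2) (Fin 2) (ZMod l), (c - 1) * (c - 1) = 0 → c 0 0 + c 1 1 = 2 := by
      intro c e
      have e0 := congrFun (congrFun e 0) 0
      have e1 := congrFun (congrFun e 0) 1
      have e3 := congrFun (congrFun e 1) 1
      simp [Matrix.mul_apply] at e0 e1 e3
      by_contra n
      have z : c 0 1 = 0 := (mul_eq_zero.1 (show (c 0 0 + c 1 1 - 2) * c 0 1 = 0 by linear_combination e1)).resolve_left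
        (sub_ne_zero.2 n)
      rw [z] at e0 e3
      simp [sub_eq_zero] at e0 e3
      exact n (by rw [e0, e3]; norm_num)
    have := tr _ u
    simp only [commutatorElement_def, _root_.mul_inv_rev, inv_inv, Units.val_mul, eZ, Zi, gi] at this
    simp only [Matrix.mul_apply, Fin.sum_univ_two, Matrix.smul_apply, Matrix.of_apply, Matrix.cons_val',
      Matrix.cons_val_zero, Matrix.cons_val_one, Matrix.cons_val_fin_one, smul_eq_mul] at this
    rw [Matrix.det_fin_two] at this d0
    field_simp at this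
    refine (mul_eq_zero.1 (show (b - 1) ^ 4 * _ = 0 from ?_)).resolve_left (pow_ne_zero _ (sub_ne_zero.2 b1))
    linear_combination this
  have ex : ∀ g ∈ Γ, ∀ i, g.val 1 1 = 0 → g.val i 1 ≠ 0 → False := fun g hg i e n => by
    have d0 : g.val.det ≠ 0 := g.det_ne_zero
    have gi : (g⁻¹).val = g.val.det⁻¹ • !![g.val 1 1, -g.val 0 1; -g.val 1 0, g.val 0 0] := by
      rw [GeneralLinearGroup.coe_inv, Matrix.inv_def, Matrix.adjugate_fin_two, Ring.inverse_eq_inv']
    have := line _ (mul_mem (mul_mem (inv_mem hg) hZ) hg) (by simp [Units.val_mul, eZ, gi, Matrix.mul_apply, e])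
    simp only [Units.val_mul, eZ, gi] at this
    simp [Matrix.mul_apply, e] at this
    have dd := Matrix.det_fin_two g.val
    rw [e] at dd
    generalize g.val.det = Δ at *
    field_simp at this
    exact b1 (mul_left_cancel₀ d0 (by rw [dd] at this ⊢; linear_combination this))
  have nz : ∀ g ∈ Γ, g.val 1 1 ≠ 0 := fun g hg e => ex g hg 0 e fun z => g.det_ne_zero (by simp [det_fin_two, e, z])
  have d0 : g.val.det ≠ 0 := g.det_ne_zero
  have gi : (g⁻¹).val = g.val.det⁻¹ • !![g.val 1 1, -g.val 0 1; -g.val 1 0, g.val 0 0] := by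
    rw [GeneralLinearGroup.coe_inv, Matrix.inv_def, Matrix.adjugate_fin_two, Ring.inverse_eq_inv']
  by_cases a : g.val 0 1 = 0
  · exact line g hg a
  have c : g.val 1 0 = 0 := by
    have := key g hg
    simp only [mul_eq_zero, a, nz g hg, or_false] at this
    exact this.resolve_left fun e => nz _ (inv_mem hg) (by simp [gi, e])
  obtain ⟨s, s0, hs⟩ : ∃ s ≠ 0, (⁅Z, g⁆ : GL (Fin 2) (ZMod l)).val = !![1, s; 0, 1] := by
    refine ⟨(b - 1) * g.val 0 1 / g.val 1 1, div_ne_zero (mul_ne_zero (sub_ne_zero.2 b1) a) (nz g hg), ?_⟩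
    have dd := Matrix.det_fin_two g.val
    have := nz g hg
    rw [c, mul_zero, sub_zero] at dd
    have g0 : g.val 0 0 ≠ 0 := fun e => d0 (by rw [dd, e, zero_mul])
    simp only [commutatorElement_def, Units.val_mul, eZ, Zi, gi, dd]
    ext i j
    simp only [Matrix.mul_apply, Fin.sum_univ_two]
    fin_cases i <;> fin_cases j <;> simp [c] <;> field_simp <;> ring
  have pw : ∀ k : ℕ, ((⁅Z, g⁆ : GL (Fin 2) (ZMod l)) ^ k).val = !![1, k * s; 0, 1] := fun k => by
    induction k with
    | zero => ext i j; fin_cases i <;> fin_cases j <;> simp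
    | succ k ih => rw [pow_succ, Units.val_mul, ih, hs]; ext i j; fin_cases i <;> fin_cases j <;> simp [add_mul, add_comm]
  have := line _ (mul_mem (pow_mem (mul_mem (mul_mem (mul_mem hZ hg) (inv_mem hZ)) (inv_mem hg))
    (-g.val 0 1 / (s * g.val 1 1)).val) hg)
  rw [← commutatorElement_def, Units.val_mul, pw] at this
  have n := nz g hg
  simpa [Matrix.mul_apply] using this (by simp [Matrix.mul_apply]; field_simp; ring)

end Cfsg.Agent.WA.Loc
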