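import Cfsg.Agent.WA.DB
import Cfsg.Agent.WA.DLoc1

/-! The local argument: hypotheses of the induction and first consequences. -/

set_option autoImplicit false
set_option linter.unusedSectionVars false

namespace Cfsg.Agent.WA.Loc

open Cfsg Subgroup Cfsg.Agent.GT

universe u

/-- hypotheses on `d` -/
structure H0 {G : Type u} [Group G] (l a : ℕ) (d : G) : Prop where
  pr : l.Prime
  l2 : l ≠ 2
  od : orderOf d = l ^ (a + 1)
  syl : ¬ l ^ (a + 3) ∣ Nat.card C1[d]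
  f1 : ∀ e ∈ zpowers d, ∀ g, g * e * g⁻¹ ∈ zpowers e → g * e * g⁻¹ = e

/-- hypotheses on `d, x, z` -/
structure H1 {G : Type u} [Group G] (l a : ℕ) (d x z : G) (b : ℕ) : Prop extends H0 l a d where
  xl : x ^ l = 1
  xn : x ∉ zpowers d
  xd : Commute x d
  zd : Commute z d
  zx : z * x * z⁻¹ = x ^ b
  ob : ∃ n, Odd n ∧ (b : ZMod l) ^ n = 1
  b1 : (b : ZMod l) ≠ 1

variable {G : Type u} [Group G] [Finite G] {l a b : ℕ} {T U A : Subgroup G} {d x z c e y g : G}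

theorem cop_zm (hl : l.Prime) {k : ℕ} (h : (k : ZMod l) ≠ 0) : k.Coprime l :=
  ((Nat.Prime.coprime_iff_not_dvd hl).2 fun e => h ((ZMod.natCast_eq_zero_iff k l).2 e)).symm

theorem pow_zm (hc : c ^ l = 1) {i j : ℕ} (e : (i : ZMod l) = j) : c ^ i = c ^ j := by
  rw [pow_eq_pow_mod i hc, pow_eq_pow_mod j hc, (ZMod.natCast_eq_natCast_iff' i j l).1 e]

theorem eq_one_zm (hl : l.Prime) (hc : c ^ l = 1) {i j : ℕ} (e : c ^ i = c ^ j) (n : (i : ZMod l) ≠ j) : c = 1 := by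
  rcases (Nat.dvd_prime hl).1 (orderOf_dvd_of_pow_eq_one hc) with o | o
  · exact orderOf_eq_one_iff.1 o
  · exact (n ((ZMod.natCast_eq_natCast_iff i j l).2 (o ▸ pow_eq_pow_iff_modEq.1 e))).elim

theorem mem_zp : y ∈ zpowers d ↔ ∃ i : ℕ, y = d ^ i := by
  rw [← mem_powers_iff_mem_zpowers]; exact ⟨fun ⟨i, h⟩ => ⟨i, h.symm⟩, fun ⟨i, h⟩ => ⟨i, h.symm⟩⟩

theorem zp_norm (h : Commute x d) : zpowers d ≤ N[zpowers x] :=
  zpowers_le.2 (norm_zp (by rw [TT.commute_iff_conj.1 h.symm]; exact mem_zpowers x))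

theorem mem2 (h : Commute x d) : y ∈ zpowers d ⊔ zpowers x ↔ ∃ i j : ℕ, y = d ^ i * x ^ j := by
  rw [mem_sup_of_le_norm (zp_norm h)]
  constructor
  · rintro ⟨_, hu, _, hv, rfl⟩
    obtain ⟨i, rfl⟩ := mem_zp.1 hu
    obtain ⟨j, rfl⟩ := mem_zp.1 hv
    exact ⟨i, j, rfl⟩
  · rintro ⟨i, j, rfl⟩
    exact ⟨_, pow_mem (mem_zpowers d) i, _, pow_mem (mem_zpowers x) j, rfl⟩

/-- an element of prime order: a power lies in `A` only if it is trivial -/
theorem mem_or (hl : l.Prime) (hx : x ^ l = 1) {j : ℕ} (h : x ^ j ∈ A) : x ∈ A ∨ (j : ZMod l) = 0 := by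
  by_cases e : (j : ZMod l) = 0
  · exact .inr e
  · exact .inl (PG.mem_of_pow_mem_of_coprime h (hx ▸ one_mem A) (cop_zm hl e))

theorem pg_zp {k : ℕ} (h : d ^ l ^ k = 1) : IsPGroup l (zpowers d) := fun ⟨y, hy⟩ => ⟨k, Subtype.ext (by
  obtain ⟨i, rfl⟩ := mem_zp.1 hy
  simp only [SubmonoidClass.mk_pow, OneMemClass.coe_one]
  rw [← pow_mul, mul_comm, pow_mul, h, one_pow])⟩

theorem pg_el (hU : IsPGroup l U) (hy : y ∈ U) : ∃ k, y ^ l ^ k = 1 := by
  obtain ⟨k, hk⟩ := hU ⟨y, hy⟩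
  exact ⟨k, congrArg Subtype.val hk⟩

/-- an `l`-element normalizing a group of order `l` centralizes it -/
theorem comm_of_norm (hl : l.Prime) (hx : x ^ l = 1) {k : ℕ} (hg : g ^ l ^ k = 1) (n : g * x * g⁻¹ ∈ zpowers x) :
    Commute g x := by
  haveI := Fact.mk hl
  obtain ⟨i, hi⟩ := mem_zp.1 n
  have key : ∀ m : ℕ, g ^ m * x * (g ^ m)⁻¹ = x ^ i ^ m := fun m => by
    induction m with
    | zero => simp
    | succ m ih => rw [pow_succ' g, show g * g ^ m * x * (g * g ^ m)⁻¹ = g * (g ^ m * x * (g ^ m)⁻¹) * g⁻¹ by group, ih,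
        ← conj_pow, hi, ← pow_mul, pow_succ']
  have := key (l ^ k)
  rw [hg, pow_zm hx (j := i) (by rw [Nat.cast_pow, ZMod.pow_card_pow])] at this
  exact TT.commute_iff_conj.2 (by rw [hi, ← this]; simp)

theorem H0.dl (h : H0 l a d) : d ^ l ^ (a + 1) = 1 := h.od ▸ pow_orderOf_eq_one d

theorem H0.d0l (h : H0 l a d) : (d ^ l ^ a) ^ l = 1 := by rw [← pow_mul, ← pow_succ, h.dl]

theorem H0.d0 (h : H0 l a d) : d ^ l ^ a ≠ 1 := fun e =>
  absurd (Nat.le_of_dvd (pow_pos h.pr.pos _) (h.od ▸ orderOf_dvd_of_pow_eq_one e))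
    (not_le.2 (Nat.pow_lt_pow_right h.pr.one_lt (Nat.lt_succ_self a)))

theorem H0.pd (h : H0 l a d) : IsPGroup l (zpowers d) := pg_zp h.dl

theorem H0.om (h : H0 l a d) {i : ℕ} (e : (d ^ i) ^ l = 1) : d ^ i ∈ zpowers (d ^ l ^ a) := by
  rw [← pow_mul, ← orderOf_dvd_iff_pow_eq_one, h.od, pow_succ] at e
  obtain ⟨k, rfl⟩ := Nat.dvd_of_mul_dvd_mul_right h.pr.pos e
  rw [pow_mul]; exact pow_mem (mem_zpowers _) k

theorem H1.x1 (h : H1 l a d x z b) : x ≠ 1 := fun e => h.xn (e ▸ one_mem _)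

theorem H1.ox (h : H1 l a d x z b) : orderOf x = l := by
  haveI := Fact.mk h.pr
  exact orderOf_eq_prime h.xl h.x1

theorem H1.px (h : H1 l a d x z b) : IsPGroup l (zpowers x) := pg_zp (k := 1) (by rw [pow_one, h.xl])

theorem H1.pP (h : H1 l a d x z b) : IsPGroup l ↥(zpowers d ⊔ zpowers x) :=
  h.pd.to_sup_of_normal_right' h.px (zp_norm h.xd)

theorem H1.inf (h : H1 l a d x z b) : zpowers d ⊓ zpowers x = ⊥ := by
  rw [inf_comm]
  exact (le_or_inf_eq_bot_of_card_prime (by rw [Nat.card_zpowers, h.ox]; exact h.pr) _).resolve_left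
    fun e => h.xn (e (mem_zpowers x))

theorem H1.nc (h : H1 l a d x z b) : ¬ Commute z x := fun e =>
  h.x1 (eq_one_zm h.pr h.xl (i := b) (j := 1) (by rw [← h.zx, TT.commute_iff_conj.1 e, pow_one]) (by simpa using h.b1))

theorem H1.b0 (h : H1 l a d x z b) : (b : ZMod l) ≠ 0 := fun e => by
  haveI := Fact.mk h.pr
  obtain ⟨n, on, hn⟩ := h.ob
  rw [e, zero_pow on.pos.ne'] at hn
  exact zero_ne_one hn

theorem H1.bb (h : H1 l a d x z b) : (b : ZMod l) ^ 2 ≠ 1 := fun e => by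
  obtain ⟨n, ⟨k, rfl⟩, hn⟩ := h.ob
  rw [pow_succ, pow_mul, e, one_pow, one_mul] at hn
  exact h.b1 hn

theorem le_c (hx : Commute x d) : zpowers d ⊔ zpowers x ≤ C1[d] :=
  sup_le (zpowers_le.2 (self_mem_cent1 d)) (zpowers_le.2 (mem_cent1.2 hx))

theorem comm2 (hx : Commute x d) (hc : Commute c d) (hc' : Commute c x) (hy : y ∈ zpowers d ⊔ zpowers x) :
    Commute c y := by
  obtain ⟨i, j, rfl⟩ := (mem2 hx).1 hy
  exact (hc.pow_right i).mul_right (hc'.pow_right j)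

/-- `⟨d⟩ × ⟨y⟩` is a Sylow subgroup of `C(d)` -/
theorem H0.sy (h : H0 l a d) (yl : y ^ l = 1) (yn : y ∉ zpowers d) (yd : Commute y d) :
    IsPiHallOf {l} (zpowers d ⊔ zpowers y) C1[d] := by
  haveI := Fact.mk h.pr
  have oy : orderOf y = l := orderOf_eq_prime yl fun e => yn (e ▸ one_mem _)
  refine syl_mk h.pr (le_c yd) (h.pd.to_sup_of_normal_right' (pg_zp (k := 1) (by rw [pow_one, yl])) (zp_norm yd))
    fun hd => h.syl ?_
  have i : zpowers d ⊓ zpowers y = ⊥ := by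
    rw [inf_comm]
    exact (le_or_inf_eq_bot_of_card_prime (by rw [Nat.card_zpowers, oy]; exact h.pr) _).resolve_left
      fun e => yn (e (mem_zpowers y))
  rw [← card_mul_relIndex (le_c yd), card_sup_of_inf_eq_bot (.inl (zp_norm yd)) i, Nat.card_zpowers, Nat.card_zpowers,
    h.od, oy, pow_succ, pow_succ]
  exact mul_dvd_mul_left _ hd

theorem H1.S (h : H1 l a d x z b) (hU : IsPGroup l U) (hd : d ∈ U) (hx : x ∈ U) (hc : c ∈ U) (cd : Commute c d) :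
    c ∈ zpowers d ⊔ zpowers x := by
  rw [← syl_eq_of_le h.pr (h.sy h.xl h.xn h.xd) (hU.to_inf_left (K := C1[d])) inf_le_right
    (le_inf (sup_le (zpowers_le.2 hd) (zpowers_le.2 hx)) (le_c h.xd))]
  exact ⟨hc, mem_cent1.2 cd⟩

theorem H1.om (h : H1 l a d x z b) (hy : y ∈ zpowers d ⊔ zpowers x) (yl : y ^ l = 1) :
    y ∈ zpowers (d ^ l ^ a) ⊔ zpowers x := by
  obtain ⟨i, j, rfl⟩ := (mem2 h.xd).1 hy
  rw [((h.xd.symm.pow_pow i j)).mul_pow, ← pow_mul x, mul_comm j, pow_mul x, h.xl, one_pow, mul_one] at yl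
  exact mul_mem (mem_sup_left (h.toH0.om yl)) (mem_sup_right (pow_mem (mem_zpowers x) j))

theorem H1.oml (h : H1 l a d x z b) (hy : y ∈ zpowers (d ^ l ^ a) ⊔ zpowers x) : y ^ l = 1 := by
  obtain ⟨i, j, rfl⟩ := (mem2 (h.xd.pow_right _)).1 hy
  rw [((h.xd.symm.pow_left _).pow_pow i j).mul_pow, ← pow_mul x, mul_comm j, pow_mul x, h.xl, one_pow, mul_one,
    ← pow_mul, mul_comm i, pow_mul, h.d0l, one_pow]

theorem om_le : zpowers (d ^ l ^ a) ⊔ zpowers x ≤ zpowers d ⊔ zpowers x :=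
  sup_le_sup_right (zpowers_le.2 (pow_mem (mem_zpowers d) _)) _

/-- `x` is not conjugate into `⟨d⟩` -/
theorem H1.nconj (h : H1 l a d x z b) : g * x * g⁻¹ ∉ zpowers d := fun e => by
  have k : g * z * g⁻¹ * (g * x * g⁻¹) * (g * z * g⁻¹)⁻¹ = g * (z * x * z⁻¹) * g⁻¹ := by group
  have := h.f1 _ e (g * z * g⁻¹) (by rw [k, h.zx, ← conj_pow]; exact pow_mem (mem_zpowers _) b)
  rw [k] at this
  exact h.nc (TT.commute_iff_conj.2 (by simpa using this))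

theorem H0.norm (h : H0 l a d) (xl : x ^ l ∈ zpowers d) (xn : x ∉ zpowers d) (xd : Commute x d) (zd : Commute z d)
    (zx : z * x * z⁻¹ * (x ^ b)⁻¹ ∈ zpowers d) (ob : ∃ n, Odd n ∧ (b : ZMod l) ^ n = 1) (b1 : (b : ZMod l) ≠ 1) :
    ∃ x, H1 l a d x z b := by
  haveI := Fact.mk h.pr
  obtain ⟨k, rfl⟩ : ∃ a, b = a + 1 := Nat.exists_eq_succ_of_ne_zero fun e => by
    obtain ⟨n, on, hn⟩ := ob
    rw [e, Nat.cast_zero, zero_pow on.pos.ne'] at hn
    exact zero_ne_one hn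
  obtain ⟨δ, hδ, e⟩ : ∃ δ ∈ zpowers d, z * x * z⁻¹ = δ * x ^ (k + 1) := ⟨_, zx, by group⟩
  have c1 : Commute δ x := B84H.zc xd.symm hδ
  have c2 : z * δ * z⁻¹ = δ := TT.commute_iff_conj.1 (B84H.zc zd.symm hδ).symm
  have k1 : z * (δ * x ^ k) * z⁻¹ = (δ * x ^ k) ^ (k + 1) := by
    rw [← conj_mul, c2, ← conj_pow, e, (c1.pow_right _).mul_pow, (c1.pow_right _).mul_pow, pow_succ' δ, mul_assoc,
      ← pow_mul, ← pow_mul, mul_comm k]
  have k2 : (δ * x ^ k) ^ l = 1 := by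
    have := TT.commute_iff_conj.1 (B84H.zc zd.symm xl).symm
    rw [← conj_pow, e, pow_succ, ← mul_assoc, ((c1.mul_left ((Commute.refl x).pow_left k))).mul_pow] at this
    exact mul_eq_right.1 this
  exact ⟨δ * x ^ k, h, k2, fun m => xn (PG.mem_of_pow_mem_of_coprime ((mul_mem_cancel_left hδ).1 m) xl
    (cop_zm h.pr fun e => b1 (by simp [e]))), (B84H.zc (Commute.refl d) hδ).mul_left (xd.pow_left _), zd, k1, ob, b1⟩

end Cfsg.Agent.WA.Loc
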