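import Cfsg.Agent.WA.DLoc2

/-! The local argument: the normalizer of `Ω₁(⟨d⟩ × ⟨x⟩)`. -/

set_option autoImplicit false
set_option linter.unusedSectionVars false

namespace Cfsg.Agent.WA.Loc

open Cfsg Subgroup Cfsg.Agent.GT Matrix

universe u

variable {G : Type u} [Group G] [Finite G] {l a b : ℕ} {d x z g : G}

theorem H1.M (h : H1 l a d x z b) (hg : g ∈ N[zpowers (d ^ l ^ a) ⊔ zpowers x]) :
    g * d ^ l ^ a * g⁻¹ * (d ^ l ^ a)⁻¹ ∈ zpowers x := by
  have := Fact.mk h.pr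
  have dl := h.d0l
  have d1 := h.d0
  have xd : Commute x (d ^ l ^ a) := h.xd.pow_right _
  have zd : Commute z (d ^ l ^ a) := h.zd.pow_right _
  have md : d ^ l ^ a ∈ zpowers d := pow_mem (mem_zpowers d) _
  generalize d ^ l ^ a = e at *
  let ψ : (Fin 2 → ZMod l) → G := fun v => x ^ (v 0).val * e ^ (v 1).val
  have inj : Function.Injective ψ := fun v w q => by
    have q : x ^ (v 0).val * e ^ (v 1).val = x ^ (w 0).val * e ^ (w 1).val := q
    have k : (x ^ (w 0).val)⁻¹ * x ^ (v 0).val = 1 := mem_bot.1 (h.inf ▸ ⟨by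
      rw [show (x ^ (w 0).val)⁻¹ * x ^ (v 0).val = e ^ (w 1).val * (e ^ (v 1).val)⁻¹ by
        rw [inv_mul_eq_iff_eq_mul, ← mul_assoc, ← q, mul_inv_cancel_right]]
      exact (zpowers d).mul_mem (pow_mem md _) (inv_mem (pow_mem md _)),
      (zpowers x).mul_mem (inv_mem (pow_mem (mem_zpowers x) _)) (pow_mem (mem_zpowers x) _)⟩)
    rw [inv_mul_eq_one] at k
    rw [k, mul_right_inj] at q
    funext i
    fin_cases i <;> by_contra n
    · exact h.x1 (eq_one_zm h.pr h.xl k.symm (by simpa using n))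
    · exact d1 (eq_one_zm h.pr dl q (by simpa using n))
  let Γ : Subgroup (GL (Fin 2) (ZMod l)) :=
    { carrier := {A | ∃ g : G, ∀ v, g * ψ v * g⁻¹ = ψ (A.val *ᵥ v)}
      one_mem' := ⟨1, fun v => by simp⟩
      mul_mem' := fun {A B} ⟨g, hA⟩ ⟨k, hB⟩ => ⟨g * k, fun v => by
        rw [Units.val_mul, ← mulVec_mulVec, ← hA, ← hB]; group⟩
      inv_mem' := fun {A} ⟨g, hA⟩ => ⟨g⁻¹, fun v => by
        have := hA ((A⁻¹).val *ᵥ v)
        rw [mulVec_mulVec, Units.mul_inv, one_mulVec] at this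
        rw [← this]; group⟩ }
  have mk : ∀ (g : G) (i j k m : ℕ), g * x * g⁻¹ = e ^ i * x ^ j → g * e * g⁻¹ = e ^ k * x ^ m →
      ∃ A : GL (Fin 2) (ZMod l), A.val = !![(j : ZMod l), m; i, k] ∧ A ∈ Γ := fun g i j k m e1 e2 => by
    have key : ∀ v, g * ψ v * g⁻¹ = ψ (!![(j : ZMod l), m; i, k] *ᵥ v) := fun v => by
      change g * (x ^ (v 0).val * e ^ (v 1).val) * g⁻¹ = x ^ _ * e ^ _
      rw [← conj_mul, ← conj_pow, ← conj_pow, e1, e2, (xd.symm.pow_pow i j).mul_pow, (xd.symm.pow_pow k m).mul_pow,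
        ← pow_mul, ← pow_mul, ← pow_mul, ← pow_mul, (xd.symm.pow_pow _ _).eq, (xd.symm.pow_pow _ _).eq,
        (xd.symm.pow_pow _ _).mul_mul_mul_comm, ← pow_add, ← pow_add]
      congr 1
      · exact pow_zm h.xl (by simp [mulVec, dotProduct, Fin.sum_univ_two])
      · exact pow_zm dl (by simp [mulVec, dotProduct, Fin.sum_univ_two])
    obtain ⟨A, hA⟩ := (mulVec_injective_iff_isUnit (A := !![(j : ZMod l), m; i, k])).1 fun v w q =>
      inj (by simpa using (key v).trans ((congrArg ψ q).trans (key w).symm))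
    exact ⟨A, hA, g, hA ▸ key⟩
  have col : ∀ (A : GL (Fin 2) (ZMod l)) (g : G), (∀ v, g * ψ v * g⁻¹ = ψ (A.val *ᵥ v)) →
      g * e * g⁻¹ = x ^ (A.val 0 1).val * e ^ (A.val 1 1).val := fun A g k => by
    simpa [ψ, ZMod.val_one, mulVec, dotProduct, Fin.sum_univ_two] using k ![0, 1]
  obtain ⟨Z, eZ, hZ⟩ := mk z 0 b 1 0 (by rw [h.zx, pow_zero, one_mul]) (by
    rw [zd.eq, mul_inv_cancel_right, pow_one, pow_zero, mul_one])
  obtain ⟨i, j, e1⟩ := (mem2 xd).1 (conj_mem_of_mem_norm hg (mem_sup_right (mem_zpowers x)))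
  obtain ⟨k, m, e2⟩ := (mem2 xd).1 (conj_mem_of_mem_norm hg (mem_sup_left (mem_zpowers e)))
  obtain ⟨A, eA, hA⟩ := mk g i j k m e1 e2
  obtain ⟨n, on, bn⟩ := h.ob
  have := mat h.l2 Γ hZ (by simpa using eZ) on bn h.b1 (fun B hB B0 => by
    obtain ⟨c, hc⟩ := hB
    have q := col B c hc
    rw [B0, ZMod.val_zero, pow_zero, one_mul] at q
    by_contra ne
    exact d1 (eq_one_zm h.pr dl (j := 1) (by rw [← q, h.f1 e md c (q ▸ pow_mem (mem_zpowers e) _), pow_one])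
      (by simpa using ne))) hA
  rw [e2, pow_zm dl (j := 1) (by simpa [eA] using this), pow_one, (xd.symm.pow_right m).eq, mul_inv_cancel_right]
  exact pow_mem (mem_zpowers x) m

end Cfsg.Agent.WA.Loc
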