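import Cfsg.Agent.WA.DLoc2

/-! The local argument: passing to the quotient by `⟨x⟩`. -/

set_option autoImplicit false
set_option linter.unusedSectionVars false

namespace Cfsg.Agent.WA.Loc

open Cfsg Subgroup Cfsg.Agent.GT

universe u

variable {G : Type u} [Group G] [Finite G] {l a b : ℕ} {d x z c e y g u : G}

theorem q_iter (hc : Commute u y) (h : u * e * u⁻¹ = e * y) (k : ℕ) : u ^ k * e * (u ^ k)⁻¹ = e * y ^ k := by
  induction k with
  | zero => simp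
  | succ k ih => rw [pow_succ' u, show u * u ^ k * e * (u * u ^ k)⁻¹ = u * (u ^ k * e * (u ^ k)⁻¹) * u⁻¹ by group, ih,
      ← conj_mul, h, TT.commute_iff_conj.1 (hc.pow_right k), pow_succ', mul_assoc]

theorem q_pow (h : z * x * z⁻¹ = x ^ b) (hy : y ∈ zpowers x) : z * y * z⁻¹ = y ^ b := by
  obtain ⟨i, rfl⟩ := mem_zp.1 hy
  rw [← conj_pow, h, ← pow_mul, ← pow_mul, mul_comm]

theorem q_l (h : x ^ l = 1) (hy : y ∈ zpowers x) : y ^ l = 1 := by
  obtain ⟨i, rfl⟩ := mem_zp.1 hy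
  rw [← pow_mul, mul_comm, pow_mul, h, one_pow]

theorem H1.f1q (h : H1 l a d x z b) [n : (zpowers x).Normal] (he : e ∈ zpowers d) (hc : c ∈ zpowers e)
    (hy : y ∈ zpowers x) (k : g * e * g⁻¹ = c * y) : c = e := by
  have := Fact.mk h.pr
  obtain ⟨m, rfl⟩ : ∃ a, b = a + 1 := Nat.exists_eq_succ_of_ne_zero fun e => h.b0 (by rw [e, Nat.cast_zero])
  have m0 : (m : ZMod l) ≠ 0 := fun e => h.b1 (by simp [e])
  have ze : Commute z e := (B84H.zc h.zd.symm he).symm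
  have zc : Commute z c := (B84H.zc ze.symm hc).symm
  have ty : Commute (z * g * z⁻¹ * g⁻¹) y := TT.commute_iff_conj.2 (by
    have w := n.conj_mem _ (n.conj_mem _ hy g⁻¹) z⁻¹
    have e1 := q_pow h.zx (n.conj_mem _ w g)
    rw [conj_pow, ← q_pow h.zx w] at e1
    calc _ = z * (g * (z⁻¹ * (g⁻¹ * y * g⁻¹⁻¹) * z⁻¹⁻¹) * g⁻¹) * z⁻¹ := by group
      _ = y := by rw [e1]; group)
  have tc : z * g * z⁻¹ * g⁻¹ * c * (z * g * z⁻¹ * g⁻¹)⁻¹ = c * y ^ m := by
    apply mul_right_cancel (b := y)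
    nth_rw 1 [← TT.commute_iff_conj.1 ty]
    rw [conj_mul, ← k, mul_assoc c, ← pow_succ, ← q_pow h.zx hy, ← TT.commute_iff_conj.1 zc, conj_mul, ← k]
    nth_rw 1 [← TT.commute_iff_conj.1 ze]
    group
  generalize z * g * z⁻¹ * g⁻¹ = τ at *
  have e1 : τ ^ (-(m : ZMod l)⁻¹).val * g * e * (τ ^ (-(m : ZMod l)⁻¹).val * g)⁻¹ = c := by
    rw [show ∀ s : G, s * g * e * (s * g)⁻¹ = s * (g * e * g⁻¹) * s⁻¹ from fun _ => by group, k, ← conj_mul,
      q_iter (ty.pow_right m) tc, TT.commute_iff_conj.1 (ty.pow_left _), ← pow_mul, mul_assoc, ← pow_succ,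
      pow_zm (q_l h.xl hy) (j := 0) (by simp [m0]), pow_zero, mul_one]
  rw [← e1, h.f1 e he _ (e1 ▸ hc)]

theorem H1.quo (h : H1 l a d x z b) [n : (zpowers x).Normal] : H0 l a (d : G ⧸ zpowers x) ∧
    (¬ l ^ (a + 2) ∣ Nat.card C1[(d : G ⧸ zpowers x)] ∨ ∃ x' z', H1 l a (d : G ⧸ zpowers x) x' z' b) := by
  have := Fact.mk h.pr
  obtain ⟨H, hH⟩ : ∃ H, H = C1[(d : G ⧸ zpowers x)].comap (QuotientGroup.mk' _) := ⟨_, rfl⟩
  have cH : Nat.card H = l * Nat.card C1[(d : G ⧸ zpowers x)] := by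
    rw [← h.ox, ← Nat.card_zpowers, hH]
    exact QuotientGroup.card_preimage_mk (zpowers x) (C1[(d : G ⧸ zpowers x)] : Subgroup _)
  have mH' : ∀ g, g ∈ H ↔ Commute (g : G ⧸ zpowers x) d := fun g => by rw [hH]; exact mem_cent1
  have mH : ∀ g, g ∈ H ↔ d⁻¹ * (g * d * g⁻¹) ∈ zpowers x := fun g => by
    rw [mH', TT.commute_iff_conj, eq_comm, ← QuotientGroup.eq]; rfl
  have cdH : C1[d] ≤ H := fun g hg => (mH g).2 (by
    rw [mem_cent1.1 hg, mul_inv_cancel_right, inv_mul_cancel]; exact one_mem _)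
  have mP : ∀ g : G, (g : G ⧸ zpowers x) ∈ zpowers (d : G ⧸ zpowers x) ↔ g ∈ zpowers d ⊔ zpowers x := fun g => by
    have := comap_map_eq (QuotientGroup.mk' (zpowers x)) (zpowers d)
    rw [QuotientGroup.ker_mk', MonoidHom.map_zpowers] at this
    rw [← this]; rfl
  obtain ⟨T, hT, PT⟩ := exists_syl_ge h.pr h.pP ((le_c h.xd).trans cdH)
  have pT := syl_isPGroup h.pr hT
  have dT := PT (mem_sup_left (mem_zpowers d))
  have xT := PT (mem_sup_right (mem_zpowers x))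
  have Tx : ∀ u ∈ T, ∀ y ∈ zpowers x, Commute u y := fun u hu y hy => by
    obtain ⟨k, hk⟩ := pg_el pT hu
    exact (B84H.zc (comm_of_norm h.pr h.xl hk (n.conj_mem _ (mem_zpowers x) u)).symm hy).symm
  have cP : Nat.card ↥(zpowers d ⊔ zpowers x) = l ^ (a + 2) := by
    rw [card_sup_of_inf_eq_bot (.inl (zp_norm h.xd)) h.inf, Nat.card_zpowers, Nat.card_zpowers, h.od, h.ox, ← pow_succ]
  have cT : Nat.card T ∣ l ^ (a + 3) := by
    let φ : T →* zpowers x := MonoidHom.mk' (fun u => ⟨d⁻¹ * (u * d * (u : G)⁻¹), (mH _).1 (hT.le u.2)⟩) fun u v =>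
      Subtype.ext (by
        have := TT.commute_iff_conj.1 (Tx u u.2 _ ((mH _).1 (hT.le v.2)))
        simp only [coe_mul]
        rw [← this]
        group)
    have k : φ.ker = (zpowers d ⊔ zpowers x).subgroupOf T := by
      ext u
      rw [MonoidHom.mem_ker, Subtype.ext_iff, mem_subgroupOf]
      refine ⟨fun e => h.S pT dT xT u.2 (TT.commute_iff_conj.2 (inv_mul_eq_one.1 e).symm), fun e => ?_⟩
      exact inv_mul_eq_one.2 (TT.commute_iff_conj.1 (mem_cent1.1 (le_c h.xd e))).symm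
    rw [← card_mul_relIndex PT, cP, pow_succ _ (a + 2), relIndex, ← k, index_ker]
    exact mul_dvd_mul_left _ (by simpa [h.ox] using card_subgroup_dvd_card φ.range)
  have up : ∀ k, l ^ k ∣ Nat.card C1[(d : G ⧸ zpowers x)] → l ^ (k + 1) ∣ Nat.card T := fun k hk => by
    refine (((Nat.Prime.coprime_iff_not_dvd h.pr).2 (syl_not_dvd h.pr hT)).pow_left _).dvd_of_dvd_mul_right ?_
    rw [card_mul_relIndex hT.le, cH, pow_succ']
    exact mul_dvd_mul_left _ hk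
  have nd : ∀ k, ¬ l ^ (k + 1) ∣ l ^ k := fun k e => by
    have := (Nat.pow_dvd_pow_iff_le_right h.pr.one_lt).1 e
    omega
  have h0 : H0 l a (d : G ⧸ zpowers x) := by
    refine ⟨h.pr, h.l2, ?_, fun e => nd _ ((up _ e).trans cT), fun e he g hg => ?_⟩
    · rw [← h.od]
      refine orderOf_eq_orderOf_iff.2 fun k => ?_
      rw [← QuotientGroup.mk_pow, QuotientGroup.eq_one_iff]
      exact ⟨fun m => mem_bot.1 (h.inf ▸ ⟨pow_mem (mem_zpowers d) k, m⟩), fun e => e ▸ one_mem _⟩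
    · obtain ⟨i, rfl⟩ := mem_zp.1 he
      obtain ⟨j, hj⟩ := mem_zp.1 hg
      obtain ⟨g, rfl⟩ := QuotientGroup.mk_surjective g
      have m : ((d ^ i) ^ j)⁻¹ * (g * d ^ i * g⁻¹) ∈ zpowers x := QuotientGroup.eq.1 hj.symm
      have := h.f1q (g := g) (pow_mem (mem_zpowers d) i) (pow_mem (mem_zpowers _) j) m (by group)
      rw [hj]
      exact congrArg QuotientGroup.mk this
  refine ⟨h0, or_iff_not_imp_left.2 fun hd => ?_⟩
  obtain ⟨u, uT, uP⟩ := SetLike.not_le_iff_exists.1 fun e : T ≤ zpowers d ⊔ zpowers x =>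
    nd _ ((up _ (not_not.1 hd)).trans (cP ▸ card_dvd_of_le e))
  have zH := cdH (mem_cent1.2 h.zd)
  have nH : H ≤ N[H ⊓ C[zpowers x]] := le_norm_inf le_normalizer (le_norm_cent (le_normalizer_of_normal))
  obtain ⟨k, hk, m, hm, e⟩ := frattini_arg_exists h.pr (syl_of_le hT (le_inf hT.le fun u hu =>
    mem_centralizer_iff.2 fun y hy => (Tx u hu y hy).symm.eq) inf_le_left) (nH zH)
  have mH1 : m ∈ H := (mul_mem_cancel_left (mem_inf.1 hk).1).1 (e ▸ zH)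
  have mx : m * x * m⁻¹ = x ^ b := by
    have := mem_centralizer_iff.1 hk.2 _ (npow_mem_zpowers x b)
    apply mul_left_cancel (a := k)
    rw [← this, ← h.zx, e]
    simp only [mul_assoc, mul_inv_rev, inv_mul_cancel, mul_one]
  obtain ⟨y, hy, uy⟩ : ∃ y ∈ zpowers x, u * d * u⁻¹ = d * y := ⟨_, (mH u).1 (hT.le uT), by group⟩
  have it := q_iter (Tx u uT y hy) uy
  have vT : m * u * m⁻¹ ∈ T := (mem_normalizer_iff.1 hm u).1 uT
  have vd : m * u * m⁻¹ * d * (m * u * m⁻¹)⁻¹ = d * y ^ b := by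
    obtain ⟨w, hw, e⟩ : ∃ w ∈ zpowers x, m⁻¹ * d * m = d * w := ⟨_, (mH _).1 (inv_mem mH1), by group⟩
    rw [show m * u * m⁻¹ * d * (m * u * m⁻¹)⁻¹ = m * (u * (m⁻¹ * d * m) * u⁻¹) * m⁻¹ by group, e, ← conj_mul (b := u), uy,
      TT.commute_iff_conj.1 (Tx u uT w hw), mul_assoc d, (B84H.zc (B84H.zc (Commute.refl x) hy).symm hw).symm.eq,
      ← mul_assoc d, ← e, ← q_pow mx hy]
    group
  refine ⟨_, m, (h0.norm (x := (u : G ⧸ zpowers x)) ?_ (fun e => uP ((mP u).1 e)) ((mH' u).1 (hT.le uT)) ((mH' m).1 mH1) ?_ h.ob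
    h.b1).choose_spec⟩
  · exact (mP (u ^ l)).2 (h.S pT dT xT (pow_mem uT l) (TT.commute_iff_conj.2 (by rw [it, q_l h.xl hy, mul_one])))
  · refine (mP (m * u * m⁻¹ * (u ^ b)⁻¹)).2 (h.S pT dT xT (mul_mem vT (inv_mem (pow_mem uT b)))
      (TT.commute_iff_conj.2 ?_))
    have c := Tx _ (inv_mem (pow_mem uT b)) _ (pow_mem hy b)
    have c' := Tx _ vT _ (pow_mem hy b)
    have e1 : (u ^ b)⁻¹ * d * (u ^ b)⁻¹⁻¹ = d * (y ^ b)⁻¹ := by
      rw [eq_mul_inv_iff_mul_eq, ← TT.commute_iff_conj.1 c, conj_mul, ← it]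
      group
    rw [show ∀ s r : G, s * r * d * (s * r)⁻¹ = s * (r * d * r⁻¹) * s⁻¹ from fun _ _ => by group, e1, ← conj_mul, vd,
      TT.commute_iff_conj.1 c'.inv_right, mul_inv_cancel_right]

end Cfsg.Agent.WA.Loc
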