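import Cfsg.Agent.WA.DB

/-! Groups of Janko-Ree type, `D = 1`: `D` acts by field automorphisms. -/

set_option autoImplicit false
set_option linter.unusedSectionVars false
set_option linter.unusedVariables false

namespace Cfsg.Agent.WA.DM

open Cfsg Subgroup Cfsg.Agent.GT Cfsg.Agent.GW Cfsg.Agent.GWP Cfsg.Agent.Cl Matrix
open scoped MatrixGroups

universe u

section
variable {F : Type} [Field F] {G : Type u} [Group G] {π : SL(2, F) →* G} {K : Subgroup G} {d e : G}
  {A B : GL (Fin 2) F} {s : F ≃+* F}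

/-- `A s(A) ⋯ s^(n-1)(A)` -/
def pw (s : F ≃+* F) (A : GL (Fin 2) F) : ℕ → GL (Fin 2) F
  | 0 => 1
  | n + 1 => A * gm s (pw s A n)

def nm (s : F ≃+* F) (a : F) : ℕ → F
  | 0 => 1
  | n + 1 => a * s (nm s a n)

theorem act_pw (h : Act π d A s) (n : ℕ) : Act π (d ^ n) (pw s A n) (s ^ n) := by
  induction n with
  | zero => simpa [pw] using Act.one π
  | succ n ih => rw [pow_succ', pow_succ']; exact h.mul ih

theorem det_pw (n : ℕ) : (pw s A n).1.det = nm s A.1.det n := by
  induction n with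
  | zero => simp [pw, nm]
  | succ n ih => rw [pw, nm, Units.val_mul, det_mul, det_gm, ih]

theorem pw_smul {c : F} (e : B.1 = c • A.1) (n : ℕ) : (pw s B n).1 = nm s c n • (pw s A n).1 := by
  induction n with
  | zero => simp [pw, nm]
  | succ n ih =>
    rw [pw, pw, nm, Units.val_mul, Units.val_mul, gm_val, gm_val, ih, e]
    ext i j
    simp [Matrix.mul_apply, Fin.sum_univ_two]; ring

theorem nm_mul (a b : F) (n : ℕ) : nm s (a * b) n = nm s a n * nm s b n := by
  induction n with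
  | zero => simp [nm]
  | succ n ih => simp only [nm, ih, map_mul]; ring

theorem nm_fix {a : F} (h : s a = a) (n : ℕ) : nm s a n = a ^ n := by
  induction n with
  | zero => simp [nm]
  | succ n ih => simp only [nm, ih, map_pow, h]; ring

theorem nm_pow (a : F) (k n : ℕ) : nm s (a ^ k) n = nm s a n ^ k := by
  induction k with
  | zero => simp [nm_fix (map_one s)]
  | succ k ih => rw [pow_succ, nm_mul, ih, pow_succ]

theorem pw_succ' (n : ℕ) : pw s A (n + 1) = pw s A n * gm (s ^ n) A := by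
  induction n with
  | zero => rw [pow_zero, gm_one]; simp [pw, gm]
  | succ n ih =>
    rw [pw]
    nth_rewrite 1 [ih]
    rw [pw, mul_assoc, pow_succ']
    congr 1
    exact (map_mul _ _ _).trans rfl

/-- Hilbert's theorem 90 for `GL₂`. -/
theorem h90 (s0 : 0 < orderOf s) (h : pw s A (orderOf s) = 1) : ∃ B, A * gm s B = B := by
  set m := orderOf s
  let M : F → Matrix (Fin 2) (Fin 2) F := fun a => ∑ i ∈ Finset.range m, (s ^ i) a • (pw s A i).1
  have fx : ∀ a, A.1 * (M a).map s = M a := fun a => by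
    have e : A.1 * (M a).map s = ∑ i ∈ Finset.range m, (s ^ (i + 1)) a • (pw s A (i + 1)).1 := by
      ext i j
      simp only [M, pw, Units.val_mul, gm_val, Matrix.mul_apply, Matrix.map_apply, Matrix.sum_apply, map_sum,
        Matrix.smul_apply, smul_eq_mul, map_mul, Finset.mul_sum, pow_succ']
      rw [Finset.sum_comm]
      refine Finset.sum_congr rfl fun k _ => Finset.sum_congr rfl fun l _ => ?_
      show _ = s ((s ^ k) a) * _
      ring
    have e1 := Finset.sum_range_succ (fun i => (s ^ i) a • (pw s A i).1) m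
    rw [Finset.sum_range_succ', h, pow_orderOf_eq_one, pow_zero] at e1
    exact e.trans (add_right_cancel e1)
  have ex : ∀ x y : F, (x ≠ 0 ∨ y ≠ 0) → ∃ a j, x * M a 0 j + y * M a 1 j ≠ 0 := fun x y n => by
    by_contra c
    push Not at c
    have li : LinearIndependent F fun i : Fin m => ((s ^ i.1 : F ≃+* F) : F → F) :=
      (linearIndependent_monoidHom F F).comp (fun i : Fin m => ((s ^ i.1 : F ≃+* F) : F →* F)) fun i j e =>
        Fin.ext (pow_injOn_Iio_orderOf i.2 j.2 (RingEquiv.ext fun a => DFunLike.congr_fun e a))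
    have z : ∀ j, x * (1 : Matrix (Fin 2) (Fin 2) F) 0 j + y * (1 : Matrix (Fin 2) (Fin 2) F) 1 j = 0 := fun j =>
      Fintype.linearIndependent_iff.1 li (fun i => x * (pw s A i.1).1 0 j + y * (pw s A i.1).1 1 j) (by
        funext a
        have := c a j
        simp only [M, Matrix.sum_apply, Matrix.smul_apply, smul_eq_mul, Finset.mul_sum, ← Finset.sum_add_distrib,
          Finset.sum_range] at this
        simp only [Finset.sum_apply, Pi.smul_apply, smul_eq_mul, Pi.zero_apply, ← this]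
        exact Finset.sum_congr rfl fun i _ => by ring) ⟨0, s0⟩
    have z0 := z 0
    have z1 := z 1
    simp at z0 z1
    tauto
  obtain ⟨a, j, n⟩ := ex 1 0 (.inl one_ne_zero)
  obtain ⟨b, k, n'⟩ := ex (-M a 1 j) (M a 0 j) (.inr (by simpa using n))
  refine ⟨gl2mk (M a 0 j) (M b 0 k) (M a 1 j) (M b 1 k) (fun e => n' (by linear_combination e)), ?_⟩
  have f := fun a i j => congrFun (congrFun (fx a) i) j
  simp only [Matrix.mul_apply, Fin.sum_univ_two, Matrix.map_apply] at f
  apply gl2_ext <;> simp [gl2_mul, gm_val, f]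

theorem descent (h : PH π K) (h2 : (2 : F) ≠ 0) (a : Act π d A s) (o : orderOf s = orderOf d)
    (od : Odd (orderOf d)) : ∃ B, Act (π.comp (sg B 1)) d 1 s := by
  have a1 := act_pw a (orderOf s)
  rw [pow_orderOf_eq_one, o, pow_orderOf_eq_one, ← o] at a1
  obtain ⟨-, c, c0, e⟩ := Act.uniq h h2 a1 (Act.one π)
  have sc : s c = c := by
    have := congrArg Units.val (pw_succ' (s := s) (A := A) (orderOf s))
    rw [pw, pow_orderOf_eq_one, gm_one, Units.val_mul, Units.val_mul, gm_val, e] at this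
    have k : (s c - c) • A.1 = 0 := by
      ext i j
      have := congrFun (congrFun this i) j
      fin_cases j <;> simp [Matrix.mul_apply, Fin.sum_univ_two, Matrix.one_apply] at this ⊢ <;>
        fin_cases i <;> simp at this ⊢ <;> grind
    exact sub_eq_zero.1 ((smul_eq_zero.1 k).resolve_right fun z => det_ne A (by simp [z]))
  have dt := det_pw (s := s) (A := A) (orderOf s)
  rw [e, det_smul, Units.val_one, det_one, Fintype.card_fin, mul_one] at dt
  obtain ⟨k, hk⟩ := od
  have n0 : c⁻¹ * A.1.det ^ k ≠ 0 := mul_ne_zero (inv_ne_zero c0) (pow_ne_zero _ (det_ne A))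
  let A' : GL (Fin 2) F := GeneralLinearGroup.mkOfDetNeZero ((c⁻¹ * A.1.det ^ k) • A.1) (by
    rw [det_smul]; exact mul_ne_zero (pow_ne_zero _ n0) (det_ne A))
  have e' : A'.1 = (c⁻¹ * A.1.det ^ k) • A.1 := rfl
  obtain ⟨B, hB⟩ := h90 (s := s) (A := A') (by omega) (Units.ext (by
    rw [pw_smul e', e, nm_mul, nm_pow, ← dt, nm_fix (by rw [map_inv₀, sc]), o, hk, smul_smul]
    rw [show c⁻¹ ^ (2 * k + 1) * (c ^ 2) ^ k * c = 1 by
      rw [← pow_mul, mul_assoc, ← pow_succ, ← mul_pow, inv_mul_cancel₀ c0, one_pow], one_smul]))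
  refine ⟨B, fun g => ?_⟩
  rw [MonoidHom.comp_apply, MonoidHom.comp_apply, a.smul e', sg_sg, sg_sg, hB, gm_one, mul_one, mul_one, one_mul]

theorem act_pow (h : Act π d 1 s) (n : ℕ) : Act π (d ^ n) 1 (s ^ n) := by
  have : pw s 1 n = 1 := by
    induction n with
    | zero => rfl
    | succ n ih => rw [pw, ih, one_mul]; exact map_one _
  exact this ▸ act_pw h n

theorem act_cent (h : PH π K) (h1 : Act π d A s) (h2 : Act π e A s) : e⁻¹ * d ∈ C[K] := fun k hk => by
  obtain ⟨g, rfl⟩ := (h.rng _).1 hk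
  have := (h1 g).trans (h2 g).symm
  calc π g * (e⁻¹ * d) = e⁻¹ * (e * π g * e⁻¹) * d := by group
    _ = e⁻¹ * (d * π g * d⁻¹) * d := by rw [this]
    _ = _ := by group

theorem sg1 (g : SL(2, F)) (i j : Fin 2) : (sg 1 s g).1 i j = s (g.1 i j) := by simp [sg_val]

theorem neg_odd (h2 : (2 : F) ≠ 0) (o : Odd (orderOf s)) {a : F} (e : s a = -a) : a = 0 := by
  have : ∀ n, (s ^ n) a = (-1) ^ n * a := fun n => by
    induction n with
    | zero => simp
    | succ n ih => rw [pow_succ', pow_succ']; show s ((s ^ n) a) = _; simp [ih, e]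
  have k := this (orderOf s)
  rw [pow_orderOf_eq_one, o.neg_one_pow] at k
  replace k : a = -1 * a := k
  exact (mul_eq_zero.1 (show 2 * a = 0 by linear_combination k)).resolve_left h2

theorem mem_cent (h : PH π K) (h2 : (2 : F) ≠ 0) (a : Act π e 1 s) (o : Odd (orderOf s)) {g : SL(2, F)} :
    π g ∈ C1[e] ↔ ∀ i j, s (g.1 i j) = g.1 i j := by
  rw [mem_cent1, eq_comm, ← mul_inv_eq_iff_eq_mul, a g, h.eq_iff]
  refine ⟨fun c i j => c.elim (fun c => by rw [← sg1, c]) fun c => ?_, fun c => .inl (Subtype.ext (by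
    ext i j; rw [sg1, c]))⟩
  have z : ∀ i j, g.1 i j = 0 := fun i j => neg_odd h2 o (by rw [← sg1, c, neg_ap])
  rw [z, map_zero]

theorem card_ker (h : PH π K) (h2 : (2 : F) ≠ 0) : Nat.card π.ker = 2 := by
  rw [Nat.card_eq_two_iff]
  refine ⟨1, ⟨-1, (h.ker _).2 (Or.inr rfl)⟩, fun e => sl2_neg_one_ne_one h2 (congrArg Subtype.val e).symm, ?_⟩
  ext m
  simp only [Set.mem_insert_iff, Set.mem_singleton_iff, Set.mem_univ, iff_true, Subtype.ext_iff]
  exact (h.ker _).1 m.2

theorem card_ph [Fintype F] (h : PH π K) (h2 : (2 : F) ≠ 0) :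
    2 * Nat.card K = Fintype.card F * (Fintype.card F ^ 2 - 1) := by
  have e := π.ker.card_mul_index
  rw [index_ker, card_ker h h2, show π.range = K from Subgroup.ext fun x => (h.rng x).symm, card_sl_two] at e
  rw [e, mul_assoc, mul_comm _ (_ + 1), ← Nat.sq_sub_sq]

theorem card_cent [Fintype F] (h : PH π K) (h2 : (2 : F) ≠ 0) (a : Act π e 1 s) (o : Odd (orderOf s)) :
    ∃ q1 : ℕ, Fintype.card F = q1 ^ orderOf s ∧ 2 * Nat.card ↥(K ⊓ C1[e]) = q1 * (q1 ^ 2 - 1) := by
  classical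
  let E := RingHom.eqLocusField (s : F →+* F) (RingHom.id F)
  have := Fintype.ofFinite E
  have inj : ∀ a b : SL(2, E), SpecialLinearGroup.map E.subtype a = SpecialLinearGroup.map E.subtype b → a = b :=
    fun a b e => Subtype.ext (by ext i j; exact congrArg (fun g : SL(2, F) => g.1 i j) e)
  have p : PH (π.comp (SpecialLinearGroup.map E.subtype)) (K ⊓ C1[e]) := ⟨fun x => ⟨fun m => ?_, ?_⟩, fun g => ?_⟩
  · refine ⟨_, ?_, card_ph p fun z => h2 (congrArg Subtype.val z)⟩
    rw [← Nat.card_eq_fintype_card (α := E)]; exact card_fix s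
  · obtain ⟨g, rfl⟩ := (h.rng x).1 m.1
    have k := (mem_cent h h2 a o).1 m.2
    exact ⟨sl2mk ⟨_, k 0 0⟩ ⟨_, k 0 1⟩ ⟨_, k 1 0⟩ ⟨_, k 1 1⟩ (Subtype.ext (sl2_det g)),
      congrArg π (by apply sl2_ext <;> rfl)⟩
  · rintro ⟨g, rfl⟩
    exact ⟨h.mem _, (mem_cent h h2 a o).2 fun i j => (g.1 i j).2⟩
  · rw [MonoidHom.comp_apply, h.ker]
    refine or_congr ⟨fun e => inj _ _ (e.trans (map_one _).symm), fun e => e ▸ map_one _⟩
      ⟨fun e => inj _ _ (e.trans ?_), fun e => e ▸ Eq.symm ?_⟩ <;> apply sl2_ext <;> simp [neg_ap]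

theorem cyc_aut [Finite F] : IsCyclic (F ≃+* F) := by
  obtain ⟨p, hp⟩ := CharP.exists F
  have := Fact.mk (CharP.char_is_prime F p)
  letI := ZMod.algebra F p
  exact isCyclic_of_surjective (MonoidHom.mk' (fun a : F ≃ₐ[ZMod p] F => a.toRingEquiv) fun _ _ => rfl) fun s =>
    ⟨AlgEquiv.ofRingEquiv (f := s) fun x => DFunLike.congr_fun
      (RingHom.ext_zmod ((s : F →+* F).comp (algebraMap (ZMod p) F)) (algebraMap (ZMod p) F)) x, rfl⟩

end

variable {G : Type u} [Group G] [Finite G] {S L D : Subgroup G} {t : G}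

theorem model (h : JR' S t L D) : ∃ (F : Type) (_ : Field F) (_ : Fintype F) (π : SL(2, F) →* G) (s : F ≃+* F) (d : G),
    Odd (Fintype.card F) ∧ PH π L ∧ D = zpowers d ∧ Act π d 1 s ∧ orderOf s = orderOf d := by
  obtain ⟨F, _, _, π0, h8, -, p0, -⟩ := JS.exists_ps h.l2
  have hF : Odd (Fintype.card F) := Nat.odd_iff.2 (by omega)
  have h2 := two_ne_zero_of_odd_card hF
  have p : PH (L.subtype.comp π0) L := ⟨fun x => ⟨fun m => ((p0.rng ⟨x, m⟩).1 trivial).imp fun _ => congrArg Subtype.val,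
    by rintro ⟨g, rfl⟩; exact (π0 g).2⟩, fun g => by rw [← p0.ker, Subtype.ext_iff]; rfl⟩
  generalize L.subtype.comp π0 = π at p
  have ex : ∀ e : D, ∃ A s, Act π e A s := fun e => core hF p (ρ := (MulAut.conj e.1).toMonoidHom.comp π)
    ⟨fun y => ⟨fun m => ((p.rng _).1 (conj_mem_of_le_norm' h.DL e.2 m)).imp fun g hg => by simp [hg, mul_assoc],
      by rintro ⟨g, rfl⟩; exact conj_mem_of_le_norm h.DL e.2 (p.mem g)⟩, fun g => by rw [← p.ker]; simp⟩
  choose A σ a using ex
  let φ : D →* (F ≃+* F) := MonoidHom.mk' σ fun x y => (Act.uniq p h2 (a (x * y)) ((a x).mul (a y))).1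
  have inj : Function.Injective φ := (injective_iff_map_eq_one φ).2 fun e z => by
    have a1 := a e
    rw [show σ e = 1 from z] at a1
    have a2 := a1.mul a1
    rw [gm_one, one_mul] at a2
    let g : SL(2, F) := ⟨(A e).1.det⁻¹ • (A e * A e).1, by
      have := det_ne (A e)
      rw [det_smul, Units.val_mul, det_mul]; simp; field_simp⟩
    have := act_cent p (a2.smul (c := (A e).1.det⁻¹) rfl) (Act.of π g)
    rw [h.cL] at this
    exact Subtype.ext (eq1_of_odd (h.oD e.2) (h.KD ((mul_mem_cancel_left (inv_mem (mem_sup_right (p.mem g)))).1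
      (mem_sup_left this)) (mul_mem e.2 e.2)))
  have := cyc_aut (F := F)
  obtain ⟨d, rfl⟩ := PG.isCyclic_iff_exists.1 (isCyclic_of_injective φ inj)
  have o : orderOf (σ ⟨d, mem_zpowers d⟩) = orderOf d :=
    (orderOf_injective φ inj _).trans (orderOf_coe _).symm
  obtain ⟨B, hB⟩ := descent p h2 (a ⟨d, mem_zpowers d⟩) o (h.oD (mem_zpowers d))
  exact ⟨F, _, _, _, _, d, hF, p.comp B 1, rfl, hB, o⟩

end Cfsg.Agent.WA.DM

namespace Cfsg.Agent.WA

open Cfsg Subgroup Cfsg.Agent.GT

universe u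

theorem JR'.cyc {G : Type u} [Group G] [Finite G] {S L D : Subgroup G} {t : G} (h : JR' S t L D) : IsCyclic D := by
  obtain ⟨F, _, _, π, s, d, -, -, rfl, -⟩ := DM.model h
  infer_instance

theorem pMod : PMod.{u} := fun G _ _ S L D t h ih ne => by
  obtain ⟨F, _, _, π, s, d, hF, p, rfl, a, o⟩ := DM.model h
  have h2 := Cl.two_ne_zero_of_odd_card hF
  refine ⟨_, d, h, ih, by simpa using ne, rfl, DM.card_ph p h2, fun e he => ?_⟩
  obtain ⟨k, rfl⟩ := PG.exists_nat_pow_of_mem_zpowers he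
  have : Finite (F ≃+* F) := Finite.of_injective (fun r : F ≃+* F => (r : F → F)) DFunLike.coe_injective
  have o' : orderOf (s ^ k) = orderOf (d ^ k) := by rw [orderOf_pow, orderOf_pow, o]
  exact o' ▸ DM.card_cent p h2 (DM.act_pow a k) (o' ▸ h.oD he)

end Cfsg.Agent.WA
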