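import Cfsg.Agent.WA.DB
import Cfsg.Agent.WA.SZ0
import Cfsg.Agent.WA.A3
import Cfsg.Agent.WA.FA

/-! Groups of Janko-Ree type with `D`: proper subgroups with one class of involutions. -/

set_option autoImplicit false
set_option linter.unusedSectionVars false
set_option linter.unusedVariables false

namespace Cfsg.Agent.WA

open Cfsg Subgroup Cfsg.Agent.GT Cfsg.Agent.Cls Cfsg.Agent.GW
open scoped commutatorElement

universe u

variable {G : Type u} [Group G] [Finite G] {S L D V X X₀ Y : Subgroup G} {a b c e g k l n s t y z : G}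

theorem ex_ne' (h : 3 ≤ Nat.card D) (k : G) : ∃ d ∈ D, d ≠ 1 ∧ d ≠ k := by
  by_contra h0
  push Not at h0
  have : (D : Set G) ⊆ {1, k} := fun d hd => (em (d = 1)).imp_right (h0 d hd)
  have h1 := (Set.ncard_le_ncard this).trans (Set.ncard_insert_le 1 {k})
  rw [Set.ncard_singleton] at h1
  have : (D : Set G).ncard = Nat.card D := rfl
  omega

theorem card_orb' (Γ : Subgroup G) (t : G) :
    {x | ∃ n ∈ Γ, n * t * n⁻¹ = x}.ncard = C1[t].relIndex Γ := by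
  let _ : MulAction Γ G := MulAction.compHom G ((MulAut.conj (G := G)).comp Γ.subtype)
  have e : MulAction.stabilizer Γ t = C1[t].subgroupOf Γ := by
    ext n
    rw [mem_subgroupOf, mem_cent1, MulAction.mem_stabilizer_iff, ← mul_inv_eq_iff_eq_mul]
    rfl
  rw [relIndex, ← e, MulAction.index_stabilizer]
  congr 1
  ext x
  exact ⟨fun ⟨d, hd, e⟩ => ⟨⟨d, hd⟩, e⟩, fun ⟨d, e⟩ => ⟨d.1, d.2, e⟩⟩

/-- `X₀ / O(X) = T` is the simple normal subgroup of `X / O(X)`. -/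
structure MQ (X X₀ : Subgroup G) {T : Type u} [Group T] (f : X₀ →* T) : Prop where
  surj : Function.Surjective f
  ker : kr f = O[X]
  le : X₀ ≤ X
  nrm : X ≤ N[X₀]
  inv : ∀ z ∈ X, z * z = 1 → z ∈ X₀
  cO : ∀ z ∈ X, z * z = 1 → O[X] ≤ C1[z]
  simple : IsSimpleGroup T
  nc : ¬ IsMulCommutative T
  good : Good T

theorem dm_min (ab : AB G) (ih : IH.{u} (Nat.card G)) (hX : X ≠ ⊤) (hV : IsPiHallOf {2} V X) (V1 : V ≠ ⊥)
    (sq : ∀ x ∈ V, x * x = 1)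
    (tr : ∀ a ∈ V, ∀ b ∈ V, a ≠ 1 → b ≠ 1 → ∃ g ∈ X, g * a * g⁻¹ = b) (cO : O[X] ≤ C[V]) :
    X ≤ N[V] ∨ ∃ (X₀ : Subgroup G) (T : Type u) (_ : Group T) (_ : Finite T) (f : X₀ →* T), MQ X X₀ f := by
  obtain ⟨Q, _, _, f, q⟩ := exists_qx X
  have hV' : IsPiHallOf {2} (im f V) ⊤ := q.top ▸ hV.im le_rfl
  have into : ∀ y : Q, orderOf y = 2 → ∃ d : Q, ∃ v, ∃ hv : v ∈ V, v ≠ 1 ∧ d * y * d⁻¹ = f ⟨v, hV.le hv⟩ :=
    fun y oy => by
      obtain ⟨d, -, e⟩ := conj_into hV' (sq1 oy) (mem_top y)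
      obtain ⟨v, h1, hv, e1⟩ := mem_im.1 e
      exact ⟨d, v, hv, fun e2 => cne (ne1 oy) d (by subst e2; rw [← e1]; exact map_one f), e1.symm⟩
  have tr' : ∀ y y' : Q, orderOf y = 2 → orderOf y' = 2 → ∃ d, d * y * d⁻¹ = y' := fun y y' o o' => by
    obtain ⟨d, v, hv, v1, e⟩ := into y o
    obtain ⟨d', v', hv', v1', e'⟩ := into y' o'
    obtain ⟨g, hg, e2⟩ := tr v hv v' hv' v1 v1'
    refine ⟨d'⁻¹ * f ⟨g, hg⟩ * d, ?_⟩
    rw [show d'⁻¹ * f ⟨g, hg⟩ * d * y * (d'⁻¹ * f ⟨g, hg⟩ * d)⁻¹ =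
      d'⁻¹ * (f ⟨g, hg⟩ * (d * y * d⁻¹) * (f ⟨g, hg⟩)⁻¹) * d' by group, e, ← map_inv, ← map_mul, ← map_mul,
      show (⟨g, hg⟩ * ⟨v, hV.le hv⟩ * ⟨g, hg⟩⁻¹ : X) = ⟨v', hV.le hv'⟩ from Subtype.ext e2, ← e']
    group
  have abQ : AB Q := ab.of_surj q.surj
  by_cases h2 : piCoreOf {2} (⊤ : Subgroup Q) = ⊥
  swap
  · left
    have := (im_le_norm_iff le_rfl hV.le).1 (q.top ▸ SZ.closedA abQ q.bot tr' hV' h2)
    rw [q.ker] at this
    exact this.trans ((hV.of_le le_sup_left (sup_le hV.le (O_le X))).norm_le_norm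
      (sup_le le_normalizer (le_norm_of_cent cO)))
  right
  obtain ⟨v, hv, ov⟩ := exists_inv_of_le hV le_rfl V1
  obtain ⟨T, -, hT⟩ := exists_minNormal_le (H := (⊤ : Subgroup Q)) (A := ⊤) (fun e => by
    have : f ⟨v, hV.le hv⟩ ∈ (⊥ : Subgroup Q) := e ▸ mem_top _
    exact not_odd_of_inv ov (q.ker ▸ (mem_kr' _).2 this) (O_odd X)) le_normalizer
  obtain ⟨s, nc⟩ := SZ.simple q.bot h2 tr' hT
  obtain ⟨z, hz, oz⟩ := SZ.ex_inv q.bot le_top hT.norm hT.ne_bot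
  have e : im f (pre f T) = T := im_pre_of_surj q.surj
  rw [← e] at s nc
  refine ⟨pre f T, im f (pre f T), inferInstance, inferInstance, imHom f pre_le, imHom_surjective _, ?_,
    pre_le, dom_le_norm_pre (le_top.trans hT.norm), fun y hy y2 => (mem_pre' hy).2 ?_, fun y hy y2 => ?_,
    s, nc, ih _ nc (abQ.sub _) ((card_le_card_group _).trans_lt
      ((Nat.card_le_card_of_surjective f q.surj).trans_lt (card_lt_of_ne_top hX)))⟩
  · rw [← q.ker]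
    ext x
    rw [mem_kr, mem_kr]
    exact ⟨fun ⟨h1, h2⟩ => ⟨pre_le h1, congrArg Subtype.val h2⟩,
      fun ⟨h1, h2⟩ => ⟨(mem_pre' h1).2 (h2 ▸ one_mem T), Subtype.ext h2⟩⟩
  · by_cases e1 : f ⟨y, hy⟩ = 1
    · exact e1 ▸ one_mem T
    obtain ⟨d, e2⟩ := tr' z _ oz (ord2 (by rw [← map_mul, ← map_one f]; exact congrArg f (Subtype.ext y2)) e1)
    exact e2 ▸ conj_mem_of_le_norm hT.norm (mem_top d) hz
  · obtain ⟨g, hg, e1⟩ := conj_into hV y2 hy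
    have := conj_mono g⁻¹ (cO.trans (cent_le_cent1 e1))
    rwa [conj_eq_self (O_norm X (inv_mem hg)), ← conj_cent1, inv_conj_conj] at this

namespace MQ
variable {T : Type u} [Group T] [Finite T] {f : X₀ →* T} (q : MQ X X₀ f)
include q

theorem top : im f X₀ = ⊤ := im_dom_of_surj q.surj

theorem eq2 (ha : a ∈ X₀) (hb : b ∈ X₀) (a2 : a * a = 1) (b2 : b * b = 1)
    (e : f ⟨a, ha⟩ = f ⟨b, hb⟩) : a = b := by
  have h1 : a * b ∈ O[X] := q.ker ▸ (mem_kr' (mul_mem ha hb)).2 (by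
    rw [show (⟨a * b, mul_mem ha hb⟩ : X₀) = ⟨a, ha⟩ * ⟨b, hb⟩ from rfl, map_mul, e, ← map_mul,
      ← map_one f]; exact congrArg f (Subtype.ext b2))
  have h2 := mem_cent1.1 (q.cO b (q.le hb) b2 h1)
  have h3 := eq1_of_odd (odd_ord (O_odd X) h1) (by
    rw [mul_assoc, ← h2, mul_assoc a b, b2, mul_one, a2])
  rw [eq_inv_of_mul_eq_one_left h3, inv_eq_of_mul_eq_one_right b2]

theorem ord (hz : z ∈ X₀) (oz : orderOf z = 2) : orderOf (f ⟨z, hz⟩) = 2 :=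
  ord2 (by rw [← map_mul, ← map_one f]; exact congrArg f (Subtype.ext (sq1 oz))) fun e =>
    ne1 oz (q.eq2 hz (one_mem _) (sq1 oz) (one_mul 1) (e.trans (map_one f).symm))

theorem c1 (hz : z ∈ X₀) (z2 : z * z = 1) (hy : y ∈ X₀) : f ⟨y, hy⟩ ∈ C1[f ⟨z, hz⟩] ↔ y ∈ C1[z] := by
  rw [mem_cent1, mem_cent1, ← mul_inv_eq_iff_eq_mul, ← mul_inv_eq_iff_eq_mul (a := y * z), ← map_inv,
    ← map_mul, ← map_mul]
  exact ⟨q.eq2 (cj_mem hy hz) hz (sq_conj z2 y) z2, fun e => congrArg f (Subtype.ext e)⟩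

theorem pre_c1 (hz : z ∈ X₀) (z2 : z * z = 1) : pre f C1[f ⟨z, hz⟩] = C1[z] ⊓ X₀ := by
  ext y
  rw [mem_pre]
  exact ⟨fun ⟨h1, h2⟩ => ⟨(q.c1 hz z2 h1).1 h2, h1⟩, fun h => ⟨h.2, (q.c1 hz z2 h.2).2 h.1⟩⟩

theorem im_c1 (hz : z ∈ X₀) (z2 : z * z = 1) : im f (C1[z] ⊓ X₀) = C1[f ⟨z, hz⟩] := by
  rw [← q.pre_c1 hz z2, im_pre_of_surj q.surj]

theorem dec (hz : z ∈ X₀) (oz : orderOf z = 2) (hg : g ∈ X) : ∃ y ∈ X₀, y * z * y⁻¹ = g * z * g⁻¹ := by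
  have h1 := conj_mem_of_le_norm q.nrm hg hz
  obtain ⟨d, -, e⟩ := q.good.2.1.one _ (mem_top _) _ (mem_top _) (q.ord hz oz) (q.ord h1 (ord2_conj oz g))
  obtain ⟨y, rfl⟩ := q.surj d
  refine ⟨y, y.2, q.eq2 (cj_mem y.2 hz) h1 (sq_conj (sq1 oz) _) (sq_conj (sq1 oz) _) ?_⟩
  rw [← e, ← map_inv, ← map_mul, ← map_mul]; rfl

theorem idx (hz : z ∈ X₀) (oz : orderOf z = 2) : C1[z].relIndex X = C1[f ⟨z, hz⟩].index := by
  rw [← relIndex_top_right, ← q.top, ← relIndex_pre le_rfl, q.pre_c1 hz (sq1 oz), inf_relIndex_right,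
    ← card_orb', ← card_orb']
  congr 1
  ext x
  exact ⟨fun ⟨g, hg, e⟩ => e ▸ q.dec hz oz hg, fun ⟨g, hg, e⟩ => ⟨g, q.le hg, e⟩⟩

theorem card_im (hY : Y ≤ X₀) (h : Y ⊓ O[X] = ⊥) : Nat.card (im f Y) = Nat.card Y :=
  card_im_of_inf_eq_bot hY (q.ker ▸ h)

theorem syl (hV : IsPiHallOf {2} V X) (sq : ∀ x ∈ V, x * x = 1) :
    V ≤ X₀ ∧ IsPiHallOf {2} (im f V) ⊤ ∧ Nat.card (im f V) = Nat.card V := by
  have h1 : V ≤ X₀ := fun x hx => q.inv x (hV.le hx) (sq x hx)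
  exact ⟨h1, q.top ▸ (hV.of_le h1 q.le).im le_rfl, q.card_im h1 (eq_bot_of_le_of_coprime inf_le_right
    inf_le_left (cop2' (O_odd X) (syl_isPGroup Nat.prime_two hV)))⟩

end MQ

namespace JR'
variable (h : JR' S t L D)
include h

theorem pS : IsPGroup 2 S := syl_isPGroup Nat.prime_two h.syl
theorem sc : S ≤ C[S] := h.ab S h.pS
theorem ssq (hc : c ∈ S) : c * c = 1 := h.el.sq c trivial (h.pS.to_le (zpowers_le.2 hc))
theorem two' (s : G) (k : ℕ) (e : s ^ 2 ^ k = 1) : s * s = 1 :=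
  h.el.sq s trivial (PG.isPGroup_zpowers_of_pow_eq_one e)
theorem SL : S ≤ N[L] := h.St.trans h.norm
theorem eq1 (h1 : e ∈ D) (h2 : e ∈ L) : e = 1 := mem_bot.1 (h.inf ▸ (⟨h1, h2⟩ : e ∈ D ⊓ L))

theorem dec' (hc : c ∈ C1[t]) : ∃ l ∈ L, ∃ e ∈ D, c = l * e ∨ c = t * l * e := by
  rw [h.cent] at hc
  obtain ⟨x, hx, e, he, rfl⟩ := (mem_sup_of_le_norm' (le_norm_sup (h.Dt.trans (cent_zpowers t ▸
    cent_le_norm _)) h.DL)).1 hc
  obtain ⟨a, ha, b, hb, rfl⟩ := (mem_sup_of_le_norm (zpowers_le.2 (h.norm (self_mem_cent1 t)))).1 hx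
  rcases zp2' (sq1 h.ord) ha with rfl | rfl
  exacts [⟨b, hb, e, he, .inl (by rw [one_mul])⟩, ⟨b, hb, e, he, .inr rfl⟩]

theorem sqLD (hl : l ∈ L) (he : e ∈ D) (h1 : l * e * (l * e) ∈ L) : e = 1 := by
  refine eq1_of_odd (odd_ord h.odd he) (h.eq1 (mul_mem he he) ?_)
  have := mul_mem (inv_mem (mul_mem hl (conj_mem_of_mem_norm (h.DL he) hl))) h1
  rwa [show (l * (e * l * e⁻¹))⁻¹ * (l * e * (l * e)) = e * e by group] at this

theorem dec2 (hc : c ∈ C1[t]) (c2 : c * c = 1) : c ∈ L ∨ t * c ∈ L := by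
  obtain ⟨l, hl, e, he, rfl | rfl⟩ := h.dec' hc
  · obtain rfl := h.sqLD hl he (c2 ▸ one_mem _)
    exact .inl (by rwa [mul_one])
  · have c1 := mem_cent1.1 (mul_mem (h.le hl) (h.Dt he))
    obtain rfl := h.sqLD hl he (by
      rw [mul_assoc t, mul_assoc t, ← mul_assoc (l * e), c1, mul_assoc t, GW.tt (sq1 h.ord)] at c2
      exact c2 ▸ one_mem _)
    exact .inr (by rwa [mul_one, GW.tt (sq1 h.ord)])

theorem LS (hl : l ∈ L) (hc : l ∈ C[S]) : l ∈ S := by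
  rw [h.cS] at hc
  obtain ⟨s, hs, e, he, rfl⟩ := (mem_sup_of_le_norm' (le_norm_of_cent h.DS)).1 hc
  have : s * e * (s * e) = e * e := by
    rw [mul_assoc, ← mul_assoc e, ← h.DS he s hs, mul_assoc, GW.tt (h.ssq hs)]
  rw [eq1_of_odd (odd_ord h.odd he) (h.eq1 (mul_mem he he) (this ▸ mul_mem hl hl)), mul_one]
  exact hs

theorem c4 : Nat.card ↥(L ⊓ S) = 4 := by
  have cV : Nat.card S = 2 * Nat.card ↥(L ⊓ S) := by
    rw [← card_inf_mul_relIndex L S, mul_comm, relIndex_eq_two_iff_exists_notMem_and.2 ⟨t, h.mem, h.nmem,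
      fun b hb => ((h.dec2 (h.St hb) (h.ssq hb)).imp_right fun m => by
        rwa [← h.sc hb t h.mem]).symm⟩]
  have := h.card; omega

theorem Sle : S ≤ (L ⊓ S) ⊔ zpowers t := fun s hs => by
  rcases h.dec2 (h.St hs) (h.ssq hs) with e | e
  · exact mem_sup_left ⟨e, hs⟩
  · have := mul_mem (mem_sup_right (S := L ⊓ S) (mem_zpowers t)) (mem_sup_left ⟨e, mul_mem h.mem hs⟩)
    rwa [GW.tt (sq1 h.ord)] at this

theorem cU (h1 : c ∈ C1[t]) (h2 : c ∈ C[L ⊓ S]) : c ∈ C[S] :=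
  cent_anti h.Sle (by rw [cent_sup, cent_zpowers]; exact ⟨h2, h1⟩)

theorem oneL (ha : a ∈ L) (hb : b ∈ L) (oa : orderOf a = 2) (ob : orderOf b = 2) :
    ∃ g ∈ L, g * a * g⁻¹ = b := by
  obtain ⟨S', A, t', s⟩ := JS.st h.l2 fun s k e => Subtype.ext (h.two' s k (congrArg Subtype.val e))
  obtain ⟨x, ea⟩ := s.one ⟨a, ha⟩ (by rwa [← orderOf_coe])
  obtain ⟨y, eb⟩ := s.one ⟨b, hb⟩ (by rwa [← orderOf_coe])
  exact ⟨_, (y * x⁻¹).2, congrArg Subtype.val (show y * x⁻¹ * ⟨a, ha⟩ * (y * x⁻¹)⁻¹ = ⟨b, hb⟩ by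
    rw [← ea, ← eb]; group)⟩

theorem trS (ha : a ∈ S) (hb : b ∈ S) (a1 : a ≠ 1) (b1 : b ≠ 1) : ∃ n ∈ N[S], n * a * n⁻¹ = b := by
  obtain ⟨g, -, e⟩ := h.el.one a trivial b trivial (ord2 (h.ssq ha) a1) (ord2 (h.ssq hb) b1)
  obtain ⟨n, hn, e1⟩ := h.ab.fus h.syl ha (mem_top g) (e ▸ hb)
  exact ⟨n, hn.2, e1.trans e⟩

theorem nU : L ⊓ N[L ⊓ S] = L ⊓ N[S] :=
  le_antisymm (le_inf inf_le_left (by
    rw [← le_antisymm (sup_le inf_le_right (zpowers_le.2 h.mem)) h.Sle]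
    nth_rewrite 1 [le_antisymm (sup_le inf_le_right (zpowers_le.2 h.mem)) h.Sle]
    exact le_norm_sup inf_le_right (le_norm_of_cent (cent_zpowers t ▸ inf_le_left.trans h.le))))
    (le_inf inf_le_left (le_norm_inf (le_norm_self inf_le_left) inf_le_right))

theorem sylL : IsPiHallOf {2} (L ⊓ S) L := inf_comm S L ▸ Sc.syl h.syl h.SL

theorem trU (ha : a ∈ L ⊓ S) (hb : b ∈ L ⊓ S) (a1 : a ≠ 1) (b1 : b ≠ 1) :
    ∃ n ∈ L ⊓ N[S], n * a * n⁻¹ = b := by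
  obtain ⟨g, hg, e⟩ := h.oneL ha.1 hb.1 (ord2 (h.ssq ha.2) a1) (ord2 (h.ssq hb.2) b1)
  obtain ⟨n, hn, e1⟩ := h.ab.fus h.sylL ha hg (e ▸ hb)
  exact ⟨n, h.nU ▸ hn, e1.trans e⟩

theorem fix2 (ha : a ∈ S) (a1 : a ≠ 1) (at' : a ≠ t) (hn : n ∈ N[S]) (h1 : n ∈ C1[t]) (h2 : n ∈ C1[a]) :
    n ∈ C[S] :=
  fa_fix h.ab h.syl (V_le h.mem ha) (by
    rw [h.card, E4.card_V h.ord (ord2 (h.ssq ha) a1) at' (h.sc h.mem a ha)]) hn
    (V_le (mem_cent1_comm.1 h1) (mem_cent1_comm.1 h2))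

theorem exU : ∃ a ∈ L ⊓ S, a ≠ 1 := exists_ne_one_of_ne_bot fun e => by
  have := h.c4; rw [e, card_bot] at this; omega

theorem c12 : Nat.card ↥(L ⊓ N[S]) = 12 := by
  obtain ⟨a, ha, a1⟩ := h.exU
  have e1 := SZ.idx_orbit (M := L ⊓ N[S]) (h.nU ▸ inf_le_right) ha a1 fun y hy y1 => h.trU ha hy a1 y1
  have e2 := card_inf_mul_relIndex C1[a] (L ⊓ N[S])
  rw [show C1[a] ⊓ (L ⊓ N[S]) = L ⊓ S from le_antisymm (fun x hx => ⟨hx.2.1, h.LS hx.2.1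
    (h.fix2 ha.2 a1 (fun e => h.nmem (e ▸ ha.1)) hx.2.2 (h.le hx.2.1) hx.1)⟩)
    (le_inf (inf_le_right.trans (h.sc.trans (cent_le_cent1 ha.2))) (inf_le_inf_left _ le_normalizer))] at e2
  rw [h.c4] at e1 e2
  omega

theorem i7 : C1[t].relIndex N[S] = 7 := by
  have := SZ.idx_orbit (M := N[S]) le_rfl h.mem (ne1 h.ord) fun y hy y1 => h.trS h.mem hy (ne1 h.ord) y1
  rw [h.card] at this
  omega

theorem oddL (o : Odd (Nat.card Y)) (YL : Y ≤ L) (hn : L ⊓ N[S] ≤ N[Y]) : Y = ⊥ := by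
  by_contra h0
  obtain ⟨V, hV, hm⟩ := exists_minNormal_le h0 hn
  have oV := odd_card_of_le o hV
  have cV : V ≤ C[V] := comm_iff_le_cent.1 (hm.comm (solv_odd oV))
  have VL := hV.trans YL
  obtain ⟨Q, -, -, -, -, -, -, -, q5, -⟩ := JS.facts h.l2
  have key : ∀ a ∈ L ⊓ S, a ≠ 1 → V ⊓ C1[a] = ⊥ := fun a ha a1 => by
    by_contra h1
    obtain ⟨y, hy, y1⟩ := exists_ne_one_of_ne_bot h1
    obtain ⟨T, d, -, -, nT⟩ := q5 ⟨a, ha.1⟩ (by rw [← orderOf_coe]; exact ord2 (h.ssq ha.2) a1)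
    have y2 : y * y ≠ 1 := mt (eq1_of_odd (odd_ord oV hy.1)) y1
    have c0 := nT ⟨y, VL hy.1⟩ (by_contra fun e => y2 (congrArg Subtype.val ((sq _).symm.trans
        (d.sq _ (mem_cent1.2 (Subtype.ext (mem_cent1.1 hy.2))) e)))) fun e => y2 (congrArg Subtype.val e)
    have c : V ≤ C1[a] := fun v hv => by
      have m : (⟨v, VL hv⟩ : L) ∈ C1[(⟨y, VL hy.1⟩ : L)] := mem_cent1.2 (Subtype.ext (cV hv y hy.1).symm)
      rw [← cent_zpowers] at m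
      exact mem_cent1.2 (congrArg Subtype.val (mem_cent1.1 (c0 (cent_le_norm _ m))))
    refine y2 (h.ssq (h.LS (VL hy.1) (h.cU (h.le (VL hy.1)) (mem_cent_iff.2 fun b hb => ?_))))
    by_cases b1 : b = 1
    · exact b1 ▸ one_mem _
    obtain ⟨n, hn, rfl⟩ := h.trU ha hb a1 b1
    have := conj_mono n c
    rw [conj_eq_self (hm.norm hn), conj_cent1] at this
    exact mem_cent1_comm.1 (this hy.1)
  obtain ⟨a, ha, a1⟩ := h.exU
  obtain ⟨b, hb, b1, ba⟩ := ex_ne' (D := L ⊓ S) (by rw [h.c4]; omega) a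
  have oa := ord2 (h.ssq ha.2) a1
  have ob := ord2 (h.ssq hb.2) b1
  have c := h.sc ha.2 b hb.2
  have m : L ⊓ S ≤ N[V] := (inf_le_inf_left _ le_normalizer).trans hm.norm
  exact hm.ne_bot (le_bot_iff.1 (gen3 oa ob ba c oV (m ha) (m hb) (key a ha a1).le (key b hb b1).le
    (key _ (mul_mem ha hb) (ne1 (ord2_mul oa ob ba c))).le))

theorem oddY (o : Odd (Nat.card Y)) (Yt : Y ≤ C1[t]) (hn : L ⊓ N[S] ≤ N[Y]) : Y ≤ C[S] := fun y hy =>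
  h.cU (Yt hy) (le_cent_iff_commutator_eq_bot.2 (le_bot_iff.1 ((le_inf (commutator_le_of_le_norm_left
    ((inf_le_inf_left _ le_normalizer).trans hn)) ((commutator_mono le_rfl inf_le_left).trans
      (commutator_le_of_le_norm_right (Yt.trans h.norm)))).trans (h.oddL (odd_card_of_le o inf_le_left)
        inf_le_right (le_norm_inf hn (le_norm_self inf_le_left))).le)) hy)

theorem OX (hX : N[S] ≤ X) : O[X] ≤ C[S] := by
  have k1 : O[X] ⊓ C1[t] ≤ C[S] := h.oddY (odd_card_of_le (O_odd X) inf_le_left) inf_le_right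
    (le_norm_inf (inf_le_right.trans (hX.trans (O_norm X))) (le_norm_self (inf_le_left.trans h.le)))
  have k : ∀ s ∈ S, s ≠ 1 → O[X] ⊓ C1[s] ≤ C[S] := fun s hs s1 => by
    obtain ⟨n, hn, rfl⟩ := h.trS h.mem hs (ne1 h.ord) s1
    have := conj_mono n k1
    rwa [conj_inf, conj_eq_self (O_norm X (hX hn)), conj_cent1, conj_centralizer, conj_eq_self hn] at this
  obtain ⟨a, ha, a1⟩ := h.exU
  have oa := ord2 (h.ssq ha.2) a1
  have at' : a ≠ t := fun e => h.nmem (e ▸ ha.1)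
  have c := h.sc h.mem a ha.2
  have m := le_normalizer.trans (hX.trans (O_norm X))
  exact gen3 h.ord oa at' c (O_odd X) (m h.mem) (m ha.2) k1 (k a ha.2 a1)
    (k _ (mul_mem h.mem ha.2) (ne1 (ord2_mul h.ord oa at' c)))

theorem oddD (hc : c ∈ C[S]) (o : Odd (orderOf c)) : c ∈ D := by
  rw [h.cS] at hc
  obtain ⟨s, hs, e, he, rfl⟩ := (mem_sup_of_le_norm' (le_norm_of_cent h.DS)).1 hc
  refine PG.mem_of_sq_mem_of_odd o ?_
  rw [mul_assoc, ← mul_assoc e, ← h.DS he s hs, mul_assoc, GW.tt (h.ssq hs)]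
  exact mul_mem he he

theorem OD (hX : N[S] ≤ X) : O[X] ≤ D := fun x hx => h.oddD (h.OX hX hx) (odd_ord (O_odd X) hx)

theorem min (ih : IH.{u} (Nat.card G)) (hX : X ≠ ⊤) (hN : N[S] ≤ X) :
    X ≤ N[S] ∨ ∃ (X₀ : Subgroup G) (T : Type u) (_ : Group T) (_ : Finite T) (f : X₀ →* T), MQ X X₀ f :=
  dm_min h.ab ih hX (h.syl.of_le (le_normalizer.trans hN) le_top) (ne_bot_of_mem h.mem (ne1 h.ord))
    (fun _ => h.ssq) (fun a ha b hb a1 b1 => (h.trS ha hb a1 b1).imp fun _ e => ⟨hN e.1, e.2⟩) (h.OX hN)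

end JR'

end Cfsg.Agent.WA
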