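import Cfsg.Agent.GW.Main

/-! Walter's theorem (abelian Sylow 2-subgroups): definitions (interface between the parts). -/

set_option autoImplicit false
set_option linter.unusedSectionVars false
set_option linter.unusedVariables false

namespace Cfsg.Agent.WA

open Cfsg Subgroup Cfsg.Agent.GT Cfsg.Agent.Cls Cfsg.Agent.GW

universe u

/-- all 2-subgroups are abelian. -/
def AB (G : Type u) [Group G] : Prop := ∀ P : Subgroup G, IsPGroup 2 P → P ≤ C[P]

/-- `L₂(2^a)`, `a ≥ 2`. -/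
def L2e (G : Type u) [Group G] : Prop :=
  ∃ a : ℕ, 2 ≤ a ∧ ∃ (F : Type) (_ : Field F) (_ : Fintype F), Fintype.card F = 2 ^ a ∧
    Nonempty (G ≃* Matrix.ProjectiveSpecialLinearGroup (Fin 2) F)

/-- `L₂(q)`, `q ≡ 3, 5 mod 8`, `q > 3`. -/
def L2o (G : Type u) [Group G] : Prop :=
  ∃ (F : Type) (_ : Field F) (_ : Fintype F), (Fintype.card F % 8 = 3 ∨ Fintype.card F % 8 = 5) ∧
    3 < Fintype.card F ∧ Nonempty (G ≃* Matrix.ProjectiveSpecialLinearGroup (Fin 2) F)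

section
variable {G : Type u} [Group G]

/-- 2-elements of `K` are involutions, and `K` has one class of involutions. -/
structure El (K : Subgroup G) : Prop where
  sq : ∀ x ∈ K, IsPGroup 2 (zpowers x) → x * x = 1
  one : ∀ z ∈ K, ∀ w ∈ K, orderOf z = 2 → orderOf w = 2 → ∃ g ∈ K, g * z * g⁻¹ = w

/-- What Bender's reduction gives: `C(t) = ⟨t⟩ × L D`, `D = O(C(S))` acting faithfully on
`L ≅ L₂(q)`. `JR` proper is the case `D = ⊥`. -/
structure JR' (S : Subgroup G) (t : G) (L D : Subgroup G) : Prop where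
  syl : IsPiHallOf {2} S ⊤
  card : Nat.card S = 8
  ab : AB G
  el : El (⊤ : Subgroup G)
  ord : orderOf t = 2
  mem : t ∈ S
  le : L ≤ C1[t]
  norm : C1[t] ≤ N[L]
  nmem : t ∉ L
  l2 : L2o L
  odd : Odd (Nat.card D)
  cS : C[S] = S ⊔ D
  cent : C1[t] = (zpowers t ⊔ L) ⊔ D
  cL : C[L] = zpowers t
  inf : D ⊓ L = ⊥
  nS : N[S] ≤ C[D]

/-- 2-rank at least 3. -/
def Rk3 (G : Type u) [Group G] : Prop :=
  ∃ a b c : G, orderOf a = 2 ∧ orderOf b = 2 ∧ orderOf c = 2 ∧ a * b = b * a ∧ a * c = c * a ∧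
    b * c = c * b ∧ b ≠ a ∧ c ≠ a ∧ c ≠ b ∧ c ≠ a * b

/-- strongly embedded, in the form the reduction produces it. -/
structure SE (H : Subgroup G) : Prop where
  ne : H ≠ ⊤
  ex : ∃ z ∈ H, orderOf z = 2
  cent : ∀ z ∈ H, orderOf z = 2 → C1[z] ≤ H
  norm : ∀ S : Subgroup G, IsPiHallOf {2} S ⊤ → S ≤ H → N[S] ≤ H

end

def JR (G : Type u) [Group G] : Prop := ∃ (S : Subgroup G) (t : G) (L : Subgroup G), JR' S t L ⊥

def Good (G : Type u) [Group G] : Prop :=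
  T26 (⊤ : Subgroup G) ∧ El (⊤ : Subgroup G) ∧ (L2e G ∨ L2o G ∨ JR G)

/-- induction hypothesis. -/
def IH (N : ℕ) : Prop :=
  ∀ (K : Type u) [Group K] [Finite K] [IsSimpleGroup K], ¬ IsMulCommutative K → AB K →
    Nat.card K < N → Good K

/-- Standing data for the parts SEA, B1, B2. -/
structure Mn (G : Type u) [Group G] : Prop where
  nc : ¬ IsMulCommutative G
  ab : AB G
  rk : Rk3 G
  ih : IH.{u} (Nat.card G)

/-- (SEA) -/
def SEA : Prop :=
  ∀ (G : Type u) [Group G] [Finite G] [IsSimpleGroup G], Mn G → ∀ H : Subgroup G, SE H → L2e G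

/-- (B1) -/
def B1 : Prop :=
  ∀ (G : Type u) [Group G] [Finite G] [IsSimpleGroup G], Mn G → (∀ H : Subgroup G, ¬ SE H) →
    T26 (⊤ : Subgroup G)

/-- (B2) -/
def B2 : Prop :=
  ∀ (G : Type u) [Group G] [Finite G] [IsSimpleGroup G], Mn G → (∀ H : Subgroup G, ¬ SE H) →
    T26 (⊤ : Subgroup G) → ∃ (S : Subgroup G) (t : G) (L D : Subgroup G), JR' S t L D

/-- (JRO) -/
def JRO : Prop :=
  ∀ (G : Type u) [Group G] [Finite G] [IsSimpleGroup G] (S : Subgroup G) (t : G)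
    (L D : Subgroup G), JR' S t L D → IH.{u} (Nat.card G) → D = ⊥ ∧ (IsRee G ∨ IsJ1 G)

/-- (L2E) facts on `L₂(2^a)`. -/
def L2E : Prop :=
  ∀ (G : Type u) [Group G] [Finite G], L2e G → T26 (⊤ : Subgroup G) ∧ El (⊤ : Subgroup G)

end Cfsg.Agent.WA
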