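import Cfsg.Agent.WA.B1B

/-! Walter's theorem, part B2: a component moved by `Y = [Y, x]`. -/

set_option autoImplicit false
set_option linter.unusedSectionVars false
set_option linter.unusedVariables false

namespace Cfsg.Agent.WA

open Cfsg Subgroup Cfsg.Agent.GT Cfsg.Agent.Cls Cfsg.Agent.GW
open Cfsg.Agent.TT (QS Cmp SN layerOf fstarOf)
open scoped commutatorElement

universe u

variable {G : Type u} [Group G] [Finite G] {q s : ℕ} {S X Y : Subgroup G} {x k : G}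

theorem g1_memS (hS : IsPiHallOf {2} S ⊤) (k2 : k * k = 1) (h : S ≤ C1[k]) : k ∈ S := by
  have := syl_eq_of_le Nat.prime_two hS (pg_sup Nat.prime_two (syl_isPGroup Nat.prime_two hS) (pg2' k2)
    (Or.inl (le_norm_of_cent (by rwa [cent_zpowers])))) le_top le_sup_left
  exact this ▸ le_sup_right (a := S) (mem_zpowers k)

theorem g1_cent [IsSimpleGroup G] (m : Mn G) (t26 : T26 (⊤ : Subgroup G)) (x2 : orderOf x = 2) (hs : s.Prime)
    (hX : X ≤ piCoreOf {s} C1[x]) (nX : x ∈ N[X]) (hq : q.Prime) (q2 : q ≠ 2) (h : piCoreOf {q} C1[x] ≠ ⊥) :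
    piCoreOf {q} N[X] ≤ C1[x] := by
  have pP := piCoreOf_isPGroup hq C1[x]
  have pQ := piCoreOf_isPGroup hq N[X]
  have nQ := self_le_norm_piCoreOf {q} N[X]
  set R := piCoreOf {q} C1[x] ⊓ C[piCoreOf {q} C1[x]] with hR
  have pR : IsPGroup q R := pP.to_inf_left
  have R1 : R ≠ ⊥ := center_ne_bot_of_nilpotent (nilpotent_of_isPGroup hq pP) h
  have RX : R ≤ C[X] := (ZOp_le hq).trans (cent_anti (hX.trans (piCoreOf_single_le_fittingOf hs)))
  have nR : C1[x] ≤ N[R] := le_norm_inf (self_le_norm_piCoreOf _ _) (le_norm_cent (self_le_norm_piCoreOf _ _))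
  have x0 := t26 x (mem_top _) x2 N[R] le_top (norm_ne_top R1 (solvable_of_isPGroup hq pR) m.nc)
    (inf_le_right.trans nR)
  have Rx : zpowers x ≤ C[R] := zpowers_le.2 (mem_cent_iff.2 (inf_le_left.trans (piCoreOf_le _ _)))
  refine mem_cent_iff.1 (thompson_AxB_pgroup hq pQ pR (isPi_of_isPGroup_mem Nat.prime_two (pg2 x2)
    (by simpa using q2.symm)) (zp_norm (nQ nX)) ((le_norm_of_cent RX).trans nQ) Rx ?_ (mem_zpowers x))
  refine le_cent_symm (cent_pq' Nat.prime_two hq q2.symm (piCoreOf_isPGroup Nat.prime_two N[R]) pQ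
    (zpowers_le.2 x0) inf_le_left (zp_norm (nQ nX)) ?_)
  exact (inf_le_right.trans (cent_le_norm R)).trans (self_le_norm_piCoreOf _ _)

theorem g1_inv (ab : AB G) (hs : s.Prime) (hX : X ≤ piCoreOf {s} C1[x]) (hq : q.Prime) (qs : q ≠ s)
    (h : piCoreOf {q} C1[x] = ⊥) : piCoreOf {q} N[X] ⊓ C1[x] = ⊥ := by
  have pQ := piCoreOf_isPGroup hq N[X]
  have nQ := self_le_norm_piCoreOf {q} N[X]
  have pP := piCoreOf_isPGroup hs C1[x]
  have XF := hX.trans (piCoreOf_single_le_fittingOf hs)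
  have nm : ∀ {A : Subgroup G}, A ≤ C1[x] → A ≤ C[X] → A ≤ N[piCoreOf {q} N[X] ⊓ C1[x]] := fun h1 h2 =>
    le_norm_inf ((le_norm_of_cent h2).trans nQ) (le_norm_self h1)
  refine eq_bot_of_cent hq h inf_le_right pQ.to_inf_left (fun r hr rq => ?_) fun K hK => ?_
  · have n1 : piCoreOf {q} N[X] ⊓ C1[x] ≤ N[piCoreOf {r} C1[x]] :=
      inf_le_right.trans (self_le_norm_piCoreOf _ _)
    by_cases e : r = s
    · subst e
      refine thompson_AxB_pgroup hr pP (pP.to_le hX) (isPi_of_isPGroup_mem hq pQ.to_inf_left (by simpa using qs))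
        n1 (le_norm_self hX) (cent_pq' hq hr qs pQ (pP.to_le hX) inf_le_left le_rfl
          (inf_le_left.trans (piCoreOf_le _ _)) (le_normalizer.trans nQ)) ?_
      exact cent_pq' hr hq rq pP pQ inf_le_left inf_le_left ((inf_le_right.trans (cent_le_norm X)).trans nQ) n1
    · exact cent_pq hq hr rq.symm pQ.to_inf_left (piCoreOf_isPGroup hr _) n1
        (nm (piCoreOf_le _ _) ((Op_cent hr hs e).trans (cent_anti hX)))
  · exact ab.cmp_cent hK hq pQ.to_inf_left (nm hK.le (hK.le_cent_fittingOf.trans (cent_anti XF)))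
      (inf_le_right.trans le_normalizer)

theorem g1 [IsSimpleGroup G] (m : Mn G) (t26 : T26 (⊤ : Subgroup G)) (hS : IsPiHallOf {2} S ⊤) (hx : x ∈ S)
    (x2 : orderOf x = 2) (hs : s.Prime) (s2 : s ≠ 2) (X1 : X ≠ ⊥) (hX : X ≤ piCoreOf {s} C1[x]) (nX : S ≤ N[X])
    (pY : IsPGroup s Y) (cY : Y ≤ C[X]) (hY : ⁅Y, zpowers x⁆ = Y) (Y1 : Y ≠ ⊥) (nY : S ≤ N[Y]) :
    ∃ J, Cmp J N[X] ∧ ¬ Y ⊓ J ≤ C[J] := by
  by_contra h0
  push Not at h0
  have xx := sq1 x2
  have xL := nX hx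
  have YL := le_norm_of_cent cY
  have s1 : piCoreOf {s} C1[x] ≠ ⊥ := fun e => X1 (le_bot_iff.1 (e ▸ hX))
  have cc : ∀ {Q : Subgroup G}, N[X] ≤ N[Q] → Q ≤ C1[x] → Y ≤ C[Q] := fun n h => hY ▸
    comm_zp_le xx fun y hy => mul_mem (conj_mem_of_mem_norm (norm_le_norm_cent _ (n (YL hy))) (mem_cent_iff.2 h))
      (inv_mem (mem_cent_iff.2 h))
  have hF : Y ≤ fittingOf N[X] := by
    refine le_fit YL (fun q hq => ?_) fun J hJ => ?_
    · have nQ := self_le_norm_piCoreOf {q} N[X]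
      have pQ := piCoreOf_isPGroup hq N[X]
      by_cases e : q = 2
      · subst e; exact cc nQ (m.ab.pc1 pQ xx (nQ xL))
      by_cases e1 : piCoreOf {q} C1[x] = ⊥
      swap; · exact cc nQ (g1_cent m t26 x2 hs hX xL hq e e1)
      have iv := fun y => inv_of_fpf (y := y) xx (nQ xL) (odd_p hq e pQ)
        (g1_inv m.ab hs hX hq (fun e => s1 (e ▸ e1)) e1)
      rw [← hY]
      refine comm_zp_le xx fun y hy => mem_cent_iff.2 fun a ha => mem_cent1.2 ?_
      have h1 := iv _ (conj_mem_of_mem_norm (inv_mem (nQ (YL hy))) (inv_mem ha))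
      have h2 := iv _ ha
      rw [inv2 x2] at h1 h2
      rw [commutatorElement_def, inv2 x2]
      calc a * (y * x * y⁻¹ * x) = y * (y⁻¹ * a⁻¹ * y⁻¹⁻¹)⁻¹ * x * y⁻¹ * x := by group
        _ = y * x * y⁻¹ * (a⁻¹ * (y * (x * x) * y⁻¹) * x) := by rw [← h1]; group
        _ = y * x * y⁻¹ * (x * a * x * x) := by rw [xx, ← h2]; group
        _ = _ := by rw [mul_assoc (x * a), xx]; group
    · obtain ⟨k, hk, k2, e⟩ := m.ab.inner hJ.toQS xx (m.ab.norm2' hJ xx (le_normalizer xL))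
      have kS : k ∈ S := g1_memS hS k2 fun z hz => m.ab.fix hJ.toQS hk k2 e
        (m.ab.normS hJ (syl_isPGroup Nat.prime_two hS) (nX.trans le_normalizer) hz) (m.ab.c1 hS hx hz)
      have nJ : Y ≤ N[J] := hY ▸ comm_zp_le xx fun y hy =>
        mul_mem (m.ab.norm2' hJ (sq_conj xx y) (le_normalizer (cj_mem (YL hy) xL)))
          (inv_mem (m.ab.norm2' hJ xx (le_normalizer xL)))
      rw [← hY]
      refine comm_zp_le xx fun y hy => ?_
      have h2 := mul_mem hy (conj_mem_of_mem_norm (nY kS) (inv_mem hy))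
      rw [← mul_assoc, ← mul_assoc] at h2
      have h1 : y * k * y⁻¹ * k⁻¹ ∈ C[J] :=
        h0 J hJ (mem_inf.2 ⟨h2, mul_mem (conj_mem_of_mem_norm (nJ hy) hk) (inv_mem hk)⟩)
      have := mul_mem (mul_mem (conj_mem_of_mem_norm (norm_le_norm_cent _ (nJ hy)) e) h1) (inv_mem e)
      rwa [show y * (x * k) * y⁻¹ * (y * k * y⁻¹ * k⁻¹) * (x * k)⁻¹ = y * x * (k * k) * y⁻¹ * (k * k)⁻¹ * x⁻¹ by group,
        k2, inv_one, mul_one, mul_one] at this
  refine Y1 (hY ▸ comm_eq_bot_iff.2 ?_)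
  exact (le_piCoreOf_of_le_fittingOf hF (isPi_of_isPGroup hs pY)).trans (g1_cent m t26 x2 hs hX xL hs s2 s1)

end Cfsg.Agent.WA
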