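import Cfsg.Agent.WA.J0

/-! Groups of Janko-Ree type: Brauer's second and third main theorem for the principal 2-block, `C(t) = ⟨t⟩ × L`. -/

set_option autoImplicit false
set_option linter.unusedSectionVars false
set_option linter.unusedVariables false

namespace Cfsg.Agent.WA.JB

open Cfsg Subgroup Cfsg.Agent.GT Cfsg.Agent.Char Cfsg.Agent.BS IsLocalRing
open scoped ComplexConjugate Classical

universe u

variable {G : Type u} [Group G] [Fintype G]

theorem kB_nPow {a m : ℕ} (hm : Odd m) (ha : Nat.card G ∣ 2 ^ a * m) (h : G) :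
    ∃ r ∈ V2, kB h = nPow (2 ^ (a + 1)) h + 2 * r := by
  obtain ⟨d, hd⟩ := ha
  have hc : ∀ χ : G → ℂ, χ ∈ Irr G → ∃ c : ℤ,
      (if χ ∈ B0 G then (1 : ℂ) else 0) - omega χ ^ 2 ^ (a + 1) = 2 ^ (a + 1) * c := by
    intro χ hχ
    obtain ⟨n, hn⟩ := omega_int (mem_Irr.1 hχ)
    rcases Int.even_or_odd n with he | ho
    · have : χ ∉ B0 G := by
        intro hB
        obtain ⟨n', h1, h2⟩ := (mem_B0.1 hB).2
        have : n' = n := by exact_mod_cast h2.symm.trans hn
        exact Int.not_odd_iff_even.2 he (this ▸ h1)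
      obtain ⟨k, rfl⟩ := he
      obtain ⟨d, hd⟩ := Nat.exists_eq_add_of_le (Nat.lt_two_pow_self (n := a + 1)).le
      refine ⟨-(2 ^ d * k ^ 2 ^ (a + 1)), ?_⟩
      rw [if_neg this, hn, ← two_mul]
      push_cast
      rw [mul_pow]
      nth_rewrite 1 [hd]
      rw [pow_add]; ring
    · have hB : χ ∈ B0 G := mem_B0.2 ⟨mem_Irr.1 hχ, n, ho, hn⟩
      have hcop : IsCoprime n ((2 ^ (a + 2) : ℕ) : ℤ) := by
        push_cast
        exact IsCoprime.pow_right (Int.isCoprime_two_right.2 ho)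
      obtain ⟨c, hc⟩ := int_pow_totient hcop
      rw [Nat.totient_prime_pow Nat.prime_two (by omega)] at hc
      refine ⟨2 * c, ?_⟩
      rw [if_pos hB, hn]
      have := congrArg (fun z : ℤ => (z : ℂ)) hc
      simp only [Nat.add_one_sub_one, mul_one] at this
      push_cast at this ⊢
      rw [this]; ring
  choose! c hc using hc
  refine ⟨(m : ℂ)⁻¹ * (d * ∑ χ ∈ Irr G, χ 1 * c χ * χ h), ?_, ?_⟩
  · refine V2.mul_mem _ _ (inv_odd_mem_V2 hm) (mem_V2 ((Char.isIntegral_natCast _).mul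
      (IsIntegral.sum _ fun χ hχ => ?_)))
    have := (mem_Irr.1 hχ).isCharacter
    exact ((this.isIntegral 1).mul (Char.isIntegral_intCast _)).mul (this.isIntegral h)
  · have e1 : kB h = (Nat.card G : ℂ)⁻¹ *
        ∑ χ ∈ Irr G, χ 1 * (if χ ∈ B0 G then (1 : ℂ) else 0) * χ h := by
      unfold kB
      congr 1
      have : B0 G = (Irr G).filter (· ∈ B0 G) := by
        ext χ; simp only [Finset.mem_filter]
        exact ⟨fun h => ⟨mem_Irr.2 (B0_irr h), h⟩, fun h => h.2⟩
      nth_rewrite 1 [this]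
      rw [Finset.sum_filter]
      exact Finset.sum_congr rfl fun χ _ => by split_ifs <;> simp
    have hm0 : (m : ℂ) ≠ 0 := by exact_mod_cast hm.pos.ne'
    have h0 := card_ne_zero_complex G
    have hd' : (2 : ℂ) ^ a * m = Nat.card G * d := by exact_mod_cast hd
    have e2 : (2 : ℂ) * ((m : ℂ)⁻¹ * (d * ∑ χ ∈ Irr G, χ 1 * c χ * χ h)) =
        (Nat.card G : ℂ)⁻¹ * ∑ χ ∈ Irr G, χ 1 * (2 ^ (a + 1) * c χ) * χ h := by
      simp only [Finset.mul_sum]
      refine Finset.sum_congr rfl fun χ _ => ?_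
      field_simp
      rw [pow_succ]
      linear_combination (-(2 * χ 1 * c χ * χ h)) * hd'
    rw [e1, e2, nPow_eq, ← mul_add, ← Finset.sum_add_distrib]
    congr 1
    refine Finset.sum_congr rfl fun χ hχ => ?_
    rw [← hc χ hχ]; ring

/-- convolution -/
noncomputable def cv (a b : G → ℂ) (g : G) : ℂ := ∑ c, a c * b (c⁻¹ * g)

theorem cv_assoc (a b c : G → ℂ) : cv (cv a b) c = cv a (cv b c) := by
  ext g
  simp only [cv, Finset.sum_mul, Finset.mul_sum]
  rw [Finset.sum_comm]
  refine Finset.sum_congr rfl fun d _ => ?_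
  refine Fintype.sum_equiv (Equiv.mulLeft d⁻¹) _ _ fun x => ?_
  simp [mul_assoc]

theorem cv_sub_left (a b c : G → ℂ) : cv (a - b) c = cv a c - cv b c := by
  ext g; simp [cv, sub_mul, Finset.sum_sub_distrib]

theorem cv_sub_right (a b c : G → ℂ) : cv a (b - c) = cv a b - cv a c := by
  ext g; simp [cv, mul_sub, Finset.sum_sub_distrib]

theorem cv_kB (a : G → ℂ) : cv kB a = cv a kB := funext fun h => conv_comm_class kB_class a h

theorem cv_kk : cv (kB : G → ℂ) kB = kB := funext conv_kB_kB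

theorem cv_proj {F : G → ℂ} (hF : IsClassFunction G F) (h : G) :
    cv kB F h = ∑ ψ ∈ B0 G, ⟪F, ψ⟫ * ψ h := by
  have h0 := card_ne_zero_complex G
  have k : ∀ θ ∈ Irr G, ∑ c, kB c * θ (c⁻¹ * h) = if θ ∈ B0 G then θ h else 0 := fun θ hθ => by
    split_ifs with e
    · exact conv_kB_irr e h
    · have hθ := mem_Irr.1 hθ
      apply mul_left_cancel₀ hθ.apply_one_ne_zero
      calc θ 1 * ∑ c, kB c * θ (c⁻¹ * h)
          = (Nat.card G : ℂ)⁻¹ * ∑ ψ ∈ B0 G, ψ 1 * (θ 1 * ∑ c, ψ c * θ (c⁻¹ * h)) := by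
            simp only [kB, Finset.mul_sum, Finset.sum_mul]
            rw [Finset.sum_comm]
            exact Finset.sum_congr rfl fun _ _ => Finset.sum_congr rfl fun _ _ => by ring
        _ = _ := by
            rw [Finset.sum_eq_zero, mul_zero, mul_zero]
            intro ψ hψ
            rw [conv_irr hθ (B0_irr hψ), (B0_irr hψ).ci_of_ne hθ (by rintro rfl; exact e hψ)]; ring
  calc cv kB F h = ∑ θ ∈ Irr G, ⟪F, θ⟫ * ∑ c, kB c * θ (c⁻¹ * h) := by
        simp only [cv, Finset.mul_sum]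
        rw [Finset.sum_comm]
        refine Finset.sum_congr rfl fun c _ => ?_
        rw [hF.apply_eq_sum_irr, Finset.mul_sum]
        exact Finset.sum_congr rfl fun _ _ => by ring
    _ = ∑ θ ∈ Irr G, if θ ∈ B0 G then ⟪F, θ⟫ * θ h else 0 :=
        Finset.sum_congr rfl fun θ hθ => by rw [k θ hθ]; split_ifs <;> simp
    _ = _ := by
        rw [← Finset.sum_filter]
        refine Finset.sum_congr ?_ fun _ _ => rfl
        ext χ; simp only [Finset.mem_filter]
        exact ⟨fun h => h.2, fun h => ⟨mem_Irr.2 (B0_irr h), h⟩⟩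

/-- `C(t) = ⟨t⟩ × L`, one class of 2-elements. -/
structure Ct (t : G) (L : Subgroup G) : Prop where
  tt : t * t = 1
  le : ∀ l ∈ L, Commute l t
  tL : t ∉ L
  dec : ∀ c, Commute c t → c ∈ L ∨ t * c ∈ L
  cj : ∀ s : G, s * s = 1 → s ≠ 1 → IsConj t s
  two : ∀ (s : G) (k : ℕ), s ^ 2 ^ k = 1 → s * s = 1

namespace Ct

variable {t : G} {L : Subgroup G} [Fintype L] (h : Ct t L)
include h

theorem t1 : t ≠ 1 := fun e => h.tL (e ▸ L.one_mem)

theorem ord : orderOf t = 2 := orderOf_eq_two_of h.tt h.t1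

theorem ti : t⁻¹ = t := inv_eq_of_mul_eq_one_right h.tt

theorem pi : PiNat {2} (orderOf t) := by
  rw [h.ord]; exact (piNat_single_iff Nat.prime_two two_ne_zero).2 ⟨1, rfl⟩

theorem even {l : G} (hl : l ∈ L) : ¬ Odd (orderOf (t * l)) := fun o => by
  obtain ⟨k, hk⟩ := o
  have e := pow_orderOf_eq_one (t * l)
  rw [(h.le l hl).symm.mul_pow, hk, pow_succ t, pow_mul, pow_two, h.tt, one_pow, one_mul] at e
  exact h.tL (eq_inv_of_mul_eq_one_left e ▸ L.inv_mem (L.pow_mem hl _))

theorem mem_of_odd {c : G} (hc : Commute c t) (o : Odd (orderOf c)) : c ∈ L :=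
  (h.dec c hc).resolve_right fun m => h.even m (by rwa [← mul_assoc, h.tt, one_mul])

theorem cjL {c : G} (hc : Commute c t) : ∃ k ∈ L, ∀ l ∈ L, c * l * c⁻¹ = k * l * k⁻¹ := by
  rcases h.dec c hc with m | m
  · exact ⟨c, m, fun _ _ => rfl⟩
  · refine ⟨_, m, fun l hl => ?_⟩
    have : Commute (c * l * c⁻¹) t := (hc.mul_left (h.le l hl)).mul_left hc.inv_left
    calc c * l * c⁻¹ = t * (c * l * c⁻¹) * t⁻¹ := by rw [← this.eq]; group
      _ = _ := by group

/-- every element of even order is conjugate to some `t l` with `l ∈ L` of odd order -/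
theorem sec {y : G} (hy : ¬ Odd (orderOf y)) : ∃ c : G, ∃ l ∈ L, Odd (orderOf l) ∧ y = c * (t * l) * c⁻¹ := by
  obtain ⟨k, hk⟩ := exists_pow_two_pow (piNat_constt {2} y)
  have n1 : constt {2} y ≠ 1 := fun e => hy (by
    have := constt_mul_constt_compl {2} y
    rw [e, one_mul] at this
    rw [← this]; exact piNat_two_compl.1 (piNat_constt _ _))
  obtain ⟨c, hc⟩ := isConj_iff.1 (h.cj _ (h.two _ k hk) n1)
  have h1 : Commute (c⁻¹ * constt {2}ᶜ y * c) t := by
    have := (commute_constt_constt {2} {2}ᶜ y).eq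
    rw [← hc] at this
    calc c⁻¹ * constt {2}ᶜ y * c * t = c⁻¹ * (constt {2}ᶜ y * (c * t * c⁻¹)) * c := by group
      _ = _ := by rw [← this]; group
  have h2 : Odd (orderOf (c⁻¹ * constt {2}ᶜ y * c)) := by
    have := orderOf_conj' (constt {2}ᶜ y) c⁻¹
    rw [inv_inv] at this
    rw [this]; exact piNat_two_compl.1 (piNat_constt _ _)
  refine ⟨c, _, h.mem_of_odd h1 h2, h2, ?_⟩
  nth_rewrite 1 [← constt_mul_constt_compl {2} y, ← hc]; group

theorem nPow_L (N : ℕ) : ∀ c, Commute c t →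
    ∃ k : ℤ, nPow N c = (if m : c ∈ L then nPow N (⟨c, m⟩ : L) else 0) + 2 * k := by
  induction N with
  | zero =>
    intro c _
    refine ⟨0, ?_⟩
    by_cases m : c ∈ L
    · simp [nPow, m, Subtype.ext_iff]
    · have : c ≠ 1 := fun e => m (e ▸ L.one_mem)
      simp [nPow, m, this]
  | succ N ih =>
    intro c hc
    obtain ⟨k, hk⟩ := nPow_cent h.pi N hc.eq
    choose! r hr using ih
    refine ⟨k + ∑ l : L, if Odd (orderOf l) then r (l * c) else 0, ?_⟩
    have e : ∑ g ∈ Finset.univ.filter (fun g => g * t = t * g),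
        (if Odd (orderOf g) then nPow N (g * c) else 0) =
        ∑ l : L, if Odd (orderOf l) then nPow N ((l : G) * c) else 0 := by
      rw [Finset.sum_filter, sum_subgroup_eq_sum_ite L (fun g => if Odd (orderOf g) then nPow N (g * c) else 0)
        |>.symm.trans (Finset.sum_congr rfl fun l _ => by rw [orderOf_coe]) |>.symm]
      refine Finset.sum_congr rfl fun g _ => ?_
      by_cases o : Odd (orderOf g)
      · exact if_congr ⟨fun e => h.mem_of_odd e o, fun m => h.le g m⟩ rfl rfl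
      · simp [o]
    rw [hk, e, mul_add, Finset.mul_sum]
    have e2 : (if m : c ∈ L then nPow (N + 1) (⟨c, m⟩ : L) else 0) = ∑ l : L, if Odd (orderOf l) then
        (if m : (l : G) * c ∈ L then nPow N (⟨_, m⟩ : L) else 0) else 0 := by
      by_cases m : c ∈ L
      · rw [dif_pos m, nPow]
        exact Finset.sum_congr rfl fun l _ => by rw [dif_pos (L.mul_mem l.2 m)]; rfl
      · rw [dif_neg m, Finset.sum_eq_zero]
        intro l _
        rw [dif_neg fun e => m ((L.mul_mem_cancel_left l.2).1 e), ite_self]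
    rw [e2, add_comm (2 * k), ← add_assoc, ← Finset.sum_add_distrib]
    congr 1
    refine Finset.sum_congr rfl fun l _ => ?_
    split_ifs with o m
    · have := hr _ ((h.le _ l.2).mul_left hc); rwa [dif_pos m] at this
    · have := hr _ ((h.le _ l.2).mul_left hc); rwa [dif_neg m] at this
    · simp

theorem kB_L {c : G} (hc : Commute c t) : ∃ r ∈ V2, kB c = extendByZero L kB c + 2 * r := by
  obtain ⟨a, m, hm, ha⟩ := Nat.exists_eq_two_pow_mul_odd (Nat.card_pos (α := G)).ne'
  obtain ⟨r, hr, e⟩ := kB_nPow hm ha.dvd c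
  obtain ⟨k, hk⟩ := h.nPow_L (2 ^ (a + 1)) c hc
  by_cases mc : c ∈ L
  · obtain ⟨s, hs, e'⟩ := kB_nPow (G := L) hm (L.card_subgroup_dvd_card.trans ha.dvd) ⟨c, mc⟩
    refine ⟨r + k - s, sub_mem (add_mem hr (mem_V2 (Char.isIntegral_intCast _))) hs, ?_⟩
    rw [extendByZero_of_mem _ _ mc, e, e', hk, dif_pos mc]; push_cast; ring
  · refine ⟨r + k, add_mem hr (mem_V2 (Char.isIntegral_intCast _)), ?_⟩
    rw [extendByZero_of_not_mem _ _ mc, e, hk, dif_neg mc]; push_cast; ring

omit h in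
theorem cv_ext (φ : L → ℂ) (F : G → ℂ) (g : G) :
    cv (extendByZero L φ) F g = ∑ l : L, φ l * F ((l : G)⁻¹ * g) := by
  rw [cv, ← Finset.sum_congr rfl fun (l : L) _ => congrArg (· * F ((l : G)⁻¹ * g)) (extendByZero_coe L φ l),
    sum_subgroup_eq_sum_ite L (fun c => extendByZero L φ c * F (c⁻¹ * g))]
  refine Finset.sum_congr rfl fun c _ => ?_
  split_ifs with m
  · rfl
  · rw [extendByZero_of_not_mem _ _ m, zero_mul]

omit h in
theorem cv_ee : cv (extendByZero L kB) (extendByZero L kB) = extendByZero L kB := by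
  ext g
  rw [cv_ext]
  by_cases m : g ∈ L
  · rw [extendByZero_of_mem _ _ m, ← conv_kB_kB]
    exact Finset.sum_congr rfl fun l _ => by
      rw [extendByZero_of_mem _ _ (L.mul_mem (L.inv_mem l.2) m)]; rfl
  · rw [extendByZero_of_not_mem _ _ m, Finset.sum_eq_zero]
    intro l _
    rw [extendByZero_of_not_mem _ _ fun e => m ((L.mul_mem_cancel_left (L.inv_mem l.2)).1 e), mul_zero]

theorem e_conj {x : G} (hx : Commute x t) (g : G) :
    extendByZero L kB (x * g * x⁻¹) = extendByZero L kB g := by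
  by_cases m : g ∈ L
  · obtain ⟨k, hk, e⟩ := h.cjL hx
    rw [e g m, extendByZero_of_mem _ _ m,
      extendByZero_of_mem _ _ (L.mul_mem (L.mul_mem hk m) (L.inv_mem hk))]
    exact kB_class (G := L) ⟨g, m⟩ ⟨k, hk⟩
  · rw [extendByZero_of_not_mem _ _ m, extendByZero_of_not_mem]
    intro m'
    obtain ⟨k, hk, e⟩ := h.cjL hx.inv_left
    have := e _ m'
    rw [show x⁻¹ * (x * g * x⁻¹) * x⁻¹⁻¹ = g by group] at this
    exact m (this ▸ L.mul_mem (L.mul_mem hk m') (L.inv_mem hk))

theorem sect' {χ : G → ℂ} (hχ : χ ∈ B0 G) {w : G} (hw : w ∈ L) (o : Odd (orderOf w)) :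
    χ (t * w) = cv (extendByZero L kB) χ (t * w) := by
  set e : G → ℂ := extendByZero L kB with he
  have em : ∀ g, e g ∈ V2 := fun g => by
    by_cases m : g ∈ L
    · rw [he, extendByZero_of_mem _ _ m]; exact kB_mem _
    · rw [he, extendByZero_of_not_mem _ _ m]; exact zero_mem _
  have hmem : ∀ g, (kB - cv e kB : G → ℂ) g ∈ V2 := fun g =>
    sub_mem (kB_mem g) (sum_mem fun c _ => mul_mem (em c) (kB_mem _))
  have ct : ∀ {w}, w ∈ L → Commute (t * w) t := fun hw => (Commute.refl t).mul_left (h.le _ hw)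
  have step1 : ∀ w ∈ L, ∀ w' ∈ L, Odd (orderOf w) → Odd (orderOf w') →
      ∑ a, (kB - cv e kB : G → ℂ) ((t * w)⁻¹ * a * (t * w') * a⁻¹) = 0 := by
    intro w hw w' hw' hwo hwo'
    have key := sum_conj_eq_zero (R := V2) V2_two_ne V2_residue_two (t * w) (t * w')
      (fun a => Commute a t) ?_ ?_ (fun g => ⟨(kB - cv e kB : G → ℂ) g, hmem g⟩) ?_ ?_ ?_
    · have := congrArg (fun z : V2 => (z : ℂ)) key
      simpa using this
    · intro a
      refine ⟨fun k => ?_, fun k => ((ct hw).mul_left k).mul_left (ct hw').inv_left⟩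
      have := ((ct hw).inv_left.mul_left k).mul_left (ct hw')
      simpa [mul_assoc] using this
    · intro a ha j hj e
      apply ha
      have e1 : a⁻¹ * (t * w) ^ j * a⁻¹⁻¹ = (t * w') ^ j := by
        rw [inv_inv, mul_assoc, inv_mul_eq_iff_eq_mul]
        exact mul_inv_eq_iff_eq_mul.1 e
      have e2 := congrArg (constt {2}) e1
      rw [constt_conj, constt_pow, constt_pow, constt_two_mul' h.pi (h.le _ hw) hwo,
        constt_two_mul' h.pi (h.le _ hw') hwo', inv_inv, mul_assoc, inv_mul_eq_iff_eq_mul] at e2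
      exact (commute_of_mem_zpowers_left (mem_zpowers_pow_odd h.pi hj) e2).symm
    · intro g
      apply Subtype.ext
      have : cv (kB - cv e kB) (kB - cv e kB) = kB - cv e kB := by
        rw [cv_sub_left, cv_sub_right, cv_sub_right, cv_kk, cv_kB (cv e kB), cv_assoc e kB kB, cv_kk,
          cv_assoc, ← cv_assoc kB, cv_kB e, cv_assoc e kB kB, cv_kk, ← cv_assoc, he, cv_ee]
        abel
      simpa [cv] using congrFun this g
    · intro g
      apply Subtype.ext
      change kB _ - cv e kB _ = kB g - cv e kB g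
      rw [kB_class g]
      congr 1
      refine (Fintype.sum_equiv (MulAut.conj (t * w)).toEquiv _ _ fun c => ?_).symm
      simp only [MulEquiv.toEquiv_eq_coe, EquivLike.coe_coe, MulAut.conj_apply]
      rw [he, h.e_conj (ct hw), ← kB_class (c⁻¹ * g) (t * w)]
      congr 2; group
    · intro a b ha hb
      have hc : Commute (a * b⁻¹) t := ha.mul_left hb.inv_left
      generalize a * b⁻¹ = c at hc
      have := fun c (hc : Commute c t) => h.kB_L hc
      choose! r hr hr' using this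
      have cl : ∀ l : L, Commute ((l : G)⁻¹ * c) t := fun l => (h.le _ l.2).inv_left.mul_left hc
      refine residue_eq_zero_of_two_mul (r := r c - ∑ l : L, kB l * r ((l : G)⁻¹ * c))
        (sub_mem (hr c hc) (sum_mem fun l _ => mul_mem (kB_mem _) (hr _ (cl l)))) ?_
      change kB c - cv e kB c = _
      have e1 := congrFun (cv_ee (L := L)) c
      rw [cv_ext] at e1
      rw [he, cv_ext, hr' c hc, Finset.sum_congr rfl fun l _ => by rw [hr' _ (cl l), mul_add],
        Finset.sum_add_distrib, e1, mul_sub, Finset.mul_sum]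
      rw [Finset.sum_congr rfl (g := fun l : L => 2 * (kB l * r ((l : G)⁻¹ * c))) fun l _ => by ring]
      ring
  have step2 : ∀ u y : G, ∑ a, (kB - cv e kB : G → ℂ) (u * a * y * a⁻¹) = ∑ θ ∈ B0 G, (θ u - cv e θ u) * θ y := by
    intro u y
    simp only [Pi.sub_apply, Finset.sum_sub_distrib, sub_mul, sum_kB_conj, cv]
    congr 1
    rw [Finset.sum_comm]
    simp only [Finset.sum_mul]
    rw [Finset.sum_comm (s := B0 G)]
    refine Finset.sum_congr rfl fun c _ => ?_
    simp only [← Finset.mul_sum, mul_assoc (e c)]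
    rw [← sum_kB_conj]
    simp only [mul_assoc]
  rw [← sub_eq_zero]
  refine eq_zero_of_sum_B0 (fun θ => θ (t * w) - cv e θ (t * w)) (fun y => ?_) hχ
  by_cases hy : Odd (orderOf y)
  · have aux : ∀ l ∈ L, ∑ θ ∈ B0 G, θ (t * l) * θ y = 0 := fun l hl => by
      have := sum_B0_eq_zero (x := (t * l)⁻¹) (y := y) fun k => h.even hl (by
        have e1 : constt {2} y = 1 := by
          simpa using constt_two_mul' (t := 1) (w := y)
            ((piNat_single_iff Nat.prime_two (orderOf_pos _).ne').2 ⟨0, by simp⟩) (by simp) hy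
        rw [e1, isConj_one_left] at k
        have := constt_mul_constt_compl {2} (t * l)⁻¹
        rw [k, one_mul] at this
        rw [← orderOf_inv, ← this]; exact piNat_two_compl.1 (piNat_constt _ _))
      rwa [inv_inv] at this
    simp only [sub_mul, Finset.sum_sub_distrib, he, cv_ext, Finset.sum_mul]
    rw [aux w hw, Finset.sum_comm, Finset.sum_eq_zero, sub_zero]
    intro l _
    simp only [mul_assoc (kB l), ← Finset.mul_sum]
    rw [← mul_assoc, (h.le _ l.2).inv_left.eq, mul_assoc, aux _ (L.mul_mem (L.inv_mem l.2) hw), mul_zero]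
  · obtain ⟨c, l, hl, ol, rfl⟩ := h.sec hy
    have := step1 w⁻¹ (L.inv_mem hw) l hl (by simpa using o) ol
    rw [step2, mul_inv_rev, inv_inv, h.ti, (h.le w hw).eq] at this
    rw [← this]
    exact Finset.sum_congr rfl fun θ hθ => by rw [(B0_irr hθ).isClassFunction]

theorem cl {χ : G → ℂ} (hχ : IsClassFunction G χ) : IsClassFunction L fun l => χ (t * l) := fun l k => by
  beta_reduce
  rw [← hχ (t * l) k, ← mul_assoc, (h.le _ k.2).eq]; simp [mul_assoc]

/-- second and third main theorem -/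
theorem sect {χ : G → ℂ} (hχ : χ ∈ B0 G) (w : L) (o : Odd (orderOf w)) :
    χ (t * w) = ∑ ψ ∈ B0 L, ⟪fun l : L => χ (t * l), ψ⟫ * ψ w := by
  rw [h.sect' hχ w.2 (by rwa [orderOf_coe]), cv_ext, ← cv_proj (h.cl (B0_irr hχ).isClassFunction), cv]
  refine Finset.sum_congr rfl fun l _ => ?_
  rw [← mul_assoc, (h.le _ l.2).inv_left.eq, mul_assoc]; rfl

end Ct

end Cfsg.Agent.WA.JB
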