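import Cfsg.Agent.WA.J0
import Cfsg.Agent.Cls.BSW3

/-! The principal 2-block of `L`. -/

set_option autoImplicit false

namespace Cfsg.Agent.WA

open Cfsg Subgroup Cfsg.Agent.GT Cfsg.Agent.Char Cfsg.Agent.BS Cfsg.Agent.B84C Cfsg.Agent.B84H Cfsg.Agent.Cls
open scoped Classical ComplexConjugate

universe u

theorem three_dec {L : Type u} [Group L] [Fintype L] {v α : L → ℂ} (hv : IsGeneralizedCharacter L v)
    (n : nsq v = 3) (hα : IsSIrr L α) (c1 : ⟪v, α⟫ = 1) : ∃ β γ, IsSIrr L β ∧ IsSIrr L γ ∧ ⟪β, γ⟫ = 0 ∧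
      ⟪β, α⟫ = 0 ∧ ⟪γ, α⟫ = 0 ∧ v = α + (β + γ) := by
  have n1 := nsq_sub_ci_smul (α := v) hα.ci_self
  rw [c1, one_smul, n] at n1
  have c2 : ⟪v - α, α⟫ = 0 := by rw [ci_sub_left, c1, hα.ci_self, sub_self]
  obtain ⟨β, γ, hβ, hγ, o1, e1⟩ := (hv.sub hα.virt).exists_of_nsq_two (by rw [n1]; norm_num)
  have o2 : ⟪β, α⟫ = 0 ∧ ⟪γ, α⟫ = 0 := by
    rw [e1, ci_add_left] at c2
    rcases hβ.ci_cases hα with ⟨e, h1⟩ | ⟨e, h1⟩ | ⟨-, -, h1⟩
    · rw [e] at o1
      rw [h1, ci_eq_zero_symm o1] at c2; norm_num at c2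
    · rw [e, ci_neg_left, neg_eq_zero] at o1
      rw [h1, ci_eq_zero_symm o1] at c2; norm_num at c2
    · exact ⟨h1, by linear_combination c2 - h1⟩
  exact ⟨β, γ, hβ, hγ, o1, o2.1, o2.2, by rw [← e1]; simp⟩

theorem ar_five {a b c : ℤ} (ha : a % 4 = 1) (hb : b % 4 = 1) (hc : c % 4 = 1) (s : a + b + c = -1)
    (e : 15 * (b * c + a * c + a * b) = -7 * (a * b * c)) :
    (a = 5 ∧ b = -3 ∧ c = -3) ∨ (b = 5 ∧ a = -3 ∧ c = -3) ∨ (c = 5 ∧ a = -3 ∧ b = -3) := by
  have k : ∀ a b c : ℤ, a % 4 = 1 → b % 4 = 1 → c % 4 = 1 → a + b + c = -1 →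
      15 * (b * c + a * c + a * b) = -7 * (a * b * c) → b ≤ a → c ≤ b → a = 5 ∧ b = -3 ∧ c = -3 := by
    intro a b c ha hb hc s e h1 h2
    have a0 : 0 < a := by omega
    have c0 : c ≤ -3 := by omega
    have b0 : b ≤ -3 := by
      by_contra n
      have : 0 < b := by omega
      have : 0 < a * b := by positivity
      nlinarith [mul_nonneg (show 0 ≤ -3 - c by omega) this.le, mul_pos (show 0 < a + b by omega) (show 0 < -c by omega)]
    have b1 : b = -3 := by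
      by_contra n
      have : b ≤ -7 := by omega
      have p : 0 < b * c := mul_pos_of_neg_of_neg (by omega) (by omega)
      nlinarith [mul_nonneg (mul_nonneg (show 0 ≤ -7 - b by omega) (show 0 ≤ -c by omega)) a0.le,
        mul_nonneg (mul_nonneg (show 0 ≤ -7 - c by omega) (show 0 ≤ -b by omega)) a0.le,
        mul_pos a0 (show 0 < -c by omega), mul_pos a0 (show 0 < -b by omega)]
    subst b1
    obtain rfl : a = 2 - c := by omega
    have : (c + 3) * (c - 5) = 0 := by linarith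
    rcases mul_eq_zero.1 this with e | e <;> omega
  rcases le_total b a with h1 | h1 <;> rcases le_total c b with h2 | h2 <;> rcases le_total c a with h3 | h3
  · exact Or.inl (k a b c ha hb hc s e h1 h2)
  · exact Or.inl (k a b c ha hb hc s e h1 h2)
  · have := k a c b ha hc hb (by omega) (by linarith) h3 h2; omega
  · have := k c a b hc ha hb (by omega) (by linarith) h3 h1; omega
  · have := k b a c hb ha hc (by omega) (by linarith) h1 h3; omega
  · have := k b c a hb hc ha (by omega) (by linarith) h2 h3; omega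
  · have := k c b a hc hb ha (by omega) (by linarith) h2 h1; omega
  · have := k c b a hc hb ha (by omega) (by linarith) h2 h1; omega

theorem lb_of {L : Type u} [Group L] [Fintype L] {x : L} {Q : ℤ} {α β γ : L → ℂ} (hα : IsSIrr L α)
    (hβ : IsSIrr L β) (hγ : IsSIrr L γ) (o1 : ⟪β, γ⟫ = 0) (o2 : ⟪β, α⟫ = 0) (o3 : ⟪γ, α⟫ = 0)
    (p1 : ⟪α, fun _ => 1⟫ = 0) (p2 : ⟪β, fun _ => 1⟫ = 0) (p3 : ⟪γ, fun _ => 1⟫ = 0)
    (ev : ∀ y, ¬ Odd (orderOf y) → α y = 1 ∧ β y = 1 ∧ γ y = 1)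
    (od : ∀ y, Odd (orderOf y) → (α + (β + γ)) y = -1)
    (d1 : α 1 = Q) (d2 : β 1 = (-((Q + 1) / 2) : ℤ)) (d3 : γ 1 = (-((Q + 1) / 2) : ℤ))
    (val : ∀ a ∈ zpowers x, a ≠ 1 → α a = 1 ∧ β a = -1 ∧ γ a = -1) : LB x Q ![α, β, γ] := by
  refine ⟨fun i => ?_, fun i j n => ?_, fun i => ?_, fun i y e => ?_, fun y e => ?_, fun i => ?_,
    fun i a ha a1 => ?_, fun ψ hψ => ?_⟩
  · fin_cases i <;> assumption
  · fin_cases i <;> fin_cases j <;> simp at n ⊢ <;> first | assumption | exact ci_eq_zero_symm ‹_›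
  · fin_cases i <;> assumption
  · have := ev y e
    fin_cases i <;> simp [this]
  · have := od y e
    simp only [Pi.add_apply] at this
    simp; linear_combination this
  · fin_cases i <;> simp [xs, d1, d2, d3]
  · have := val a ha a1
    fin_cases i <;> simp [ys, this]
  by_contra n
  push Not at n
  have i := B0_irr hψ
  obtain ⟨-, m, om, hm⟩ := mem_B0.1 hψ
  have z0 : ⟪ψ, fun _ => 1⟫ = 0 := i.isSIrr.ci_eq_zero isIrrCharacter_one.isSIrr n.1 (i.ne_neg isIrrCharacter_one)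
  have z1 : ⟪ψ, α⟫ = 0 := i.isSIrr.ci_eq_zero hα (n.2 0).1 (n.2 0).2
  have z2 : ⟪ψ, β⟫ = 0 := i.isSIrr.ci_eq_zero hβ (n.2 1).1 (n.2 1).2
  have z3 : ⟪ψ, γ⟫ = 0 := i.isSIrr.ci_eq_zero hγ (n.2 2).1 (n.2 2).2
  have e : (oddInd : L → ℂ) = (3 / 4 : ℂ) • (fun _ => 1) - (1 / 4 : ℂ) • (α + (β + γ)) := by
    funext y
    by_cases o : Odd (orderOf y)
    · simp only [oddInd, if_pos o, Pi.sub_apply, Pi.smul_apply, od y o, smul_eq_mul]; norm_num
    · have := ev y o
      simp only [oddInd, if_neg o, Pi.sub_apply, Pi.smul_apply, Pi.add_apply, this, smul_eq_mul]; norm_num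
  have z : ⟪ψ, oddInd⟫ = 0 := by
    rw [e, ci_sub_right, ci_smul_right, ci_smul_right, ci_add_right, ci_add_right, z0, z1, z2, z3]; simp
  rw [ci_def, mul_eq_zero] at z
  have z' : omega ψ = 0 := by
    rw [omega, div_eq_zero_iff]
    left
    rw [← z.resolve_left (inv_ne_zero (card_ne_zero_complex L))]
    refine Finset.sum_congr rfl fun y _ => ?_
    unfold oddInd
    split_ifs <;> simp
  rw [z'] at hm
  have : m = 0 := by exact_mod_cast hm.symm
  rw [this] at om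
  exact absurd om (by decide)

theorem lb_bsw {L : Type u} [Group L] [Fintype L] {T : Subgroup L} {u x : L} (h : BSW T u) {Q : ℤ}
    (hT : ∀ y, y ∈ T ↔ y ∈ zpowers x ∨ u * y ∈ zpowers x) (odd : Odd (orderOf x))
    (cT : Nat.card T = 2 * orderOf x) (q8 : Q % 8 = 5) (q3 : Q ≠ -3) (ord : 4 * orderOf x = (Q - 1).natAbs)
    (card : 2 * Nat.card L = Q.natAbs * (Q.natAbs ^ 2 - 1)) : ∃ γ, LB x Q γ := by
  obtain ⟨ε, hε, hε1, hεr, hεu⟩ := h.exists_real
  have oR : ∀ a ∈ zpowers x, Odd (orderOf a) := fun a ha => odd.of_dvd_nat (orderOf_dvd_of_mem_zpowers ha)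
  have RT : ∀ a ∈ zpowers x, a ∈ T := fun a ha => (hT a).2 (Or.inl ha)
  have u2 : orderOf u = 2 := orderOf_eq_prime (by rw [sq, h.sq]) h.ne
  have e1 : ∀ (a : L) (ha : a ∈ zpowers x), ε ⟨a, RT a ha⟩ = 1 := fun a ha => by
    obtain ⟨k, hk⟩ := oR a ha
    have b : (⟨a, RT a ha⟩ : T) = ⟨a ^ (k + 1), RT _ (pow_mem ha _)⟩ * ⟨a ^ (k + 1), RT _ (pow_mem ha _)⟩ :=
      Subtype.ext (by
        show a = a ^ (k + 1) * a ^ (k + 1)
        rw [← pow_add, show k + 1 + (k + 1) = orderOf a + 1 by omega, pow_succ, pow_orderOf_eq_one, one_mul])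
    rw [b, h.irr_mul hε]
    generalize (⟨a ^ (k + 1), RT _ (pow_mem ha _)⟩ : T) = c
    nth_rewrite 2 [← hεr]
    rw [conjFun_apply, ← hε.virt.apply_inv, ← h.irr_mul hε, mul_inv_cancel, h.irr_one hε]
  have sp : ∀ y : T, (y : L) ∉ zpowers x → ε y = ε ⟨u, h.mem⟩ := fun y hy => by
    have m := ((hT y).1 y.2).resolve_left hy
    rw [show y = ⟨u, h.mem⟩ * ⟨u * y, RT _ m⟩ from Subtype.ext (by simp [← mul_assoc, h.sq]), h.irr_mul hε,
      e1 _ m, mul_one]
  have e2 : ε ⟨u, h.mem⟩ = -1 := (h.irr_t hε).resolve_left fun e => hε1 (funext fun y => by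
    by_cases m : (y : L) ∈ zpowers x
    · exact e1 y m
    · rw [sp y m, e])
  have evn : ∀ y, ¬ Odd (orderOf y) → ∃ z : T, (z : L) ∉ zpowers x ∧ IsConj (z : L) y := fun y hy => by
    obtain ⟨k, hk⟩ := Nat.not_odd_iff_even.1 hy
    have k0 : 0 < k := by have := orderOf_pos y; omega
    have i : InX T y := h.inX_of_comm (h.inX_of_sq (u := y ^ k) (by rw [← pow_add, ← hk, pow_orderOf_eq_one])
      (pow_ne_one_of_lt_orderOf k0.ne' (by omega))) (Commute.self_pow y k).eq (by rintro rfl; simp at hy)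
    obtain ⟨z, hz, -, c⟩ := i.exists_isConj
    obtain ⟨d, rfl⟩ := isConj_iff.1 c
    exact ⟨⟨z, hz⟩, fun m => hy (by rw [orderOf_conj']; exact oR z m), c⟩
  have nR : ∀ z : T, (z : L) ∉ zpowers x → z ≠ 1 := by rintro _ hz rfl; exact hz (one_mem _)
  have od : ∀ y, Odd (orderOf y) → bswV T ε y = -1 := fun y hy => by
    by_cases i : InX T y
    swap; · exact h.v_apply_of_not hε i
    obtain ⟨z, hz, -, c⟩ := i.exists_isConj
    have m : z ∈ zpowers x := by
      by_contra m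
      have m' := ((hT z).1 hz).resolve_left m
      obtain ⟨c, rfl⟩ := isConj_iff.1 c
      rw [orderOf_conj'] at hy
      have cm : Commute (u * z) z⁻¹ := h.comm _ (RT _ m') _ (inv_mem hz)
      have := cm.orderOf_mul_dvd_mul_orderOf
      rw [mul_inv_cancel_right, u2, orderOf_inv] at this
      exact absurd (((oR _ m').mul hy).of_dvd_nat this) (by decide)
    rw [← (BSW.v_virt hε).isClassFunction.eq_of_isConj c, bswV, Pi.sub_apply, h.phi_apply hε ⟨z, hz⟩, hεr, e1 z m]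
    norm_num
  have nε := h.nsq_v_three hε hε1 hεr
  have iz := h.invZ_v hε hε1
  have cL := h.card_eq
  have N0 := h.index_ne_zero
  have qa : ((Q.natAbs * (Q.natAbs ^ 2 - 1) : ℕ) : ℤ) = |Q| * (Q ^ 2 - 1) := by
    rw [Nat.cast_mul, Nat.cast_sub (Nat.one_le_pow _ _ (by omega))]; simp
  have hN : 2 * (C1[u].index : ℤ) = Q * (Q + 1) := by
    have a1 : (2 * (2 * (2 * orderOf x) * C1[u].index) : ℤ) = |Q| * (Q ^ 2 - 1) := by
      rw [← qa, ← card, cL, cT]; push_cast; ring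
    have a2 : (4 * orderOf x : ℤ) = |Q - 1| := by exact_mod_cast (congrArg (Nat.cast : ℕ → ℤ) ord).trans (by simp)
    have : Q - 1 ≠ 0 := by omega
    rcases le_total 0 Q with p | p
    · rw [abs_of_nonneg p] at a1; rw [abs_of_nonneg (by omega)] at a2
      exact mul_left_cancel₀ this (by linear_combination a1 - 2 * C1[u].index * a2)
    · rw [abs_of_nonpos p] at a1; rw [abs_of_nonpos (by omega)] at a2
      exact mul_left_cancel₀ this (by linear_combination -a1 + 2 * C1[u].index * a2)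
  have a2 : (4 * orderOf x : ℤ) ^ 2 = (Q - 1) ^ 2 := by
    rw [show (4 * orderOf x : ℤ) = |Q - 1| by exact_mod_cast (congrArg (Nat.cast : ℕ → ℤ) ord).trans (by simp), sq_abs]
  -- the degree equation
  have deq : ∀ {α β γ : L → ℂ} {a b c : ℤ}, IsSIrr L α → IsSIrr L β → IsSIrr L γ → bswV T ε = α + (β + γ) →
      α u = 1 → β u = 1 → γ u = 1 → α 1 = a → β 1 = b → γ 1 = c → a + b + c = -1 ∧
      Q * (Q + 1) * (b * c + a * c + a * b) = (1 - 3 * Q) * (a * b * c) := by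
    intro α β γ a b c hα hβ hγ e v1 v2 v3 d1 d2 d3
    have d := congrFun e 1
    rw [h.v_one hε, Pi.add_apply, Pi.add_apply, d1, d2, d3] at d
    have za := h.invZ_sirr hα
    have zb := h.invZ_sirr hβ
    have zc := h.invZ_sirr hγ
    rw [v1, d1] at za; rw [v2, d2] at zb; rw [v3, d3] at zc
    rw [e, invZ_add, invZ_add, cL, cT] at iz
    have hN' := congrArg (Int.cast : ℤ → ℂ) hN
    have a2' := congrArg (Int.cast : ℤ → ℂ) a2
    push_cast at hN' a2' iz
    refine ⟨by exact_mod_cast (by linear_combination -d : (a + b + c : ℂ) = -1), ?_⟩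
    have : (Q * (Q + 1) * (b * c + a * c + a * b) : ℂ) = (1 - 3 * Q) * (a * b * c) := by
      refine mul_left_cancel₀ N0 ?_
      linear_combination (-(C1[u].index : ℂ) * (b * c + a * c + a * b + a * b * c)) * hN' +
        2 * (a * b * c * iz - b * c * za - a * c * zb - a * b * zc) + C1[u].index * (a * b * c) * a2'
    exact_mod_cast this
  have fin : ∀ {α β γ : L → ℂ}, IsSIrr L α → IsSIrr L β → IsSIrr L γ → ⟪β, γ⟫ = 0 → ⟪β, α⟫ = 0 → ⟪γ, α⟫ = 0 →
      bswV T ε = α + (β + γ) → ⟪bswV T ε, α⟫ = 1 ∧ ⟪bswV T ε, β⟫ = 1 ∧ ⟪bswV T ε, γ⟫ = 1 := by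
    intro α β γ hα hβ hγ o1 o2 o3 e
    simp [e, ci_add_left, hα.ci_self, hβ.ci_self, hγ.ci_self, o1, o2, o3, ci_eq_zero_symm o1, ci_eq_zero_symm o2,
      ci_eq_zero_symm o3]
  have pe : ∀ {γ : L → ℂ}, IsSIrr L γ → ⟪bswV T ε, γ⟫ = 1 → ⟪γ, fun _ => 1⟫ = 0 := fun hγ c =>
    sirr_perp_one hγ (h.ci_one_v hε hε1) (by rw [c]; exact one_ne_zero)
  have uR : u ∉ zpowers x := fun m => absurd (u2 ▸ oR u m) (by decide)
  by_cases hr : ∀ l, IsIrrCharacter T l → conjFun l = l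
  · have cover : (Irr T).erase (fun _ => 1) = {ε} := by
      ext ν
      simp only [Finset.mem_erase, mem_Irr, Finset.mem_singleton]
      exact ⟨fun ⟨h1, h2⟩ => (hεu ν h2 (hr ν h2)).resolve_left h1, fun e => e ▸ ⟨hε1, hε⟩⟩
    have hH : Nat.card T = 2 := by
      have := sum_irr_degree_sq T
      rw [← Finset.add_sum_erase _ _ (mem_Irr.2 isIrrCharacter_one), cover, Finset.sum_singleton,
        h.irr_one hε] at this
      norm_num at this
      rw [Nat.card_eq_fintype_card]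
      exact_mod_cast this.symm
    have x1 : orderOf x = 1 := by omega
    obtain rfl : Q = 5 := by omega
    obtain ⟨α, hα, c1, -, -⟩ := (BSW.v_virt hε).exists_sirr_one
      (fun e => by rw [e, nsq_eq_zero.2 rfl] at nε; norm_num at nε) (by rw [nε]; norm_num)
    obtain ⟨β, γ, hβ, hγ, o1, o2, o3, e⟩ := three_dec (BSW.v_virt hε) nε hα c1
    have key : ∀ γ, IsSIrr L γ → ⟪bswV T ε, γ⟫ = 1 → (∀ y, ¬ Odd (orderOf y) → γ y = 1) ∧
        ∃ a : ℤ, γ 1 = a ∧ a % 4 = 1 := fun γ hγ c => by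
      have h1 : ∀ y ∈ T, y ≠ 1 → γ y = 1 := fun y hy hy1 => by
        have hy' : (⟨y, hy⟩ : T) ≠ 1 := fun e => hy1 (Subtype.ext_iff.1 e)
        have s1 := h.apply_eq hγ.isClassFunction (pe hγ c) hy'
        have s2 := h.sum_erase hy'
        rw [cover, Finset.sum_singleton] at s1 s2
        rw [← ci_conj_symm, c, s2] at s1
        simpa using s1
      obtain ⟨k, hk⟩ := h.degree_eq_of_one hγ.virt h1
      refine ⟨fun y hy => ?_, 1 + 4 * k, by rw [hk, hH]; push_cast; ring, by omega⟩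
      obtain ⟨z, hz, c⟩ := evn y hy
      rw [← hγ.isClassFunction.eq_of_isConj c, h1 z z.2 fun e => nR z hz (Subtype.ext e)]
    obtain ⟨f1, f2, f3⟩ := fin hα hβ hγ o1 o2 o3 e
    obtain ⟨v1, a, d1, m1⟩ := key α hα f1
    obtain ⟨v2, b, d2, m2⟩ := key β hβ f2
    obtain ⟨v3, c, d3, m3⟩ := key γ hγ f3
    have eu : ¬ Odd (orderOf u) := by rw [u2]; decide
    obtain ⟨s, q⟩ := deq hα hβ hγ e (v1 u eu) (v2 u eu) (v3 u eu) d1 d2 d3
    have vx : ∀ {P : L → Prop}, ∀ a ∈ zpowers x, a ≠ 1 → P a := fun a ha a1 =>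
      (a1 (by rw [orderOf_eq_one_iff.1 x1] at ha; simpa using ha)).elim
    rcases ar_five m1 m2 m3 s (by linarith) with ⟨rfl, rfl, rfl⟩ | ⟨rfl, rfl, rfl⟩ | ⟨rfl, rfl, rfl⟩
    · exact ⟨_, lb_of hα hβ hγ o1 o2 o3 (pe hα f1) (pe hβ f2) (pe hγ f3) (fun y o => ⟨v1 y o, v2 y o, v3 y o⟩)
        (fun y o => e ▸ od y o) d1 d2 d3 vx⟩
    · exact ⟨_, lb_of hβ hα hγ (ci_eq_zero_symm o3) (ci_eq_zero_symm o2) (ci_eq_zero_symm o1) (pe hβ f2) (pe hα f1)
        (pe hγ f3) (fun y o => ⟨v2 y o, v1 y o, v3 y o⟩) (fun y o => by rw [add_left_comm, ← e]; exact od y o)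
        d2 d1 d3 vx⟩
    · exact ⟨_, lb_of hγ hα hβ (ci_eq_zero_symm o2) (ci_eq_zero_symm o3) o1 (pe hγ f3) (pe hα f1)
        (pe hβ f2) (fun y o => ⟨v3 y o, v1 y o, v2 y o⟩)
        (fun y o => by rw [add_comm, add_assoc, ← e]; exact od y o) d3 d1 d2 vx⟩
  push Not at hr
  obtain ⟨l, hl, hr⟩ := hr
  obtain ⟨α, β₀, hα, hβ₀, -, ev, hc⟩ := h.exists_common hl hr
  obtain ⟨β, γ, hβ, hγ, o1, o2, o3, e⟩ := three_dec (BSW.v_virt hε) nε hα (hc ε hε hε1)
  obtain ⟨f1, f2, f3⟩ := fin hα hβ hγ o1 o2 o3 e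
  have va : ∀ y : T, y ≠ 1 → α y = 1 := fun y hy => by
    rw [h.apply_eq hα.isClassFunction (pe hα f1) hy, Finset.sum_congr rfl fun μ hμ => by
      rw [← ci_conj_symm, hc μ (mem_Irr.1 (Finset.mem_erase.1 hμ).2) (Finset.mem_erase.1 hμ).1, map_one, one_mul],
      h.sum_erase hy, neg_neg]
  have vb : ∀ μ, IsIrrCharacter T μ → (μ ≠ fun _ => 1) → μ ≠ ε → ⟪β, bswV T μ⟫ = 0 ∧ ⟪γ, bswV T μ⟫ = 0 := by
    intro μ hμ m1 m2
    have nr : conjFun μ ≠ μ := fun r => (hεu μ hμ r).elim m1 m2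
    have c := h.ci_v_v_of_ne hε hε1 hμ m1 m2.symm (by rw [hεr]; exact m2.symm)
    have n1 := nsq_sub_ci_smul (α := bswV T μ) hα.ci_self
    rw [hc μ hμ m1, one_smul, h.nsq_v_two hμ nr] at n1
    have hδ := ((BSW.v_virt hμ).sub hα.virt).isSIrr_of_nsq (by rw [n1]; norm_num)
    have k : ∀ {β : L → ℂ}, ⟪β, α⟫ = 0 → ⟪β, bswV T μ⟫ = ⟪β, bswV T μ - α⟫ := fun o => by
      rw [ci_sub_right, o, sub_zero]
    rw [e, ci_add_left, ci_add_left, ← ci_conj_symm, hc μ hμ m1, map_one, k o2, k o3] at c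
    rw [k o2, k o3]
    rcases hβ.ci_cases hδ with ⟨e, h1⟩ | ⟨e, h1⟩ | ⟨-, -, h1⟩
    · rw [h1, ← e, ci_eq_zero_symm o1] at c; norm_num at c
    · rw [h1, ← neg_eq_iff_eq_neg.2 e, ci_neg_right, ci_eq_zero_symm o1] at c; norm_num at c
    · exact ⟨h1, by linear_combination c - h1⟩
  have vc : ∀ {β : L → ℂ}, IsSIrr L β → ⟪bswV T ε, β⟫ = 1 →
      (∀ μ, IsIrrCharacter T μ → (μ ≠ fun _ => 1) → μ ≠ ε → ⟪β, bswV T μ⟫ = 0) → ∀ y : T, y ≠ 1 → β y = -ε y := by
    intro β hβ c z y hy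
    rw [h.apply_eq hβ.isClassFunction (pe hβ c) hy, Finset.sum_eq_single_of_mem ε
      (Finset.mem_erase.2 ⟨hε1, mem_Irr.2 hε⟩) fun μ hμ n => by
        rw [z μ (mem_Irr.1 (Finset.mem_erase.1 hμ).2) (Finset.mem_erase.1 hμ).1 n, zero_mul],
      ← ci_conj_symm, c, map_one, one_mul]
  have vβ := vc hβ f2 fun μ a b c => (vb μ a b c).1
  have vγ := vc hγ f3 fun μ a b c => (vb μ a b c).2
  have ev : ∀ y, ¬ Odd (orderOf y) → α y = 1 ∧ β y = 1 ∧ γ y = 1 := fun y hy => by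
    obtain ⟨z, hz, c⟩ := evn y hy
    rw [← hα.isClassFunction.eq_of_isConj c, ← hβ.isClassFunction.eq_of_isConj c,
      ← hγ.isClassFunction.eq_of_isConj c, va z (nR z hz), vβ z (nR z hz), vγ z (nR z hz), sp z hz, e2]
    simp
  obtain ⟨χ, β₁, k, hχ, -, -, p1, -, v1, -, -, hk, d0, ix⟩ := h.exists_steinberg hl hr
  have aχ : α = χ := by
    have l1 : l ≠ fun _ => 1 := fun e => hr (by rw [e]; funext y; simp [conjFun_apply])
    have c := h.ci_phi_of_one hε hε1 hχ.isClassFunction fun y hy y1 => v1 y ⟨y1, 1, by simpa using hy⟩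
    have c2 := h.ci_phi_of_one hl l1 hχ.isClassFunction fun y hy y1 => v1 y ⟨y1, 1, by simpa using hy⟩
    have c' : ⟪χ, bswV T ε⟫ = 1 := by rw [bswV, ci_sub_right, c, p1, sub_zero]
    have c2' : ⟪χ, bswV T l⟫ = 1 := by rw [bswV, ci_sub_right, c2, p1, sub_zero]
    have z := vb l hl l1 fun e => hr (by rw [e, hεr])
    have k : ∀ {β : L → ℂ}, IsSIrr L β → ⟪β, bswV T l⟫ = 0 → ⟪χ, β⟫ = 0 := fun hβ z => by
      by_contra n
      rcases hχ.eq_or_eq_neg_of_ci_ne_zero hβ n with e | e <;> rw [e] at c2'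
      · rw [z] at c2'; norm_num at c2'
      · rw [ci_neg_left, z] at c2'; norm_num at c2'
    rw [e, ci_add_right, ci_add_right, k hβ z.1, k hγ z.2, add_zero, add_zero] at c'
    exact (hχ.eq_of_ci_eq_one hα c').symm
  have dα : α 1 = Q := by
    rw [cT] at d0 ix
    have : (1 + 2 * (2 * orderOf x : ℕ) * k : ℤ) = Q := by
      push_cast at ix ⊢
      rcases sq_eq_sq_iff_eq_or_eq_neg.1 a2 with p | p <;> rcases hk with rfl | rfl
      · linarith
      · exfalso; have : Q = 1 := by nlinarith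
        omega
      · exfalso; have : Q = 1 := by nlinarith
        omega
      · linarith
    rw [aχ, d0, ← this]; push_cast; ring
  obtain ⟨b, d2⟩ := hβ.virt.exists_int_one
  obtain ⟨c, d3⟩ := hγ.virt.exists_int_one
  have eu : ¬ Odd (orderOf u) := by rw [u2]; decide
  obtain ⟨s, q⟩ := deq hα hβ hγ e (ev u eu).1 (ev u eu).2.1 (ev u eu).2.2 dα d2 d3
  have bc : b = c := by
    obtain rfl : c = -1 - Q - b := by omega
    have : Q ^ 2 * (b - (-1 - Q - b)) ^ 2 = 0 := by linear_combination -q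
    have := (mul_eq_zero.1 this).resolve_left (pow_ne_zero _ (by omega))
    exact sub_eq_zero.1 (pow_eq_zero_iff two_ne_zero |>.1 this)
  refine ⟨_, lb_of hα hβ hγ o1 o2 o3 (pe hα f1) (pe hβ f2) (pe hγ f3) ev (fun y o => e ▸ od y o) dα
    (d2.trans (congrArg _ (by omega))) (d3.trans (congrArg _ (by omega))) fun a ha a1 => ?_⟩
  have n : (⟨a, RT a ha⟩ : T) ≠ 1 := fun e => a1 (congrArg Subtype.val e)
  exact ⟨va _ n, (vβ _ n).trans (by rw [e1 a ha]), (vγ _ n).trans (by rw [e1 a ha])⟩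

variable {G : Type u} [Group G] {t u g w x : G} {L : Subgroup G} {Q : ℤ}

namespace JD

variable (h : JD t u g w x L Q)
include h

theorem oR {a : G} (ha : a ∈ zpowers x) : Odd (orderOf a) := h.odd.of_dvd_nat (orderOf_dvd_of_mem_zpowers ha)

theorem sq1 {a : G} (ha : a ∈ zpowers x) (e : a * a = 1) : a = 1 := by
  have := orderOf_dvd_of_pow_eq_one (show a ^ 2 = 1 by rw [sq, e])
  rcases (Nat.dvd_prime Nat.prime_two).1 this with o | o
  · exact orderOf_eq_one_iff.1 o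
  · exact absurd (o ▸ h.oR ha) (by decide)

theorem RW {a e : G} (ha : a ∈ zpowers x) (he : e ∈ h.ψ.range) : Commute a e :=
  h.toQ3.cU (zc h.xt ha) (zc h.xu ha) he

theorem wR {a : G} (ha : a ∈ zpowers x) : w * a * w⁻¹ = a⁻¹ := zi h.wx ha

theorem wW' {e : G} (he : e ∈ h.ψ.range) : Commute w e := h.toQ3.cU h.wt h.wu he

theorem wi : w⁻¹ = w := inv_eq_of_mul_eq_one_right h.ww

/-- the elements of the coset `E w` are involutions -/
theorem outer {e y : G} (he : e ∈ h.ψ.range) (hy : y ∈ zpowers x) : e * y * w * (e * y * w) = 1 := by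
  have a := h.wR hy
  rw [h.wi] at a
  rw [show e * y * w * (e * y * w) = e * y * (w * e) * y * w by group, (h.wW' he).eq,
    show e * y * (e * w) * y * w = e * (y * e) * (w * y * w) by group, a, (h.RW hy he).eq,
    show e * (e * y) * y⁻¹ = e * e by group, h.toQ3.sqU he]

theorem RL {a : G} (ha : a ∈ zpowers x) : a ∈ L := zpowers_le.2 h.xL ha

theorem lb [Fintype G] : ∃ γ, LB (⟨x, h.xL⟩ : L) Q γ := by
  let u' : L := ⟨u, h.uL⟩
  let x' : L := ⟨x, h.xL⟩
  have mx : ∀ y : L, y ∈ zpowers x' ↔ (y : G) ∈ zpowers x := fun y =>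
    ⟨fun ⟨k, e⟩ => ⟨k, congrArg Subtype.val e⟩, fun ⟨k, e⟩ => ⟨k, Subtype.ext e⟩⟩
  have uu : u' * u' = 1 := Subtype.ext h.uu
  have cx : ∀ y ∈ zpowers x', Commute y u' := fun y hy => Subtype.ext (zc h.xu ((mx y).1 hy))
  let T : Subgroup L :=
    { carrier := {y | y ∈ zpowers x' ∨ u' * y ∈ zpowers x'}
      one_mem' := Or.inl (one_mem _)
      mul_mem' := by
        rintro a b (ha | ha) (hb | hb)
        · exact Or.inl (mul_mem ha hb)
        · exact Or.inr (by rw [← mul_assoc, ← (cx a ha).eq, mul_assoc]; exact mul_mem ha hb)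
        · exact Or.inr (by rw [← mul_assoc]; exact mul_mem ha hb)
        · refine Or.inl ?_
          have := mul_mem ha hb
          rwa [← mul_assoc, (cx _ ha).eq, ← mul_assoc, uu, one_mul] at this
      inv_mem' := by
        rintro a (ha | ha)
        · exact Or.inl (inv_mem ha)
        · refine Or.inr ?_
          have c : Commute a u' := by simpa [← mul_assoc, uu] using (Commute.refl u').mul_left (cx _ ha)
          have := inv_mem ha
          rwa [mul_inv_rev, inv_eq_of_mul_eq_one_right uu, c.inv_left.eq] at this }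
  have hT : ∀ y, y ∈ T ↔ y ∈ zpowers x' ∨ u' * y ∈ zpowers x' := fun _ => Iff.rfl
  have ox : orderOf x' = orderOf x := (orderOf_mk x h.xL)
  have uR : u ∉ zpowers x := fun m => h.u1 (h.sq1 m h.uu)
  have TE : ∀ y ∈ T, ∃ e ∈ h.ψ.range, ∃ a ∈ zpowers x, (y : G) = e * a := by
    rintro y (m | m)
    · exact ⟨1, one_mem _, y, (mx y).1 m, (one_mul _).symm⟩
    · exact ⟨u, h.mem_U.2 (by simp), _, (mx _).1 m, by simp [u', ← mul_assoc, h.uu]⟩
  have ET : ∀ y : L, ∀ e ∈ h.ψ.range, ∀ a ∈ zpowers x, (y : G) = e * a → y ∈ T := fun y e he a ha k => by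
    have eL : e ∈ L := by rw [eq_mul_inv_of_mul_eq k.symm]; exact mul_mem y.2 (inv_mem (h.RL ha))
    rcases h.mem_U.1 he with rfl | rfl | rfl | rfl
    · exact Or.inl ((mx y).2 (by rwa [k, one_mul]))
    · exact (h.tL eL).elim
    · exact Or.inr ((mx _).2 (by simpa [u', k, ← mul_assoc, h.uu] using ha))
    · exact (h.tL ((mul_mem_cancel_right h.uL).1 eL)).elim
  have cT : ∀ y ∈ T, Commute y u' := by
    rintro y (m | m)
    · exact cx y m
    · simpa [← mul_assoc, uu] using (Commute.refl u').mul_left (cx _ m)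
  obtain ⟨e₀, he₀, w0⟩ : ∃ e ∈ h.ψ.range, e * w ∈ L :=
    (h.dec w h.wt).elim (fun m => ⟨1, one_mem _, by rwa [one_mul]⟩) fun m => ⟨t, h.mem_U.2 (by simp), m⟩
  have nE : ∀ e ∈ h.ψ.range, ∀ y ∈ zpowers x, ∀ e' ∈ h.ψ.range, ∀ y' ∈ zpowers x, e * y * w ≠ e' * y' := by
    intro e he y hy e' he' y' hy' k
    have k1 : w = (e⁻¹ * e') * (y⁻¹ * y') := by
      rw [mul_assoc, ← mul_assoc e', ← (h.RW (inv_mem hy) he').eq, mul_assoc, ← k, ← mul_assoc,
        ← (h.RW (inv_mem hy) (inv_mem he)).eq]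
      group
    have m := mul_mem (inv_mem hy) hy'
    have m' := mul_mem (inv_mem he) he'
    have := h.ww
    rw [k1, (h.RW m m').mul_mul_mul_comm, h.toQ3.sqU m', one_mul] at this
    rw [h.sq1 m this, mul_one] at k1
    exact h.wW (k1 ▸ m')
  have two : ∀ {X : Type u} [Group X] [Finite X] (A B : Subgroup X) (a : X), A ≤ B → a ∈ B → a ∉ A →
      (∀ b ∈ B, b ∈ A ∨ b * a ∈ A) → Nat.card B = 2 * Nat.card A := by
    intro X _ _ A B a le ha na k
    rw [← (A.subgroupOf B).index_mul_card, index_eq_two_iff.2 ⟨⟨a, ha⟩, fun b => ?_⟩,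
      Nat.card_congr (subgroupOfEquivOfLe le).toEquiv]
    by_cases m : (b : X) ∈ A
    · exact Or.inr ⟨m, fun e => na ((mul_mem_cancel_left m).1 e)⟩
    · exact Or.inl ⟨(k b b.2).resolve_left m, m⟩
  refine lb_bsw (T := T) (u := u') (x := x') ⟨fun a ha b hb => ?_, Or.inr (uu ▸ one_mem _), uu,
    fun e => h.u1 (congrArg Subtype.val e), fun y hy e => ?_, ?_, fun s hs n => ?_, fun y hy y1 c m => ?_,
    fun s e n => ?_⟩ hT (ox ▸ h.odd) ?_ h.q8 h.q3 (ox ▸ h.ord) h.card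
  · obtain ⟨e, he, y, hy, k⟩ := TE a ha
    obtain ⟨e', he', y', hy', k'⟩ := TE b hb
    refine Subtype.ext ?_
    rw [coe_mul, coe_mul, k, k']
    exact (((h.toQ3.cU (h.toQ3.cU (Commute.refl t) h.tu he).symm (h.toQ3.cU h.tu.symm (Commute.refl u) he).symm
      he').mul_right (h.RW hy' he).symm).mul_left ((h.RW hy he').mul_right (zc (zc rfl hy').symm hy))).eq
  · rcases hy with m | m
    · exact Or.inl (Subtype.ext (h.sq1 ((mx y).1 m) (congrArg Subtype.val e)))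
    · have : u' * y = 1 := Subtype.ext (h.sq1 ((mx _).1 m) (congrArg Subtype.val (show u' * y * (u' * y) = 1 by
        rw [(cT y (Or.inr m)).mul_mul_mul_comm, uu, e, one_mul])))
      exact Or.inr (by rw [← one_mul y, ← uu, mul_assoc, this, mul_one])
  · refine two T _ ⟨_, w0⟩ (fun y hy => mem_cent1.2 (cT y hy)) (mem_cent1.2 (Subtype.ext
      ((h.toQ3.cU h.tu.symm (Commute.refl u) he₀).symm.mul_left h.wu))) (fun m => ?_) fun b hb => ?_
    · obtain ⟨e, he, y, hy, k⟩ := TE _ m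
      exact nE e₀ he₀ 1 (one_mem _) e he y hy (by rw [mul_one]; exact k)
    · obtain ⟨e, he, y, hy, k | k⟩ := h.cU b (h.le b b.2) (congrArg Subtype.val (mem_cent1.1 hb))
      · exact Or.inl (ET b e he y hy k)
      · refine Or.inr (ET _ _ (mul_mem he he₀) y hy ?_)
        rw [coe_mul, k, mul_assoc, ← mul_assoc w, (h.wW' he₀).eq, mul_assoc e₀, h.ww, mul_one, mul_assoc,
          (h.RW hy he₀).eq, mul_assoc]
  · obtain ⟨e, he, y, hy, k | k⟩ := h.cU s (h.le s s.2) (congrArg Subtype.val (mem_cent1.1 hs))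
    · exact (n (ET s e he y hy k)).elim
    · exact Subtype.ext (by rw [coe_mul, k]; exact h.outer he hy)
  · have pw : ∀ z : L, u' * z ∈ zpowers x' → z ^ orderOf x = u' := fun z hz => by
      obtain ⟨k, hk⟩ := h.odd
      have : (u' * z) ^ orderOf x = 1 := orderOf_dvd_iff_pow_eq_one.1 (ox ▸ orderOf_dvd_of_mem_zpowers hz)
      rw [(cT z (Or.inr hz)).symm.mul_pow, hk, pow_succ, pow_mul, sq, uu, one_pow, one_mul] at this
      rw [hk, ← one_mul (z ^ _), ← uu, mul_assoc, this, mul_one]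
    have p1 : ∀ z ∈ zpowers x', z ^ orderOf x = 1 := fun z hz =>
      orderOf_dvd_iff_pow_eq_one.1 (ox ▸ orderOf_dvd_of_mem_zpowers hz)
    have cp : (c⁻¹ * y * c) ^ orderOf x = c⁻¹ * y ^ orderOf x * c := by simpa using conj_pow (a := c⁻¹)
    have u1 : u' ≠ 1 := fun e => h.u1 (congrArg Subtype.val e)
    refine mem_cent1.2 ?_
    rcases hy with hy | hy <;> rcases m with m | m
    · have := h.nrm y ((mx y).1 hy) (fun e => y1 (Subtype.ext e)) (c⁻¹ : L) (h.le _ c⁻¹.2) (by simpa using (mx _).1 m)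
      exact Subtype.ext (by simpa using this.inv_left.eq)
    · rw [pw _ m, p1 y hy] at cp; simp [u1] at cp
    · rw [p1 _ m, pw y hy, eq_comm, mul_assoc, inv_mul_eq_one] at cp
      simp [u1] at cp
    · rw [pw _ m, pw y hy] at cp
      rw [← mul_right_inj c⁻¹, inv_mul_cancel_left, ← mul_assoc, ← cp]
  · obtain ⟨c, hc, k⟩ := h.cjL s s.2 (congrArg Subtype.val e) fun e => n (Subtype.ext e)
    exact isConj_iff.2 ⟨⟨c, hc⟩, Subtype.ext k⟩
  · rw [← Nat.card_zpowers]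
    refine two _ T u' (fun y hy => Or.inl hy) (Or.inr (uu ▸ one_mem _)) (fun m => uR ((mx _).1 m)) fun b hb => ?_
    rw [(cT b hb).eq]; exact hb

end JD

end Cfsg.Agent.WA
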