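import Cfsg.Agent.WA.JB1
import Cfsg.Agent.WA.JL

/-! Groups of Janko-Ree type: the isometry `φ ↦ ((1 - sgn) φ)^G`. -/

set_option autoImplicit false
set_option linter.unusedSectionVars false
set_option linter.unusedVariables false

namespace Cfsg.Agent.WA.JB

open Cfsg Subgroup Cfsg.Agent.GT Cfsg.Agent.Char Cfsg.Agent.BS Cfsg.Agent.B84C Cfsg.Agent.B84H
open scoped ComplexConjugate Classical

universe u

variable {G : Type u} [Group G] [Fintype G]

namespace Ct

variable {t : G} {L : Subgroup G} [Fintype L] (h : Ct t L) {φ ψ : L → ℂ} {χ : G → ℂ}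

/-- `⟨t⟩ × L → G` -/
noncomputable def fT : ℤˣ × L →* G where
  toFun p := (if p.1 = 1 then 1 else t) * p.2
  map_one' := by simp
  map_mul' := by
    rintro ⟨a, k⟩ ⟨b, l⟩
    have c := (h.le _ k.2).eq
    rcases Int.units_eq_one_or a with rfl | rfl <;> rcases Int.units_eq_one_or b with rfl | rfl
    · simp
    · simp [← mul_assoc, c]
    · simp [mul_assoc]
    · simp only [Prod.mk_mul_mk, neg_mul_neg, mul_one, if_true, one_mul, coe_mul]
      rw [if_neg (by decide), mul_assoc, ← mul_assoc (k : G), c, ← mul_assoc, ← mul_assoc, h.tt, one_mul]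

theorem fT_one (l : L) : h.fT (1, l) = l := by simp [fT]

theorem fT_neg (l : L) : h.fT (-1, l) = t * l := by
  change (if (-1 : ℤˣ) = 1 then 1 else t) * (l : G) = _
  rw [if_neg (by decide)]

theorem fT_inj : Function.Injective h.fT := by
  rw [injective_iff_map_eq_one]
  rintro ⟨a, l⟩ e
  rcases Int.units_eq_one_or a with rfl | rfl
  · rw [fT_one] at e; exact Prod.ext rfl (Subtype.ext e)
  · rw [fT_neg] at e; exact (h.tL (eq_inv_of_mul_eq_one_left e ▸ L.inv_mem l.2)).elim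

theorem fT_range {c : G} : c ∈ h.fT.range ↔ Commute c t := by
  constructor
  · rintro ⟨⟨a, l⟩, rfl⟩
    rcases Int.units_eq_one_or a with rfl | rfl
    · rw [fT_one]; exact h.le _ l.2
    · rw [fT_neg]; exact (Commute.refl t).mul_left (h.le _ l.2)
  · intro k
    rcases h.dec c k with m | m
    · exact ⟨(1, ⟨c, m⟩), h.fT_one _⟩
    · exact ⟨(-1, ⟨_, m⟩), by rw [fT_neg, ← mul_assoc, h.tt, one_mul]⟩

omit h in
theorem sum_pr (F : ℤˣ × L → ℂ) : ∑ p, F p = ∑ l, F (1, l) + ∑ l, F (-1, l) := by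
  rw [Fintype.sum_prod_type, UnitsInt.univ, Finset.sum_pair (by decide)]

include h in
theorem card_C : Nat.card C1[t] = 2 * Nat.card L := by
  have : h.fT.range = C1[t] := by ext c; rw [fT_range, mem_cent1]; rfl
  rw [← this, ← Nat.card_congr (MonoidHom.ofInjective h.fT_inj).toEquiv, Nat.card_prod, Nat.card_eq_fintype_card,
    Fintype.card_units_int]

/-- `(1 - sgn) φ` -/
noncomputable def sg (φ : L → ℂ) (p : ℤˣ × L) : ℂ := (1 - ((p.1 : ℤ) : ℂ)) * φ p.2

omit h in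
theorem sg_one (l : L) : sg φ (1, l) = 0 := by simp [sg]

omit h in
theorem sg_neg (l : L) : sg φ (-1, l) = 2 * φ l := by simp [sg]; norm_num

/-- `((1 - sgn) φ)^G` -/
noncomputable def Th (φ : L → ℂ) : G → ℂ := ind h.fT (sg φ)

theorem Th_add : h.Th (φ + ψ) = h.Th φ + h.Th ψ := by
  rw [Th, Th, Th, ← ind_add]; congr 1; ext p; simp [sg, mul_add]

theorem Th_sub : h.Th (φ - ψ) = h.Th φ - h.Th ψ := by
  rw [Th, Th, Th, ← ind_sub]; congr 1; ext p; simp [sg, mul_sub]

theorem Th_smul (c : ℂ) : h.Th (c • φ) = c • h.Th φ := by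
  rw [Th, Th, ← ind_smul]; congr 1; ext p; simp [sg, mul_left_comm]

theorem Th_class : IsClassFunction G (h.Th φ) := isClassFunction_ind _ _

theorem Th_virt (hφ : IsGeneralizedCharacter L φ) : IsGeneralizedCharacter G (h.Th φ) := by
  refine IsGeneralizedCharacter.ind ?_ _
  have := (virt_one.sub (isIrrCharacter_hom (((Int.castRingHom ℂ).toMonoidHom.comp (Units.coeHom ℤ)).comp
    (MonoidHom.fst ℤˣ L))).virt).mul (hφ.comp (MonoidHom.snd ℤˣ L))
  exact this

theorem Th_ci (hχ : IsClassFunction G χ) : ⟪h.Th φ, χ⟫ = ⟪φ, fun l => χ (t * l)⟫ := by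
  have := card_ne_zero_complex L
  rw [Th, ci_ind_left _ _ hχ, ci_def, ci_def, sum_pr, Nat.card_prod, Nat.card_eq_fintype_card (α := ℤˣ),
    Fintype.card_units_int]
  simp only [sg_one, sg_neg, fT_neg, zero_mul, Finset.sum_const_zero, zero_add, mul_assoc, ← Finset.mul_sum]
  push_cast; field_simp

theorem ci_Th (hχ : IsClassFunction G χ) : ⟪χ, h.Th φ⟫ = ⟪fun l : L => χ (t * l), φ⟫ := by
  rw [← ci_conj_symm, h.Th_ci hχ, ci_conj_symm]

theorem Th_odd {y : G} (o : Odd (orderOf y)) : h.Th φ y = 0 := by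
  refine ind_eq_zero_of_forall fun x ⟨a, l⟩ e => ?_
  rcases Int.units_eq_one_or a with rfl | rfl
  · exact sg_one l
  · rw [fT_neg] at e
    refine (h.even l.2 ?_).elim
    rw [e, show x⁻¹ * y * x = x⁻¹ * y * x⁻¹⁻¹ by simp, orderOf_conj']; exact o

theorem Th_val (hφ : IsClassFunction L φ) (ev : ∀ y, ¬ Odd (orderOf y) → φ y = 0) (l : L)
    (o : Odd (orderOf l)) : h.Th φ (t * l) = 2 * φ l := by
  rw [← sg_neg, ← h.fT_neg]
  refine ind_TI _ (fun p k => ?_) (fun a b e => by rw [h.fT_inj e]) _ fun x ⟨a, k⟩ e n => ?_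
  · simp only [sg, Prod.fst_mul, Prod.snd_mul, Prod.fst_inv, Prod.snd_inv, mul_inv_cancel_comm, hφ p.2 k.2]
  · rcases Int.units_eq_one_or a with rfl | rfl
    · exact (n (sg_one k)).elim
    · have ok : Odd (orderOf k) := by_contra fun o => n (by rw [sg_neg, ev k o, mul_zero])
      have e2 := congrArg (constt {2}) e
      rw [fT_neg, fT_neg, show x⁻¹ * (t * l) * x = x⁻¹ * (t * l) * x⁻¹⁻¹ by simp, constt_conj,
        constt_two_mul' h.pi (h.le _ k.2) (by rwa [orderOf_coe]),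
        constt_two_mul' h.pi (h.le _ l.2) (by rwa [orderOf_coe]), inv_inv, mul_assoc, eq_inv_mul_iff_mul_eq] at e2
      exact h.fT_range.2 e2

theorem Th_Th (hψ : IsClassFunction L ψ) (ev : ∀ y, ¬ Odd (orderOf y) → φ y = 0)
    (ev' : ∀ y, ¬ Odd (orderOf y) → ψ y = 0) : ⟪h.Th φ, h.Th ψ⟫ = 2 * ⟪φ, ψ⟫ := by
  rw [h.Th_ci h.Th_class, ci_def, ci_def, mul_left_comm, Finset.mul_sum (a := 2)]
  congr 1
  refine Finset.sum_congr rfl fun l _ => ?_
  by_cases o : Odd (orderOf l)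
  · rw [h.Th_val hψ ev' l o, map_mul, map_ofNat]; ring
  · simp [ev l o]

include h in
theorem cI_t (s : G) : cI t s = if s * s = 1 ∧ s ≠ 1 then 1 else 0 := by
  have : IsConj t s ↔ s * s = 1 ∧ s ≠ 1 := by
    refine ⟨fun k => ?_, fun k => h.cj s k.1 k.2⟩
    obtain ⟨c, rfl⟩ := isConj_iff.1 k
    exact ⟨by rw [conj_mul, h.tt]; simp, by simpa using h.t1⟩
  simp only [cI, this]

include h in
theorem cN_t {u : L} (uu : u * u = 1) (u1 : u ≠ 1) (cj : ∀ s : L, s * s = 1 → s ≠ 1 → IsConj u s) (l : L)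
    (o : Odd (orderOf l)) : cN t (t * l) = 2 * cN u l := by
  have cu : ∀ s : L, cI u s = if s * s = 1 ∧ s ≠ 1 then 1 else 0 := fun s => by
    have : IsConj u s ↔ s * s = 1 ∧ s ≠ 1 := by
      refine ⟨fun k => ?_, fun k => cj s k.1 k.2⟩
      obtain ⟨c, rfl⟩ := isConj_iff.1 k
      exact ⟨by rw [conj_mul, uu]; simp, by simpa using u1⟩
    simp only [cI, this]
  have ni : l * l = 1 → l = 1 := fun e => by
    have := orderOf_dvd_of_pow_eq_one ((pow_two l).trans e)
    rcases (Nat.dvd_prime Nat.prime_two).1 this with k | k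
    · exact orderOf_eq_one_iff.1 k
    · rw [k] at o; exact absurd o (by decide)
  have ts : ∀ k : L, cI t (t * k) = if k * k = 1 then 1 else 0 := fun k => by
    rw [h.cI_t]
    have : t * k * (t * k) = (k * k : L) := by
      rw [mul_assoc, ← mul_assoc (k : G), (h.le _ k.2).eq, ← mul_assoc, ← mul_assoc, h.tt, one_mul]; rfl
    refine if_congr ⟨fun e => Subtype.ext (this.symm.trans e.1), fun e => ⟨by rw [this, e]; rfl, fun e => ?_⟩⟩ rfl rfl
    exact h.tL (eq_inv_of_mul_eq_one_left e ▸ L.inv_mem k.2)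
  have sl : ∀ k : L, cI t (k : G) = cI u k := fun k => by
    rw [h.cI_t, cu]; exact if_congr ⟨fun e => ⟨Subtype.ext e.1, fun k => e.2 (congrArg Subtype.val k)⟩,
      fun e => ⟨congrArg Subtype.val e.1, fun k => e.2 (Subtype.ext k)⟩⟩ rfl rfl
  have e1 : cN t (t * l) = ∑ p, cI t (h.fT p) * cI t ((h.fT p)⁻¹ * (t * l)) := by
    refine (Finset.sum_of_injOn h.fT (fun _ _ _ _ e => h.fT_inj e) (by simp) (fun s _ n => ?_) fun _ _ => rfl).symm
    by_contra k
    rw [h.cI_t, h.cI_t] at k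
    have k1 : s * s = 1 := by_contra fun e => k (by simp [e])
    have k2 : s⁻¹ * (t * l) * (s⁻¹ * (t * l)) = 1 := by_contra fun e => k (by simp [e])
    have e2 : s⁻¹ * (t * l) * s⁻¹⁻¹ = t * (l⁻¹ : L) := by
      rw [inv_inv, ← inv_eq_of_mul_eq_one_right k1, inv_inv, coe_inv, ← (h.le _ l.2).inv_left.eq, ← h.ti,
        ← mul_inv_rev, h.ti, eq_inv_iff_mul_eq_one, ← k2, inv_eq_of_mul_eq_one_right k1]
      group
    have e3 := congrArg (constt {2}) e2
    rw [constt_conj, constt_two_mul' h.pi (h.le _ l.2) (by rwa [orderOf_coe]),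
      constt_two_mul' h.pi (h.le _ l⁻¹.2) (by rwa [orderOf_coe, orderOf_inv]), inv_inv, mul_assoc,
      inv_mul_eq_iff_eq_mul] at e3
    obtain ⟨p, hp⟩ := h.fT_range.2 (show Commute s t from e3.symm)
    exact n ⟨p, by simp, hp⟩
  rw [e1, sum_pr, cN, two_mul]
  congr 1 <;> refine Finset.sum_congr rfl fun k _ => ?_
  · rw [fT_one, ← mul_assoc, (h.le _ k.2).inv_left.eq, mul_assoc, sl, show (k : G)⁻¹ * l = (k⁻¹ * l : L) from rfl,
      ts, cu, cu]
    by_cases e : k⁻¹ * l = 1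
    · obtain rfl := inv_mul_eq_one.1 e
      rw [if_neg fun a => a.2 (ni a.1), zero_mul, zero_mul]
    · simp [e]
  · rw [fT_neg, mul_inv_rev, mul_assoc, inv_mul_cancel_left, show (k : G)⁻¹ * l = (k⁻¹ * l : L) from rfl,
      sl, ts, cu, cu]
    by_cases e : k = 1
    · subst e
      rw [inv_one, one_mul l, if_neg (c := l * l = 1 ∧ l ≠ 1) fun a => a.2 (ni a.1), mul_zero, mul_zero]
    · simp [e]

theorem cZ_Th {u : L} (uu : u * u = 1) (u1 : u ≠ 1) (cj : ∀ s : L, s * s = 1 → s ≠ 1 → IsConj u s)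
    (ev : ∀ y, ¬ Odd (orderOf y) → φ y = 0) : cZ t (h.Th φ) = 4 * C1[t].index * cZ u φ := by
  have := card_ne_zero_complex L
  rw [Th, cZ_ind, sum_pr, cZ_eq, ← C1[t].index_mul_card, h.card_C, Nat.card_prod,
    Nat.card_eq_fintype_card (α := ℤˣ), Fintype.card_units_int]
  simp only [sg_one, sg_neg, fT_neg, zero_mul, Finset.sum_const_zero, zero_add]
  rw [Finset.sum_congr rfl (g := fun l => 4 * (φ l * cN u l)) fun l _ => ?_, ← Finset.mul_sum]
  · push_cast; field_simp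
  · by_cases o : Odd (orderOf l)
    · rw [h.cN_t uu u1 cj l o]; ring
    · simp [ev l o]

end Ct

variable {t u g w x : G} {L : Subgroup G} {Q : ℤ}

theorem _root_.Cfsg.Agent.WA.JD.ct (h : JD t u g w x L Q) : Ct t L := ⟨h.tt, h.le, h.tL, h.dec, h.cj, h.two⟩

theorem _root_.Cfsg.Agent.WA.JD.cjL' (h : JD t u g w x L Q) (s : L) (e : s * s = 1) (n : s ≠ 1) :
    IsConj (⟨u, h.uL⟩ : L) s := by
  obtain ⟨c, hc, k⟩ := h.cjL s s.2 (congrArg Subtype.val e) fun k => n (Subtype.ext k)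
  exact isConj_iff.2 ⟨⟨c, hc⟩, Subtype.ext k⟩

theorem _root_.Cfsg.Agent.WA.JD.card_Cu (h : JD t u g w x L Q) :
    Nat.card C1[(⟨u, h.uL⟩ : L)] = 4 * orderOf x := by
  have ou := orderOf_eq_two_of h.uu h.u1
  have o : orderOf (u * x) = 2 * orderOf x := by
    rw [h.xu.symm.orderOf_mul_eq_mul_orderOf_of_coprime (by rw [ou]; exact Nat.coprime_two_left.2 h.odd), ou]
  have uA : u ∈ zpowers (u * x) := by
    obtain ⟨k, hk⟩ := h.odd
    refine ⟨orderOf x, ?_⟩
    beta_reduce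
    rw [zpow_natCast, h.xu.symm.mul_pow, pow_orderOf_eq_one, hk, pow_succ, pow_mul, pow_two, h.uu]; simp
  have xA : zpowers x ≤ zpowers (u * x) := zpowers_le.2 (by
    simpa [← mul_assoc, h.uu] using mul_mem uA (mem_zpowers (u * x)))
  have uW : u ∈ h.ψ.range := h.mem_U.2 (by simp)
  have mA : ∀ e ∈ h.ψ.range, ∀ a ∈ zpowers x, e * a ∈ L → e * a ∈ zpowers (u * x) := fun e he a ha m => by
    have eL : e ∈ L := (mul_mem_cancel_right (h.RL ha)).1 m
    rcases h.mem_U.1 he with rfl | rfl | rfl | rfl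
    · simpa using xA ha
    · exact (h.tL eL).elim
    · exact mul_mem uA (xA ha)
    · exact (h.tL ((mul_mem_cancel_right h.uL).1 eL)).elim
  obtain ⟨e₀, he₀, w0⟩ : ∃ e ∈ h.ψ.range, e * w ∈ L :=
    (h.dec w h.wt).elim (fun m => ⟨1, one_mem _, by rwa [one_mul]⟩) fun m => ⟨t, h.mem_U.2 (by simp), m⟩
  have cW : ∀ e ∈ h.ψ.range, Commute e u := fun e he => by
    rcases h.mem_U.1 he with rfl | rfl | rfl | rfl
    exacts [Commute.one_left _, h.tu, Commute.refl _, h.tu.mul_left (Commute.refl _)]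
  have le : zpowers (u * x) ≤ L ⊓ C1[u] :=
    zpowers_le.2 ⟨mul_mem h.uL h.xL, mem_cent1.2 ((Commute.refl u).mul_left h.xu)⟩
  have i2 : (zpowers (u * x)).relIndex (L ⊓ C1[u]) = 2 := by
    refine relIndex_eq_two_iff_exists_notMem_and.2 ⟨e₀ * w, ⟨w0, mem_cent1.2 ((cW _ he₀).mul_left h.wu)⟩, ?_,
      fun b hb => ?_⟩
    · rintro ⟨k, hk⟩
      beta_reduce at hk
      rw [h.xu.symm.mul_zpow] at hk
      have m := zpow_mem (mem_zpowers x) k
      have m' := mul_mem (inv_mem he₀) (zpow_mem uW k)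
      have k1 : w = e₀⁻¹ * u ^ k * x ^ k := by rw [mul_assoc, hk]; group
      have := h.ww
      rw [k1, (h.RW m m').mul_mul_mul_comm, h.toQ3.sqU m', one_mul] at this
      rw [h.sq1 m this, mul_one] at k1
      exact h.wW (k1 ▸ m')
    · obtain ⟨e, he, y, hy, k | k⟩ := h.cU b (h.le b hb.1) (mem_cent1.1 hb.2)
      · exact Or.inr (k ▸ mA e he y hy (k ▸ hb.1))
      · have : b * (e₀ * w) = e * e₀ * y := by
          rw [k, ← (h.wW' he₀).eq, mul_assoc (e * y), ← mul_assoc w, h.ww, one_mul, mul_assoc, (h.RW hy he₀).eq,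
            mul_assoc]
        exact Or.inl (this ▸ mA _ (mul_mem he he₀) y hy (this ▸ mul_mem hb.1 w0))
  have e1 : C1[(⟨u, h.uL⟩ : L)] = (L ⊓ C1[u]).subgroupOf L := by
    ext c; simp [mem_subgroupOf, mem_cent1, Subtype.ext_iff]
  rw [e1, card_subgroupOf inf_le_left, ← ((zpowers (u * x)).subgroupOf (L ⊓ C1[u])).index_mul_card,
    card_subgroupOf le, Nat.card_zpowers, o]
  change (zpowers (u * x)).relIndex (L ⊓ C1[u]) * _ = _
  rw [i2]; ring

theorem _root_.Cfsg.Agent.WA.JD.idx_u (h : JD t u g w x L Q) :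
    4 * (C1[(⟨u, h.uL⟩ : L)].index : ℤ) ^ 2 = (Q * (Q + 1)) ^ 2 := by
  have e := C1[(⟨u, h.uL⟩ : L)].index_mul_card
  rw [h.card_Cu, h.ord] at e
  have c := h.card
  have q8 := h.q8
  have p : 1 ≤ Q.natAbs ^ 2 := Nat.one_le_pow _ _ (by omega)
  rw [← e] at c
  zify [p] at c
  have n : (Q - 1) ^ 2 ≠ 0 := pow_ne_zero _ (by omega)
  apply mul_right_cancel₀ n
  have := congrArg (· ^ 2) c
  simp only [mul_pow, sq_abs] at this
  linear_combination this

end Cfsg.Agent.WA.JB
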