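import Cfsg.Agent.WA.JL

/-! The virtual characters induced from `W × R`. -/

set_option autoImplicit false
set_option linter.unusedSectionVars false

namespace Cfsg.Agent.WA

open Cfsg Subgroup Cfsg.Agent.GT Cfsg.Agent.Char Cfsg.Agent.BS Cfsg.Agent.B84C Cfsg.Agent.B84H Cfsg.Agent.Cls
open scoped Classical ComplexConjugate

universe u

theorem ind_cos {G X : Type*} [Group G] [Fintype G] [Group X] [Fintype X] (f : X →* G)
    (inj : Function.Injective f) (cm : ∀ a b : X, Commute a b) {ι : Type} [Fintype ι] (r : ι → G) (σ : ι → X) (a : X)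
    (θ : X → ℂ) (hr : ∀ i, r i * f a * (r i)⁻¹ = f (σ i)) (un : ∀ i j, r i * (r j)⁻¹ ∈ f.range → i = j)
    (cov : ∀ c b, f b = c⁻¹ * f a * c → θ b ≠ 0 → ∃ i, r i * c ∈ f.range) : ind f θ (f a) = ∑ i, θ (σ i) := by
  have k : ∀ c, (∑ b, if f b = c⁻¹ * f a * c then θ b else 0) =
      ∑ i, (if r i * c ∈ f.range then 1 else 0) * θ (σ i) := fun c => by
    by_cases e : ∃ i, r i * c ∈ f.range
    · obtain ⟨i, e, he⟩ := e
      have : c⁻¹ * f a * c = f (σ i) := by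
        rw [show c⁻¹ * f a * c = (r i * c)⁻¹ * (r i * f a * (r i)⁻¹) * (r i * c) by group, hr, ← he, ← map_inv,
          ← map_mul, ← map_mul, mul_assoc, (cm _ e).eq, inv_mul_cancel_left]
      rw [this, Finset.sum_eq_single (σ i) (fun b _ n => if_neg (inj.ne n)) (by simp), if_pos rfl,
        Finset.sum_eq_single i (fun j _ n => ?_) (by simp), if_pos ⟨e, he⟩, one_mul]
      rw [if_neg fun m => n (un j i ?_), zero_mul]
      simpa using mul_mem m (inv_mem (show r i * c ∈ f.range from ⟨e, he⟩))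
    · rw [Finset.sum_eq_zero fun b _ => ite_eq_right_iff.2 fun n => by_contra fun m => e (cov c b n m),
        Finset.sum_eq_zero fun i _ => by rw [if_neg fun m => e ⟨i, m⟩, zero_mul]]
  have c : ∀ i, ∑ c, (if r i * c ∈ f.range then (1 : ℂ) else 0) = Nat.card X := fun i =>
    (Equiv.sum_comp (Equiv.mulLeft (r i)) fun c => if c ∈ f.range then (1 : ℂ) else 0).trans
      ((BSW.sum_ite_mem f.range).trans (congrArg _ (Nat.card_congr (MonoidHom.ofInjective inj).toEquiv).symm))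
  rw [ind, Finset.sum_congr rfl fun c _ => k c, Finset.sum_comm]
  simp only [← Finset.sum_mul, c]
  rw [← Finset.mul_sum, inv_mul_cancel_left₀ (card_ne_zero_complex X)]

/-- the four-group -/
abbrev M4 : Type := Multiplicative (Fin 2) × Multiplicative (Fin 2)

/-- sign -/
noncomputable def sg2 : Multiplicative (Fin 2) →* ℂˣ := LY.cyc (-1) (by simp)

/-- the characters of the four-group -/
noncomputable def bt : Fin 4 → M4 →* ℂˣ :=
  ![1, sg2.comp (MonoidHom.snd _ _), sg2.comp (MonoidHom.fst _ _), sg2.coprod sg2]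

/-- the rotation of the four-group -/
def rot (m : M4) : M4 := (m.2, m.1 * m.2)

theorem sum_M4 (φ : M4 → ℂ) : ∑ m, φ m = φ (1, 1) + φ (.ofAdd 1, 1) + φ (1, .ofAdd 1) + φ (.ofAdd 1, .ofAdd 1) := by
  rw [Fintype.sum_prod_type]
  simp only [← Multiplicative.ofAdd.sum_comp, Fin.sum_univ_two]
  simp only [ofAdd_zero]; ring

theorem ci_prod {A B : Type*} [Group A] [Group B] [Fintype A] [Fintype B] (a a' : A → ℂ) (b b' : B → ℂ) :
    ⟪fun p : A × B => a p.1 * b p.2, fun p => a' p.1 * b' p.2⟫ = ⟪a, a'⟫ * ⟪b, b'⟫ := by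
  simp only [ci_def, Fintype.sum_prod_type, Nat.card_prod, map_mul, Finset.sum_mul_sum, Nat.cast_mul, mul_inv]
  rw [mul_mul_mul_comm, Finset.sum_mul_sum]
  exact congrArg _ (Finset.sum_congr rfl fun _ _ => Finset.sum_congr rfl fun _ _ => by ring)

/-- The induced virtual characters. -/
structure XD {G : Type u} [Group G] [Fintype G] (t : G) (Q : ℤ) (Θ : Fin 3 → G → ℂ) (Ξ : Fin 4 → G → ℂ) : Prop where
  virt : ∀ k, IsGeneralizedCharacter G (Ξ k)
  gram : ∀ k j, ⟪Ξ k, Ξ j⟫ = if k = 0 then (if j = 0 then 7 else 0) else if j = 0 then 0 else if k = j then 3 else 2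
  th : ∀ k i, ⟪Ξ k, Θ i⟫ = if i = 0 then 0 else if k = 0 then 3 else -1
  one : ∀ k, ⟪Ξ k, fun _ => 1⟫ = if k = 0 then 1 else 0
  v1 : ∀ k, Ξ k 1 = 0
  vt : ∀ k, Ξ k t = 0
  cz : ∀ k, cZ t (Ξ k) = if k = 0 then (C1[t].index * (Q * (Q - 1) ^ 2 * (Q + 1)) : ℂ) else 0
  od : ∀ k, k ≠ 0 → ∀ y, Odd (orderOf y) → Ξ 0 y + 2 * Ξ k y - Ξ 1 y - Ξ 2 y - Ξ 3 y = 0

variable {G : Type u} [Group G] {t u g w x : G} {L : Subgroup G} {Q : ℤ}

namespace JD

variable (h : JD t u g w x L Q)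
include h

/-- the parametrization of `E = W R` -/
noncomputable def f : M4 × zpowers x →* G :=
  h.ψ.noncommCoprod (zpowers x).subtype fun m y => (h.RW y.2 ⟨m, rfl⟩).symm

theorem f_ap (m : M4) (y : zpowers x) : h.f (m, y) = h.ψ m * y := rfl

theorem gR {a : G} (ha : a ∈ zpowers x) : g * a * g⁻¹ ∈ zpowers x := by
  obtain ⟨k, rfl⟩ := ha
  rw [← conj_zpow]
  exact zpow_mem h.gx k

/-- conjugation by `g` on `R` -/
def vs : zpowers x →* zpowers x :=
  ((MulAut.conj g).toMonoidHom.comp (zpowers x).subtype).codRestrict _ fun y => h.gR y.2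

theorem vs_ap (y : zpowers x) : (h.vs y : G) = g * y * g⁻¹ := rfl

theorem ψ00 : h.ψ (1, 1) = 1 := map_one _
theorem ψ10 : h.ψ (.ofAdd 1, 1) = t := by simp [Q3.ψ, LY.cyc]
theorem ψ01 : h.ψ (1, .ofAdd 1) = u := by simp [Q3.ψ, LY.cyc]
theorem ψ11 : h.ψ (.ofAdd 1, .ofAdd 1) = t * u := by simp [Q3.ψ, LY.cyc]

theorem M4_cases (m : M4) : m = (1, 1) ∨ m = (.ofAdd 1, 1) ∨ m = (1, .ofAdd 1) ∨ m = (.ofAdd 1, .ofAdd 1) := by
  revert m; decide

theorem ψ_rot (m : M4) : g * h.ψ m * g⁻¹ = h.ψ (rot m) := by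
  rcases h.M4_cases m with rfl | rfl | rfl | rfl
  · simp [show rot (1, 1) = (1, 1) by decide, h.ψ00]
  · rw [show rot (.ofAdd 1, 1) = (1, .ofAdd 1) by decide, h.ψ10, h.ψ01, h.g1]
  · rw [show rot (1, .ofAdd 1) = (.ofAdd 1, .ofAdd 1) by decide, h.ψ11, h.ψ01, h.g2]
  · rw [show rot (.ofAdd 1, .ofAdd 1) = (.ofAdd 1, 1) by decide, h.ψ11, h.ψ10, h.toQ3.g3]

theorem ψ_inj {m : M4} (e : h.ψ m = 1) : m = 1 := by
  rcases h.M4_cases m with rfl | rfl | rfl | rfl
  · rfl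
  · exact (h.t1 (h.ψ10 ▸ e)).elim
  · exact (h.u1 (h.ψ01 ▸ e)).elim
  · exact (h.v1 (h.ψ11 ▸ e)).elim

theorem f_inj : Function.Injective h.f := (injective_iff_map_eq_one _).2 fun ⟨m, y⟩ e => by
  rw [f_ap] at e
  have : (y : G) = 1 := h.sq1 y.2 (by
    rw [eq_inv_of_mul_eq_one_right e, ← mul_inv_rev, h.toQ3.sqU ⟨m, rfl⟩, inv_one])
  rw [this, mul_one] at e
  exact Prod.ext (h.ψ_inj e) (Subtype.ext this)

theorem mem_f {c : G} : c ∈ h.f.range ↔ ∃ e ∈ h.ψ.range, ∃ y ∈ zpowers x, c = e * y :=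
  ⟨fun ⟨⟨m, y⟩, e⟩ => ⟨_, ⟨m, rfl⟩, y, y.2, e.symm⟩, fun ⟨_, ⟨m, e⟩, y, hy, k⟩ => ⟨(m, ⟨y, hy⟩), by rw [k, ← e]; rfl⟩⟩

theorem f_sq (p : M4 × zpowers x) : h.f p * h.f p = p.2 * p.2 := by
  rw [f_ap, (h.RW p.2.2 ⟨p.1, rfl⟩).mul_mul_mul_comm, h.toQ3.sqU ⟨_, rfl⟩, one_mul]

theorem f_g (p : M4 × zpowers x) : g * h.f p * g⁻¹ = h.f (rot p.1, h.vs p.2) := by
  rw [f_ap, f_ap, ← h.ψ_rot, vs_ap, conj_mul]

theorem f_w (p : M4 × zpowers x) : w * h.f p * w⁻¹ = h.f (p.1, p.2⁻¹) := by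
  rw [f_ap, f_ap, ← conj_mul, h.wR p.2.2, (h.wW' ⟨p.1, rfl⟩).eq, mul_inv_cancel_right]; rfl

theorem cE {c : G} (hc : c ∈ h.f.range) : Commute c t ∧ Commute c u ∧ Commute c x := by
  obtain ⟨e, he, y, hy, rfl⟩ := h.mem_f.1 hc
  exact ⟨(h.toQ3.cU (Commute.refl t) h.tu he).symm.mul_left (zc h.xt hy),
    (h.toQ3.cU h.tu.symm (Commute.refl u) he).symm.mul_left (zc h.xu hy),
    (h.RW (mem_zpowers x) he).symm.mul_left (zc rfl hy)⟩

theorem cU' {c : G} (a : Commute c t) (b : Commute c u) : c ∈ h.f.range ∨ w * c ∈ h.f.range := by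
  obtain ⟨e, he, y, hy, k | k⟩ := h.cU c a b
  · exact Or.inl (h.mem_f.2 ⟨e, he, y, hy, k⟩)
  · refine Or.inr (h.mem_f.2 ⟨e, he, _, inv_mem hy, ?_⟩)
    rw [k, ← h.wR hy, h.wi, ← mul_assoc, ← mul_assoc, (h.wW' he).eq]; group

/-- an element fixing `t` and normalizing `W` centralizes `W` -/
theorem fixW {c : G} (a : Commute c t) (b : c * u * c⁻¹ ∈ h.ψ.range) : Commute c u := by
  have k : c * u * c⁻¹ ∈ L := by
    rcases h.dec c a with m | m
    · exact mul_mem (mul_mem m h.uL) (inv_mem m)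
    · have := mul_mem (mul_mem m h.uL) (inv_mem m)
      rwa [← a.eq, show c * t * u * (c * t)⁻¹ = c * (t * u * t⁻¹) * c⁻¹ by group, h.tu.eq, mul_inv_cancel_right] at this
  rcases h.mem_U.1 b with e | e | e | e
  · exact (h.u1 (conj_eq_one_iff.1 e)).elim
  · exact (h.tL (e ▸ k)).elim
  · exact TT.commute_iff_conj.2 e
  · exact (h.tL ((mul_mem_cancel_right h.uL).1 (e ▸ k))).elim

theorem gW {e : G} (he : e ∈ h.ψ.range) : g * e * g⁻¹ ∈ h.ψ.range := by
  obtain ⟨m, rfl⟩ := he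
  exact ⟨_, (h.ψ_rot m).symm⟩

theorem nW {c : G} (b : ∀ e ∈ h.ψ.range, c * e * c⁻¹ ∈ h.ψ.range) :
    ∃ i : Fin 3, Commute (g ^ i.val * c) t ∧ Commute (g ^ i.val * c) u := by
  have k : ∀ i : ℕ, ∀ e ∈ h.ψ.range, g ^ i * c * e * (g ^ i * c)⁻¹ ∈ h.ψ.range := fun i e he => by
    induction i with
    | zero => simpa using b e he
    | succ i ih => have := h.gW ih; rw [pow_succ']; simpa [mul_assoc] using this
  have mt : t ∈ h.ψ.range := h.mem_U.2 (by simp)
  have mu : u ∈ h.ψ.range := h.mem_U.2 (by simp)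
  suffices ∃ i : Fin 3, Commute (g ^ i.val * c) t from this.imp fun i a => ⟨a, h.fixW a (k _ u mu)⟩
  rcases h.mem_U.1 (b t mt) with e | e | e | e
  · exact (h.t1 (conj_eq_one_iff.1 e)).elim
  · exact ⟨0, by simpa using TT.commute_iff_conj.2 e⟩
  · refine ⟨2, TT.commute_iff_conj.2 ?_⟩
    rw [show g ^ (2 : Fin 3).val * c * t * (g ^ (2 : Fin 3).val * c)⁻¹ = g * (g * (c * t * c⁻¹) * g⁻¹) * g⁻¹ by
      show g ^ 2 * c * t * (g ^ 2 * c)⁻¹ = _; rw [sq]; group, e, h.g2, h.toQ3.g3]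
  · refine ⟨1, TT.commute_iff_conj.2 ?_⟩
    rw [show g ^ (1 : Fin 3).val * c * t * (g ^ (1 : Fin 3).val * c)⁻¹ = g * (c * t * c⁻¹) * g⁻¹ by
      show g ^ 1 * c * t * (g ^ 1 * c)⁻¹ = _; group, e, h.toQ3.g3]

/-- an involution normalizing `W` centralizes it -/
theorem invW {s : G} (ss : s * s = 1) (b : ∀ e ∈ h.ψ.range, s * e * s⁻¹ ∈ h.ψ.range) :
    Commute s t ∧ Commute s u := by
  have k : ∀ e ∈ h.ψ.range, Commute s e := fun e he => by
    have m := mul_mem (b e he) he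
    have si := inv_eq_of_mul_eq_one_right ss
    have := h.two (s * e) 2 (by
      rw [show (s * e) ^ 2 ^ 2 = (s * e * s * e) * (s * e * s * e) by rw [show 2 ^ 2 = 2 + 2 from rfl, pow_add, sq]; group]
      rw [si] at m
      exact h.toQ3.sqU m)
    rw [mul_eq_one_iff_eq_inv, mul_inv_rev, si, inv_eq_of_mul_eq_one_right (h.toQ3.sqU he)] at this
    exact this
  exact ⟨k t (h.mem_U.2 (by simp)), k u (h.mem_U.2 (by simp))⟩

theorem cardH [Finite G] : (4 * orderOf x * Nat.card C1[t] : ℤ) = Q * (Q - 1) ^ 2 * (Q + 1) := by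
  have c : Nat.card C1[t] = 2 * Nat.card L := by
    have le : L ≤ C1[t] := fun l hl => mem_cent1.2 (h.le l hl)
    rw [← (L.subgroupOf C1[t]).index_mul_card, index_eq_two_iff'.2 ⟨⟨t, self_mem_cent1 t⟩, fun b => ?_⟩,
      Nat.card_congr (subgroupOfEquivOfLe le).toEquiv]
    by_cases m : (b : G) ∈ L
    · exact Or.inr ⟨m, fun e => h.tL ((mul_mem_cancel_right m).1 e)⟩
    · exact Or.inl ⟨(h.dec b (mem_cent1.1 b.2)).resolve_left m, m⟩
  have q8 := h.q8
  have a1 : (Nat.card C1[t] : ℤ) = |Q| * (Q ^ 2 - 1) := by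
    rw [c, h.card, Nat.cast_mul, Nat.cast_sub (Nat.one_le_pow _ _ (by omega))]; simp
  have a2 : (4 * orderOf x : ℤ) = |Q - 1| := by exact_mod_cast (congrArg (Nat.cast : ℕ → ℤ) h.ord).trans (by simp)
  rw [a1, a2]
  rcases le_total 0 Q with p | p
  · rw [abs_of_nonneg p, abs_of_nonneg (by omega)]; ring
  · rw [abs_of_nonpos p, abs_of_nonpos (by omega)]; ring

variable (hC : ∀ a ∈ zpowers x, a ≠ 1 → C1[a] ≤ N[h.ψ.range])
include hC

theorem cW {a c : G} (ha : a ∈ zpowers x) (a1 : a ≠ 1) (cm : Commute c a) :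
    ∀ e ∈ h.ψ.range, c * e * c⁻¹ ∈ h.ψ.range := fun e he =>
  (mem_normalizer_iff.1 (hC a ha a1 (mem_cent1.2 cm)) e).1 he

/-- the trivial intersection property -/
theorem ti {a b c : G} (ha : a ∈ zpowers x) (hb : b ∈ zpowers x) (b1 : b ≠ 1) (e : c * a * c⁻¹ = b) :
    ∀ e ∈ h.ψ.range, c * e * c⁻¹ ∈ h.ψ.range := fun s hs => by
  have cm : Commute (c * s * c⁻¹) b := e ▸ (TT.commute_conj_iff c).2 (h.RW ha hs).symm
  have ss : c * s * c⁻¹ * (c * s * c⁻¹) = 1 := by rw [conj_mul, h.toQ3.sqU hs, mul_one, mul_inv_cancel]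
  obtain ⟨c1, c2⟩ := h.invW ss (h.cW hC hb b1 cm)
  rcases h.cU' c1 c2 with ⟨p, m⟩ | m
  · rw [← m, f_sq] at ss
    rw [← m, f_ap, h.sq1 p.2.2 ss, mul_one]
    exact ⟨_, rfl⟩
  · refine (b1 (h.sq1 hb ?_)).elim
    have := TT.commute_iff_conj.1 (zc (h.cE m).2.2.symm hb).symm
    rw [show w * (c * s * c⁻¹) * b * (w * (c * s * c⁻¹))⁻¹ = w * (c * s * c⁻¹ * b * (c * s * c⁻¹)⁻¹) * w⁻¹ by group,
      TT.commute_iff_conj.1 cm, h.wR hb] at this
    exact mul_eq_one_iff_eq_inv.2 this.symm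

theorem cN_val [Fintype G] (p : M4 × zpowers x) (p1 : p.2 ≠ 1) : cN t (h.f p) = 4 * orderOf x := by
  have y1 : (p.2 * p.2 : G) ≠ 1 := fun e => p1 (Subtype.ext (h.sq1 p.2.2 e))
  have hy := mul_mem p.2.2 p.2.2
  have inv : ∀ {s}, IsConj t s → s * s = 1 := fun e => by
    obtain ⟨c, rfl⟩ := isConj_iff.1 e
    rw [conj_mul, h.tt, mul_one, mul_inv_cancel]
  have out : ∀ s, w * s ∈ h.f.range → IsConj t s := fun s ⟨q, m⟩ => by
    refine h.cj s ?_ ?_
    · have := h.f_w q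
      rw [h.wi] at this
      rw [eq_inv_mul_of_mul_eq m.symm, h.wi, show w * h.f q * (w * h.f q) = w * h.f q * w * h.f q by group,
        this, ← map_mul, f_ap, Prod.fst_mul, Prod.snd_mul, inv_mul_cancel, map_mul, h.toQ3.sqU ⟨_, rfl⟩]; simp
    · rintro rfl
      rw [mul_one] at m
      have : h.f q * h.f q = 1 := by rw [m, h.ww]
      rw [f_sq] at this
      rw [f_ap, h.sq1 q.2.2 this, mul_one] at m
      exact h.wW ⟨_, m⟩
  have k : ∀ s, cI t s * cI t (s⁻¹ * h.f p) = if w * s ∈ h.f.range then 1 else 0 := fun s => by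
    rw [cI, cI, ite_zero_mul_ite_zero, one_mul]
    convert if_congr (Iff.intro (fun cc : IsConj t s ∧ IsConj t (s⁻¹ * h.f p) => ?_)
      fun m : w * s ∈ h.f.range => And.intro (out s m) (out _ ?_)) rfl rfl
    · obtain ⟨c1, c2⟩ := cc
      have ss := inv c1
      have si := inv_eq_of_mul_eq_one_right ss
      have iv : s * h.f p * s⁻¹ = (h.f p)⁻¹ := by
        have := inv c2
        rw [si] at this ⊢
        exact eq_inv_of_mul_eq_one_left (by rw [← this]; group)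
      have iv2 : s * (p.2 * p.2 : G) * s⁻¹ = (p.2 * p.2 : G)⁻¹ := by rw [← h.f_sq, ← conj_mul, iv, mul_inv_rev]
      obtain ⟨d1, d2⟩ := h.invW ss (h.ti hC hy (inv_mem hy) (inv_ne_one.2 y1) iv2)
      refine (h.cU' d1 d2).resolve_left fun m => y1 (h.sq1 hy ?_)
      rw [TT.commute_iff_conj.1 (zc (h.cE m).2.2.symm hy).symm] at iv2
      exact mul_eq_one_iff_eq_inv.2 iv2
    · rw [inv_eq_of_mul_eq_one_right (inv (out s m)), ← mul_assoc]
      exact mul_mem m ⟨p, rfl⟩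
  rw [cN, Finset.sum_congr rfl fun s _ => k s]
  refine (Equiv.sum_comp (Equiv.mulLeft w) fun c => if c ∈ h.f.range then (1 : ℂ) else 0).trans ?_
  rw [BSW.sum_ite_mem, ← Nat.card_congr (MonoidHom.ofInjective h.f_inj).toEquiv, Nat.card_prod, Nat.card_zpowers]
  simp

theorem ind_val [Fintype G] (x1 : x ≠ 1) (θ : M4 × zpowers x → ℂ) (h0 : ∀ m, θ (m, 1) = 0) (p : M4 × zpowers x) :
    ind h.f θ (h.f p) = ∑ i : Fin 3, (θ (rot^[i] p.1, h.vs^[i] p.2) + θ (rot^[i] p.1, (h.vs^[i] p.2)⁻¹)) := by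
  have fg : ∀ i : ℕ, g ^ i * h.f p * (g ^ i)⁻¹ = h.f (rot^[i] p.1, h.vs^[i] p.2) := fun i => by
    induction i with
    | zero => simp
    | succ i ih =>
      rw [Function.iterate_succ_apply', Function.iterate_succ_apply', ← h.f_g (_, _), ← ih, pow_succ']; group
  rw [ind_cos h.f h.f_inj (fun a b => Prod.ext (mul_comm _ _) (Subtype.ext (zc (zc rfl b.2.2).symm a.2.2))) (ι := Fin 3 × Bool)
    (fun i => (if i.2 then w else 1) * g ^ i.1.val)
    (fun i => (rot^[i.1] p.1, if i.2 then (h.vs^[i.1] p.2)⁻¹ else h.vs^[i.1] p.2)) p θ ?_ ?_ ?_,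
    Fintype.sum_prod_type]
  · exact Finset.sum_congr rfl fun i _ => by simp [add_comm]
  · rintro ⟨i, _ | _⟩
    · simpa using fg i
    · simp only [if_true]
      rw [← h.f_w (_, _), ← fg]; group
  · have cw : ∀ b : Bool, Commute (if b then w else 1) t := fun b => by cases b; exacts [Commute.one_left t, h.wt]
    have n1 : ¬ Commute g t := fun e => h.ne (h.g1.symm.trans (TT.commute_iff_conj.1 e))
    have gi : g⁻¹ = g ^ 2 := inv_eq_of_mul_eq_one_right (by rw [← pow_succ', h.g3'])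
    have n2 : ¬ Commute (g ^ 2) t := fun e => n1 (by rw [← gi] at e; simpa using e.inv_left)
    rintro ⟨i, b⟩ ⟨j, c⟩ m
    have c1 : Commute (g ^ i.val * (g ^ j.val)⁻¹) t := by
      have := ((cw b).inv_left.mul_left (h.cE m).1).mul_left (cw c)
      dsimp only at this
      generalize (if b then w else 1) = b' at this
      generalize (if c then w else 1) = c' at this
      simpa [mul_assoc] using this
    obtain rfl : i = j := by
      fin_cases i <;> fin_cases j <;> first | rfl | (exfalso; simp only [pow_zero, pow_one, one_mul, inv_one, mul_one] at c1)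
      · exact n1 (by simpa using c1.inv_left)
      · exact n2 (by simpa using c1.inv_left)
      · exact n1 c1
      · exact n1 (by simpa [sq] using c1.inv_left)
      · exact n2 c1
      · exact n1 (by simpa [sq] using c1)
    have nw : ¬ Commute w x := fun e => x1 (h.sq1 (mem_zpowers x)
      (mul_eq_one_iff_eq_inv.2 ((TT.commute_iff_conj.1 e).symm.trans h.wx)))
    have := (h.cE m).2.2
    cases b <;> cases c
    · rfl
    · exact (nw (by simpa using this.inv_left)).elim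
    · exact (nw (by simpa using this)).elim
    · rfl
  · intro c b e n
    have b1 : (b.2 * b.2 : G) ≠ 1 := fun k => n (by rw [← h0 b.1, ← show b.2 = 1 from Subtype.ext (h.sq1 b.2.2 k)])
    have e2 : c⁻¹ * (p.2 * p.2 : G) * c⁻¹⁻¹ = b.2 * b.2 := by rw [← h.f_sq, ← h.f_sq, e]; group
    have a1 : (p.2 * p.2 : G) ≠ 1 := fun k => b1 (by rw [← e2, k]; group)
    obtain ⟨i, c1, c2⟩ := h.nW (h.ti hC (mul_mem b.2.2 b.2.2) (mul_mem p.2.2 p.2.2) a1 (c := c) (by rw [← e2]; group))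
    rcases h.cU' c1 c2 with m | m
    · exact ⟨(i, false), by simpa using m⟩
    · exact ⟨(i, true), by simpa [mul_assoc] using m⟩

omit hC in
theorem exists_lam [Finite G] : ∃ l : zpowers x →* ℂˣ, Function.Injective l := by
  have : NeZero (Nat.card (zpowers x)) := ⟨Nat.card_pos.ne'⟩
  have e : zpowers x ≃* rootsOfUnity (Nat.card (zpowers x)) ℂ :=
    mulEquivOfCyclicCardEq (Complex.card_rootsOfUnity _).symm
  exact ⟨(Subgroup.subtype _).comp e.toMonoidHom, Subtype.val_injective.comp e.injective⟩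

omit hC in
theorem th_val [Fintype G] {Θ : Fin 3 → G → ℂ} (T : TD t x Q Θ) (i : Fin 3) (p : M4 × zpowers x) (p1 : p.2 ≠ 1) :
    Θ i (h.f p) = if p.1 = 1 then (0 : ℂ) else 2 * (1 - ys i) := by
  have k : ∀ p : M4 × zpowers x, Θ i (h.f p) = Θ i (h.f (rot p.1, h.vs p.2)) := fun p => by
    rw [← h.f_g, (T.virt i).isClassFunction]
  have v1 : ∀ {y}, y ≠ 1 → h.vs y ≠ 1 := fun n e => n (Subtype.ext (conj_eq_one_iff.1 (congrArg Subtype.val e)))
  have k1 : ∀ y : zpowers x, y ≠ 1 → Θ i (h.f ((.ofAdd 1, 1), y)) = 2 * (1 - ys i) := fun y y1 => by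
    rw [f_ap, h.ψ10]; exact T.val i y y.2 fun e => y1 (Subtype.ext e)
  obtain ⟨m, y⟩ := p
  rcases h.M4_cases m with rfl | rfl | rfl | rfl
  all_goals dsimp only
  · rw [f_ap, h.ψ00, one_mul, T.od i _ (h.oR y.2), if_pos (by decide)]
  · rw [if_neg (by decide), k1 y p1]
  · rw [if_neg (by decide), k, k]; exact k1 _ (v1 (v1 p1))
  · rw [if_neg (by decide), k]; exact k1 _ (v1 p1)

set_option maxHeartbeats 400000 in
theorem xd [Fintype G] (n : ¬ Commute g x) {Θ : Fin 3 → G → ℂ} (T : TD t x Q Θ) : ∃ Ξ, XD t Q Θ Ξ := by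
  obtain ⟨l, hl⟩ := h.exists_lam
  have x1 : x ≠ 1 := fun e => n (e ▸ Commute.one_right g)
  let x' : zpowers x := ⟨x, mem_zpowers x⟩
  let θ : Fin 4 → M4 × zpowers x → ℂ := fun k p => ch (bt k) p.1 * om l p.2
  have h0 : ∀ k m, θ k (m, 1) = 0 := fun k m => by simp [θ, om, ch]
  have vt : ∀ k, IsGeneralizedCharacter G (ind h.f (θ k)) := fun k => by
    have a := ((ch_virt (bt k)).comp (MonoidHom.fst M4 (zpowers x))).mul
      (((ch_virt 1).sub (ch_virt l)).comp (MonoidHom.snd M4 (zpowers x)))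
    have b : IsGeneralizedCharacter _ (θ k) := a
    exact b.ind h.f
  have K : ∀ k {φ : G → ℂ} {ι : Type} [Fintype ι] (a : ι → M4 → ℂ) (b : ι → zpowers x → ℂ), IsClassFunction G φ →
      (∀ p : M4 × zpowers x, p.2 ≠ 1 → φ (h.f p) = ∑ i, a i p.1 * b i p.2) →
      ⟪ind h.f (θ k), φ⟫ = ∑ i, ⟪ch (bt k), a i⟫ * ⟪om l, b i⟫ := by
    intro k φ ι _ a b c e
    rw [ci_ind_left _ _ c, Finset.sum_congr rfl fun i _ => (ci_prod _ _ _ _).symm, ← ci_sum_right]
    refine congrArg (_ * ·) (Finset.sum_congr rfl fun p _ => ?_)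
    by_cases p1 : p.2 = 1
    · rw [show p = (p.1, 1) from Prod.ext rfl p1]; simp [θ, om, ch]
    · simp only [e p p1, Finset.sum_apply, θ]
  have xx : x ≠ x⁻¹ := fun e => x1 (h.sq1 (mem_zpowers x) (mul_eq_one_iff_eq_inv.2 e))
  have n1 : g * x * g⁻¹ ≠ x := fun e => n (TT.commute_iff_conj.2 e)
  have n2 : g * (g * x * g⁻¹) * g⁻¹ ≠ x := fun e => n1 (by
    nth_rewrite 1 [← e]; rw [show g * (g * (g * x * g⁻¹) * g⁻¹) * g⁻¹ = g ^ 3 * x * (g ^ 3)⁻¹ by
      rw [pow_three]; group, h.g3']; simp)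
  have n3 : (g * x * g⁻¹)⁻¹ ≠ x := fun e => n2 (by
    rw [inv_eq_iff_eq_inv.1 e, ← conj_inv, inv_eq_iff_eq_inv.1 e, inv_inv])
  have n4 : (g * (g * x * g⁻¹) * g⁻¹)⁻¹ ≠ x := fun e => n3 (by
    nth_rewrite 1 [← e]; rw [← conj_inv, inv_inv, show g * (g * (g * x * g⁻¹) * g⁻¹) * g⁻¹ = g ^ 3 * x * (g ^ 3)⁻¹ by
      rw [pow_three]; group, h.g3']; simp)
  have co : ∀ ν : zpowers x →* ℂˣ, Function.Injective ν → ⟪om l, om ν⟫ = if l = ν then 2 else 1 := fun ν hν => by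
    have k : ∀ ν : zpowers x →* ℂˣ, Function.Injective ν → ν ≠ 1 := fun ν hν e =>
      x1 (congrArg Subtype.val (hν (a₁ := x') (a₂ := 1) (by simp [e])))
    simp only [om, ci_sub_left, ci_sub_right, ci_ch, if_neg (k l hl), if_neg (k ν hν).symm, if_true]
    split_ifs <;> norm_num
  have vi : Function.Injective h.vs := fun a b e => Subtype.ext ((MulAut.conj g).injective (congrArg Subtype.val e))
  let lam : Fin 3 → zpowers x →* ℂˣ := ![l, l.comp h.vs, (l.comp h.vs).comp h.vs]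
  have li : ∀ i, Function.Injective (lam i) := fun i => by
    fin_cases i; exacts [hl, hl.comp vi, (hl.comp vi).comp vi]
  have c1 : ∀ i : Fin 3, ⟪om l, om (lam i) + om (lam i)⁻¹⟫ = if i = 0 then 3 else 2 := fun i => by
    rw [ci_add_right, co _ (li i), co _ (fun a b e => li i (inv_injective e))]
    have k : ∀ ν : zpowers x →* ℂˣ, ∀ y : zpowers x, ν x' = l y → (y : G) ≠ x → l ≠ ν := fun ν y e m k =>
      m (congrArg Subtype.val (hl (e.symm.trans (DFunLike.congr_fun k x').symm)))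
    fin_cases i
    · rw [if_pos (by rfl), if_neg (k _ x'⁻¹ (by simp [lam]) xx.symm)]; norm_num
    · rw [if_neg (k _ (h.vs x') rfl n1), if_neg (k _ (h.vs x')⁻¹ (by simp [lam]) n3)]; norm_num
    · rw [if_neg (k _ (h.vs (h.vs x')) rfl n2), if_neg (k _ (h.vs (h.vs x'))⁻¹ (by simp [lam]) n4)]; norm_num
  have c2 : ⟪om l, fun _ => 1⟫ = 1 := by
    rw [om, ci_sub_left]
    refine (congrArg₂ (· - ·) (ci_ch 1 1) (ci_ch l 1)).trans ?_
    rw [if_pos rfl, if_neg fun e => x1 (congrArg Subtype.val (hl (a₁ := x') (a₂ := 1) (by simp [e]))), sub_zero]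
  have cM : (Nat.card M4 : ℂ) = 4 := by simp
  have s1 : sg2 (.ofAdd 1) = -1 := by simp [sg2, LY.cyc]
  have zr : ∀ k {y : G}, (∀ c p, h.f p = c⁻¹ * y * c → p.2 = 1) → ind h.f (θ k) y = 0 := fun k y e =>
    ind_eq_zero_of_forall fun c p m => by rw [show p = (p.1, 1) from Prod.ext rfl (e c p m), h0]
  have zq : ∀ k {y : G}, y * y = 1 → ind h.f (θ k) y = 0 := fun k y e => zr k fun c p m => Subtype.ext
    (h.sq1 p.2.2 (by rw [← h.f_sq, m, show c⁻¹ * y * c * (c⁻¹ * y * c) = c⁻¹ * (y * y) * c by group, e]; simp))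
  refine ⟨fun k => ind h.f (θ k), vt, fun k j => ?_, fun k i => ?_, fun k => ?_, fun k => zq k (one_mul 1),
    fun k => zq k h.tt, fun k => ?_, fun k k0 y o => ?_⟩
  · rw [K k (fun (i : Fin 3) m => ch (bt j) (rot^[i] m)) (fun i => om (lam i) + om (lam i)⁻¹) (vt j).isClassFunction
      fun p _ => (h.ind_val hC x1 _ (h0 j) p).trans (Finset.sum_congr rfl fun i _ => by
        fin_cases i <;> simp [θ, lam, om, ch, mul_add])]
    simp only [c1, ci_def (ch _), sum_M4, cM, Fin.sum_univ_three]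
    fin_cases k <;> fin_cases j <;> simp [ch, bt, rot, s1] <;> norm_num
  · rw [K k (ι := Unit) (fun _ m => if m = 1 then 0 else 2 * (1 - ys i)) (fun _ _ => 1) (T.virt i).isClassFunction
      fun p p1 => by simpa using h.th_val T i p p1]
    simp only [c2, ci_def (ch _), sum_M4, cM]
    fin_cases k <;> fin_cases i <;> simp [ch, bt, s1, ys, map_ofNat] <;> norm_num
  · rw [K k (ι := Unit) (fun _ _ => 1) (fun _ _ => 1) (isClassFunction_const 1) fun p p1 => by simp]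
    simp only [c2, ci_def (ch _), sum_M4, cM]
    fin_cases k <;> simp [ch, bt, s1] <;> norm_num
  · rw [cZ_ind, Finset.sum_congr rfl fun p _ => show _ = θ k p * (4 * orderOf x : ℂ) from ?_, ← Finset.sum_mul]
    swap
    · by_cases p1 : p.2 = 1
      · rw [show p = (p.1, 1) from Prod.ext rfl p1, h0, zero_mul, zero_mul]
      · rw [h.cN_val hC p p1]
    have c3 := c2
    rw [ci_def, Nat.card_zpowers, inv_mul_eq_one₀ (Nat.cast_ne_zero.2 (orderOf_pos x).ne')] at c3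
    simp only [map_one, mul_one] at c3
    simp only [θ]
    rw [Fintype.sum_prod_type, ← Finset.sum_mul_sum, ← c3, sum_M4, Nat.card_prod, Nat.card_zpowers, Nat.cast_mul, cM,
      ← C1[t].index_mul_card]
    have r0 : (orderOf x : ℂ) ≠ 0 := Nat.cast_ne_zero.2 (orderOf_pos x).ne'
    have := congrArg (Int.cast : ℤ → ℂ) h.cardH
    push_cast at this
    generalize Nat.card C1[t] = c at this ⊢
    fin_cases k <;> simp [ch, bt, s1]
    field_simp
    linear_combination (C1[t].index : ℂ) * this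
  · have : ind h.f (θ 0 + (2 : ℂ) • θ k - θ 1 - θ 2 - θ 3) y = 0 := ind_eq_zero_of_forall fun c p m => by
      have p1 : p.1 = 1 := h.ψ_inj (by
        have o' : Odd (orderOf (h.f p)) := by
          have := orderOf_conj' y c⁻¹
          rw [inv_inv] at this
          rwa [m, this]
        have cm : Commute (h.f p) (p.2 : G)⁻¹ := (h.RW p.2.2 ⟨p.1, rfl⟩).symm.inv_right.mul_left (Commute.refl _).inv_right
        have d := cm.orderOf_mul_dvd_mul_orderOf
        rw [f_ap, mul_inv_cancel_right, orderOf_inv] at d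
        obtain ⟨j, hj⟩ := (o'.mul (h.oR p.2.2)).of_dvd_nat d
        have := pow_orderOf_eq_one (h.ψ p.1)
        rwa [hj, pow_succ, pow_mul, sq, h.toQ3.sqU ⟨_, rfl⟩, one_pow, one_mul] at this)
      simp [θ, p1, ch]; ring
    simpa [ind_sub, ind_add, ind_smul] using this

end JD

end Cfsg.Agent.WA
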