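import Cfsg.Agent.WA.JE1

/-! General lemmas for the analysis of the principal block. -/

set_option autoImplicit false
set_option linter.unusedSectionVars false

namespace Cfsg.Agent.WA.JE

open Cfsg Subgroup Cfsg.Agent.GT Cfsg.Agent.Char Cfsg.Agent.BS Cfsg.Agent.B84C Cfsg.Agent.B84H Cfsg.Agent.Cls
open scoped Classical ComplexConjugate

universe u

variable {G : Type u} [Group G] [Fintype G] {t x : G} {Q : ℤ} {α β γ Φ : G → ℂ} {Θ : Fin 3 → G → ℂ}
  {Ξ : Fin 4 → G → ℂ}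

theorem idx0 : (C1[t].index : ℂ) ≠ 0 := Nat.cast_ne_zero.2 index_ne_zero_of_finite

theorem dvd_val (hγ : IsSIrr G γ) {d v : ℤ} (hd : γ 1 = d) (hv : γ t = v) : d ∣ C1[t].index * v := by
  have k : ∀ {γ : G → ℂ}, IsIrrCharacter G γ → ∀ {d v : ℤ}, γ 1 = d → γ t = v → d ∣ C1[t].index * v := by
    intro γ hγ d v hd hv
    have d0 : (d : ℂ) ≠ 0 := hd ▸ hγ.apply_one_ne_zero
    have := hγ.isIntegral_central (cI_class (t := t)) fun g => by
      unfold cI; split_ifs; exacts [isIntegral_one, isIntegral_zero]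
    rw [sum_cI hγ.isClassFunction, hd, hv] at this
    exact int_dvd_of_isIntegral this (by exact_mod_cast d0) (by push_cast; field_simp)
  rcases hγ with hγ | hγ
  · exact k hγ hd hv
  · have := k hγ (d := -d) (v := -v) (by simp [hd]) (by simp [hv])
    rwa [mul_neg, Int.neg_dvd, Int.dvd_neg] at this

theorem three0 (hα : IsSIrr G α) (hβ : IsSIrr G β) (hγ : IsSIrr G γ) (e : Φ = α + β + γ) (h1 : Φ 1 = 0)
    (ht : Φ t = 0) (hz : cZ t Φ = 0) : α t * β 1 = β t * α 1 := by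
  have za := cZ_sirr (t := t) hα
  have zb := cZ_sirr (t := t) hβ
  have zc := cZ_sirr (t := t) hγ
  rw [e] at h1 ht hz
  rw [cZ_add, cZ_add] at hz
  simp only [Pi.add_apply] at h1 ht
  rw [show γ 1 = -α 1 - β 1 by linear_combination h1, show γ t = -α t - β t by linear_combination ht] at zc
  have : (C1[t].index : ℂ) ^ 2 * (α t * β 1 - β t * α 1) ^ 2 = 0 := by
    linear_combination β 1 * (-α 1 - β 1) * za + α 1 * (-α 1 - β 1) * zb + α 1 * β 1 * zc -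
      α 1 * β 1 * (-α 1 - β 1) * hz
  exact sub_eq_zero.1 (pow_eq_zero_iff two_ne_zero |>.1 ((mul_eq_zero.1 this).resolve_left (pow_ne_zero _ idx0)))

theorem four (hα : IsSIrr G α) (hβ : IsSIrr G β) (hγ : IsSIrr G γ) (e : Φ = (fun _ => 1) + α + β + γ) :
    cZ t Φ * (α 1 * β 1 * γ 1) = (C1[t].index : ℂ) ^ 2 *
      (α 1 * β 1 * γ 1 + α t ^ 2 * β 1 * γ 1 + β t ^ 2 * α 1 * γ 1 + γ t ^ 2 * α 1 * β 1) := by
  have za := cZ_sirr (t := t) hα
  have zb := cZ_sirr (t := t) hβ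
  have zc := cZ_sirr (t := t) hγ
  rw [e, cZ_add, cZ_add, cZ_add, cZ_one]
  linear_combination β 1 * γ 1 * za + α 1 * γ 1 * zb + α 1 * β 1 * zc

/-- sums over the elements of odd order modulo two -/
def Par (G : Type u) [Group G] [Fintype G] : Prop := ∀ φ : G → ℂ, IsClassFunction G φ → (∀ g, IsIntegral ℤ (φ g)) →
  ∃ r, IsIntegral ℤ r ∧ ∑ g, oddInd g * φ g = φ 1 + 2 * r

theorem odd8 (T : TD t x Q Θ) : (fun g => 8 * oddInd g) = (8 : ℂ) • (fun _ => 1) - (Θ 0 + Θ 1 + Θ 2) := by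
  funext g
  by_cases o : Odd (orderOf g)
  · simp [oddInd, o, T.od _ g o]
  · simp [oddInd, o, T.ev g o]

theorem sum_odd (T : TD t x Q Θ) (φ : G → ℂ) : 8 * ∑ g, oddInd g * φ g =
    Nat.card G * (8 * ⟪φ, fun _ => 1⟫ - (⟪φ, Θ 0⟫ + ⟪φ, Θ 1⟫ + ⟪φ, Θ 2⟫)) := by
  have e : ⟪φ, fun g => 8 * oddInd g⟫ = 8 * ⟪φ, fun _ => 1⟫ - (⟪φ, Θ 0⟫ + ⟪φ, Θ 1⟫ + ⟪φ, Θ 2⟫) := by
    rw [odd8 T, ci_sub_right, ci_smul_right, ci_add_right, ci_add_right, map_ofNat]
  rw [← e, card_mul_ci, Finset.mul_sum]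
  refine Finset.sum_congr rfl fun g _ => ?_
  unfold oddInd
  split_ifs <;> simp [map_ofNat, mul_comm]

theorem card8 (T : TD t x Q Θ) (P : Par G) : ∃ k : ℤ, Odd k ∧ (Nat.card G : ℤ) = 8 * k := by
  obtain ⟨r, ir, e⟩ := P (fun _ => 1) (isClassFunction_const 1) fun _ => isIntegral_one
  have s := sum_odd T fun _ => 1
  rw [ci_one_one, ← ci_conj_symm (Θ 0), ← ci_conj_symm (Θ 1), ← ci_conj_symm (Θ 2), T.one, T.one, T.one, map_one,
    e] at s
  have d := int_dvd_of_isIntegral (a := 5 * Nat.card G - 8) (b := 16) ir (by decide)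
    (by push_cast; linear_combination -s)
  exact ⟨Nat.card G / 8, Int.odd_iff.2 (by omega), by omega⟩

theorem mem_b0 (T : TD t x Q Θ) (P : Par G) (hγ : IsSIrr G γ) (h1 : ⟪γ, fun _ => 1⟫ = 0) {m d : ℤ}
    (hm : ⟪γ, Θ 0⟫ + ⟪γ, Θ 1⟫ + ⟪γ, Θ 2⟫ = m) (hd : γ 1 = d) (c : m % 2 = 1 ∨ (m = 2 ∧ d % 4 = 2)) :
    γ ∈ B0 G ∨ -γ ∈ B0 G := by
  obtain ⟨k, ok, hk⟩ := card8 T P
  have s := sum_odd T γ
  rw [h1, hm, show (Nat.card G : ℂ) = 8 * k by exact_mod_cast hk] at s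
  have key : ∀ n : ℤ, omega γ = n → Odd n := fun n e => by
    rw [omega, div_eq_iff hγ.apply_one_ne_zero, hd] at e
    have : n * d = -(k * m) := by exact_mod_cast (by linear_combination s / 8 - e : (n * d : ℂ) = -(k * m))
    by_contra o
    obtain ⟨j, rfl⟩ := Int.not_odd_iff_even.1 o
    obtain ⟨i, rfl⟩ := ok
    rcases c with c | ⟨rfl, c⟩
    · obtain ⟨l, rfl⟩ : ∃ l, m = 2 * l + 1 := ⟨m / 2, by omega⟩
      have : 2 * (j * d + 2 * i * l + i + l) = -1 := by linear_combination this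
      omega
    · obtain ⟨l, rfl⟩ : ∃ l, d = 2 * l := ⟨d / 2, by omega⟩
      have : 2 * (j * l + i) = -1 := by linarith
      omega
  rcases hγ with i | i
  · obtain ⟨n, e⟩ := omega_int i
    exact Or.inl (mem_B0.2 ⟨i, n, key n e, e⟩)
  · obtain ⟨n, e⟩ := omega_int i
    refine Or.inr (mem_B0.2 ⟨i, n, key n ?_, e⟩)
    rw [← e]; simp [omega, neg_div_neg_eq]

/-- the part outside the principal block -/
noncomputable def La (Θ : Fin 3 → G → ℂ) (Ξ : Fin 4 → G → ℂ) (k : Fin 4) : G → ℂ :=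
  Ξ 0 + Ξ k + Ξ k - Ξ 1 - Ξ 2 - Ξ 3 - (Θ 1 + Θ 2 - Θ 0)

variable (T : TD t x Q Θ) (X : XD t Q Θ Ξ)
include T X

theorem La_virt (k : Fin 4) : IsGeneralizedCharacter G (La Θ Ξ k) :=
  ((((((X.virt 0).add (X.virt k)).add (X.virt k)).sub (X.virt 1)).sub (X.virt 2)).sub (X.virt 3)).sub
    (((T.virt 1).add (T.virt 2)).sub (T.virt 0))

theorem La_od {k : Fin 4} (k0 : k ≠ 0) {y : G} (o : Odd (orderOf y)) : La Θ Ξ k y = 0 := by
  have := X.od k k0 y o
  simp only [La, Pi.sub_apply, Pi.add_apply, T.od _ y o]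
  linear_combination this

theorem th' (k : Fin 4) (i : Fin 3) : ⟪Θ i, Ξ k⟫ = if i = 0 then 0 else if k = 0 then 3 else -1 := by
  rw [(T.virt i).ci_comm (X.virt k), X.th]

theorem La_th {k : Fin 4} (k0 : k ≠ 0) (i : Fin 3) : ⟪Θ i, La Θ Ξ k⟫ = 0 := by
  simp only [La, ci_sub_right, ci_add_right, th' T X, T.gram, if_neg k0]
  fin_cases i <;> simp <;> norm_num

theorem La_xi {k j : Fin 4} (k0 : k ≠ 0) (j0 : j ≠ 0) : ⟪Ξ j, La Θ Ξ k⟫ = if j = k then 1 else -1 := by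
  simp only [La, ci_sub_right, ci_add_right, X.th, X.gram, if_neg k0, if_neg j0]
  fin_cases j <;> fin_cases k <;> simp at j0 k0 ⊢ <;> norm_num

theorem La_La {k j : Fin 4} (k0 : k ≠ 0) (j0 : j ≠ 0) : ⟪La Θ Ξ j, La Θ Ξ k⟫ = if j = k then 4 else 0 := by
  have z : ⟪Ξ 0, La Θ Ξ k⟫ = 1 := by
    simp only [La, ci_sub_right, ci_add_right, X.th, X.gram, if_neg k0]
    simp; norm_num
  conv_lhs => rw [La]
  simp only [ci_sub_left, ci_add_left, La_th T X k0, z, La_xi T X k0 j0, La_xi T X k0 (j := 1) (by decide),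
    La_xi T X k0 (j := 2) (by decide), La_xi T X k0 (j := 3) (by decide)]
  fin_cases j <;> fin_cases k <;> simp at j0 k0 ⊢ <;> norm_num

theorem La_t {h : ℤ} (hq : Q + 1 = 2 * h) (k : Fin 4) : La Θ Ξ k t = -8 * h := by
  have e : (Q + 1) / 2 = h := by omega
  have := congrArg (Int.cast : ℤ → ℂ) hq
  push_cast at this
  simp only [La, Pi.sub_apply, Pi.add_apply, X.vt, T.vt]
  simp [xs, e]; linear_combination -2 * this

theorem La_cZ {h : ℤ} (hq : Q + 1 = 2 * h) (h0 : h ≠ 0) (Q0 : Q ≠ 0) {k : Fin 4} (k0 : k ≠ 0) :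
    cZ t (La Θ Ξ k) = -16 * C1[t].index * Q ^ 2 * h := by
  have e : (Q + 1) / 2 = h := by omega
  have q := congrArg (Int.cast : ℤ → ℂ) hq
  have c0 := T.cz 0
  have c1 := T.cz 1
  have c2 := T.cz 2
  simp only [xs, e, Matrix.cons_val_zero, Matrix.cons_val_one, Matrix.cons_val] at c0 c1 c2
  push_cast at q c1 c2
  have d0 : cZ t (Θ 0) = C1[t].index * Q * (Q + 1) ^ 2 * (Q - 1) :=
    mul_right_cancel₀ (show (Q : ℂ) ≠ 0 by exact_mod_cast Q0) (by linear_combination c0)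
  have h0' : (h : ℂ) ≠ 0 := by exact_mod_cast h0
  have d1 : cZ t (Θ 1) = C1[t].index * Q ^ 2 * (4 * h * (h + 1)) :=
    mul_right_cancel₀ (neg_ne_zero.2 h0') (by rw [c1, mul_pow, q]; ring)
  have d2 : cZ t (Θ 2) = C1[t].index * Q ^ 2 * (4 * h * (h + 1)) :=
    mul_right_cancel₀ (neg_ne_zero.2 h0') (by rw [c2, mul_pow, q]; ring)
  simp only [La, cZ_sub, cZ_add, X.cz, if_neg k0, d0, d1, d2]
  simp
  obtain rfl : Q = 2 * h - 1 := by omega
  push_cast; ring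

theorem La_b0 {k : Fin 4} (k0 : k ≠ 0) (hγ : γ ∈ B0 G ∨ -γ ∈ B0 G) : ⟪γ, La Θ Ξ k⟫ = 0 := by
  have key : ∀ γ ∈ B0 G, ⟪γ, La Θ Ξ k⟫ = 0 := fun γ hγ => by
    obtain ⟨c, e⟩ := T.sec γ hγ
    have : ⟪γ, La Θ Ξ k⟫ = ⟪c 0 • Θ 0 + c 1 • Θ 1 + c 2 • Θ 2, La Θ Ξ k⟫ :=
      congrArg (_ * ·) (Finset.sum_congr rfl fun y _ => by
        by_cases o : Odd (orderOf y)
        · simp [La_od T X k0 o]
        · simp [e y o])
    simp [this, ci_add_left, ci_smul_left, La_th T X k0]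
  rcases hγ with i | i
  · exact key γ i
  · simpa [ci_neg_left] using key _ i

theorem xi_eq {k : Fin 4} (k0 : k ≠ 0) (h : ∀ k, k ≠ 0 → ⟪γ, La Θ Ξ k⟫ = 0) : ⟪γ, Ξ k⟫ = ⟪γ, Ξ 1⟫ := by
  have a := h k k0
  have b := h 1 (by decide)
  simp only [La, ci_sub_right, ci_add_right] at a b
  linear_combination (a - b) / 2

/-- The principal block part has norm two. -/
theorem gen2 {h : ℤ} (hq : Q + 1 = 2 * h) (h0 : h ≠ 0) (Q0 : Q ≠ 0) (hα : IsSIrr G α) (hβ : IsSIrr G β)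
    (o : ⟪α, β⟫ = 0) (la : ∀ k, k ≠ 0 → ⟪α, La Θ Ξ k⟫ = 0) (lb : ∀ k, k ≠ 0 → ⟪β, La Θ Ξ k⟫ = 0)
    (ca : ⟪α, Ξ 1⟫ = 1) (cb : ⟪β, Ξ 1⟫ = 1) (v : α t + β t = -2 * h) :
    α t * β 1 = β t * α 1 ∧ Q ^ 2 * (α 1 + β 1) = 2 * h * C1[t].index := by
  have ca' : ∀ k, k ≠ 0 → ⟪α, Ξ k⟫ = 1 := fun k k0 => (xi_eq T X k0 la).trans ca
  have cb' : ∀ k, k ≠ 0 → ⟪β, Ξ k⟫ = 1 := fun k k0 => (xi_eq T X k0 lb).trans cb
  have ca'' : ∀ k, k ≠ 0 → ⟪Ξ k, α⟫ = 1 := fun k k0 => by rw [← ci_conj_symm, ca' k k0, map_one]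
  have cb'' : ∀ k, k ≠ 0 → ⟪Ξ k, β⟫ = 1 := fun k k0 => by rw [← ci_conj_symm, cb' k k0, map_one]
  have g : ∀ k j, k ≠ 0 → j ≠ 0 → ⟪Ξ k - α - β, Ξ j - α - β⟫ = if k = j then 1 else 0 := fun k j k0 j0 => by
    simp only [ci_sub_left, ci_sub_right, X.gram, if_neg k0, if_neg j0, ca' j j0, cb' j j0, ca'' k k0, cb'' k k0,
      hα.ci_self, hβ.ci_self, o, ci_eq_zero_symm o]
    split_ifs <;> norm_num
  have vz : ∀ k, IsGeneralizedCharacter G (Ξ k - α - β) := fun k => ((X.virt k).sub hα.virt).sub hβ.virt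
  have s : ∀ k, k ≠ 0 → IsSIrr G (Ξ k - α - β) := fun k k0 => (vz k).isSIrr_of_ci_self (by rw [g k k k0 k0, if_pos rfl])
  have l : ∀ k, k ≠ 0 → ⟪Ξ k - α - β, La Θ Ξ 1⟫ = if k = 1 then 1 else -1 := fun k k0 => by
    rw [ci_sub_left, ci_sub_left, la 1 (by decide), lb 1 (by decide), La_xi T X (by decide) k0]; simp
  have l' : ∀ k, k ≠ 0 → ⟪La Θ Ξ 1, Ξ k - α - β⟫ = if k = 1 then 1 else -1 := fun k k0 => by
    rw [(La_virt T X 1).ci_comm (vz k), l k k0]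
  have s0 : IsSIrr G (La Θ Ξ 1 - (Ξ 1 - α - β) + (Ξ 2 - α - β) + (Ξ 3 - α - β)) :=
    ((((La_virt T X 1).sub (vz 1)).add (vz 2)).add (vz 3)).isSIrr_of_ci_self (by
      generalize hz : (fun k => Ξ k - α - β) = Z at g l l'
      have e : ∀ k, Ξ k - α - β = Z k := fun k => congrFun hz k
      simp only [e] at g l l' ⊢
      simp only [ci_add_left, ci_add_right, ci_sub_left, ci_sub_right, La_La T X (k := 1) (j := 1) (by decide) (by decide),
        g 1 1 (by decide) (by decide), g 1 2 (by decide) (by decide), g 1 3 (by decide) (by decide),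
        g 2 1 (by decide) (by decide), g 2 2 (by decide) (by decide), g 2 3 (by decide) (by decide),
        g 3 1 (by decide) (by decide), g 3 2 (by decide) (by decide), g 3 3 (by decide) (by decide),
        l 1 (by decide), l 2 (by decide), l 3 (by decide), l' 1 (by decide), l' 2 (by decide), l' 3 (by decide)]
      simp; norm_num)
  refine ⟨three0 hα hβ (s 1 (by decide)) (Φ := Ξ 1) (by abel) (X.v1 1) (X.vt 1) (by rw [X.cz]; rfl), ?_⟩
  have z0 := cZ_sirr (t := t) s0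
  have z1 := cZ_sirr (t := t) (s 1 (by decide))
  have z2 := cZ_sirr (t := t) (s 2 (by decide))
  have z3 := cZ_sirr (t := t) (s 3 (by decide))
  rw [cZ_add, cZ_add, cZ_sub (α := La Θ Ξ 1), La_cZ T X hq h0 Q0 (by decide)] at z0
  simp only [Pi.add_apply, Pi.sub_apply, X.v1, X.vt, La_t T X hq, La_od T X (k := 1) (by decide) (y := 1) (by simp)]
    at z0 z1 z2 z3
  rw [show (0 : ℂ) - α t - β t = 2 * h by linear_combination -v] at z0 z1 z2 z3
  refine mul_left_cancel₀ (mul_ne_zero (mul_ne_zero (show (16 : ℂ) ≠ 0 by norm_num) (idx0 (t := t)))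
    (show (h : ℂ) ≠ 0 by exact_mod_cast h0)) ?_
  linear_combination z0 + z1 - z2 - z3

/-- The principal block part does not have norm one. -/
theorem gen1 (P : Par G) {h : ℤ} (hq : Q + 1 = 2 * h) (h0 : h ≠ 0) (t1 : ¬ Odd (orderOf t)) (hα : IsSIrr G α)
    (la : ∀ k, k ≠ 0 → ⟪α, La Θ Ξ k⟫ = 0) (ca : ⟪α, Ξ 1⟫ = 1) (v : α t = -2 * h)
    (pe : ∀ φ, IsSIrr G φ → ⟪Ξ 1, φ⟫ ≠ 0 → ⟪φ, α⟫ = 0 → ⟪φ, fun _ => 1⟫ = 0 ∧ ∀ i, ⟪φ, Θ i⟫ = 0) : False := by
  obtain ⟨k, ok, hk⟩ := card8 T P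
  have hk' : (Nat.card G : ℂ) = 8 * k := by exact_mod_cast hk
  have ca' : ⟪Ξ 1, α⟫ = 1 := by rw [← ci_conj_symm, ca, map_one]
  obtain ⟨φ, ψ, hφ, hψ, o1, o2, o3, e⟩ := three_dec (X.virt 1) (nsq_eq_of_ci (by rw [X.gram]; simp)) hα ca'
  -- the section norm
  have key : ∀ f, IsSIrr G f → ⟪f, fun _ => 1⟫ = 0 → (∀ i, ⟪f, Θ i⟫ = 0) → ∀ p q r : ℤ, ⟪f, La Θ Ξ 1⟫ = p →
      ⟪f, La Θ Ξ 2⟫ = q → ⟪f, La Θ Ξ 3⟫ = r → p ^ 2 + q ^ 2 + r ^ 2 ≤ 3 ∧
        (p ^ 2 + q ^ 2 + r ^ 2 = 3 → f t = -2 * h * (p + q + r)) := by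
    intro f hf f1 fθ p q r hp hq' hr
    obtain ⟨d, hd⟩ := hf.virt.exists_int_one
    have d0 : d ≠ 0 := by have := hf.apply_one_ne_zero; rw [hd] at this; exact_mod_cast this
    obtain ⟨r1, i1, e1⟩ := P f hf.isClassFunction hf.virt.isIntegral
    have s1 := sum_odd T f
    rw [f1, fθ, fθ, fθ, e1, hd] at s1
    have d2 := int_dvd_of_isIntegral (a := -d) (b := 2) i1 (by decide) (by push_cast; linear_combination -s1 / 8)
    obtain ⟨r2, i2, e2⟩ := P (f * conjFun f) (hf.virt.mul hf.virt.conjFun).isClassFunction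
      (hf.virt.mul hf.virt.conjFun).isIntegral
    obtain ⟨m, hm⟩ : ∃ m : ℤ, 8 * ∑ g, oddInd g * (f * conjFun f) g = Nat.card G * m := by
      have vf := hf.virt.mul hf.virt.conjFun
      obtain ⟨a, ha⟩ := vf.ci_int virt_one
      obtain ⟨b, hb⟩ := vf.ci_int (T.virt 0)
      obtain ⟨c, hc⟩ := vf.ci_int (T.virt 1)
      obtain ⟨e, he⟩ := vf.ci_int (T.virt 2)
      exact ⟨8 * a - (b + c + e), by rw [sum_odd T, ha, hb, hc, he]; push_cast; ring⟩
    have m2 : m % 2 = 0 := by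
      rw [e2, hk', Pi.mul_apply, conjFun_apply, hd, map_intCast] at hm
      obtain ⟨j, hj⟩ := int_dvd_of_isIntegral (a := k * m - d * d) (b := 2) i2 (by decide)
        (by push_cast; linear_combination -hm / 8)
      obtain ⟨i, rfl⟩ := ok
      obtain ⟨c, hc⟩ := Int.dvd_neg.1 d2
      have : m = 2 * (j - i * m + 2 * c * c) := by rw [hc] at hj; linear_combination hj
      omega
    let od : G → ℂ := fun g => oddInd g * f g
    have n1 : ⟪od, od⟫ = m / 8 := by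
      refine mul_left_cancel₀ (card_ne_zero_complex G) ?_
      rw [card_mul_ci, Finset.sum_congr rfl fun g _ => show _ = oddInd g * (f * conjFun f) g from ?_]
      · linear_combination hm / 8
      · simp only [od, oddInd]; split_ifs <;> simp
    have n2 : ⟪od, f⟫ = m / 8 := n1 ▸ congrArg (_ * ·) (Finset.sum_congr rfl fun g _ => by
      simp only [od, oddInd]; split_ifs <;> simp)
    have n3 : ⟪f, od⟫ = m / 8 := by rw [← ci_conj_symm, n2]; simp [map_ofNat]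
    have n4 : ∀ k, k ≠ 0 → ⟪od, La Θ Ξ k⟫ = 0 := fun k k0 => by
      rw [ci_def, Finset.sum_eq_zero fun g _ => ?_, mul_zero]
      simp only [od, oddInd]
      split_ifs with o
      · simp [La_od T X k0 o]
      · simp
    have m0 : 0 < m := by
      have a := nsq_pos (φ := od) fun z => d0 (by
        have := congrFun z 1
        simp only [od, oddInd, orderOf_one, odd_one, if_true, one_mul, hd, Pi.zero_apply] at this
        exact_mod_cast this)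
      rw [nsq_eq_of_ci (r := m / 8) (by rw [n1]; push_cast; rfl)] at a
      exact_mod_cast (by linarith : (0 : ℝ) < m)
    let E : G → ℂ := f - od - ((p / 4 : ℂ) • La Θ Ξ 1 + (q / 4 : ℂ) • La Θ Ξ 2 + (r / 4 : ℂ) • La Θ Ξ 3)
    have nE : ⟪E, E⟫ = ((1 - m / 8 - (p ^ 2 + q ^ 2 + r ^ 2) / 4 : ℝ) : ℂ) := by
      simp only [E, ci_sub_left, ci_sub_right, ci_add_left, ci_add_right, ci_smul_left, ci_smul_right, hf.ci_self,
        n1, n2, n3, hp, hq', hr, ci_symm_of_int hp, ci_symm_of_int hq', ci_symm_of_int hr,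
        n4 1 (by decide), n4 2 (by decide), n4 3 (by decide), ci_eq_zero_symm (n4 1 (by decide)),
        ci_eq_zero_symm (n4 2 (by decide)), ci_eq_zero_symm (n4 3 (by decide)),
        La_La T X (k := 1) (j := 1) (by decide) (by decide), La_La T X (k := 1) (j := 2) (by decide) (by decide),
        La_La T X (k := 1) (j := 3) (by decide) (by decide), La_La T X (k := 2) (j := 1) (by decide) (by decide),
        La_La T X (k := 2) (j := 2) (by decide) (by decide), La_La T X (k := 2) (j := 3) (by decide) (by decide),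
        La_La T X (k := 3) (j := 1) (by decide) (by decide), La_La T X (k := 3) (j := 2) (by decide) (by decide),
        La_La T X (k := 3) (j := 3) (by decide) (by decide)]
      simp [map_ofNat]; ring
    have nE' := nsq_eq_of_ci nE
    have nn := nsq_nonneg E
    rw [nE'] at nn
    have nn' : m + 2 * (p ^ 2 + q ^ 2 + r ^ 2) ≤ 8 := by exact_mod_cast (by linarith : (m + 2 * (p ^ 2 + q ^ 2 + r ^ 2) : ℝ) ≤ 8)
    refine ⟨by omega, fun s3 => ?_⟩
    obtain rfl : m = 2 := by omega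
    have s3' : (p ^ 2 + q ^ 2 + r ^ 2 : ℝ) = 3 := by exact_mod_cast s3
    have := congrFun (nsq_eq_zero.1 (nE'.trans (by rw [s3']; norm_num))) t
    simp only [E, od, oddInd, if_neg t1, Pi.sub_apply, Pi.add_apply, Pi.smul_apply, La_t T X hq, smul_eq_mul,
      Pi.zero_apply] at this
    linear_combination this
  have cφ : ⟪Ξ 1, φ⟫ = 1 := by
    rw [e, ci_add_left, ci_add_left, ci_eq_zero_symm o2, hφ.ci_self, ci_eq_zero_symm o1]; simp
  have cψ : ⟪Ξ 1, ψ⟫ = 1 := by rw [e, ci_add_left, ci_add_left, ci_eq_zero_symm o3, hψ.ci_self, o1]; simp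
  have main : ∀ {φ ψ : G → ℂ}, IsSIrr G φ → IsSIrr G ψ → Ξ 1 = α + (φ + ψ) → φ t = 2 * h → False := by
    intro φ ψ hφ hψ e vφ
    have a := congrFun e t
    rw [X.vt, Pi.add_apply, Pi.add_apply, v, vφ] at a
    have := three0 hα hψ hφ (Φ := Ξ 1) (by rw [e]; abel) (X.v1 1) (X.vt 1) (by rw [X.cz]; rfl)
    rw [v, show ψ t = 0 by linear_combination -a, zero_mul, mul_eq_zero, mul_eq_zero] at this
    exact this.elim (fun e => e.elim (by norm_num) (by exact_mod_cast h0)) hψ.apply_one_ne_zero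
  obtain ⟨a1, a2⟩ := pe φ hφ (by rw [cφ]; exact one_ne_zero) o2
  obtain ⟨b1, b2⟩ := pe ψ hψ (by rw [cψ]; exact one_ne_zero) o3
  choose p hp using fun k => hφ.virt.ci_int (La_virt T X k)
  choose q hq' using fun k => hψ.virt.ci_int (La_virt T X k)
  obtain ⟨k1, k2⟩ := key φ hφ a1 a2 _ _ _ (hp 1) (hp 2) (hp 3)
  obtain ⟨k3, k4⟩ := key ψ hψ b1 b2 _ _ _ (hq' 1) (hq' 2) (hq' 3)
  have s : ∀ k, k ≠ 0 → p k + q k = if 1 = k then 1 else -1 := fun k k0 => by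
    have := La_xi T X k0 (j := 1) (by decide)
    rw [e, ci_add_left, ci_add_left, la k k0, hp, hq', zero_add] at this
    split_ifs at this ⊢ <;> exact_mod_cast this
  have d : ∀ k, 2 ∣ p k - p 1 := fun k => by
    obtain ⟨c, hc⟩ := hφ.virt.ci_int ((X.virt k).sub (X.virt 1))
    have a := hp k
    have b := hp 1
    simp only [La, ci_sub_right, ci_add_right] at a b hc
    exact ⟨c, by exact_mod_cast (by linear_combination b - a + 2 * hc : (p k - p 1 : ℂ) = 2 * c)⟩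
  have s1 := s 1 (by decide)
  have s2 := s 2 (by decide)
  have s3 := s 3 (by decide)
  have d2 := d 2
  have d3 := d 3
  simp only [if_true, show ¬ (1 : Fin 4) = 2 by decide, show ¬ (1 : Fin 4) = 3 by decide, if_false] at s1 s2 s3
  have b : ∀ {a b c : ℤ}, a ^ 2 + b ^ 2 + c ^ 2 ≤ 3 → (-2 < a ∧ a < 2) ∧ (-2 < b ∧ b < 2) ∧ (-2 < c ∧ c < 2) :=
    fun e => ⟨⟨by nlinarith, by nlinarith⟩, ⟨by nlinarith, by nlinarith⟩, by nlinarith, by nlinarith⟩
  have := b k1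
  have := b k3
  rcases show (p 1 = 1 ∧ p 2 = -1 ∧ p 3 = -1) ∨ (q 1 = 1 ∧ q 2 = -1 ∧ q 3 = -1) by omega with ⟨u1, u2, u3⟩ | ⟨u1, u2, u3⟩
  · rw [u1, u2, u3] at k2
    exact main hφ hψ e ((k2 rfl).trans (by push_cast; ring))
  · rw [u1, u2, u3] at k4
    exact main hψ hφ (by rw [e, add_comm φ]) ((k4 rfl).trans (by push_cast; ring))

end Cfsg.Agent.WA.JE
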