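import Cfsg.Agent.WA.JE2

/-! The order of a group of Ree type. -/

set_option autoImplicit false
set_option linter.unusedSectionVars false

namespace Cfsg.Agent.WA.JE

open Cfsg Subgroup Cfsg.Agent.GT Cfsg.Agent.Char Cfsg.Agent.BS Cfsg.Agent.B84C Cfsg.Agent.B84H Cfsg.Agent.Cls
open scoped Classical ComplexConjugate

universe u

def AR2 : Prop := ∀ Q h m A B C D : ℤ, IsPrimePow Q.natAbs → Q + 1 = 2 * h → h % 4 = 3 → 27 ≤ |Q| → 0 < m →
  m % 8 = 7 → A % 8 = 1 → (B + Q) % 8 = 0 → (C + Q) % 8 = 0 → (D - h) % 8 = 0 → 1 + A + B + C = 0 →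
  1 + A - h * m + D = 0 → A ∣ Q ^ 2 * m → B ∣ Q ^ 3 * m → C ∣ Q ^ 3 * m → D ∣ h * Q ^ 2 * m →
  Q * m * (A * B * C + B * C + Q ^ 2 * A * (B + C)) = (Q + 1) ^ 2 * (Q - 1) * (A * B * C) →
  m * (A * D + D + h ^ 2 * A) = h * (4 * h + 5) * (A * D) → False

def AR4 : Prop := ∀ Q h m B C Y : ℤ, IsPrimePow Q.natAbs → Q + 1 = 2 * h → h % 4 = 3 → 27 ≤ |Q| → 0 < m →
  m % 8 = 7 → (B + h - 1) % 8 = 0 → (C + Q) % 8 = 0 → (Y - 2 * h) % 8 = 0 → 1 + 2 * B + C = 0 →
  1 + Y + B - h * m = 0 → B ∣ (h - 1) * Q ^ 2 * m → C ∣ Q ^ 3 * m → Y ∣ 2 * h * Q ^ 2 * m →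
  Q * m * (B * C + 2 * (h - 1) ^ 2 * C + Q ^ 2 * B) = (Q + 1) ^ 2 * (Q - 1) * (B * C) →
  m * (Y * B + 4 * h ^ 2 * B + (h - 1) ^ 2 * Y) = h * (4 * h + 5) * (Y * B) → False

theorem ar1 {Q h n A C B' C' : ℤ} (pp : IsPrimePow Q.natAbs) (hq : Q + 1 = 2 * h) (big : 27 ≤ |Q|)
    (A8 : A % 8 = 1) (hn : n = -(Q ^ 2 * A)) (s0 : 1 + A - Q * A + C = 0) (s1 : 1 + A + B' + C' = 0)
    (E0 : n * (A * (-Q * A) * C + (-Q * A) * C + Q ^ 2 * A * (-Q * A + C)) =
      Q * (Q + 1) ^ 2 * (Q - 1) * (A * (-Q * A) * C))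
    (E1 : n * (A * B' * C' + B' * C' + h ^ 2 * A * (B' + C')) = 4 * Q ^ 2 * h * (h + 1) * (A * B' * C')) :
    n = Q ^ 2 * (Q ^ 2 + Q + 1) ∧ ∃ k, 1 ≤ k ∧ Q = -3 ^ (2 * k + 1) := by
  have Q0 : Q ≠ 0 := by rintro rfl; simp at big
  have A0 : A ≠ 0 := by omega
  have bq : Q ≤ -27 ∨ 27 ≤ Q := by rcases abs_cases Q with e | e <;> omega
  obtain rfl : C = Q * A - A - 1 := by linarith
  subst hn
  have e1 : Q ^ 2 * A ^ 2 * ((Q * A - 1) * (A + (Q ^ 2 + Q + 1))) * (Q - 1) = 0 := by linear_combination E0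
  have e2 : A = -(Q ^ 2 + Q + 1) := by
    rcases mul_eq_zero.1 ((mul_eq_zero.1 ((mul_eq_zero.1 e1).resolve_right (by omega))).resolve_left
      (by positivity)) with e | e
    · have := Int.isUnit_iff.1 (IsUnit.of_mul_eq_one A (sub_eq_zero.1 e))
      omega
    · linarith
  refine ⟨by rw [e2]; ring, ?_⟩
  obtain rfl : C' = -1 - A - B' := by linarith
  have h0 : h ≠ 0 := by omega
  have hQ : Q = 2 * h - 1 := by omega
  have e3 : (3 * (2 * B' + 1 + A)) ^ 2 = -3 * Q * (2 * h * (Q - 1)) ^ 2 := by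
    have : Q ^ 2 * A * (2 * h) * ((3 * (2 * B' + 1 + A)) ^ 2 - -3 * Q * (2 * h * (Q - 1)) ^ 2) = 0 := by
      rw [e2, hQ] at E1 ⊢
      linear_combination 12 * E1
    exact sub_eq_zero.1 ((mul_eq_zero.1 this).resolve_left (by positivity))
  have n0 : 2 * h * (Q - 1) ≠ 0 := mul_ne_zero (by omega) (by omega)
  obtain ⟨c, hc⟩ := (Int.pow_dvd_pow_iff two_ne_zero).1 (show (2 * h * (Q - 1)) ^ 2 ∣ (3 * (2 * B' + 1 + A)) ^ 2 from
    ⟨_, by rw [e3, mul_comm]⟩)
  have e4 : c ^ 2 = -3 * Q := mul_left_cancel₀ (pow_ne_zero 2 n0) (by rw [← mul_pow, ← hc, e3, mul_comm])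
  have qn : Q < 0 := by have := sq_nonneg c; omega
  obtain ⟨p, a, hp, a0, e⟩ := (isPrimePow_nat_iff _).1 pp
  have e5 : c.natAbs ^ 2 = 3 * p ^ a := by
    rw [e]; zify; rw [sq_abs, e4, abs_of_neg qn]; ring
  have c0 : c.natAbs ≠ 0 := fun z => by rw [z] at e5; have := pow_pos hp.pos a; omega
  have f := congrArg (fun n => n.factorization 3) e5
  simp only [Nat.factorization_pow, Nat.factorization_mul (show 3 ≠ 0 by decide) (pow_ne_zero a hp.ne_zero),
    Nat.prime_three.factorization, hp.factorization, Finsupp.smul_apply, Finsupp.add_apply, Finsupp.single_apply,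
    smul_eq_mul, if_true] at f
  by_cases p3 : p = 3
  · subst p3
    simp only [if_true, mul_one] at f
    obtain ⟨k, rfl⟩ : ∃ k, a = 2 * k + 1 := ⟨a / 2, by omega⟩
    have e6 : Q = -3 ^ (2 * k + 1) := by
      have := congrArg (Nat.cast : ℕ → ℤ) e
      push_cast at this
      rw [this, abs_of_neg qn, neg_neg]
    refine ⟨k, by_contra fun k0 => ?_, e6⟩
    rw [show k = 0 by omega] at e6
    omega
  · simp only [if_neg p3, mul_zero] at f
    omega

variable {G : Type u} [Group G] [Fintype G] {t u g w x : G} {L : Subgroup G} {Q : ℤ} {γ : G → ℂ}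
  {Θ : Fin 3 → G → ℂ} {Ξ : Fin 4 → G → ℂ}

theorem par (h : JD t u g w x L Q) : Par G := by
  intro φ c i
  let f : G → ℂ := fun g => oddInd g * φ g
  have fi : ∀ g, IsIntegral ℤ (f g) := fun g => (oddInd_int g).mul (i g)
  have step : ∀ (s : Finset G) (z : G), z * z = 1 → (∀ a ∈ s, z * a * z⁻¹ ∈ s) →
      ∃ r, IsIntegral ℤ r ∧ ∑ a ∈ s, f a = ∑ a ∈ s.filter (fun a => z * a * z⁻¹ = a), f a + 2 * r := by
    intro s z zz hs
    obtain ⟨T, -, e⟩ := sum_invol s (fun a => z * a * z⁻¹) hs (fun a _ => by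
      rw [show z * (z * a * z⁻¹) * z⁻¹ = (z * z) * a * (z * z)⁻¹ by group, zz]; simp) f
      fun a _ => by simp only [f, oddInd_class a z, c a z]
    exact ⟨_, IsIntegral.sum f fun a _ => fi a, e.trans (by rw [nsmul_eq_mul, Nat.cast_ofNat])⟩
  obtain ⟨r1, i1, e1⟩ := step Finset.univ t h.tt fun _ _ => Finset.mem_univ _
  obtain ⟨r2, i2, e2⟩ := step (Finset.univ.filter fun a => t * a * t⁻¹ = a) u h.uu fun a ha => by
    simp only [Finset.mem_filter, Finset.mem_univ, true_and, ← TT.commute_iff_conj] at ha ⊢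
    exact (h.tu.mul_right ha).mul_right h.tu.inv_right
  obtain ⟨r3, i3, e3⟩ := step ((Finset.univ.filter fun a => t * a * t⁻¹ = a).filter fun a => u * a * u⁻¹ = a) w h.ww
    fun a ha => by
      simp only [Finset.mem_filter, Finset.mem_univ, true_and, ← TT.commute_iff_conj] at ha ⊢
      exact ⟨(h.wt.symm.mul_right ha.1).mul_right h.wt.symm.inv_right,
        (h.wu.symm.mul_right ha.2).mul_right h.wu.symm.inv_right⟩
  refine ⟨r1 + r2 + r3, (i1.add i2).add i3, ?_⟩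
  rw [e1, e2, e3, Finset.sum_eq_single 1 (fun a ha a1 => ?_) (by simp)]
  · simp only [f, oddInd, orderOf_one, odd_one, if_true]; ring
  simp only [Finset.mem_filter, Finset.mem_univ, true_and, ← TT.commute_iff_conj] at ha
  have aa : a * a = 1 := by
    obtain ⟨e, he, y, hy, k | k⟩ := h.cU a ha.1.1.symm ha.1.2.symm
    · have := TT.commute_iff_conj.1 ha.2
      rw [k, ← conj_mul, h.wR hy, TT.commute_iff_conj.1 (h.wW' he), mul_right_inj] at this
      rw [k, h.sq1 hy (mul_eq_one_iff_eq_inv.2 this.symm), mul_one, h.toQ3.sqU he]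
    · rw [k, h.outer he hy]
  simp only [f, oddInd]
  rw [if_neg, zero_mul]
  rw [orderOf_eq_prime (p := 2) (by rw [sq, aa]) a1]; decide

theorem deg8 (h : JD t u g w x L Q) (hγ : IsGeneralizedCharacter G γ) {d v : ℤ} (hd : γ 1 = d) (hv : γ t = v) :
    (d - v) % 8 = 0 := by
  let f : M4 × Multiplicative (Fin 2) →* G :=
    h.ψ.noncommCoprod (LY.cyc w (by rw [sq, h.ww])) fun m _ => (h.wW' ⟨m, rfl⟩).symm.pow_right _
  obtain ⟨n, hn⟩ := (hγ.comp f).ci_int virt_one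
  have k : ∀ {s}, s * s = 1 → s ≠ 1 → γ s = v := fun e n => hγ.isClassFunction.eq_of_isConj (h.cj _ e n) ▸ hv
  have k2 : ∀ m, γ (h.ψ m * w) = v := fun m => k (by simpa using h.outer ⟨m, rfl⟩ (one_mem _)) fun e =>
    h.wW (by
      have := inv_mem (show h.ψ m ∈ h.ψ.range from ⟨m, rfl⟩)
      rwa [← eq_inv_of_mul_eq_one_right e] at this)
  rw [ci_one_right, Fintype.sum_prod_type, inv_mul_eq_iff_eq_mul₀ (card_ne_zero_complex _)] at hn
  have ef : ∀ m j, f (m, Multiplicative.ofAdd j) = h.ψ m * w ^ j.val := fun _ _ => rfl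
  simp only [← Multiplicative.ofAdd.sum_comp, Fin.sum_univ_two, ef, Fin.val_zero, Fin.val_one, pow_zero, pow_one,
    mul_one, k2, sum_M4, h.ψ00, h.ψ10, h.ψ01, h.ψ11, hd, hv, k h.uu h.u1, k h.vv h.v1] at hn
  have : d + 7 * v = 8 * n := by
    have c : (Nat.card (M4 × Multiplicative (Fin 2)) : ℂ) = 8 := by simp
    rw [c] at hn
    exact_mod_cast (by linear_combination hn : (d + 7 * v : ℂ) = 8 * n)
  omega

theorem big (h : JD t u g w x L Q) (n : ¬ Commute g x) : 27 ≤ |Q| := by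
  obtain ⟨k, hk⟩ : ∃ k : ℕ, x ^ k = g * x * g⁻¹ := mem_powers_iff_mem_zpowers.2 h.gx
  have e : x ^ (k * k * k) = x ^ 1 := by
    have a : ∀ j : ℕ, g * x ^ j * g⁻¹ = x ^ (k * j) := fun j => by rw [← conj_pow, ← hk, pow_mul]
    rw [mul_assoc, ← a, ← a, hk, show g * (g * (g * x * g⁻¹) * g⁻¹) * g⁻¹ = g ^ 3 * x * (g ^ 3)⁻¹ by
      rw [pow_three]; group, h.g3']; simp
  have n1 : ¬ k ≡ 1 [MOD orderOf x] := fun e =>
    n (TT.commute_iff_conj.2 (by rw [← hk, pow_eq_pow_iff_modEq.2 e, pow_one]))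
  rw [pow_eq_pow_iff_modEq] at e
  have o := h.ord
  have q8 := h.q8
  obtain ⟨j, hj⟩ := h.odd
  by_contra b
  have : orderOf x = 1 ∨ orderOf x = 3 ∨ orderOf x = 5 := by rcases abs_cases Q with e | e <;> omega
  rcases this with r | r | r <;> rw [r] at e n1 <;> unfold Nat.ModEq at e n1
  · omega
  · have := Nat.mod_lt k (show 0 < 3 by decide)
    rw [Nat.mul_mod, Nat.mul_mod k] at e
    generalize k % 3 = i at *
    interval_cases i <;> simp at e n1
  · have := Nat.mod_lt k (show 0 < 5 by decide)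
    rw [Nat.mul_mod, Nat.mul_mod k] at e
    generalize k % 5 = i at *
    interval_cases i <;> simp at e n1

theorem exists_m {Q h B n : ℤ} (hq : Q + 1 = 2 * h) (h4 : h % 4 = 3) (n0 : 0 < n) (Q0 : Q ≠ 0)
    (B8 : (B - h) % 8 = 0) (e : Q ^ 2 * (-B + -B) = 2 * h * n) :
    ∃ m, 0 < m ∧ m % 8 = 7 ∧ n = Q ^ 2 * m ∧ B = -h * m := by
  have c : IsCoprime (Q ^ 2) h := IsCoprime.pow_left ⟨-1, 2, by linarith⟩
  obtain ⟨m, rfl⟩ := c.dvd_of_dvd_mul_left (show Q ^ 2 ∣ h * n from ⟨-B, by linarith⟩)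
  obtain rfl : B = -h * m := mul_left_cancel₀ (pow_ne_zero 2 Q0) (by linarith)
  refine ⟨m, pos_of_mul_pos_left (mul_comm (Q ^ 2) m ▸ n0) (sq_nonneg Q), ?_, rfl, rfl⟩
  have c2 : IsCoprime (8 : ℤ) h := (IsCoprime.pow_left (m := 3) (⟨-(h / 2), 1, by omega⟩ : IsCoprime (2 : ℤ) h))
  have := c2.dvd_of_dvd_mul_left (show 8 ∣ h * (m + 1) from by
    rw [show h * (m + 1) = -(-h * m - h) by ring]; exact (Int.dvd_of_emod_eq_zero B8).neg_right)
  omega

set_option maxHeartbeats 1000000 in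
theorem sa_main (ar2 : AR2) (h : JD t u g w x L Q) (bg : 27 ≤ |Q|) (T : TD t x Q Θ) (X : XD t Q Θ Ξ) {a : G → ℂ}
    {b : Fin 3 → Bool → G → ℂ} (S : SA t Q Θ a b) :
    (C1[t].index : ℤ) = Q ^ 2 * (Q ^ 2 + Q + 1) ∧ ∃ k, 1 ≤ k ∧ Q = -3 ^ (2 * k + 1) := by
  have P := par h
  have q8 := h.q8
  obtain ⟨H, hq⟩ : ∃ H, Q + 1 = 2 * H := ⟨(Q + 1) / 2, by omega⟩
  have eH : (Q + 1) / 2 = H := by omega
  have H0 : H ≠ 0 := by omega
  have Q0 : Q ≠ 0 := by omega
  have qC : (Q : ℂ) + 1 = 2 * H := by exact_mod_cast hq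
  obtain ⟨A, hA⟩ := S.ia.virt.exists_int_one
  choose B hB using fun i e => (S.ib i e).virt.exists_int_one
  have ta : ∀ i, ⟪a, Θ i⟫ = 1 := fun i => by
    rw [S.eq, ci_add_right, ci_add_right, ci_add_right, S.a1, S.ia.ci_self, S.ab, S.ab]; simp
  have tb : ∀ i e j, ⟪b i e, Θ j⟫ = if i = j then 1 else 0 := fun i e j => by
    rw [S.eq, ci_add_right, ci_add_right, ci_add_right, S.b1, ci_eq_zero_symm (S.ab i e)]
    split_ifs with k
    · subst k
      cases e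
      · rw [(S.ib _ _).ci_self, S.bb _ _ _ _ (by simp)]; simp
      · rw [(S.ib _ _).ci_self, S.bb _ _ _ _ (by simp)]; simp
    · rw [S.bb _ _ _ _ (by simp [k]), S.bb _ _ _ _ (by simp [k])]; simp
  have la : ∀ k, k ≠ 0 → ⟪a, La Θ Ξ k⟫ = 0 := fun k k0 =>
    La_b0 T X k0 (mem_b0 T P S.ia S.a1 (m := 3) (by simp [ta]; norm_num) hA (Or.inl rfl))
  have lb : ∀ i e k, k ≠ 0 → ⟪b i e, La Θ Ξ k⟫ = 0 := fun i e k k0 =>
    La_b0 T X k0 (mem_b0 T P (S.ib i e) (S.b1 i e) (m := 1) (by fin_cases i <;> simp [tb]) (hB i e) (Or.inl rfl))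
  obtain ⟨ma, hma⟩ := S.ia.virt.ci_int (X.virt 1)
  choose m hm using fun i e => (S.ib i e).virt.ci_int (X.virt 1)
  have s : ∀ i, ma + m i true + m i false = if i = 0 then 0 else -1 := fun i => by
    have := th' T X 1 i
    rw [S.eq, ci_add_left, ci_add_left, ci_add_left, hma, hm, hm, ← ci_conj_symm, X.one] at this
    simp only [show ¬ (1 : Fin 4) = 0 by decide, if_false, map_zero, zero_add] at this
    split_ifs at this ⊢ <;> exact_mod_cast this
  have bes := bessel_orthonormal Finset.univ (fun o : Option (Fin 3 × Bool) => o.elim a fun p => b p.1 p.2)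
    (fun i _ j _ => by
      rcases i with _ | ⟨i, e⟩ <;> rcases j with _ | ⟨j, e'⟩
      · simpa using S.ia.ci_self
      · simpa using S.ab j e'
      · simpa using ci_eq_zero_symm (S.ab i e)
      · by_cases k : (i, e) = (j, e')
        · rw [k]; simpa using (S.ib j e').ci_self
        · rw [if_neg (by simpa using k)]; exact S.bb _ _ _ _ k) (Ξ 1 + Ξ 2)
  have c2 : ∀ {γ : G → ℂ} {m : ℤ}, (∀ k, k ≠ 0 → ⟪γ, La Θ Ξ k⟫ = 0) → ⟪γ, Ξ 1⟫ = m →
      ‖⟪Ξ 1 + Ξ 2, γ⟫‖ ^ 2 = 4 * m ^ 2 := fun {γ m} l e => by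
    rw [← ci_conj_symm, ci_add_right, xi_eq T X (k := 2) (by decide) l, e, Complex.norm_conj, ← Int.cast_add,
      Complex.norm_intCast, sq_abs]; push_cast; ring
  rw [Fintype.sum_option, Fintype.sum_prod_type, nsq_eq_of_ci (r := 10) (by
    simp only [ci_add_left, ci_add_right, X.gram]; simp; norm_num)] at bes
  simp only [Option.elim, c2 la hma, c2 (lb _ _) (hm _ _), Fin.sum_univ_three, Fintype.sum_bool] at bes
  have bes' : ma ^ 2 + (m 0 true ^ 2 + m 0 false ^ 2) + (m 1 true ^ 2 + m 1 false ^ 2) +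
      (m 2 true ^ 2 + m 2 false ^ 2) < 3 := by
    exact_mod_cast (by linarith : (ma ^ 2 + (m 0 true ^ 2 + m 0 false ^ 2) + (m 1 true ^ 2 + m 1 false ^ 2) +
      (m 2 true ^ 2 + m 2 false ^ 2) : ℝ) < 3)
  have ab : ∀ z : ℤ, z ≤ z ^ 2 ∧ -z ≤ z ^ 2 := fun z => ⟨by nlinarith [sq_nonneg (2 * z - 1)], by nlinarith [sq_nonneg (2 * z + 1)]⟩
  have s0 := s 0
  have s1 := s 1
  have s2 := s 2
  simp only [if_true, show ¬ (1 : Fin 3) = 0 by decide, show ¬ (2 : Fin 3) = 0 by decide, if_false] at s0 s1 s2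
  have d : ∀ i e, 1 + A + B i e + B i (!e) = 0 := fun i e => by
    have := T.od i 1 (by simp)
    rw [S.eq] at this
    simp only [Pi.add_apply, hA, hB] at this
    have : 1 + A + B i true + B i false = 0 := by exact_mod_cast this
    cases e <;> simp <;> linarith
  have E : ∀ i e, xs Q i * C1[t].index * (A * B i e * B i (!e) + B i e * B i (!e) + xs Q i ^ 2 * A * (B i e + B i (!e))) =
      (Q * (Q + 1)) ^ 2 * (xs Q i - 1) * (A * B i e * B i (!e)) := fun i e => by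
    have f := four (t := t) S.ia (S.ib i true) (S.ib i false) (S.eq i)
    have z := T.cz i
    rw [hA, hB, hB, S.va, S.vb, S.vb] at f
    have : (xs Q i * C1[t].index * (A * B i true * B i false + B i true * B i false +
        xs Q i ^ 2 * A * (B i true + B i false)) : ℂ) = (Q * (Q + 1)) ^ 2 * (xs Q i - 1) * (A * B i true * B i false) :=
      mul_left_cancel₀ (idx0 (t := t)) (by linear_combination (A * B i true * B i false : ℂ) * z - (xs Q i : ℂ) * f)
    have : xs Q i * C1[t].index * (A * B i true * B i false + B i true * B i false +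
        xs Q i ^ 2 * A * (B i true + B i false)) = (Q * (Q + 1)) ^ 2 * (xs Q i - 1) * (A * B i true * B i false) := by
      exact_mod_cast this
    cases e <;> simp only [Bool.not_true, Bool.not_false] <;> linear_combination this
  have A8 : A % 8 = 1 := by have := deg8 h S.ia.virt hA (v := 1) (by simpa using S.va); omega
  have v0 : ∀ e, b 0 e t = (-Q : ℤ) := fun e => by simp [S.vb, xs]
  have v1 : ∀ e, b 1 e t = H := fun e => by simp [S.vb, xs, eH]
  have v2 : ∀ e, b 2 e t = H := fun e => by simp [S.vb, xs, eH]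
  have x0 : xs Q 0 = Q := rfl
  have x1 : xs Q 1 = -H := by simp [xs, eH]
  rcases show (ma = -1 ∧ ∃ e, m 0 e = 1) ∨ ∃ e e', m 1 e = -1 ∧ m 2 e' = -1 by
    have := ab ma; have := ab (m 0 true); have := ab (m 0 false); have := ab (m 1 true); have := ab (m 1 false)
    have := ab (m 2 true); have := ab (m 2 false)
    simp only [Bool.exists_bool]
    omega with ⟨e1, e, e2⟩ | ⟨e, e', e1, e2⟩
  · obtain ⟨g1, g2⟩ := gen2 T X hq H0 Q0 S.ia.neg (S.ib 0 e) (by rw [ci_neg_left, S.ab, neg_zero])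
      (fun k k0 => by rw [ci_neg_left, la k k0, neg_zero]) (lb 0 e) (by rw [ci_neg_left, hma, e1]; simp)
      (by rw [hm, e2]; simp) (by rw [Pi.neg_apply, S.va, v0]; push_cast; linear_combination -qC)
    rw [Pi.neg_apply, Pi.neg_apply, S.va, v0, hA, hB] at g1
    rw [Pi.neg_apply, hA, hB] at g2
    have g1' : B 0 e = -Q * A := by exact_mod_cast (by push_cast at g1; linear_combination -g1 : (B 0 e : ℂ) = -Q * A)
    have g2' : Q ^ 2 * (-A + B 0 e) = 2 * H * C1[t].index := by exact_mod_cast g2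
    have E0 := E 0 e
    have E1 := E 1 true
    have d0 := d 0 e
    rw [g1'] at E0 d0 g2'
    rw [x0] at E0
    rw [x1] at E1
    exact ar1 (C := B 0 (!e)) h.pp hq bg A8 (mul_left_cancel₀ (show 2 * H ≠ 0 by omega) (by rw [← g2', ← hq]; ring))
      (by linear_combination d0) (d 1 true) (mul_left_cancel₀ Q0 (by linear_combination E0))
      (mul_left_cancel₀ (neg_ne_zero.2 H0) (by rw [mul_pow, hq] at E1; linear_combination E1))
  · obtain ⟨g1, g2⟩ := gen2 T X hq H0 Q0 (S.ib 1 e).neg (S.ib 2 e').neg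
      (by rw [ci_neg_left, ci_neg_right, S.bb _ _ _ _ (by simp)]; simp)
      (fun k k0 => by rw [ci_neg_left, lb _ _ k k0, neg_zero]) (fun k k0 => by rw [ci_neg_left, lb _ _ k k0, neg_zero])
      (by rw [ci_neg_left, hm, e1]; simp) (by rw [ci_neg_left, hm, e2]; simp)
      (by rw [Pi.neg_apply, Pi.neg_apply, v1, v2]; ring)
    simp only [Pi.neg_apply, v1, v2, hB] at g1 g2
    have g1' : B 2 e' = B 1 e := by
      exact_mod_cast mul_left_cancel₀ (show (H : ℂ) ≠ 0 by exact_mod_cast H0)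
        (by linear_combination g1 : (H * B 2 e' : ℂ) = H * B 1 e)
    rw [g1'] at g2
    obtain ⟨μ, μ0, μ8, hn, hb⟩ := exists_m hq (by omega) (n := C1[t].index)
      (by exact_mod_cast Nat.pos_of_ne_zero index_ne_zero_of_finite) Q0 (deg8 h (S.ib 1 e).virt (hB _ _) (v1 e))
      (by exact_mod_cast g2)
    have E0 := E 0 true
    have E1 := E 1 e
    have d1 := d 1 e
    have D0 := dvd_val S.ia hA (v := 1) (by simpa using S.va)
    have D1 := fun e => dvd_val (S.ib 0 e) (hB _ _) (v0 e)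
    have D2 := dvd_val (S.ib 1 (!e)) (hB _ _) (v1 _)
    rw [hn] at E0 E1 D0 D1 D2
    rw [hb] at E1 d1
    rw [x0] at E0
    rw [x1] at E1
    exact (ar2 Q H μ A (B 0 true) (B 0 false) (B 1 (!e)) h.pp hq (by omega) bg μ0 μ8 A8
      (by simpa using deg8 h (S.ib 0 _).virt (hB _ _) (v0 _)) (by simpa using deg8 h (S.ib 0 _).virt (hB _ _) (v0 _))
      (deg8 h (S.ib 1 _).virt (hB _ _) (v1 _)) (d 0 true) (by linear_combination d1) (by simpa using D0)
      (by rw [show Q ^ 3 * μ = -(Q ^ 2 * μ * -Q) by ring]; exact (D1 _).neg_right)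
      (by rw [show Q ^ 3 * μ = -(Q ^ 2 * μ * -Q) by ring]; exact (D1 _).neg_right)
      (by rw [show H * Q ^ 2 * μ = Q ^ 2 * μ * H by ring]; exact D2)
      (mul_left_cancel₀ (pow_ne_zero 2 Q0) (by simp only [Bool.not_true] at E0; linear_combination E0))
      (mul_left_cancel₀ (mul_ne_zero (mul_ne_zero (pow_ne_zero 2 Q0) (pow_ne_zero 2 H0)) μ0.ne')
        (by rw [mul_pow, hq] at E1; linear_combination E1))).elim

set_option maxHeartbeats 1000000 in
theorem sb_main (ar4 : AR4) (h : JD t u g w x L Q) (bg : 27 ≤ |Q|) (T : TD t x Q Θ) (X : XD t Q Θ Ξ)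
    {a c : Fin 3 → G → ℂ} (S : SB t Q Θ a c) : False := by
  have P := par h
  have q8 := h.q8
  obtain ⟨H, hq⟩ : ∃ H, Q + 1 = 2 * H := ⟨(Q + 1) / 2, by omega⟩
  have eH : (Q + 1) / 2 = H := by omega
  have H0 : H ≠ 0 := by omega
  have Q0 : Q ≠ 0 := by omega
  have qC : (Q : ℂ) + 1 = 2 * H := by exact_mod_cast hq
  choose A hA using fun i => (S.ia i).virt.exists_int_one
  choose C hC using fun i => (S.ic i).virt.exists_int_one
  have aa : ∀ i j, ⟪a i, a j⟫ = if i = j then 1 else 0 := fun i j => by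
    split_ifs with k
    · rw [k, (S.ia j).ci_self]
    · exact S.aa i j k
  have cc : ∀ i j, ⟪c i, c j⟫ = if i = j then 1 else 0 := fun i j => by
    split_ifs with k
    · rw [k, (S.ic j).ci_self]
    · exact S.cc i j k
  have ta : ∀ i j, ⟪a i, Θ j⟫ = if i = j then 0 else 1 := fun i j => by
    rw [S.eq, ci_add_right, ci_add_right, ci_add_right, S.a1, aa, aa, S.ac]
    fin_cases i <;> fin_cases j <;> simp
  have tc : ∀ i j, ⟪c i, Θ j⟫ = if i = j then 1 else 0 := fun i j => by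
    rw [S.eq, ci_add_right, ci_add_right, ci_add_right, S.c1, ci_eq_zero_symm (S.ac _ i), ci_eq_zero_symm (S.ac _ i),
      cc]; simp
  have va0 : a 0 t = (2 * H : ℤ) := by simp [S.va, xs, eH]; ring
  have va1 : a 1 t = (1 - H : ℤ) := by simp [S.va, xs, eH]; linear_combination -qC
  have va2 : a 2 t = (1 - H : ℤ) := by simp [S.va, xs, eH]; linear_combination -qC
  have vc0 : c 0 t = (-Q : ℤ) := by simp [S.vc, xs]
  have vc1 : c 1 t = H := by simp [S.vc, xs, eH]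
  have vc2 : c 2 t = H := by simp [S.vc, xs, eH]
  have a8 := deg8 h (S.ia 0).virt (hA 0) va0
  have a81 := deg8 h (S.ia 1).virt (hA 1) va1
  have a82 := deg8 h (S.ia 2).virt (hA 2) va2
  have la : ∀ i k, k ≠ 0 → ⟪a i, La Θ Ξ k⟫ = 0 := fun i k k0 =>
    La_b0 T X k0 (mem_b0 T P (S.ia i) (S.a1 i) (m := 2) (by fin_cases i <;> simp [ta] <;> norm_num) (hA i)
      (Or.inr ⟨rfl, by fin_cases i <;> simp only [Fin.zero_eta, Fin.mk_one, Fin.reduceFinMk] <;> omega⟩))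
  have lc : ∀ i k, k ≠ 0 → ⟪c i, La Θ Ξ k⟫ = 0 := fun i k k0 =>
    La_b0 T X k0 (mem_b0 T P (S.ic i) (S.c1 i) (m := 1) (by fin_cases i <;> simp [tc]) (hC i) (Or.inl rfl))
  choose ma hma using fun i => (S.ia i).virt.ci_int (X.virt 1)
  choose mc hmc using fun i => (S.ic i).virt.ci_int (X.virt 1)
  have s : ∀ i, ma (i + 1) + ma (i + 2) + mc i = if i = 0 then 0 else -1 := fun i => by
    have := th' T X 1 i
    rw [S.eq, ci_add_left, ci_add_left, ci_add_left, hma, hma, hmc, ← ci_conj_symm, X.one] at this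
    simp only [show ¬ (1 : Fin 4) = 0 by decide, if_false, map_zero, zero_add] at this
    split_ifs at this ⊢ <;> exact_mod_cast this
  have bes := bessel_orthonormal Finset.univ (fun o : Fin 3 ⊕ Fin 3 => o.elim a c)
    (fun i _ j _ => by
      rcases i with i | i <;> rcases j with j | j
      · simpa using aa i j
      · simpa using S.ac i j
      · simpa using ci_eq_zero_symm (S.ac j i)
      · simpa using cc i j) (Ξ 1 + Ξ 2)
  have c2 : ∀ {γ : G → ℂ} {m : ℤ}, (∀ k, k ≠ 0 → ⟪γ, La Θ Ξ k⟫ = 0) → ⟪γ, Ξ 1⟫ = m →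
      ‖⟪Ξ 1 + Ξ 2, γ⟫‖ ^ 2 = 4 * m ^ 2 := fun {γ m} l e => by
    rw [← ci_conj_symm, ci_add_right, xi_eq T X (k := 2) (by decide) l, e, Complex.norm_conj, ← Int.cast_add,
      Complex.norm_intCast, sq_abs]; push_cast; ring
  rw [Fintype.sum_sum_type, nsq_eq_of_ci (r := 10) (by
    simp only [ci_add_left, ci_add_right, X.gram]; simp; norm_num)] at bes
  simp only [Sum.elim_inl, Sum.elim_inr, c2 (la _) (hma _), c2 (lc _) (hmc _), Fin.sum_univ_three] at bes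
  have bes' : ma 0 ^ 2 + ma 1 ^ 2 + ma 2 ^ 2 + (mc 0 ^ 2 + mc 1 ^ 2 + mc 2 ^ 2) < 3 := by
    exact_mod_cast (by linarith : (ma 0 ^ 2 + ma 1 ^ 2 + ma 2 ^ 2 + (mc 0 ^ 2 + mc 1 ^ 2 + mc 2 ^ 2) : ℝ) < 3)
  have ab : ∀ z : ℤ, z ≤ z ^ 2 ∧ -z ≤ z ^ 2 := fun z => ⟨by nlinarith [sq_nonneg (2 * z - 1)], by nlinarith [sq_nonneg (2 * z + 1)]⟩
  have s0 : ma 1 + ma 2 + mc 0 = 0 := s 0
  have s1 : ma 2 + ma 0 + mc 1 = -1 := s 1
  have s2 : ma 0 + ma 1 + mc 2 = -1 := s 2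
  rcases show (ma 0 = -1 ∧ ma 1 = 0 ∧ ma 2 = 0 ∧ mc 0 = 0 ∧ mc 1 = 0 ∧ mc 2 = 0) ∨ (mc 1 = -1 ∧ mc 2 = -1) by
    have := ab (ma 0); have := ab (ma 1); have := ab (ma 2); have := ab (mc 0); have := ab (mc 1); have := ab (mc 2)
    omega with ⟨e0, e1, e2, e3, e4, e5⟩ | ⟨e1, e2⟩
  · refine gen1 T X P hq H0 (by rw [orderOf_eq_prime (p := 2) (by rw [sq, h.tt]) h.t1]; decide) (S.ia 0).neg
      (fun k k0 => by rw [ci_neg_left, la _ k k0, neg_zero]) (by rw [ci_neg_left, hma, e0]; simp)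
      (by rw [Pi.neg_apply, va0]; push_cast; ring) fun φ hφ n o => ?_
    have k : ∀ {γ : G → ℂ}, IsSIrr G γ → ⟪γ, Ξ 1⟫ = 0 → ⟪φ, γ⟫ = 0 := fun hγ z => by
      by_contra m
      rcases hφ.eq_or_eq_neg_of_ci_ne_zero hγ m with e | e <;> rw [e] at n
      · exact n (ci_eq_zero_symm z)
      · exact n (by rw [ci_neg_right, ci_eq_zero_symm z, neg_zero])
    have k1 := k isIrrCharacter_one.isSIrr (ci_eq_zero_symm (by rw [X.one]; rfl))
    have ka : ∀ i, ⟪φ, a i⟫ = 0 := fun i => by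
      fin_cases i
      · simpa [ci_neg_right] using o
      · exact k (S.ia 1) ((hma 1).trans (by rw [e1]; simp))
      · exact k (S.ia 2) ((hma 2).trans (by rw [e2]; simp))
    have kc : ∀ i, ⟪φ, c i⟫ = 0 := fun i => by
      fin_cases i
      · exact k (S.ic 0) ((hmc 0).trans (by rw [e3]; simp))
      · exact k (S.ic 1) ((hmc 1).trans (by rw [e4]; simp))
      · exact k (S.ic 2) ((hmc 2).trans (by rw [e5]; simp))
    exact ⟨k1, fun i => by rw [S.eq, ci_add_right, ci_add_right, ci_add_right, k1, ka, ka, kc]; simp⟩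
  obtain ⟨g1, g2⟩ := gen2 T X hq H0 Q0 (S.ic 1).neg (S.ic 2).neg
    (by rw [ci_neg_left, ci_neg_right, cc]; simp)
    (fun k k0 => by rw [ci_neg_left, lc _ k k0, neg_zero]) (fun k k0 => by rw [ci_neg_left, lc _ k k0, neg_zero])
    (by rw [ci_neg_left, hmc, e1]; simp) (by rw [ci_neg_left, hmc, e2]; simp)
    (by rw [Pi.neg_apply, Pi.neg_apply, vc1, vc2]; ring)
  simp only [Pi.neg_apply, vc1, vc2, hC] at g1 g2
  have g1' : C 2 = C 1 := by
    exact_mod_cast mul_left_cancel₀ (show (H : ℂ) ≠ 0 by exact_mod_cast H0)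
      (by linear_combination g1 : (H * C 2 : ℂ) = H * C 1)
  rw [g1'] at g2
  obtain ⟨μ, μ0, μ8, hn, hb⟩ := exists_m hq (by omega) (n := C1[t].index)
    (by exact_mod_cast Nat.pos_of_ne_zero index_ne_zero_of_finite) Q0 (deg8 h (S.ic 1).virt (hC _) vc1)
    (by exact_mod_cast g2)
  have d : ∀ i, 1 + A (i + 1) + A (i + 2) + C i = 0 := fun i => by
    have := T.od i 1 (by simp)
    rw [S.eq] at this
    simp only [Pi.add_apply, hA, hC] at this
    exact_mod_cast this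
  have d0 : 1 + A 1 + A 2 + C 0 = 0 := d 0
  have d1 : 1 + A 2 + A 0 + C 1 = 0 := d 1
  have d2 : 1 + A 0 + A 1 + C 2 = 0 := d 2
  have a12 : A 2 = A 1 := by omega
  have f0 := four (t := t) (S.ia 1) (S.ia 2) (S.ic 0) (S.eq 0)
  have f1 := four (t := t) (S.ia 2) (S.ia 0) (S.ic 1) (S.eq 1)
  have z0 := T.cz 0
  have z1 := T.cz 1
  have hn' : (C1[t].index : ℂ) = Q ^ 2 * μ := by exact_mod_cast hn
  rw [hA, hA, hC, va1, va2, vc0, a12] at f0
  rw [hA, hA, hC, va2, va0, vc1, a12, hb] at f1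
  simp only [xs, eH, Matrix.cons_val_zero, Matrix.cons_val_one] at z0 z1
  rw [hn'] at f0 f1 z0 z1
  rw [mul_pow, qC] at z1
  push_cast at f0 f1 z0 z1
  have A0 : A 1 ≠ 0 := by omega
  have D0 := dvd_val (S.ia 1) (hA _) va1
  have D1 := dvd_val (S.ic 0) (hC _) vc0
  have D2 := dvd_val (S.ia 0) (hA _) va0
  rw [hn] at D0 D1 D2
  have Q0' : (Q : ℂ) ≠ 0 := by exact_mod_cast Q0
  have H0' : (H : ℂ) ≠ 0 := by exact_mod_cast H0
  have A0' : (A 1 : ℂ) ≠ 0 := by exact_mod_cast A0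
  have μ0' : (μ : ℂ) ≠ 0 := by exact_mod_cast μ0.ne'
  refine ar4 Q H μ (A 1) (C 0) (A 0) h.pp hq (by omega) bg μ0 μ8 (by omega)
    (by simpa using deg8 h (S.ic 0).virt (hC _) vc0) a8 (by omega) (by rw [hb] at d1; linear_combination d1 - a12)
    (by rw [show (H - 1) * Q ^ 2 * μ = -(Q ^ 2 * μ * (1 - H)) by ring]; exact D0.neg_right)
    (by rw [show Q ^ 3 * μ = -(Q ^ 2 * μ * -Q) by ring]; exact D1.neg_right)
    (by rw [show 2 * H * Q ^ 2 * μ = Q ^ 2 * μ * (2 * H) by ring]; exact D2) ?_ ?_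
  · exact_mod_cast mul_left_cancel₀ (mul_ne_zero (mul_ne_zero (pow_ne_zero 4 Q0') μ0') A0')
      (show _ * (Q * μ * (A 1 * C 0 + 2 * (H - 1) ^ 2 * C 0 + Q ^ 2 * A 1) : ℂ) =
        _ * ((Q + 1) ^ 2 * (Q - 1) * (A 1 * C 0)) by linear_combination (A 1 * A 1 * C 0 : ℂ) * z0 - Q * f0)
  · exact_mod_cast mul_left_cancel₀ (mul_ne_zero (mul_ne_zero (pow_ne_zero 4 Q0') (pow_ne_zero 2 μ0')) (pow_ne_zero 2 H0'))
      (show _ * (μ * (A 0 * A 1 + 4 * H ^ 2 * A 1 + (H - 1) ^ 2 * A 0) : ℂ) =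
        _ * (H * (4 * H + 5) * (A 0 * A 1)) by linear_combination (A 1 * A 0 * (-H * μ) : ℂ) * z1 + H * f1)

end Cfsg.Agent.WA.JE
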