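import Cfsg.Agent.WA.J0

/-! Groups of Janko-Ree type: the centralizers of the elements of `R` when `g` moves `R`. -/

set_option autoImplicit false
set_option linter.unusedSectionVars false

namespace Cfsg.Agent.WA

open Cfsg Subgroup Cfsg.Agent.GT Cfsg.Agent.BS Cfsg.Agent.B84H

variable {G : Type*} [Group G] {t u g w x s y a b c v k : G} {L : Subgroup G} {Q : ℤ}

namespace JH

theorem q4_sub (h : Q4 t u g) (H : Subgroup G) (ht : t ∈ H) (hu : u ∈ H) (hg : g ∈ H) :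
    Q4 (⟨t, ht⟩ : H) ⟨u, hu⟩ ⟨g, hg⟩ where
  tt := Subtype.ext h.tt
  t1 e := h.t1 (congrArg Subtype.val e)
  tu := Subtype.ext h.tu
  g1 := Subtype.ext h.g1
  g2 := Subtype.ext h.g2
  ab x y c1 c2 := Subtype.ext (h.ab x y (congrArg Subtype.val c1) (congrArg Subtype.val c2))
  two x c k e := by
    rcases h.two x (congrArg Subtype.val c) k (congrArg Subtype.val e) with n | n | n | n
    exacts [.inl (Subtype.ext n), .inr (.inl (Subtype.ext n)), .inr (.inr (.inl (Subtype.ext n))),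
      .inr (.inr (.inr (Subtype.ext n)))]

theorem q4_odd (h : Q4 t u g) {K : Subgroup G} [K.Normal] (o : Odd (Nat.card K)) (hy : y ∈ K) : Commute y t := by
  obtain ⟨c, -, a', -, i, -, e1, e2, -, e3, -, n⟩ := B84.four o h.tt h.uu h.tu (le_normalizer_of_normal (mem_top _))
    (le_normalizer_of_normal (mem_top _)) hy
  exact n ▸ (e1.mul_left (h.c_u e2)).mul_left (h.c_v e3)

theorem q3_t (h : Q3 t u g) : t ∈ h.ψ.range := h.mem_U.2 (.inr (.inl rfl))
theorem q3_u (h : Q3 t u g) : u ∈ h.ψ.range := h.mem_U.2 (.inr (.inr (.inl rfl)))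

theorem q3_norm [Finite G] (h : Q3 t u g) (e1 : c * t * c⁻¹ ∈ h.ψ.range) (e2 : c * u * c⁻¹ ∈ h.ψ.range) :
    c ∈ N[h.ψ.range] := mem_normalizer_fintype fun x hx => by
  rcases h.mem_U.1 hx with e | e | e | e <;> rw [e]
  · rw [mul_one, mul_inv_cancel]; exact one_mem _
  · exact e1
  · exact e2
  · rw [← conj_mul]; exact mul_mem e1 e2

theorem q3_fix (h : Q3 t u g) (ss : s * s = 1) (n : s ∈ N[h.ψ.range]) :
    Commute s t ∨ Commute s u ∨ Commute s (t * u) := by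
  have i : ∀ z, s * (s * z * s⁻¹) * s⁻¹ = z := fun z => by
    rw [show s * (s * z * s⁻¹) * s⁻¹ = s * s * z * (s * s)⁻¹ by group, ss]; simp
  rcases h.mem_U.1 (conj_mem_of_mem_norm n (q3_t h)) with e | e | e | e
  · exact absurd (conj_eq_one_iff.1 e) h.t1
  · exact .inl (TT.commute_iff_conj.2 e)
  · refine .inr (.inr (TT.commute_iff_conj.2 ?_))
    rw [← conj_mul, e, ← e, i, e, h.tu.eq]
  · refine .inr (.inl (TT.commute_iff_conj.2 ?_))
    have := i t
    rw [e, ← conj_mul, e] at this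
    rw [← mul_right_inj (t * u), this, mul_assoc, h.uu, mul_one]

theorem q4_nW (h : Q4 t u g) (ss : s * s = 1) (n : s ∈ N[h.ψ.range]) : s ∈ h.ψ.range :=
  h.mem_U.2 (h.inv ss ((q3_fix h.toQ3 ss n).elim id fun e => e.elim h.c_u h.c_v))

theorem dvd120 [Finite G] {H : Subgroup G} {n : ℕ} (e : H.index = n) : H.normalCore.index ∣ n.factorial := by
  have := card_subgroup_dvd_card (MulAction.toPermHom G (G ⧸ H)).range
  rwa [← index_ker, ← normalCore_eq_ker, Nat.card_perm, ← index_eq_card, e] at this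

theorem q4_dich [Finite G] (h : Q4 t u g) :
    N[h.ψ.range] = ⊤ ∨ ∀ y, Commute y t → Odd (orderOf y) → ∀ m, Commute (m * y * m⁻¹) t := by
  have le : C1[t] ≤ N[h.ψ.range] := fun c hc => q3_norm h.toQ3
    (by rw [TT.commute_iff_conj.1 (mem_cent1.1 hc)]; exact q3_t _)
    (by rw [TT.commute_iff_conj.1 (h.ab c u (mem_cent1.1 hc) h.tu.symm)]; exact q3_u _)
  have gN : g ∈ N[h.ψ.range] := q3_norm h.toQ3 (h.g1.symm ▸ q3_u _) (h.g2.symm ▸ mul_mem (q3_t _) (q3_u _))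
  refine or_iff_not_imp_left.2 fun ne y yt oy m => ?_
  have b1 := (q4_sub h _ (le_normalizer (q3_t _)) (le_normalizer (q3_u _)) gN).bsw
  have e : C1[(⟨t, le_normalizer (q3_t h.toQ3)⟩ : N[h.ψ.range])] = C1[t].subgroupOf N[h.ψ.range] := by
    ext z; rw [mem_cent1, mem_subgroupOf, mem_cent1, Subtype.ext_iff]; rfl
  rw [e, ← relIndex] at b1
  have b2 := h.bsw
  have b3 := relIndex_mul_index le
  have b4 : N[h.ψ.range].index ≠ 1 := fun e => ne (index_eq_one.1 e)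
  obtain ⟨i5, i15⟩ : N[h.ψ.range].index = 5 ∧ C1[t].index = 15 := by
    rcases b1 with e | e <;> rw [e] at b3 <;> omega
  have d := dvd120 i5
  set K := N[h.ψ.range].normalCore
  rcases Nat.even_or_odd (Nat.card K) with o | o
  · obtain ⟨s, hs, o⟩ := exists_mem_orderOf_eq Nat.prime_two (even_iff_two_dvd.1 o)
    have k : ∀ z, IsConj t z → z ∈ h.ψ.range := fun z hz => by
      obtain ⟨c, n⟩ := isConj_iff.1 ((h.conj (mul_self_of_orderOf o) (ne_one_of_orderOf_two o)).symm.trans hz)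
      obtain ⟨d, n'⟩ := isConj_iff.1 hz
      exact q4_nW h (by rw [← n', conj_mul, h.tt]; simp)
        (normalCore_le _ (n ▸ Normal.conj_mem inferInstance _ hs c))
    exact absurd (eq_top_iff.2 fun m _ => q3_norm h.toQ3 (k _ (isConj_iff.2 ⟨m, rfl⟩))
      (k _ (h.cu.trans (isConj_iff.2 ⟨m, rfl⟩)))) ne
  have Kle : K ≤ C1[t] := fun z hz => mem_cent1.2 (q4_odd h o hz)
  rw [← relIndex_mul_index Kle, i15] at d
  obtain ⟨j, hj⟩ : K.relIndex C1[t] ∣ 2 ^ 3 := Nat.dvd_of_mul_dvd_mul_right (by norm_num : 0 < 15) d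
  have p : y ^ 2 ^ 3 ∈ K := by
    rw [hj, pow_mul]; exact pow_mem (PG.pow_relIndex_mem' le_norm_of_normal (mem_cent1.2 yt)) _
  have yK : y ∈ K := by
    have sq : ∀ {z : G}, Odd (orderOf z) → z ^ 2 ∈ K → z ∈ K := fun o e => PG.mem_of_sq_mem_of_odd o (sq (M := G) _ ▸ e)
    have op : ∀ {z : G}, Odd (orderOf z) → Odd (orderOf (z ^ 2)) := fun o => o.of_dvd_nat (orderOf_pow_dvd _)
    exact sq oy (sq (op oy) (sq (op (op oy)) (by rwa [← pow_mul, ← pow_mul])))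
  exact q4_odd h o (Normal.conj_mem inferInstance _ yK m)

theorem sq_one (o : Odd (orderOf a)) (e : a * a = 1) : a = 1 := by
  obtain ⟨k, hk⟩ := o
  have := pow_orderOf_eq_one a
  rwa [hk, pow_succ, pow_mul, sq, e, one_pow, one_mul] at this

end JH

open JH

namespace JD

variable (h : JD t u g w x L Q)
include h

theorem h_oR (ha : a ∈ zpowers x) : Odd (orderOf a) := h.odd.of_dvd_nat (orderOf_dvd_of_mem_zpowers ha)

theorem h_RW (ha : a ∈ zpowers x) (hb : b ∈ h.ψ.range) : Commute a b := h.toQ3.cU (zc h.xt ha) (zc h.xu ha) hb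

theorem h_gR (ha : a ∈ zpowers x) : g * a * g⁻¹ ∈ zpowers x := by
  obtain ⟨k, rfl⟩ := ha
  rw [← conj_zpow]; exact zpow_mem h.gx k

theorem h_gR' (ha : a ∈ zpowers x) : g⁻¹ * a * g ∈ zpowers x := by
  have : g⁻¹ = g * g := inv_eq_of_mul_eq_one_right (by rw [← pow_three, h.g3'])
  have e := h.h_gR (h.h_gR ha)
  rwa [show g * (g * a * g⁻¹) * g⁻¹ = g * g * a * (g * g)⁻¹ by group, ← this, inv_inv] at e

theorem h_ct_u (ha : a ∈ zpowers x) (a1 : a ≠ 1) (c1 : Commute c t) (c2 : Commute c a) : Commute c u :=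
  h.nrm a ha a1 c c1 (TT.commute_iff_conj.1 c2 ▸ ha :)

/-- `C(t) ∩ C(a) = W R`. -/
theorem h_cT (ha : a ∈ zpowers x) (a1 : a ≠ 1) (c1 : Commute c t) (c2 : Commute c a) :
    ∃ e ∈ h.ψ.range, ∃ y ∈ zpowers x, c = e * y := by
  obtain ⟨e, he, y, hy, n | n⟩ := h.cU c c1 (h.h_ct_u ha a1 c1 c2)
  · exact ⟨e, he, y, hy, n⟩
  refine absurd (sq_one (h.h_oR ha) (mul_eq_one_iff_eq_inv.2 ?_)) a1
  have k : Commute (e * y)⁻¹ a := ((h.h_RW ha he).symm.mul_left (zc (zc rfl ha).symm hy)).inv_left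
  rw [← zi h.wx ha, TT.commute_iff_conj.1 (show Commute w a by
    have := k.mul_left c2; rwa [n, inv_mul_cancel_left] at this)]

theorem h_cu_t (ha : a ∈ zpowers x) (a1 : a ≠ 1) (c1 : Commute c u) (c2 : Commute c a) : Commute c t := by
  have e1 : Commute (g⁻¹ * c * g) t := (TT.commute_conj_iff g).1 (by rw [h.g1]; simpa [mul_assoc] using c1)
  have e2 : Commute (g⁻¹ * c * g) (g⁻¹ * a * g) := by simpa using (TT.commute_conj_iff g⁻¹).2 c2
  have := (TT.commute_conj_iff g).2 (e1.mul_right (h.h_ct_u (h.h_gR' ha) (fun e => a1 (by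
    simpa [mul_assoc] using congrArg (fun z => g * z * g⁻¹) e)) e1 e2))
  rw [h.g3] at this
  simpa [mul_assoc] using this

theorem h_cv_t (ha : a ∈ zpowers x) (a1 : a ≠ 1) (c1 : Commute c (t * u)) (c2 : Commute c a) : Commute c t := by
  have e1 : Commute (g * c * g⁻¹) t := h.g3 ▸ (TT.commute_conj_iff g).2 c1
  have := h.h_ct_u (h.h_gR ha) (fun e => a1 (conj_eq_one_iff.1 e)) e1 ((TT.commute_conj_iff g).2 c2)
  rw [← h.g1] at this
  exact (TT.commute_conj_iff g).1 this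

theorem h_cW_t (ha : a ∈ zpowers x) (a1 : a ≠ 1) (hv : v ∈ h.ψ.range) (v1 : v ≠ 1) (c1 : Commute c v)
    (c2 : Commute c a) : Commute c t := by
  rcases h.mem_U.1 hv with e | e | e | e
  exacts [absurd e v1, e ▸ c1, h.h_cu_t ha a1 (e ▸ c1) c2, h.h_cv_t ha a1 (e ▸ c1) c2]

theorem h_inW (ha : a ∈ zpowers x) (a1 : a ≠ 1) (ss : s * s = 1) (c1 : Commute s t) (c2 : Commute s a) :
    s ∈ h.ψ.range := by
  obtain ⟨e, he, y, hy, n⟩ := h.h_cT ha a1 c1 c2
  rw [n, (h.h_RW hy he).mul_mul_mul_comm, h.toQ3.sqU he, one_mul] at ss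
  rwa [n, sq_one (h.h_oR hy) ss, mul_one]

variable [Finite G]

theorem h_evW (ha : a ∈ zpowers x) (a1 : a ≠ 1) (hv : v ∈ h.ψ.range) (v1 : v ≠ 1) (ss : s * s = 1)
    (c2 : Commute s a) (o : Even (orderOf (s * v))) : s ∈ h.ψ.range := by
  obtain ⟨k, -, o2, e1, e2⟩ := central_of_even ss (h.toQ3.sqU hv) o
  have c : Commute ((s * v) ^ k) a := (c2.mul_left (h.h_RW ha hv).symm).pow_left k
  exact h.h_inW ha a1 ss (h.h_cW_t ha a1 (h.h_inW ha a1 (mul_self_of_orderOf o2) (h.h_cW_t ha a1 hv v1 e2 c) c)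
    (ne_one_of_orderOf_two o2) e1.symm c2) c2

/-- If `t` and `u` are not conjugate in `C(a)` then `C(a)` normalizes `W`. -/
theorem h_nrot (ha : a ∈ zpowers x) (a1 : a ≠ 1) (n : ∀ k, Commute k a → k * t * k⁻¹ ≠ u) :
    C1[a] ≤ N[h.ψ.range] := fun m hm => by
  replace hm : Commute m a := mem_cent1.1 hm
  have ta := (h.h_RW ha (q3_t _)).symm
  have ua := (h.h_RW ha (q3_u _)).symm
  have i : ∀ z : G, z * z = 1 → m * z * m⁻¹ * (m * z * m⁻¹) = 1 := fun z e => by rw [conj_mul, e]; simp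
  have c : ∀ {z : G}, Commute z a → Commute (m * z * m⁻¹) a := fun e => (hm.mul_left e).mul_left hm.inv_left
  refine q3_norm _ (h.h_evW ha a1 (q3_u _) h.u1 (i t h.tt) (c ta) (Nat.not_odd_iff_even.1 fun o => ?_))
    (h.h_evW ha a1 (q3_t _) h.t1 (i u h.uu) (c ua) (Nat.not_odd_iff_even.1 fun o => ?_))
  · obtain ⟨k, e⟩ := conj_of_odd (i t h.tt) h.uu o
    refine n ((m * t * m⁻¹ * u) ^ k * m) ((((c ta).mul_left ua).pow_left k).mul_left hm) ?_
    generalize (m * t * m⁻¹ * u) ^ k = d at e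
    rw [show d * m * t * (d * m)⁻¹ = d * (m * t * m⁻¹) * d⁻¹ by group, e]; group
  · obtain ⟨k, e⟩ := conj_of_odd (i u h.uu) h.tt o
    refine n (m⁻¹ * ((m * u * m⁻¹ * t) ^ k)⁻¹) (hm.inv_left.mul_left (((c ua).mul_left ta).pow_left k).inv_left) ?_
    generalize (m * u * m⁻¹ * t) ^ k = d at e
    rw [show m⁻¹ * d⁻¹ * t * (m⁻¹ * d⁻¹)⁻¹ = m⁻¹ * (d⁻¹ * t * d) * m by group, ← e]; group

/-- An element of `C(a)` mapping `t` to `u` rotates `W`. -/
theorem h_rot (ha : a ∈ zpowers x) (a1 : a ≠ 1) (c : Commute k a) (e : k * t * k⁻¹ = u) : k * u * k⁻¹ = t * u := by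
  have c1 : Commute (k * u * k⁻¹) u := by
    have := (TT.commute_conj_iff k).2 h.tu.symm; rwa [e] at this
  have c2 : Commute (k * u * k⁻¹) a := (c.mul_left (h.h_RW ha (q3_u _)).symm).mul_left c.inv_left
  rcases h.mem_U.1 (h.h_inW ha a1 (by rw [conj_mul, h.uu]; simp) (h.h_cu_t ha a1 c1 c2) c2) with n | n | n | n
  · exact absurd (conj_eq_one_iff.1 n) h.u1
  · refine absurd ?_ h.ne
    rw [← e]
    exact TT.commute_iff_conj.1 (h.h_cv_t ha a1 (TT.commute_iff_conj.2 (by rw [← conj_mul, e, n, h.tu.eq])) c)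
  · exact absurd (mul_left_cancel (mul_right_cancel (n.trans e.symm))) h.ne
  · exact n

theorem h_q4 (ha : a ∈ zpowers x) (a1 : a ≠ 1) (c : k ∈ C1[a]) (e : k * t * k⁻¹ = u) :
    Q4 (⟨t, mem_cent1.2 (h.h_RW ha (q3_t _)).symm⟩ : C1[a]) ⟨u, mem_cent1.2 (h.h_RW ha (q3_u _)).symm⟩ ⟨k, c⟩ where
  tt := Subtype.ext h.tt
  t1 e := h.t1 (congrArg Subtype.val e)
  tu := Subtype.ext h.tu
  g1 := Subtype.ext e
  g2 := Subtype.ext (h.h_rot ha a1 (mem_cent1.1 c) e)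
  ab y z c1 c2 := by
    obtain ⟨e, he, b, hb, n⟩ := h.h_cT ha a1 (congrArg Subtype.val c1) (mem_cent1.1 y.2)
    obtain ⟨e', he', b', hb', n'⟩ := h.h_cT ha a1 (congrArg Subtype.val c2) (mem_cent1.1 z.2)
    refine Subtype.ext (show Commute y.1 z.1 from n ▸ n' ▸ ?_)
    exact ((h.toQ3.cU (h.toQ3.cU rfl h.tu he).symm (h.toQ3.cU h.tu.symm rfl he).symm he').mul_right
      (h.h_RW hb' he).symm).mul_left ((h.h_RW hb he').mul_right (zc (zc rfl hb').symm hb))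
  two y c j e := by
    rcases h.mem_U.1 (h.h_inW ha a1 (h.two y.1 j (congrArg Subtype.val e)) (congrArg Subtype.val c)
      (mem_cent1.1 y.2)) with n | n | n | n
    exacts [.inl (Subtype.ext n), .inr (.inl (Subtype.ext n)), .inr (.inr (.inl (Subtype.ext n))),
      .inr (.inr (.inr (Subtype.ext n)))]

theorem h_xrot (gx : ¬ Commute g x) (c : Commute k x) : k * t * k⁻¹ ≠ u := fun e => gx <| by
  by_cases x1 : x = 1
  · exact x1 ▸ Commute.one_right g
  have e' := h.h_rot (mem_zpowers x) x1 c e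
  have i : ∀ z, k * z * k⁻¹ = g * z * g⁻¹ → Commute (k⁻¹ * g) z := fun z n => TT.commute_iff_conj.2 (by
    rw [show k⁻¹ * g * z * (k⁻¹ * g)⁻¹ = k⁻¹ * (g * z * g⁻¹) * k by group, ← n]; group)
  obtain ⟨d, hd, y, hy, n⟩ := h.cU _ (i t (e.trans h.g1.symm)) (i u (e'.trans h.g2.symm))
  have c' : Commute (k * (d * y)) x := c.mul_left ((h.h_RW (mem_zpowers x) hd).symm.mul_left (zc rfl hy))
  rcases n with n | n
  · rwa [← n, mul_inv_cancel_left] at c'
  have gi : g * x * g⁻¹ = x⁻¹ := by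
    rw [show g = k * (d * y) * w by rw [mul_assoc k, ← n, mul_inv_cancel_left],
      show ∀ z : G, z * w * x * (z * w)⁻¹ = z * (w * x * w⁻¹) * z⁻¹ from fun z => by group, h.wx,
      TT.commute_iff_conj.1 c'.inv_right]
  have gi' : g * x⁻¹ * g⁻¹ = x := by rw [← conj_inv, gi, inv_inv]
  refine absurd (sq_one h.odd (mul_eq_one_iff_eq_inv.2 ?_)) x1
  have : g ^ 3 * x * (g ^ 3)⁻¹ = g * (g * (g * x * g⁻¹) * g⁻¹) * g⁻¹ := by rw [pow_three]; group
  rwa [gi, gi', gi, h.g3', one_mul, inv_one, mul_one] at this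

/-- (JH1) -/
theorem jh1 (gx : ¬ Commute g x) (ha : a ∈ zpowers x) (a1 : a ≠ 1) : C1[a] ≤ N[h.ψ.range] := by
  by_cases n : ∀ k, Commute k a → k * t * k⁻¹ ≠ u
  · exact h.h_nrot ha a1 n
  push Not at n
  obtain ⟨k, c, e⟩ := n
  have Q := h.h_q4 ha a1 (mem_cent1.2 c) e
  have tr : ∀ z : C1[a], z ∈ Q.ψ.range → z.1 ∈ h.ψ.range := fun z hz => by
    rcases Q.mem_U.1 hz with n | n | n | n <;> rw [n]
    exacts [one_mem _, q3_t _, q3_u _, mul_mem (q3_t _) (q3_u _)]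
  have x1 : x ≠ 1 := fun e => gx (e ▸ Commute.one_right g)
  have xa : x ∈ C1[a] := mem_cent1.2 (zc rfl ha).symm
  intro m hm
  rcases q4_dich Q with d | d
  · have : (⟨m, hm⟩ : C1[a]) ∈ N[Q.ψ.range] := by rw [d]; trivial
    exact q3_norm _ (tr _ (conj_mem_of_mem_norm this (q3_t _))) (tr _ (conj_mem_of_mem_norm this (q3_u _)))
  have k : ∀ m : C1[a], m.1 * t * m.1⁻¹ ∈ h.ψ.range := fun m => by
    have c := congrArg Subtype.val (d ⟨x, xa⟩ (Subtype.ext h.xt) (by rw [← orderOf_coe]; exact h.odd) m⁻¹).eq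
    have c' : Commute (m.1 * t * m.1⁻¹) x := by
      simpa [mul_assoc] using ((TT.commute_conj_iff m.1).2 (show Commute (m.1⁻¹ * x * m.1⁻¹⁻¹) t from c)).symm
    have i : m.1 * t * m.1⁻¹ * (m.1 * t * m.1⁻¹) = 1 := by rw [conj_mul, h.tt]; simp
    have := q3_fix h.toQ3 i (h.h_nrot (mem_zpowers x) x1 (fun _ => h.h_xrot gx) (mem_cent1.2 c'))
    exact h.h_inW (mem_zpowers x) x1 i (this.elim id fun e => e.elim (fun e => h.h_cu_t (mem_zpowers x) x1 e c')
      fun e => h.h_cv_t (mem_zpowers x) x1 e c') c'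
  refine q3_norm _ (k ⟨m, hm⟩) ?_
  have := k ⟨m * _, mul_mem hm (mem_cent1.2 c)⟩
  rwa [show ∀ z : G, m * z * t * (m * z)⁻¹ = m * (z * t * z⁻¹) * m⁻¹ from fun z => by group, e] at this

end JD

end Cfsg.Agent.WA
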