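import Cfsg.Agent.WA.JG0
import Cfsg.Agent.WA.JE1
import Cfsg.Agent.WA.JH1

/-! Groups of Janko-Ree type with field automorphisms: the trivial intersection subset. -/

set_option autoImplicit false
set_option linter.unusedSectionVars false

namespace Cfsg.Agent.WA

open Cfsg Subgroup Cfsg.Agent.GT Cfsg.Agent.Char Cfsg.Agent.BS Cfsg.Agent.B84C Cfsg.Agent.B84H Cfsg.Agent.Cls
open scoped Classical ComplexConjugate

universe u

theorem ind_cos' {G X : Type*} [Group G] [Fintype G] [Group X] [Fintype X] (f : X →* G)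
    (inj : Function.Injective f) {ι : Type} [Fintype ι] (r : ι → G) (σ : ι → X) (a : X)
    (θ : X → ℂ) (cm : ∀ e b : X, θ (e⁻¹ * b * e) = θ b) (hr : ∀ i, r i * f a * (r i)⁻¹ = f (σ i))
    (un : ∀ i j, r i * (r j)⁻¹ ∈ f.range → i = j)
    (cov : ∀ c b, f b = c⁻¹ * f a * c → θ b ≠ 0 → ∃ i, r i * c ∈ f.range) : ind f θ (f a) = ∑ i, θ (σ i) := by
  have k : ∀ c, (∑ b, if f b = c⁻¹ * f a * c then θ b else 0) =
      ∑ i, (if r i * c ∈ f.range then 1 else 0) * θ (σ i) := fun c => by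
    by_cases e : ∃ i, r i * c ∈ f.range
    · obtain ⟨i, e, he⟩ := e
      have : c⁻¹ * f a * c = f (e⁻¹ * σ i * e) := by
        rw [show c⁻¹ * f a * c = (r i * c)⁻¹ * (r i * f a * (r i)⁻¹) * (r i * c) by group, hr, ← he, ← map_inv,
          ← map_mul, ← map_mul]
      rw [this, Finset.sum_eq_single (e⁻¹ * σ i * e) (fun b _ n => if_neg (inj.ne n)) (by simp), if_pos rfl, cm,
        Finset.sum_eq_single i (fun j _ n => ?_) (by simp), if_pos ⟨e, he⟩, one_mul]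
      rw [if_neg fun m => n (un j i ?_), zero_mul]
      simpa using mul_mem m (inv_mem (show r i * c ∈ f.range from ⟨e, he⟩))
    · rw [Finset.sum_eq_zero fun b _ => ite_eq_right_iff.2 fun n => by_contra fun m => e (cov c b n m),
        Finset.sum_eq_zero fun i _ => by rw [if_neg fun m => e ⟨i, m⟩, zero_mul]]
  have c : ∀ i, ∑ c, (if r i * c ∈ f.range then (1 : ℂ) else 0) = Nat.card X := fun i =>
    (Equiv.sum_comp (Equiv.mulLeft (r i)) fun c => if c ∈ f.range then (1 : ℂ) else 0).trans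
      ((BSW.sum_ite_mem f.range).trans (congrArg _ (Nat.card_congr (MonoidHom.ofInjective inj).toEquiv).symm))
  rw [ind, Finset.sum_congr rfl fun c _ => k c, Finset.sum_comm]
  simp only [← Finset.sum_mul, c]
  rw [← Finset.mul_sum, inv_mul_cancel_left₀ (card_ne_zero_complex X)]

variable {G : Type u} [Group G] {t u g w x a b c e k s v y : G} {K K0 : Subgroup G} {Q : ℤ}

namespace JG

open JH

variable (h : JG t u g w x K K0 Q)
include h

theorem oR (ha : a ∈ zpowers x) : Odd (orderOf a) := h.odd.of_dvd_nat (orderOf_dvd_of_mem_zpowers ha)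

theorem sq1 (ha : a ∈ zpowers x) (e : a * a = 1) : a = 1 := sq_one (h.oR ha) e

theorem oK' (hk : k ∈ K) : Odd (orderOf k) := h.oK.of_dvd_nat (K.orderOf_dvd_natCard hk)

theorem RW (ha : a ∈ zpowers x) (he : e ∈ h.ψ.range) : Commute a e := h.toQ3.cU (zc h.xt ha) (zc h.xu ha) he

theorem KW (hk : k ∈ K) (he : e ∈ h.ψ.range) : Commute k e := h.toQ3.cU (h.Kt k hk) (h.Ku k hk) he

theorem RK (ha : a ∈ zpowers x) (hk : k ∈ K) : Commute a k := zc (h.Kx k hk).symm ha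

theorem RR (ha : a ∈ zpowers x) (hb : b ∈ zpowers x) : Commute a b := zc (zc rfl hb).symm ha

theorem wR (ha : a ∈ zpowers x) : w * a * w⁻¹ = a⁻¹ := zi h.wx ha

theorem wW' (he : e ∈ h.ψ.range) : Commute w e := h.toQ3.cU h.wt h.wu he

theorem wi : w⁻¹ = w := inv_eq_of_mul_eq_one_right h.ww

theorem gR (ha : a ∈ zpowers x) : g * a * g⁻¹ ∈ zpowers x := by
  obtain ⟨k, rfl⟩ := ha
  rw [← conj_zpow]
  exact zpow_mem h.gx k

theorem g3c (z : G) : g * (g * (g * z * g⁻¹) * g⁻¹) * g⁻¹ = z := by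
  rw [show g * (g * (g * z * g⁻¹) * g⁻¹) * g⁻¹ = g ^ 3 * z * (g ^ 3)⁻¹ by rw [pow_three]; group, h.g3']; simp

theorem pw1 (ha : a ∈ zpowers x) (e : a ^ (2 * Nat.card K) = 1) : a = 1 := by
  have := (h.cop.coprime_dvd_left (orderOf_dvd_of_mem_zpowers ha)).dvd_of_dvd_mul_right (orderOf_dvd_of_pow_eq_one e)
  exact h.sq1 ha (by rw [← sq]; exact orderOf_dvd_iff_pow_eq_one.1 this)

theorem pw (he : e ∈ h.ψ.range) (hy : y ∈ zpowers x) (hk : k ∈ K) :
    (e * y * k) ^ (2 * Nat.card K) = y ^ (2 * Nat.card K) := by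
  rw [((h.KW hk he).symm.mul_left (h.RK hy hk)).mul_pow, (h.RW hy he).symm.mul_pow, pow_mul, sq, h.toQ3.sqU he,
    one_pow, one_mul, pow_mul' k, orderOf_dvd_iff_pow_eq_one.1 (K.orderOf_dvd_natCard hk), one_pow, mul_one]

theorem inE (he : e ∈ h.ψ.range) (hy : y ∈ zpowers x) (hk : k ∈ K) (ss : e * y * k * (e * y * k) = 1) :
    y = 1 ∧ k = 1 := by
  have y1 : y = 1 := h.pw1 hy (by rw [← h.pw he hy hk, pow_mul, sq, ss, one_pow])
  rw [y1, mul_one, (h.KW hk he).mul_mul_mul_comm, h.toQ3.sqU he, one_mul] at ss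
  exact ⟨y1, sq_one (h.oK' hk) ss⟩

theorem EX (he : e ∈ h.ψ.range) (hy : y ∈ zpowers x) (hk : k ∈ K) (ha : a ∈ zpowers x) : Commute (e * y * k) a :=
  ((h.RW ha he).symm.mul_left (h.RR hy ha)).mul_left (h.RK ha hk).symm

theorem nwa (ha : a ∈ zpowers x) (c : Commute w a) : a = 1 :=
  h.sq1 ha (mul_eq_one_iff_eq_inv.2 ((TT.commute_iff_conj.1 c).symm.trans (h.wR ha)))

theorem cu_t (ha : a ∈ zpowers x) (a1 : a ≠ 1) (c1 : Commute c u) (c2 : Commute c a) : Commute c t := by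
  have k : ∀ {a b}, Commute a b → Commute (g * (g * a * g⁻¹) * g⁻¹) (g * (g * b * g⁻¹) * g⁻¹) := fun e =>
    (TT.commute_conj_iff g).2 ((TT.commute_conj_iff g).2 e)
  have e1 := k c1
  rw [h.g2, h.g3] at e1
  have := (TT.commute_conj_iff g).2 (e1.mul_right (h.nrm _ (h.gR (h.gR ha))
    (fun e => a1 (conj_eq_one_iff.1 (conj_eq_one_iff.1 e))) _ e1 (k c2)))
  rwa [h.g3, h.g3c] at this

theorem cv_t (ha : a ∈ zpowers x) (a1 : a ≠ 1) (c1 : Commute c (t * u)) (c2 : Commute c a) : Commute c t := by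
  have e1 : Commute (g * c * g⁻¹) t := h.g3 ▸ (TT.commute_conj_iff g).2 c1
  have := h.nrm _ (h.gR ha) (fun e => a1 (conj_eq_one_iff.1 e)) _ e1 ((TT.commute_conj_iff g).2 c2)
  rw [← h.g1] at this
  exact (TT.commute_conj_iff g).1 this

theorem cW_t (ha : a ∈ zpowers x) (a1 : a ≠ 1) (hv : v ∈ h.ψ.range) (v1 : v ≠ 1) (c1 : Commute c v)
    (c2 : Commute c a) : Commute c t := by
  rcases h.mem_U.1 hv with e | e | e | e
  exacts [absurd e v1, e ▸ c1, h.cu_t ha a1 (e ▸ c1) c2, h.cv_t ha a1 (e ▸ c1) c2]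

theorem inW (ha : a ∈ zpowers x) (a1 : a ≠ 1) (ss : s * s = 1) (c1 : Commute s t) (c2 : Commute s a) :
    s ∈ h.ψ.range := by
  obtain ⟨e, he, y, hy, k, hk, n | n⟩ := h.cU s c1 (h.nrm a ha a1 s c1 c2)
  · obtain ⟨e1, e2⟩ := h.inE he hy hk (n ▸ ss)
    rwa [n, e1, e2, mul_one, mul_one]
  · have := (h.EX he hy hk ha).inv_left.mul_left c2
    rw [n, inv_mul_cancel_left] at this
    exact absurd (h.nwa ha this) a1

theorem nrot (ha : a ∈ zpowers x) (a1 : a ≠ 1) (c : Commute k a) : k * t * k⁻¹ ≠ u := fun e => by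
  have e' : k * u * k⁻¹ = t * u := by
    have c1 : Commute (k * u * k⁻¹) u := by
      have := (TT.commute_conj_iff k).2 h.tu.symm; rwa [e] at this
    have c2 : Commute (k * u * k⁻¹) a := (c.mul_left (h.RW ha (q3_u _)).symm).mul_left c.inv_left
    rcases h.mem_U.1 (h.inW ha a1 (by rw [conj_mul, h.uu]; simp) (h.cu_t ha a1 c1 c2) c2) with n | n | n | n
    · exact absurd (conj_eq_one_iff.1 n) h.u1
    · refine absurd ?_ h.ne
      rw [← e]
      exact TT.commute_iff_conj.1 (h.cv_t ha a1 (TT.commute_iff_conj.2 (by rw [← conj_mul, e, n, h.tu.eq])) c)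
    · exact absurd (mul_left_cancel (mul_right_cancel (n.trans e.symm))) h.ne
    · exact n
  have i : ∀ z, k * z * k⁻¹ = g * z * g⁻¹ → Commute (k⁻¹ * g) z := fun z n => TT.commute_iff_conj.2 (by
    rw [show k⁻¹ * g * z * (k⁻¹ * g)⁻¹ = k⁻¹ * (g * z * g⁻¹) * k by group, ← n]; group)
  obtain ⟨d, hd, y, hy, j, hj, n⟩ := h.cU _ (i t (e.trans h.g1.symm)) (i u (e'.trans h.g2.symm))
  have c' : Commute (k * (d * y * j)) a := c.mul_left (h.EX hd hy hj ha)
  rcases n with n | n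
  · exact a1 (h.fp a ha (by rwa [← n, mul_inv_cancel_left] at c'))
  have gi : g * a * g⁻¹ = a⁻¹ := by
    rw [show g = k * (d * y * j) * w by rw [mul_assoc k, ← n, mul_inv_cancel_left],
      show ∀ z : G, z * w * a * (z * w)⁻¹ = z * (w * a * w⁻¹) * z⁻¹ from fun z => by group, h.wR ha,
      TT.commute_iff_conj.1 c'.inv_right]
  have := h.g3c a
  rw [gi, ← conj_inv, gi, inv_inv, gi] at this
  exact a1 (h.sq1 ha (mul_eq_one_iff_eq_inv.2 this.symm))

/-- the involutions of `C(a)` lie in `W` -/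
theorem invX [Finite G] (ha : a ∈ zpowers x) (a1 : a ≠ 1) (ss : s * s = 1) (c2 : Commute s a) : s ∈ h.ψ.range := by
  have ev : ∀ v ∈ h.ψ.range, v ≠ 1 → Even (orderOf (s * v)) → s ∈ h.ψ.range := fun v hv v1 o => by
    obtain ⟨k, -, o2, e1, e2⟩ := central_of_even ss (h.toQ3.sqU hv) o
    have c : Commute ((s * v) ^ k) a := (c2.mul_left (h.RW ha hv).symm).pow_left k
    exact h.inW ha a1 ss (h.cW_t ha a1 (h.inW ha a1 (mul_self_of_orderOf o2) (h.cW_t ha a1 hv v1 e2 c) c)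
      (ne_one_of_orderOf_two o2) e1.symm c2) c2
  refine (Nat.even_or_odd _).elim (ev t (q3_t _) h.t1) fun o1 => (Nat.even_or_odd _).elim (ev u (q3_u _) h.u1) fun o2 => ?_
  obtain ⟨i, e1⟩ := conj_of_odd ss h.tt o1
  obtain ⟨j, e2⟩ := conj_of_odd ss h.uu o2
  refine (h.nrot ha a1 (((c2.mul_left (h.RW ha (q3_u _)).symm).pow_left j).mul_left
    ((c2.mul_left (h.RW ha (q3_t _)).symm).pow_left i).inv_left) ?_).elim
  generalize (s * t) ^ i = d at e1
  generalize (s * u) ^ j = d' at e2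
  rw [show d' * d⁻¹ * t * (d' * d⁻¹)⁻¹ = d' * (d⁻¹ * t * d) * d'⁻¹ by group, ← e1, e2]; group

/-- the trivial intersection property -/
theorem ti [Finite G] (ha : a ∈ zpowers x) (hb : b ∈ zpowers x) (b1 : b ≠ 1) (e : c * a * c⁻¹ = b) :
    ∀ e ∈ h.ψ.range, c * e * c⁻¹ ∈ h.ψ.range := fun s hs =>
  h.invX hb b1 (by rw [conj_mul, h.toQ3.sqU hs, mul_one, mul_inv_cancel])
    (e ▸ (TT.commute_conj_iff c).2 (h.RW ha hs).symm)

theorem ψ00 : h.ψ (1, 1) = 1 := map_one _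
theorem ψ10 : h.ψ (.ofAdd 1, 1) = t := by simp [Q3.ψ, LY.cyc]
theorem ψ01 : h.ψ (1, .ofAdd 1) = u := by simp [Q3.ψ, LY.cyc]
theorem ψ11 : h.ψ (.ofAdd 1, .ofAdd 1) = t * u := by simp [Q3.ψ, LY.cyc]

theorem M4_cases (m : M4) : m = (1, 1) ∨ m = (.ofAdd 1, 1) ∨ m = (1, .ofAdd 1) ∨ m = (.ofAdd 1, .ofAdd 1) := by
  revert m; decide

theorem ψ_rot (m : M4) : g * h.ψ m * g⁻¹ = h.ψ (rot m) := by
  rcases h.M4_cases m with rfl | rfl | rfl | rfl
  · simp [show rot (1, 1) = (1, 1) by decide, h.ψ00]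
  · rw [show rot (.ofAdd 1, 1) = (1, .ofAdd 1) by decide, h.ψ10, h.ψ01, h.g1]
  · rw [show rot (1, .ofAdd 1) = (.ofAdd 1, .ofAdd 1) by decide, h.ψ11, h.ψ01, h.g2]
  · rw [show rot (.ofAdd 1, .ofAdd 1) = (.ofAdd 1, 1) by decide, h.ψ11, h.ψ10, h.toQ3.g3]

theorem ψ_inj {m : M4} (e : h.ψ m = 1) : m = 1 := by
  rcases h.M4_cases m with rfl | rfl | rfl | rfl
  · rfl
  · exact (h.t1 (h.ψ10 ▸ e)).elim
  · exact (h.u1 (h.ψ01 ▸ e)).elim
  · exact (h.v1 (h.ψ11 ▸ e)).elim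

/-- an involution normalizing `W` centralizes it -/
theorem invW (ss : s * s = 1) (he : e ∈ h.ψ.range) (b : s * e * s⁻¹ ∈ h.ψ.range) : Commute s e := by
  have m := mul_mem b he
  have si := inv_eq_of_mul_eq_one_right ss
  have := h.two (s * e) 2 (by
    rw [show (s * e) ^ 2 ^ 2 = (s * e * s * e) * (s * e * s * e) by rw [show 2 ^ 2 = 2 + 2 from rfl, pow_add, sq]; group]
    rw [si] at m
    exact h.toQ3.sqU m)
  rw [mul_eq_one_iff_eq_inv, mul_inv_rev, si, inv_eq_of_mul_eq_one_right (h.toQ3.sqU he)] at this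
  exact this

/-- an element fixing `t` and normalizing `W` centralizes `W` -/
theorem fixW [Finite G] (a : Commute c t) (b : c * u * c⁻¹ ∈ h.ψ.range) : Commute c u := by
  rcases h.mem_U.1 b with e | e | e | e
  · exact (h.u1 (conj_eq_one_iff.1 e)).elim
  · exact (h.ne (mul_left_cancel (mul_right_cancel (e.trans (TT.commute_iff_conj.1 a).symm)))).elim
  · exact TT.commute_iff_conj.2 e
  obtain ⟨i, m, ⟨j, rfl⟩, o⟩ := Nat.exists_eq_two_pow_mul_odd (orderOf_pos c).ne'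
  have c2 : Commute (c ^ 2) u := TT.commute_iff_conj.2 (by
    rw [show c ^ 2 * u * (c ^ 2)⁻¹ = c * (c * u * c⁻¹) * c⁻¹ by rw [sq]; group, e, ← conj_mul, e,
      TT.commute_iff_conj.1 a, ← mul_assoc, h.tt, one_mul])
  have := h.invW (h.two (c ^ (2 * j + 1)) i (by rw [← pow_mul', ← o, pow_orderOf_eq_one])) (q3_u _) (by
    rw [pow_succ', pow_mul, show ∀ d : G, c * d * u * (c * d)⁻¹ = c * (d * u * d⁻¹) * c⁻¹ from fun d => by group,
      TT.commute_iff_conj.1 (c2.pow_left j)]; exact b)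
  rw [pow_succ, pow_mul] at this
  simpa using (c2.pow_left j).inv_left.mul_left this

theorem nW [Finite G] (b : ∀ e ∈ h.ψ.range, c * e * c⁻¹ ∈ h.ψ.range) :
    ∃ i : Fin 3, Commute (g ^ i.val * c) t ∧ Commute (g ^ i.val * c) u := by
  have gW : ∀ {e}, e ∈ h.ψ.range → g * e * g⁻¹ ∈ h.ψ.range := fun ⟨m, e⟩ => ⟨_, e ▸ (h.ψ_rot m).symm⟩
  have k : ∀ i : ℕ, ∀ e ∈ h.ψ.range, g ^ i * c * e * (g ^ i * c)⁻¹ ∈ h.ψ.range := fun i e he => by
    induction i with
    | zero => simpa using b e he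
    | succ i ih => have := gW ih; rw [pow_succ']; simpa [mul_assoc] using this
  suffices ∃ i : Fin 3, Commute (g ^ i.val * c) t from this.imp fun i a => ⟨a, h.fixW a (k _ u (q3_u _))⟩
  rcases h.mem_U.1 (b t (q3_t _)) with e | e | e | e
  · exact (h.t1 (conj_eq_one_iff.1 e)).elim
  · exact ⟨0, by simpa using TT.commute_iff_conj.2 e⟩
  · refine ⟨2, TT.commute_iff_conj.2 ?_⟩
    rw [show g ^ (2 : Fin 3).val * c * t * (g ^ (2 : Fin 3).val * c)⁻¹ = g * (g * (c * t * c⁻¹) * g⁻¹) * g⁻¹ by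
      show g ^ 2 * c * t * (g ^ 2 * c)⁻¹ = _; rw [sq]; group, e, h.g2, h.toQ3.g3]
  · refine ⟨1, TT.commute_iff_conj.2 ?_⟩
    rw [show g ^ (1 : Fin 3).val * c * t * (g ^ (1 : Fin 3).val * c)⁻¹ = g * (c * t * c⁻¹) * g⁻¹ by
      show g ^ 1 * c * t * (g ^ 1 * c)⁻¹ = _; group, e, h.toQ3.g3]

/-- the parametrization of `E = W X K` -/
noncomputable def f : (M4 × zpowers x) × K →* G :=
  (h.ψ.noncommCoprod (zpowers x).subtype fun m y => (h.RW y.2 ⟨m, rfl⟩).symm).noncommCoprod K.subtype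
    fun p k => (h.KW k.2 ⟨p.1, rfl⟩).symm.mul_left (h.RK p.2.2 k.2)

theorem f_ap (p : (M4 × zpowers x) × K) : h.f p = h.ψ p.1.1 * p.1.2 * p.2 := rfl

/-- conjugation by `g` on `X` -/
def vs : zpowers x →* zpowers x :=
  ((MulAut.conj g).toMonoidHom.comp (zpowers x).subtype).codRestrict _ fun y => h.gR y.2

theorem vs_ap (y : zpowers x) : (h.vs y : G) = g * y * g⁻¹ := rfl

theorem f_pw (p : (M4 × zpowers x) × K) : h.f p ^ (2 * Nat.card K) = p.1.2 ^ (2 * Nat.card K) :=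
  h.pw ⟨_, rfl⟩ p.1.2.2 p.2.2

theorem f_inv (p : (M4 × zpowers x) × K) (e : h.f p * h.f p = 1) : p.1.2 = 1 ∧ p.2 = 1 :=
  (h.inE ⟨_, rfl⟩ p.1.2.2 p.2.2 e).imp Subtype.ext Subtype.ext

theorem f_inj : Function.Injective h.f := (injective_iff_map_eq_one _).2 fun p e => by
  obtain ⟨e1, e2⟩ := h.f_inv p (by rw [e, one_mul])
  rw [f_ap, e1, e2] at e
  exact Prod.ext (Prod.ext (h.ψ_inj (by simpa using e)) e1) e2

theorem f_g (p : (M4 × zpowers x) × K) : g * h.f p * g⁻¹ = h.f ((rot p.1.1, h.vs p.1.2), ⟨_, h.gK _ p.2.2⟩) := by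
  rw [f_ap, f_ap, ← h.ψ_rot, vs_ap, conj_mul, conj_mul]

theorem f_w (p : (M4 × zpowers x) × K) : w * h.f p * w⁻¹ = h.f ((p.1.1, p.1.2⁻¹), ⟨_, h.wK _ p.2.2⟩) := by
  rw [f_ap, f_ap, ← conj_mul, ← conj_mul, h.wR p.1.2.2, (h.wW' ⟨p.1.1, rfl⟩).eq, mul_inv_cancel_right]; rfl

theorem cE (hc : c ∈ h.f.range) : Commute c t ∧ ∀ a ∈ zpowers x, Commute c a := by
  obtain ⟨p, rfl⟩ := hc
  exact ⟨((h.toQ3.cU (Commute.refl t) h.tu ⟨_, rfl⟩).symm.mul_left (zc h.xt p.1.2.2)).mul_left (h.Kt _ p.2.2),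
    fun a ha => h.EX ⟨_, rfl⟩ p.1.2.2 p.2.2 ha⟩

theorem cU' (a : Commute c t) (b : Commute c u) : c ∈ h.f.range ∨ w * c ∈ h.f.range := by
  obtain ⟨_, ⟨m, rfl⟩, y, hy, k, hk, e | e⟩ := h.cU c a b
  · exact .inl ⟨((m, ⟨y, hy⟩), ⟨k, hk⟩), e.symm⟩
  · refine .inr ⟨_, (h.f_w ((m, ⟨y, hy⟩), ⟨k, hk⟩)).symm.trans ?_⟩
    rw [e, h.wi, mul_assoc]; rfl

theorem out (p : (M4 × zpowers x) × K) : w * h.f p * (w * h.f p) = 1 ↔ p.2.1 ∈ K0 := by
  rw [show w * h.f p * (w * h.f p) = w * h.f p * w⁻¹ * h.f p by rw [h.wi, mul_assoc _ w], h.f_w, ← map_mul, map_eq_one_iff _ h.f_inj, ← h.iK _ p.2.2, ← mul_eq_one_iff_eq_inv]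
  simp only [Prod.ext_iff, Prod.fst_mul, Prod.snd_mul, inv_mul_cancel, Prod.fst_one, Prod.snd_one, and_true,
    Subtype.ext_iff, coe_mul, coe_one]
  exact and_iff_right (by generalize p.1.1 = m; revert m; decide)

theorem cN_val [Fintype G] (p : (M4 × zpowers x) × K) (p1 : p.1.2 ≠ 1) :
    cN t (h.f p) = if p.2.1 ∈ K0 then (4 * orderOf x * Nat.card K0 : ℂ) else 0 := by
  have y1 : (p.1.2 : G) ^ (2 * Nat.card K) ≠ 1 := fun e => p1 (Subtype.ext (h.pw1 p.1.2.2 e))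
  have hy := pow_mem p.1.2.2 (2 * Nat.card K)
  let E := ((⊤ : Subgroup (M4 × zpowers x)).prod (K0.subgroupOf K)).map h.f
  have mE : ∀ q, h.f q ∈ E ↔ q.2.1 ∈ K0 := fun q => by
    rw [mem_map_iff_mem h.f_inj, mem_prod, mem_subgroupOf]; simp
  have inv : ∀ {s}, IsConj t s → s * s = 1 := fun e => by
    obtain ⟨c, rfl⟩ := isConj_iff.1 e
    rw [conj_mul, h.tt, mul_one, mul_inv_cancel]
  have out : ∀ s, w * s ∈ E → IsConj t s := fun s m => by
    obtain ⟨q, -, e⟩ := id m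
    have e' : s = w * h.f q := by rw [e, ← mul_assoc, h.ww, one_mul]
    refine h.cj s (e' ▸ (h.out q).2 ((mE q).1 (e ▸ m))) ?_
    rintro rfl
    rw [mul_one] at e
    obtain ⟨e1, e2⟩ := h.f_inv q (by rw [e, h.ww])
    rw [f_ap, e1, e2] at e
    exact h.wW ⟨_, by simpa using e⟩
  have inn : ∀ s, s * s = 1 → w * s ∈ h.f.range → w * s ∈ E := fun s ss ⟨q, e⟩ => by
    rw [← e, mE, ← h.out, e, ← mul_assoc w w, h.ww, one_mul, ss]
  have k : ∀ s, cI t s * cI t (s⁻¹ * h.f p) = if w * s ∈ E ∧ p.2.1 ∈ K0 then 1 else 0 := fun s => by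
    rw [cI, cI, ite_zero_mul_ite_zero, one_mul]
    convert if_congr (Iff.intro (fun cc : IsConj t s ∧ IsConj t (s⁻¹ * h.f p) => ?_)
      fun m : w * s ∈ E ∧ p.2.1 ∈ K0 => And.intro (out s m.1) (out _ ?_)) rfl rfl
    · obtain ⟨c1, c2⟩ := cc
      have ss := inv c1
      have si := inv_eq_of_mul_eq_one_right ss
      have s2 := inv c2
      rw [si] at s2
      have iv : s * h.f p * s⁻¹ = (h.f p)⁻¹ := by
        rw [si]
        exact eq_inv_of_mul_eq_one_left (by rw [← s2]; group)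
      have iv2 : s * (p.1.2 : G) ^ (2 * Nat.card K) * s⁻¹ = ((p.1.2 : G) ^ (2 * Nat.card K))⁻¹ := by
        rw [← h.f_pw, ← conj_pow, iv, inv_pow]
      have d := h.ti hy (inv_mem hy) (inv_ne_one.2 y1) iv2
      have m := (h.cU' (h.invW ss (q3_t _) (d _ (q3_t _))) (h.invW ss (q3_u _) (d _ (q3_u _)))).resolve_left
        fun m => y1 (h.sq1 hy (by
          rw [TT.commute_iff_conj.1 ((h.cE m).2 _ hy)] at iv2
          exact mul_eq_one_iff_eq_inv.2 iv2))
      have m2 := inn _ s2 (by rw [← mul_assoc]; exact mul_mem m ⟨p, rfl⟩)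
      rw [← mul_assoc, mul_mem_cancel_left (inn s ss m), mE] at m2
      exact ⟨inn s ss m, m2⟩
    · rw [inv_eq_of_mul_eq_one_right (inv (out s m.1)), ← mul_assoc]
      exact mul_mem m.1 ((mE p).2 m.2)
  rw [cN, Finset.sum_congr rfl fun s _ => k s]
  split_ifs with m
  · simp only [m, and_true]
    refine (Equiv.sum_comp (Equiv.mulLeft w) fun c => if c ∈ E then (1 : ℂ) else 0).trans ?_
    rw [BSW.sum_ite_mem, card_map_of_injective h.f_inj, Nat.card_congr (prodEquiv _ _).toEquiv, Nat.card_prod,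
      card_top, Nat.card_prod, Nat.card_zpowers, Nat.card_congr (subgroupOfEquivOfLe h.le0).toEquiv]
    simp
  · simp [m]

theorem ind_val [Fintype G] (θ : M4 × zpowers x → ℂ) (h0 : ∀ m, θ (m, 1) = 0) (p : (M4 × zpowers x) × K) :
    ind h.f (fun q => θ q.1) (h.f p) =
      ∑ i : Fin 3, (θ (rot^[i] p.1.1, h.vs^[i] p.1.2) + θ (rot^[i] p.1.1, (h.vs^[i] p.1.2)⁻¹)) := by
  have fg : ∀ i : ℕ, ∃ κ, g ^ i * h.f p * (g ^ i)⁻¹ = h.f ((rot^[i] p.1.1, h.vs^[i] p.1.2), κ) := fun i => by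
    induction i with
    | zero => exact ⟨p.2, by simp⟩
    | succ i ih =>
      obtain ⟨κ, ih⟩ := ih
      exact ⟨_, by rw [Function.iterate_succ_apply', Function.iterate_succ_apply', ← h.f_g ((_, _), κ), ← ih,
        pow_succ']; group⟩
  choose κ fg using fg
  rw [ind_cos' h.f h.f_inj (ι := Fin 3 × Bool) (fun i => (if i.2 then w else 1) * g ^ i.1.val)
    (fun i => ((rot^[i.1] p.1.1, if i.2 then (h.vs^[i.1] p.1.2)⁻¹ else h.vs^[i.1] p.1.2),
      if i.2 then ⟨_, h.wK _ (κ i.1).2⟩ else κ i.1)) p _ ?_ ?_ ?_ ?_, Fintype.sum_prod_type]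
  · exact Finset.sum_congr rfl fun i _ => by simp [add_comm]
  · intro e b
    have : Commute b.1 e.1 := Prod.ext (mul_comm _ _) (Subtype.ext (h.RR b.1.2.2 e.1.2.2))
    simp only [Prod.fst_mul, Prod.fst_inv, mul_assoc, this.eq, inv_mul_cancel_left]
  · rintro ⟨i, _ | _⟩
    · simpa using fg i
    · simp only [if_true]
      rw [← h.f_w ((_, _), κ i), ← fg]; group
  · have cw : ∀ b : Bool, Commute (if b then w else 1) t := fun b => by cases b; exacts [Commute.one_left t, h.wt]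
    have n1 : ¬ Commute g t := fun e => h.ne (h.g1.symm.trans (TT.commute_iff_conj.1 e))
    have gi : g⁻¹ = g ^ 2 := inv_eq_of_mul_eq_one_right (by rw [← pow_succ', h.g3'])
    have n2 : ¬ Commute (g ^ 2) t := fun e => n1 (by rw [← gi] at e; simpa using e.inv_left)
    rintro ⟨i, b⟩ ⟨j, c⟩ m
    have c1 : Commute (g ^ i.val * (g ^ j.val)⁻¹) t := by
      have := ((cw b).inv_left.mul_left (h.cE m).1).mul_left (cw c)
      dsimp only at this
      generalize (if b then w else 1) = b' at this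
      generalize (if c then w else 1) = c' at this
      simpa [mul_assoc] using this
    obtain rfl : i = j := by
      fin_cases i <;> fin_cases j <;> first | rfl | (exfalso; simp only [pow_zero, pow_one, one_mul, inv_one, mul_one] at c1)
      · exact n1 (by simpa using c1.inv_left)
      · exact n2 (by simpa using c1.inv_left)
      · exact n1 c1
      · exact n1 (by simpa [sq] using c1.inv_left)
      · exact n2 c1
      · exact n1 (by simpa [sq] using c1)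
    have nw : ¬ Commute w x := fun e => h.x1 (h.nwa (mem_zpowers x) e)
    have := (h.cE m).2 x (mem_zpowers x)
    cases b <;> cases c
    · rfl
    · exact (nw (by simpa using this.inv_left)).elim
    · exact (nw (by simpa using this)).elim
    · rfl
  · intro c b e n
    have b1 : (b.1.2 : G) ^ (2 * Nat.card K) ≠ 1 := fun k =>
      n (by rw [← h0 b.1.1, ← show b.1.2 = 1 from Subtype.ext (h.pw1 b.1.2.2 k)])
    have e2 : c⁻¹ * (p.1.2 : G) ^ (2 * Nat.card K) * c⁻¹⁻¹ = b.1.2 ^ (2 * Nat.card K) := by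
      rw [← h.f_pw, ← h.f_pw, e, ← conj_pow, inv_inv]
    have a1 : (p.1.2 : G) ^ (2 * Nat.card K) ≠ 1 := fun k => b1 (by rw [← e2, k]; group)
    obtain ⟨i, c1, c2⟩ := h.nW (h.ti (pow_mem b.1.2.2 _) (pow_mem p.1.2.2 _) a1 (c := c) (by rw [← e2]; group))
    rcases h.cU' c1 c2 with m | m
    · exact ⟨(i, false), by simpa using m⟩
    · exact ⟨(i, true), by simpa [mul_assoc] using m⟩

theorem th_val [Fintype G] {Θ : Fin 3 → G → ℂ} (T : TD t x Q Θ)
    (val : ∀ i, ∀ a ∈ zpowers x, a ≠ 1 → ∀ k ∈ K, Θ i (t * (a * k)) = 2 * (1 - ys i)) (i : Fin 3)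
    (p : (M4 × zpowers x) × K) (p1 : p.1.2 ≠ 1) : Θ i (h.f p) = if p.1.1 = 1 then (0 : ℂ) else 2 * (1 - ys i) := by
  have k : ∀ p : (M4 × zpowers x) × K, Θ i (h.f p) = Θ i (h.f ((rot p.1.1, h.vs p.1.2), ⟨_, h.gK _ p.2.2⟩)) :=
    fun p => by rw [← h.f_g, (T.virt i).isClassFunction]
  have v1 : ∀ {y}, y ≠ 1 → h.vs y ≠ 1 := fun n e => n (Subtype.ext (conj_eq_one_iff.1 (congrArg Subtype.val e)))
  have k1 : ∀ (y : zpowers x) (κ : K), y ≠ 1 → Θ i (h.f (((.ofAdd 1, 1), y), κ)) = 2 * (1 - ys i) := fun y κ y1 => by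
    rw [f_ap, h.ψ10, mul_assoc]; exact val i y y.2 (fun e => y1 (Subtype.ext e)) κ κ.2
  obtain ⟨⟨m, y⟩, κ⟩ := p
  rcases h.M4_cases m with rfl | rfl | rfl | rfl
  all_goals dsimp only
  · rw [f_ap, h.ψ00, one_mul, T.od i _ (((h.oR y.2).mul (h.oK' κ.2)).of_dvd_nat
      (h.RK y.2 κ.2).orderOf_mul_dvd_mul_orderOf), if_pos (by decide)]
  · rw [if_neg (by decide), k1 y κ p1]
  · rw [if_neg (by decide), k, k]; exact k1 _ _ (v1 (v1 p1))
  · rw [if_neg (by decide), k]; exact k1 _ _ (v1 p1)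

theorem exists_lam [Finite G] : ∃ l : zpowers x →* ℂˣ, Function.Injective l := by
  have : NeZero (Nat.card (zpowers x)) := ⟨Nat.card_pos.ne'⟩
  have e : zpowers x ≃* rootsOfUnity (Nat.card (zpowers x)) ℂ :=
    mulEquivOfCyclicCardEq (Complex.card_rootsOfUnity _).symm
  exact ⟨(Subgroup.subtype _).comp e.toMonoidHom, Subtype.val_injective.comp e.injective⟩

set_option maxHeartbeats 400000 in
theorem xd [Fintype G] {Θ : Fin 3 → G → ℂ} (T : TD t x Q Θ)
    (val : ∀ i, ∀ a ∈ zpowers x, a ≠ 1 → ∀ k ∈ K, Θ i (t * (a * k)) = 2 * (1 - ys i)) : ∃ Ξ, XD t Q Θ Ξ := by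
  obtain ⟨l, hl⟩ := h.exists_lam
  have x1 := h.x1
  let x' : zpowers x := ⟨x, mem_zpowers x⟩
  let θ : Fin 4 → M4 × zpowers x → ℂ := fun k p => ch (bt k) p.1 * om l p.2
  have h0 : ∀ k m, θ k (m, 1) = 0 := fun k m => by simp [θ, om, ch]
  have vt : ∀ k, IsGeneralizedCharacter G (ind h.f fun q => θ k q.1) := fun k => by
    have a := (((ch_virt (bt k)).comp (MonoidHom.fst M4 (zpowers x))).mul
      (((ch_virt 1).sub (ch_virt l)).comp (MonoidHom.snd M4 (zpowers x)))).comp (MonoidHom.fst _ K)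
    have b : IsGeneralizedCharacter ((M4 × zpowers x) × K) (fun q => θ k q.1) := a
    exact b.ind h.f
  have KK : ∀ k {φ : G → ℂ} {ι : Type} [Fintype ι] (a : ι → M4 → ℂ) (b : ι → zpowers x → ℂ), IsClassFunction G φ →
      (∀ p : (M4 × zpowers x) × K, p.1.2 ≠ 1 → φ (h.f p) = ∑ i, a i p.1.1 * b i p.1.2) →
      ⟪ind h.f fun q => θ k q.1, φ⟫ = ∑ i, ⟪ch (bt k), a i⟫ * ⟪om l, b i⟫ := by
    intro k φ ι _ a b c e
    rw [ci_ind_left _ _ c, Finset.sum_congr rfl fun i _ => (ci_prod _ _ _ _).symm, ← ci_sum_right,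
      ← mul_one ⟪_, ∑ i, _⟫, ← ci_one_one (G := K), ← ci_prod]
    refine congrArg (_ * ·) (Finset.sum_congr rfl fun p _ => ?_)
    by_cases p1 : p.1.2 = 1
    · simp [θ, om, ch, p1]
    · simp only [e p p1, Finset.sum_apply, θ, mul_one]
  have xx : x ≠ x⁻¹ := fun e => x1 (h.sq1 (mem_zpowers x) (mul_eq_one_iff_eq_inv.2 e))
  have n1 : g * x * g⁻¹ ≠ x := fun e => x1 (h.fp x (mem_zpowers x) (TT.commute_iff_conj.2 e))
  have n2 : g * (g * x * g⁻¹) * g⁻¹ ≠ x := fun e => n1 (by nth_rewrite 1 [← e]; rw [h.g3c])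
  have n3 : (g * x * g⁻¹)⁻¹ ≠ x := fun e => n2 (by
    rw [inv_eq_iff_eq_inv.1 e, ← conj_inv, inv_eq_iff_eq_inv.1 e, inv_inv])
  have n4 : (g * (g * x * g⁻¹) * g⁻¹)⁻¹ ≠ x := fun e => n3 (by
    nth_rewrite 1 [← e]; rw [← conj_inv, inv_inv, h.g3c])
  have co : ∀ ν : zpowers x →* ℂˣ, Function.Injective ν → ⟪om l, om ν⟫ = if l = ν then 2 else 1 := fun ν hν => by
    have k : ∀ ν : zpowers x →* ℂˣ, Function.Injective ν → ν ≠ 1 := fun ν hν e =>
      x1 (congrArg Subtype.val (hν (a₁ := x') (a₂ := 1) (by simp [e])))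
    simp only [om, ci_sub_left, ci_sub_right, ci_ch, if_neg (k l hl), if_neg (k ν hν).symm, if_true]
    split_ifs <;> norm_num
  have vi : Function.Injective h.vs := fun a b e => Subtype.ext ((MulAut.conj g).injective (congrArg Subtype.val e))
  let lam : Fin 3 → zpowers x →* ℂˣ := ![l, l.comp h.vs, (l.comp h.vs).comp h.vs]
  have li : ∀ i, Function.Injective (lam i) := fun i => by
    fin_cases i; exacts [hl, hl.comp vi, (hl.comp vi).comp vi]
  have c1 : ∀ i : Fin 3, ⟪om l, om (lam i) + om (lam i)⁻¹⟫ = if i = 0 then 3 else 2 := fun i => by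
    rw [ci_add_right, co _ (li i), co _ (fun a b e => li i (inv_injective e))]
    have k : ∀ ν : zpowers x →* ℂˣ, ∀ y : zpowers x, ν x' = l y → (y : G) ≠ x → l ≠ ν := fun ν y e m k =>
      m (congrArg Subtype.val (hl (e.symm.trans (DFunLike.congr_fun k x').symm)))
    fin_cases i
    · rw [if_pos (by rfl), if_neg (k _ x'⁻¹ (by simp [lam]) xx.symm)]; norm_num
    · rw [if_neg (k _ (h.vs x') rfl n1), if_neg (k _ (h.vs x')⁻¹ (by simp [lam]) n3)]; norm_num
    · rw [if_neg (k _ (h.vs (h.vs x')) rfl n2), if_neg (k _ (h.vs (h.vs x'))⁻¹ (by simp [lam]) n4)]; norm_num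
  have c2 : ⟪om l, fun _ => 1⟫ = 1 := by
    rw [om, ci_sub_left]
    refine (congrArg₂ (· - ·) (ci_ch 1 1) (ci_ch l 1)).trans ?_
    rw [if_pos rfl, if_neg fun e => x1 (congrArg Subtype.val (hl (a₁ := x') (a₂ := 1) (by simp [e]))), sub_zero]
  have cM : (Nat.card M4 : ℂ) = 4 := by simp
  have s1 : sg2 (.ofAdd 1) = -1 := by simp [sg2, LY.cyc]
  have zq : ∀ k {y : G}, y * y = 1 → ind h.f (fun q => θ k q.1) y = 0 := fun k y e =>
    ind_eq_zero_of_forall fun c p m => by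
      have := (h.f_inv p (by rw [m, show c⁻¹ * y * c * (c⁻¹ * y * c) = c⁻¹ * (y * y) * c by group, e]; simp)).1
      rw [show p.1 = (p.1.1, 1) from Prod.ext rfl this, h0]
  refine ⟨fun k => ind h.f fun q => θ k q.1, vt, fun k j => ?_, fun k i => ?_, fun k => ?_, fun k => zq k (one_mul 1),
    fun k => zq k h.tt, fun k => ?_, fun k k0 y o => ?_⟩
  · rw [KK k (fun (i : Fin 3) m => ch (bt j) (rot^[i] m)) (fun i => om (lam i) + om (lam i)⁻¹) (vt j).isClassFunction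
      fun p _ => (h.ind_val _ (h0 j) p).trans (Finset.sum_congr rfl fun i _ => by
        fin_cases i <;> simp [θ, lam, om, ch, mul_add])]
    simp only [c1, ci_def (ch _), sum_M4, cM, Fin.sum_univ_three]
    fin_cases k <;> fin_cases j <;> simp [ch, bt, rot, s1] <;> norm_num
  · rw [KK k (ι := Unit) (fun _ m => if m = 1 then 0 else 2 * (1 - ys i)) (fun _ _ => 1) (T.virt i).isClassFunction
      fun p p1 => by simpa using h.th_val T val i p p1]
    simp only [c2, ci_def (ch _), sum_M4, cM]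
    fin_cases k <;> fin_cases i <;> simp [ch, bt, s1, ys, map_ofNat] <;> norm_num
  · rw [KK k (ι := Unit) (fun _ _ => 1) (fun _ _ => 1) (isClassFunction_const 1) fun p p1 => by simp]
    simp only [c2, ci_def (ch _), sum_M4, cM]
    fin_cases k <;> simp [ch, bt, s1] <;> norm_num
  · rw [cZ_ind, Finset.sum_congr rfl fun p _ => show _ = θ k p.1 *
      ((if p.2.1 ∈ K0 then 1 else 0) * (4 * orderOf x * Nat.card K0 : ℂ)) from ?_, Fintype.sum_prod_type]
    swap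
    · by_cases p1 : p.1.2 = 1
      · rw [show p.1 = (p.1.1, 1) from Prod.ext rfl p1, h0, zero_mul, zero_mul]
      · rw [h.cN_val p p1, ite_mul, one_mul, zero_mul]
    have c3 := c2
    rw [ci_def, Nat.card_zpowers, inv_mul_eq_one₀ (Nat.cast_ne_zero.2 (orderOf_pos x).ne')] at c3
    simp only [map_one, mul_one] at c3
    have c4 : ∀ (F : Fintype K) (d : ∀ j : K, Decidable (j.1 ∈ K0)),
        ∑ j : K, (if j.1 ∈ K0 then (1 : ℂ) else 0) = Nat.card K0 := fun F d => by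
      convert (BSW.sum_ite_mem (K0.subgroupOf K)).trans
        (congrArg _ (Nat.card_congr (subgroupOfEquivOfLe h.le0).toEquiv))
      exact mem_subgroupOf.symm
    dsimp only
    simp only [← Finset.mul_sum, ← Finset.sum_mul]
    rw [Finset.sum_congr rfl fun _ _ => by rw [c4], ← Finset.sum_mul]
    simp only [θ]
    rw [Fintype.sum_prod_type, ← Finset.sum_mul_sum, ← c3, sum_M4, Nat.card_prod, Nat.card_prod, Nat.card_zpowers,
      Nat.cast_mul, Nat.cast_mul, cM, ← C1[t].index_mul_card]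
    have r0 : (orderOf x : ℂ) ≠ 0 := Nat.cast_ne_zero.2 (orderOf_pos x).ne'
    have k0 := card_ne_zero_complex K
    have := congrArg (Int.cast : ℤ → ℂ) h.card
    push_cast at this
    generalize Nat.card C1[t] = c at this ⊢
    generalize Nat.card K = c1 at this k0 ⊢
    generalize Nat.card K0 = c2 at this ⊢
    fin_cases k <;> simp [ch, bt, s1]
    field_simp
    linear_combination (C1[t].index : ℂ) * this
  · have : ind h.f ((fun q => θ 0 q.1) + (2 : ℂ) • (fun q => θ k q.1) - (fun q => θ 1 q.1) - (fun q => θ 2 q.1) -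
        fun q => θ 3 q.1) y = 0 := ind_eq_zero_of_forall fun c p m => by
      have p1 : p.1.1 = 1 := h.ψ_inj (by
        have o' : Odd (orderOf (h.f p)) := by
          have := orderOf_conj' y c⁻¹
          rw [inv_inv] at this
          rwa [m, this]
        have o2 := ((h.oR p.1.2.2).mul (h.oK' p.2.2)).of_dvd_nat (h.RK p.1.2.2 p.2.2).orderOf_mul_dvd_mul_orderOf
        have c0 : Commute (p.1.2 * p.2 : G) (h.ψ p.1.1) := (h.RW p.1.2.2 ⟨_, rfl⟩).mul_left (h.KW p.2.2 ⟨_, rfl⟩)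
        have cm : Commute (h.ψ p.1.1 * (p.1.2 * p.2)) (p.1.2 * p.2 : G)⁻¹ :=
          c0.symm.inv_right.mul_left (Commute.refl _).inv_right
        have d := cm.orderOf_mul_dvd_mul_orderOf
        rw [mul_inv_cancel_right, orderOf_inv, ← mul_assoc, ← h.f_ap] at d
        exact sq_one ((o'.mul o2).of_dvd_nat d) (h.toQ3.sqU ⟨_, rfl⟩))
      simp [θ, p1, ch]; ring
    simpa [ind_sub, ind_add, ind_smul] using this

end JG

end Cfsg.Agent.WA
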