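import Cfsg.Agent.WA.JG1
import Cfsg.Agent.WA.JE3
import Cfsg.Agent.WA.JB3

/-! Groups of Janko-Ree type with field automorphisms: block lemmas. -/

set_option autoImplicit false
set_option linter.unusedSectionVars false

namespace Cfsg.Agent.WA.JE

open Cfsg Subgroup Cfsg.Agent.GT Cfsg.Agent.Char Cfsg.Agent.BS Cfsg.Agent.B84C Cfsg.Agent.B84H Cfsg.Agent.Cls
open scoped Classical ComplexConjugate

universe u

theorem free4 {X : Type*} (σ τ : X → X) (ss : Function.Involutive σ) (tt : Function.Involutive τ)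
    (c : ∀ x, σ (τ x) = τ (σ x)) (f1 : ∀ x, σ x ≠ x) (f2 : ∀ x, τ x ≠ x) (f3 : ∀ x, σ (τ x) ≠ x) : 4 ∣ Nat.card X := by
  let ρ : M4 →* Equiv.Perm X := (LY.cyc ss.toPerm (by rw [sq]; exact Equiv.ext ss)).noncommCoprod
    (LY.cyc tt.toPerm (by rw [sq]; exact Equiv.ext tt))
    fun i j => Commute.pow_pow (Equiv.ext c) _ _
  letI := MulAction.compHom X ρ
  rw [Nat.card_congr (MulAction.selfEquivOrbitsQuotientProd (G := M4) (X := X) fun b => eq_bot_iff.2 fun m hm => ?_),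
    Nat.card_prod]
  · simp
  have e : ρ m b = b := hm
  rcases (by decide : ∀ m : M4, m = (1, 1) ∨ m = (.ofAdd 1, 1) ∨ m = (1, .ofAdd 1) ∨ m = (.ofAdd 1, .ofAdd 1)) m
    with rfl | rfl | rfl | rfl
  exacts [rfl, (f1 b e).elim, (f2 b e).elim, (f3 b e).elim]

/-- multiply or conjugate -/
noncomputable def mv {G : Type u} [Group G] (v s : G) : G := if Commute s v then s * v else v * s * v⁻¹

theorem mv_c {G : Type u} [Group G] {v z : G} (c : Commute v z) (s : G) : Commute (mv v s) z ↔ Commute s z := by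
  unfold mv; split_ifs
  · exact ⟨fun e => by simpa using e.mul_left c.inv_left, fun e => e.mul_left c⟩
  · exact ⟨fun e => by simpa [mul_assoc] using (c.inv_left.mul_left e).mul_left c,
      fun e => (c.mul_left e).mul_left c.inv_left⟩

theorem inv4 {G : Type u} [Group G] {a b c : G} (aa : a * a = 1) (bb : b * b = 1) (ab : Commute a b) (a1 : a ≠ 1)
    (b1 : b ≠ 1) (n : a * b ≠ 1) (two : ∀ (s : G) (k : ℕ), s ^ 2 ^ k = 1 → s * s = 1) (ac : Commute a c)
    (bc : Commute b c) (β : Prop) (H : ∀ s, (Commute s c ↔ β) → Commute s (a * b) → Commute s a) :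
    4 ∣ Nat.card {s : G // s * s = 1 ∧ (Commute s c ↔ β)} := by
  have m : ∀ {v}, v * v = 1 → Commute v c → ∀ s : {s : G // s * s = 1 ∧ (Commute s c ↔ β)},
      mv v s * mv v s = 1 ∧ (Commute (mv v s) c ↔ β) := fun {v} vv vc s => ⟨by
    unfold mv; split_ifs with e
    · rw [e.symm.mul_mul_mul_comm, s.2.1, vv, one_mul]
    · rw [conj_mul, s.2.1, mul_one, mul_inv_cancel], (mv_c vc _).trans s.2.2⟩
  have i : ∀ {v : G}, v * v = 1 → ∀ s, mv v (mv v s) = s := fun {v} vv s => by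
    rw [mv, mv_c (Commute.refl v), mv]
    split_ifs
    · rw [mul_assoc, vv, mul_one]
    · rw [show v * (v * s * v⁻¹) * v⁻¹ = v * v * s * (v * v)⁻¹ by group, vv]; simp
  have f : ∀ {v : G}, v ≠ 1 → ∀ s, mv v s ≠ s := fun {v} v1 s e => by
    unfold mv at e; split_ifs at e with k
    · exact v1 (by simpa using e)
    · exact k (TT.commute_iff_conj.2 e).symm
  have k : ∀ {v z s : G}, v * v = 1 → z * z = 1 → s * s = 1 → Commute s v → v ≠ 1 → z * s * z⁻¹ * v ≠ s := by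
    intro v z s vv zz ss c v1 e
    have e2 : z * s * (z * s) = v := by
      rw [← mul_assoc, ← inv_eq_of_mul_eq_one_right zz, inv_eq_of_mul_eq_one_right zz,
        eq_mul_inv_of_mul_eq (inv_eq_of_mul_eq_one_right zz ▸ e :), c.inv_right.eq, mul_assoc, ss, mul_one,
        inv_eq_of_mul_eq_one_right vv]
    exact v1 (e2 ▸ two (z * s) 2 (by rw [show 2 ^ 2 = 2 * 2 from rfl, pow_mul, sq, sq, e2, vv]))
  refine free4 (fun s => ⟨_, m aa ac s⟩) (fun s => ⟨_, m bb bc s⟩) (fun s => Subtype.ext (i aa s))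
    (fun s => Subtype.ext (i bb s)) (fun s => Subtype.ext ?_) (fun s e => f a1 _ (congrArg Subtype.val e))
    (fun s e => f b1 _ (congrArg Subtype.val e)) fun s e => ?_
  · show mv a (mv b s) = mv b (mv a s)
    rw [mv, mv_c ab.symm]
    conv_rhs => rw [mv, mv_c ab]
    unfold mv
    split_ifs
    · rw [mul_assoc, mul_assoc, ab.eq]
    · simp only [mul_assoc, ab.symm.inv_left.eq]
    · simp only [mul_assoc, ab.inv_left.eq]
    · rw [show a * (b * s * b⁻¹) * a⁻¹ = a * b * s * (a * b)⁻¹ by group, ab.eq]; group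
  · have e : mv a (mv b s) = s := congrArg Subtype.val e
    rw [mv, mv_c ab.symm] at e
    unfold mv at e
    split_ifs at e with c1 c2 c2
    · exact n (by rw [ab.eq]; simpa [mul_assoc] using e)
    · exact k aa bb s.2.1 c1 a1 e
    · exact k bb aa s.2.1 c2 b1 (.trans (by simp only [mul_assoc, ab.inv_left.eq]) e)
    · exact c1 (H s s.2.2 (TT.commute_iff_conj.2 (.trans (by group) e)).symm)

variable {G : Type u} [Group G] [Fintype G] {t u g w x : G} {K K0 : Subgroup G} {Q : ℤ} {α β γ Φ : G → ℂ}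
  {Θ : Fin 3 → G → ℂ} {Ξ : Fin 4 → G → ℂ}

theorem n4 (h : JG t u g w x K K0 Q) : C1[t].index % 4 = 3 := by
  have c : Commute t (t * u) := (Commute.refl t).mul_right h.tu
  have e : t * (t * u) = u := by rw [← mul_assoc, h.tt, one_mul]
  have a := inv4 h.tt h.vv c h.t1 h.v1 (e.symm ▸ h.u1) h.two c (Commute.refl _) True fun s k j => by
    rw [e] at j
    simpa using (k.2 trivial).mul_right j.inv_right
  have b := inv4 h.tt h.uu h.tu h.t1 h.u1 h.v1 h.two c (h.tu.symm.mul_right (Commute.refl u)) False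
    fun s k j => (k.1 j).elim
  rw [Nat.subtype_card (Finset.univ.filter _) fun _ => (Finset.mem_filter_univ _)] at a b
  have d := Finset.card_filter_add_card_filter_not (s := Finset.univ.filter fun s : G => s * s = 1)
    fun s => Commute s (t * u)
  rw [Finset.filter_filter, Finset.filter_filter, show (Finset.univ.filter fun s : G => s * s = 1) =
    insert 1 (Finset.univ.filter fun s => IsConj t s) from ?_, Finset.card_insert_of_notMem (by simpa using h.t1)]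
    at d
  · have c := Cls.sum_ite_isConj t
    rw [Finset.sum_boole, Nat.cast_inj] at c
    simp only [iff_true, iff_false] at a b
    omega
  ext s
  simp only [Finset.mem_filter_univ, Finset.mem_insert]
  refine ⟨fun e => or_iff_not_imp_left.2 (h.cj s e), ?_⟩
  rintro (rfl | e)
  · exact one_mul 1
  · obtain ⟨c, rfl⟩ := isConj_iff.1 e
    rw [conj_mul, h.tt, mul_one, mul_inv_cancel]

theorem deg8' (h : JG t u g w x K K0 Q) (hγ : IsGeneralizedCharacter G γ) {d v : ℤ} (hd : γ 1 = d) (hv : γ t = v) :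
    (d - v) % 8 = 0 := by
  let f : M4 × Multiplicative (Fin 2) →* G :=
    h.ψ.noncommCoprod (LY.cyc w (by rw [sq, h.ww])) fun m _ => (h.wW' ⟨m, rfl⟩).symm.pow_right _
  obtain ⟨n, hn⟩ := (hγ.comp f).ci_int virt_one
  have k : ∀ {s}, s * s = 1 → s ≠ 1 → γ s = v := fun e n => hγ.isClassFunction.eq_of_isConj (h.cj _ e n) ▸ hv
  have k2 : ∀ m, γ (h.ψ m * w) = v := fun m => k
    (by rw [(h.wW' ⟨m, rfl⟩).mul_mul_mul_comm, h.toQ3.sqU ⟨m, rfl⟩, h.ww, one_mul]) fun e => h.wW (by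
      have := inv_mem (show h.ψ m ∈ h.ψ.range from ⟨m, rfl⟩)
      rwa [← eq_inv_of_mul_eq_one_right e] at this)
  rw [ci_one_right, Fintype.sum_prod_type, inv_mul_eq_iff_eq_mul₀ (card_ne_zero_complex _)] at hn
  have ef : ∀ m j, f (m, Multiplicative.ofAdd j) = h.ψ m * w ^ j.val := fun _ _ => rfl
  simp only [← Multiplicative.ofAdd.sum_comp, Fin.sum_univ_two, ef, Fin.val_zero, Fin.val_one, pow_zero, pow_one,
    mul_one, k2, sum_M4, h.ψ00, h.ψ10, h.ψ01, h.ψ11, hd, hv, k h.uu h.u1, k h.vv h.v1] at hn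
  have : d + 7 * v = 8 * n := by
    have c : (Nat.card (M4 × Multiplicative (Fin 2)) : ℂ) = 8 := by simp
    rw [c] at hn
    exact_mod_cast (by linear_combination hn : (d + 7 * v : ℂ) = 8 * n)
  omega

theorem mem_b0' (T : TD t x Q Θ) (P : ∃ k : ℤ, Odd k ∧ (Nat.card G : ℤ) = 8 * k) (hγ : IsSIrr G γ)
    (h1 : ⟪γ, fun _ => 1⟫ = 0) {m d : ℤ} (hm : ⟪γ, Θ 0⟫ + ⟪γ, Θ 1⟫ + ⟪γ, Θ 2⟫ = m) (hd : γ 1 = d)
    (c : m % 2 = 1 ∨ (m = 2 ∧ d % 4 = 2)) : γ ∈ B0 G ∨ -γ ∈ B0 G := by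
  obtain ⟨k, ⟨i, rfl⟩, hk⟩ := P
  obtain ⟨n, this, e⟩ := T.omega_eq hk hγ h1 hm hd
  refine e.1 (by_contra fun o => ?_)
  obtain ⟨j, rfl⟩ := Int.not_odd_iff_even.1 o
  rcases c with c | ⟨rfl, c⟩
  · obtain ⟨l, rfl⟩ : ∃ l, m = 2 * l + 1 := ⟨m / 2, by omega⟩
    have : 2 * (j * d + 2 * i * l + i + l) = -1 := by linear_combination this
    omega
  · obtain ⟨l, rfl⟩ : ∃ l, d = 2 * l := ⟨d / 2, by omega⟩
    have : 2 * (j * l + i) = -1 := by linarith
    omega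

set_option maxHeartbeats 1600000 in
theorem shape' [IsSimpleGroup G] (c8 : ∃ N : ℤ, Odd N ∧ (Nat.card G : ℤ) = 8 * N) (ht : orderOf t = 2)
    (nc : ¬ IsMulCommutative G) (k : TD t x Q Θ) : (∃ a b, SA t Q Θ a b) ∨ (∃ a c, SB t Q Θ a c) := by
  obtain ⟨N, oN, hN⟩ := c8
  have s1 : IsSIrr G (fun _ => 1) := isIrrCharacter_one.isSIrr
  set v : Fin 3 → G → ℂ := fun i => Θ i - fun _ => 1 with hv
  have vv : ∀ i, IsGeneralizedCharacter G (v i) := fun i => (k.virt i).sub virt_one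
  have o1 : ∀ i, ⟪fun _ => 1, Θ i⟫ = 1 := fun i => by simpa using ci_symm_of_int (n := 1) (by simpa using k.one i)
  have gr : ∀ i j, ⟪v i, v j⟫ = if i = j then 3 else 1 := fun i j => by
    simp only [hv, ci_sub_left, ci_sub_right, k.gram, k.one, o1, ci_one_one]; split_ifs <;> norm_num
  have v1 : ∀ i, ⟪v i, fun _ => 1⟫ = 0 := fun i => by simp only [hv, ci_sub_left, k.one, ci_one_one, sub_self]
  have vd : ∀ i, v i 1 = -1 := fun i => by simp [hv, k.od i 1 (by simp)]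
  have n3 : ∀ i, nsq (v i) = 3 := fun i => nsq_eq_of_ci (by simpa using gr i i)
  have Θv : ∀ i, Θ i = (fun _ => 1) + v i := fun i => by simp [hv]
  -- constituents
  have cs : ∀ {χ}, IsSIrr G χ → ⟪χ, fun _ => 1⟫ = 0 → ∀ i, ⟪χ, Θ i⟫ = ⟪v i, χ⟫ := fun hχ o i => by
    rw [Θv, ci_add_right, o, zero_add, hχ.virt.ci_comm (vv i)]
  have p1 : ∀ {χ} i, IsSIrr G χ → ⟪v i, χ⟫ = 1 → ⟪χ, fun _ => 1⟫ = 0 := fun i hχ e => by
    rcases hχ.ci_cases s1 with ⟨rfl, _⟩ | ⟨rfl, _⟩ | ⟨_, _, a⟩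
    · rw [v1] at e; norm_num at e
    · rw [ci_neg_right, v1] at e; norm_num at e
    · exact a
  have od : ∀ {χ}, IsSIrr G χ → ⟪χ, fun _ => 1⟫ = 0 → ∀ m : ℤ, Odd m → ⟪v 0, χ⟫ + ⟪v 1, χ⟫ + ⟪v 2, χ⟫ = m →
      InB χ ∧ ∃ d : ℤ, Odd d ∧ χ 1 = d := fun hχ o m om e => by
    obtain ⟨d, hd⟩ := hχ.virt.exists_int_one
    obtain ⟨ω, e1, e2⟩ := k.omega_eq hN hχ o (m := m) (by simpa only [cs hχ o] using e) hd
    have := Int.odd_mul.1 (e1 ▸ (oN.mul om).neg)
    exact ⟨e2.1 this.1, d, this.2, hd⟩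
  have vt : ∀ {χ}, IsSIrr G χ → ⟪χ, fun _ => 1⟫ = 0 → InB χ →
      χ t = -(⟪v 0, χ⟫ * xs Q 0 + ⟪v 1, χ⟫ * xs Q 1 + ⟪v 2, χ⟫ * xs Q 2) := fun hχ o b => by
    simpa only [cs hχ o] using k.val_t ht b
  have sum := k.xs_sum ht
  -- the first two
  obtain ⟨X, Y, Z, hX, hY, hZ, xy, xz, yz, e0, x1, y1, z1⟩ : ∃ X Y Z, IsSIrr G X ∧ IsSIrr G Y ∧ IsSIrr G Z ∧
      ⟪X, Y⟫ = 0 ∧ ⟪X, Z⟫ = 0 ∧ ⟪Y, Z⟫ = 0 ∧ v 0 = X + Y + Z ∧ ⟪v 1, X⟫ = 1 ∧ ⟪v 1, Y⟫ = 0 ∧ ⟪v 1, Z⟫ = 0 := by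
    obtain ⟨X, Y, Z, hX, hY, hZ, xy, xz, yz, e⟩ := GW.Ch.exists_three (vv 0) (by simpa using gr 0 0)
    rcases one_hot hX hY hZ xy xz yz (vv 1) (by simpa using gr 1 1) (by simpa [← e] using gr 1 0)
      (by rw [vd, ← vd 0, e]; rfl) with a | a | a
    · exact ⟨X, Y, Z, hX, hY, hZ, xy, xz, yz, e, a⟩
    · exact ⟨Y, X, Z, hY, hX, hZ, ci_eq_zero_symm xy, yz, xz, by rw [e]; abel, a.2.1, a.1, a.2.2⟩
    · exact ⟨Z, X, Y, hZ, hX, hY, ci_eq_zero_symm xz, ci_eq_zero_symm yz, xy, by rw [e]; abel, a.2.2, a.1, a.2.1⟩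
  have pz : ∀ {i A B C W}, IsSIrr G B → IsSIrr G C → IsSIrr G W → ⟪B, C⟫ = 0 → v i = A + (B + C) → ⟪A, W⟫ = 0 →
      ⟪v i, W⟫ = 0 → ⟪W, B⟫ = 0 ∧ ⟪W, C⟫ = 0 := fun hB hC hW o e a b =>
    pair_zero hW hB hC o (by
      rw [e, ci_add_left, a, zero_add] at b
      rw [← ci_add_right]; exact ci_eq_zero_symm b)
  obtain ⟨Y', Z', hY', hZ', yz', xy', xz', e1⟩ := three_dec (vv 1) (n3 1) hX x1
  have x0 : ⟪v 0, X⟫ = 1 := by simp [e0, ci_add_left, hX.ci_self, ci_eq_zero_symm xy, ci_eq_zero_symm xz]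
  have oX := p1 0 hX x0
  have main : ∀ {Y Z Y' Z'}, IsSIrr G Y → IsSIrr G Z → IsSIrr G Y' → IsSIrr G Z' → ⟪X, Y⟫ = 0 → ⟪X, Z⟫ = 0 →
      ⟪Y, Z⟫ = 0 → ⟪Y', X⟫ = 0 → ⟪Z', X⟫ = 0 → ⟪Y', Z'⟫ = 0 → v 0 = X + Y + Z → v 1 = X + (Y' + Z') →
      ⟪v 1, Y⟫ = 0 → ⟪v 1, Z⟫ = 0 → ⟪v 2, X⟫ = 0 → ⟪v 2, Y⟫ = 1 → ⟪v 2, Z⟫ = 0 → ⟪v 2, Y'⟫ = 1 → ⟪v 2, Z'⟫ = 0 →
      ∃ a c, SB t Q Θ a c := by
    intro Y Z Y' Z' hY hZ hY' hZ' xy xz yz xy' xz' yz' e0 e1 y1 z1 x2 y2 z2 y2' z2'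
    obtain ⟨a1, a2⟩ := pz hY' hZ' hY yz' e1 xy y1
    obtain ⟨a3, a4⟩ := pz hY' hZ' hZ yz' e1 xz z1
    have s := @ci_eq_zero_symm G _ _
    have hF : IsSIrr G (v 2 - Y - Y') := ((vv 2).sub hY.virt).sub hY'.virt |>.isSIrr_of_ci_self (by
      simp only [ci_sub_left, ci_sub_right, gr, y2, y2', hY.virt.ci_comm (vv 2), hY'.virt.ci_comm (vv 2),
        hY.ci_self, hY'.ci_self, a1, s a1]
      norm_num)
    set F := v 2 - Y - Y' with eF
    have e2 : v 2 = Y' + Y + F := by rw [eF]; abel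
    have f1 : ⟪F, X⟫ = 0 := by simp [eF, ci_sub_left, x2, s xy, xy']
    have f2 : ⟪F, Y⟫ = 0 := by simp [eF, ci_sub_left, y2, hY.ci_self, s a1]
    have f3 : ⟪F, Z⟫ = 0 := by simp [eF, ci_sub_left, z2, yz, s a3]
    have f4 : ⟪F, Y'⟫ = 0 := by simp [eF, ci_sub_left, y2', hY'.ci_self, a1]
    have f5 : ⟪F, Z'⟫ = 0 := by simp [eF, ci_sub_left, z2', yz', a2]
    clear_value F
    have y0 : ⟪v 0, Y⟫ = 1 := by simp [e0, ci_add_left, hY.ci_self, xy, s yz]
    have z0 : ⟪v 0, Z⟫ = 1 := by simp [e0, ci_add_left, hZ.ci_self, xz, yz]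
    have y0' : ⟪v 0, Y'⟫ = 0 := by simp [e0, ci_add_left, s xy', a1, a3]
    have z0' : ⟪v 0, Z'⟫ = 0 := by simp [e0, ci_add_left, s xz', a2, a4]
    have f0 : ⟪v 0, F⟫ = 0 := by simp [e0, ci_add_left, s f1, s f2, s f3]
    have y1' : ⟪v 1, Y'⟫ = 1 := by simp [e1, ci_add_left, s xy', hY'.ci_self, s yz']
    have z1' : ⟪v 1, Z'⟫ = 1 := by simp [e1, ci_add_left, s xz', hZ'.ci_self, yz']
    have g1 : ⟪v 1, F⟫ = 0 := by simp [e1, ci_add_left, s f1, s f4, s f5]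
    have g2 : ⟪v 2, F⟫ = 1 := by simp [e2, ci_add_left, s f2, s f4, hF.ci_self]
    have oY := p1 0 hY y0
    have oZ := p1 0 hZ z0
    have oY' := p1 1 hY' y1'
    have oZ' := p1 1 hZ' z1'
    have oF := p1 2 hF g2
    obtain ⟨bZ, dZ, pZ, eZ⟩ := od hZ oZ 1 odd_one (by simp [z0, z1, z2])
    obtain ⟨bZ', dZ', pZ', eZ'⟩ := od hZ' oZ' 1 odd_one (by simp [z0', z1', z2'])
    obtain ⟨bF, dF, pF, eF⟩ := od hF oF 1 odd_one (by simp [f0, g1, g2])
    have ev : ∀ {χ}, IsSIrr G χ → ⟪χ, fun _ => 1⟫ = 0 → ⟪v 0, χ⟫ + ⟪v 1, χ⟫ + ⟪v 2, χ⟫ = 2 →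
        ∃ d : ℤ, χ 1 = d ∧ (Even d ↔ InB χ) := fun hχ o e => by
      obtain ⟨d, hd⟩ := hχ.virt.exists_int_one
      obtain ⟨ω, e1, e2⟩ := k.omega_eq hN hχ o (m := 2) (by simpa only [cs hχ o, Int.cast_ofNat] using e) hd
      refine ⟨d, hd, Iff.trans ⟨fun a => ?_, fun a => ?_⟩ e2⟩
      · obtain ⟨j, a⟩ := a
        subst a
        exact (Int.odd_mul.1 (show Odd (ω * j) by rw [show ω * j = -N by linarith]; exact oN.neg)).1
      · exact (Int.even_mul.1 (show Even (ω * d) from ⟨-N, by rw [e1]; ring⟩)).resolve_left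
          (Int.not_even_iff_odd.2 a)
    obtain ⟨dX, eX, iX⟩ := ev hX oX (by rw [x0, x1, x2]; norm_num)
    obtain ⟨dY, eY, iY⟩ := ev hY oY (by rw [y0, y1, y2]; norm_num)
    obtain ⟨dY', eY', iY'⟩ := ev hY' oY' (by rw [y0', y1', y2']; norm_num)
    have d0 : dX + dY + dZ = -1 := by
      have := vd 0; rw [e0, Pi.add_apply, Pi.add_apply, eX, eY, eZ] at this; exact_mod_cast this
    have d1 : dX + (dY' + dZ') = -1 := by
      have := vd 1; rw [e1, Pi.add_apply, Pi.add_apply, eX, eY', eZ'] at this; exact_mod_cast this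
    have evX : Even dX := by
      by_contra nX
      have nY : ¬ Even dY := fun a => nX (by obtain ⟨_, rfl⟩ := a; obtain ⟨_, rfl⟩ := pZ; exact Int.even_iff.2 (by omega))
      have pb : ∀ {χ ψ}, InB χ → IsSIrr G ψ → ¬ InB ψ → ⟪oddInd * χ, ψ⟫ = 0 := by
        have : ∀ {χ ψ}, χ ∈ B0 G → IsSIrr G ψ → ¬ InB ψ → ⟪oddInd * χ, ψ⟫ = 0 := fun {χ ψ} a hψ n => by
          have F : ∀ x y : G, IsConj (constt {2} x) (constt {2} y) → oddInd x = oddInd y := fun x y c => by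
            have i : ∀ x : G, Odd (orderOf x) ↔ constt {2} x = 1 := fun x => ⟨fun o => by
              simpa using constt_two_mul' (t := 1) (w := x)
                ((piNat_single_iff Nat.prime_two (orderOf_pos _).ne').2 ⟨0, by simp⟩) (by simp) o, fun e => by
              have := constt_mul_constt_compl {2} x
              rw [e, one_mul] at this
              rw [← this]; exact piNat_two_compl.1 (piNat_constt _ _)⟩
            have : constt {2} x = 1 ↔ constt {2} y = 1 :=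
              ⟨fun e => isConj_one_right.1 (e ▸ c), fun e => isConj_one_left.1 (e ▸ c)⟩
            simp only [oddInd, i, this]
          rcases hψ with b | b
          · exact ci_mul_eq_zero_of_not_mem F a b fun m => n (Or.inl m)
          · rw [← neg_eq_zero, ← ci_neg_right]; exact ci_mul_eq_zero_of_not_mem F a b fun m => n (Or.inr m)
        rintro χ ψ (a | a) hψ n
        · exact this a hψ n
        · rw [← neg_eq_zero, ← ci_neg_left, ← mul_neg]; exact this a hψ n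
      have b1 : InB (fun _ : G => (1 : ℂ)) := Or.inl one_mem_B0
      have z : ⟪oddInd * ((fun _ => 1) + Z), oddInd * ((fun _ => 1) + Z)⟫ = 0 := by
        have : ⟪oddInd * ((fun _ => 1) + Z), oddInd * ((fun _ => 1) + Z)⟫ =
            -⟪oddInd * ((fun _ => 1) + Z), X + Y⟫ := by
          rw [← ci_neg_right, ci_def, ci_def]
          refine congrArg _ (Finset.sum_congr rfl fun y _ => ?_)
          by_cases o : Odd (orderOf y)
          · have := k.od 0 y o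
            rw [Θv, e0] at this
            simp only [Pi.add_apply] at this
            simp only [Pi.mul_apply, Pi.add_apply, Pi.neg_apply, oddInd, if_pos o, one_mul]
            rw [show -(X y + Y y) = 1 + Z y by linear_combination -this]
          · simp [oddInd, o]
        rw [this, mul_add, ci_add_left, ci_add_right, ci_add_right, pb b1 hX (mt iX.2 nX), pb b1 hY (mt iY.2 nY),
          pb bZ hX (mt iX.2 nX), pb bZ hY (mt iY.2 nY)]
        simp
      have := congrFun (ci_self_eq_zero.1 z) 1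
      simp only [Pi.mul_apply, Pi.add_apply, oddInd, orderOf_one, odd_one, if_true, one_mul, eZ, Pi.zero_apply] at this
      exact (GW.Ch.sirr_one nc hZ oZ eZ).2 (by exact_mod_cast (by linear_combination this : (dZ : ℂ) = -1))
    have bX := iX.1 evX
    have bY := iY.1 (by obtain ⟨_, rfl⟩ := evX; obtain ⟨_, rfl⟩ := pZ; exact Int.even_iff.2 (by omega))
    have bY' := iY'.1 (by obtain ⟨_, rfl⟩ := evX; obtain ⟨_, rfl⟩ := pZ'; exact Int.even_iff.2 (by omega))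
    refine ⟨![Y', Y, X], ![Z, Z', F], fun i => ?_, fun i => ?_, fun i => ?_, fun i => ?_, fun i => ?_,
      fun i j n => ?_, fun i j => ?_, fun i j n => ?_, fun i => ?_, fun i => ?_⟩
    · fin_cases i <;> assumption
    · fin_cases i <;> assumption
    · fin_cases i
      · exact (Θv 0).trans (by rw [e0]; simp; abel)
      · exact (Θv 1).trans (by rw [e1]; simp; abel)
      · exact (Θv 2).trans (by rw [e2]; simp; abel)
    · fin_cases i <;> assumption
    · fin_cases i <;> assumption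
    · fin_cases i <;> fin_cases j <;> first | exact (n rfl).elim | assumption | exact s ‹_›
    · fin_cases i <;> fin_cases j <;> first | assumption | exact s ‹_›
    · fin_cases i <;> fin_cases j <;> first | exact (n rfl).elim | assumption | exact s ‹_›
    · fin_cases i
      · exact (vt hY' oY' bY').trans (by rw [y0', y1', y2']; simp; ring)
      · exact (vt hY oY bY).trans (by rw [y0, y1, y2]; simp; ring)
      · exact (vt hX oX bX).trans (by rw [x0, x1, x2]; simp; ring)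
    · fin_cases i
      · exact (vt hZ oZ bZ).trans (by rw [z0, z1, z2]; simp)
      · exact (vt hZ' oZ' bZ').trans (by rw [z0', z1', z2']; simp)
      · exact (vt hF oF bF).trans (by rw [f0, g1, g2]; simp)
  have s := @ci_eq_zero_symm G _ _
  have c0 := one_hot hX hY hZ xy xz yz (vv 2) (by simpa using gr 2 2) (by simpa [← e0] using gr 2 0)
    (by rw [vd, ← vd 0, e0]; rfl)
  have c1 := one_hot hX hY' hZ' (s xy') (s xz') yz' (vv 2) (by simpa using gr 2 2)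
    (by simpa [add_assoc, ← e1] using gr 2 1) (by rw [vd, ← vd 1, e1, add_assoc]; rfl)
  rcases c0 with ⟨x2, y2, z2⟩ | ⟨x2, y2, z2⟩ | ⟨x2, y2, z2⟩ <;>
    rcases c1 with ⟨x2', y2', z2'⟩ | ⟨x2', y2', z2'⟩ | ⟨x2', y2', z2'⟩ <;>
    try (rw [x2] at x2'; norm_num at x2'; done)
  · left
    obtain ⟨Y2, Z2, hY2, hZ2, yz2, xy2, xz2, e2⟩ := three_dec (vv 2) (n3 2) hX x2
    obtain ⟨a1, a2⟩ := pz hY' hZ' hY yz' e1 xy y1
    obtain ⟨a3, a4⟩ := pz hY' hZ' hZ yz' e1 xz z1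
    obtain ⟨b1, b2⟩ := pz hY2 hZ2 hY yz2 e2 xy y2
    obtain ⟨b3, b4⟩ := pz hY2 hZ2 hZ yz2 e2 xz z2
    obtain ⟨b5, b6⟩ := pz hY2 hZ2 hY' yz2 e2 (s xy') y2'
    obtain ⟨b7, b8⟩ := pz hY2 hZ2 hZ' yz2 e2 (s xz') z2'
    let b : Fin 3 → Bool → G → ℂ := fun i e => if e then ![Y, Y', Y2] i else ![Z, Z', Z2] i
    have ib : ∀ i e, IsSIrr G (b i e) := fun i e => by fin_cases i <;> cases e <;> assumption
    have ab : ∀ i e, ⟪X, b i e⟫ = 0 := fun i e => by
      fin_cases i <;> cases e <;> first | assumption | exact s ‹_›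
    have bb : ∀ i e j e', (i, e) ≠ (j, e') → ⟪b i e, b j e'⟫ = 0 := fun i e j e' n => by
      fin_cases i <;> fin_cases j <;> cases e <;> cases e' <;>
        first | exact (n rfl).elim | assumption | exact s ‹_›
    have eb : ∀ i, v i = X + b i true + b i false := fun i => by
      fin_cases i
      exacts [e0, e1.trans (add_assoc _ _ _).symm, e2.trans (add_assoc _ _ _).symm]
    have pt : ∀ i j e, ⟪v i, b j e⟫ = if i = j then 1 else 0 := fun i j e => by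
      rw [eb, ci_add_left, ci_add_left, ab]
      split_ifs with a
      · subst a
        cases e
        · rw [bb _ _ _ _ (by simp), (ib _ _).ci_self]; simp
        · rw [bb i false _ _ (by simp), (ib _ _).ci_self]; simp
      · rw [bb _ _ _ _ (by simp [a]), bb _ _ _ _ (by simp [a])]; simp
    have ob : ∀ i e, ⟪b i e, fun _ => 1⟫ = 0 := fun i e => p1 i (ib i e) (by simp [pt])
    refine ⟨X, b, hX, ib, fun i => by rw [Θv, eb]; abel, oX, ob, ab, bb, ?_, fun i e => ?_⟩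
    · rw [vt hX oX (od hX oX 3 (by decide) (by rw [x0, x1, x2]; norm_num)).1, x0, x1, x2]
      linear_combination -sum
    · rw [vt (ib i e) (ob i e) (od (ib i e) (ob i e) 1 odd_one (by fin_cases i <;> simp [pt])).1]
      fin_cases i <;> simp [pt]
  · exact Or.inr (main hY hZ hY' hZ' xy xz yz xy' xz' yz' e0 e1 y1 z1 x2 y2 z2 y2' z2')
  · exact Or.inr (main hY hZ hZ' hY' xy xz yz xz' xy' (s yz') e0 (by rw [e1, add_comm Y']) y1 z1 x2 y2 z2 z2' y2')
  · exact Or.inr (main hZ hY hY' hZ' xz xy (s yz) xy' xz' yz' (by rw [e0, add_right_comm]) e1 z1 y1 x2 z2 y2 y2' z2')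
  · exact Or.inr (main hZ hY hZ' hY' xz xy (s yz) xz' xy' (s yz') (by rw [e0, add_right_comm])
      (by rw [e1, add_comm Y']) z1 y1 x2 z2 y2 z2' y2')

variable (T : TD t x Q Θ) (X : XD t Q Θ Ξ)
include T X

/-- The principal block part has norm two. -/
theorem gen2' {h : ℤ} (hq : Q + 1 = 2 * h) (h0 : h ≠ 0) (Q0 : Q ≠ 0) (hα : IsSIrr G α) (hβ : IsSIrr G β)
    (o : ⟪α, β⟫ = 0) (la : ∀ k, k ≠ 0 → ⟪α, La Θ Ξ k⟫ = 0) (lb : ∀ k, k ≠ 0 → ⟪β, La Θ Ξ k⟫ = 0)
    (ca : ⟪α, Ξ 1⟫ = 1) (cb : ⟪β, Ξ 1⟫ = 1) :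
    C1[t].index * (α t + β t + 4 * h) = Q ^ 2 * (α 1 + β 1) := by
  have ca' : ∀ k, k ≠ 0 → ⟪α, Ξ k⟫ = 1 := fun k k0 => (xi_eq T X k0 la).trans ca
  have cb' : ∀ k, k ≠ 0 → ⟪β, Ξ k⟫ = 1 := fun k k0 => (xi_eq T X k0 lb).trans cb
  have ca'' : ∀ k, k ≠ 0 → ⟪Ξ k, α⟫ = 1 := fun k k0 => by rw [← ci_conj_symm, ca' k k0, map_one]
  have cb'' : ∀ k, k ≠ 0 → ⟪Ξ k, β⟫ = 1 := fun k k0 => by rw [← ci_conj_symm, cb' k k0, map_one]
  have g : ∀ k j, k ≠ 0 → j ≠ 0 → ⟪Ξ k - α - β, Ξ j - α - β⟫ = if k = j then 1 else 0 := fun k j k0 j0 => by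
    simp only [ci_sub_left, ci_sub_right, X.gram, if_neg k0, if_neg j0, ca' j j0, cb' j j0, ca'' k k0, cb'' k k0,
      hα.ci_self, hβ.ci_self, o, ci_eq_zero_symm o]
    split_ifs <;> norm_num
  have vz : ∀ k, IsGeneralizedCharacter G (Ξ k - α - β) := fun k => ((X.virt k).sub hα.virt).sub hβ.virt
  have s : ∀ k, k ≠ 0 → IsSIrr G (Ξ k - α - β) := fun k k0 => (vz k).isSIrr_of_ci_self (by rw [g k k k0 k0, if_pos rfl])
  have l : ∀ k, k ≠ 0 → ⟪Ξ k - α - β, La Θ Ξ 1⟫ = if k = 1 then 1 else -1 := fun k k0 => by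
    rw [ci_sub_left, ci_sub_left, la 1 (by decide), lb 1 (by decide), La_xi T X (by decide) k0]; simp
  have l' : ∀ k, k ≠ 0 → ⟪La Θ Ξ 1, Ξ k - α - β⟫ = if k = 1 then 1 else -1 := fun k k0 => by
    rw [(La_virt T X 1).ci_comm (vz k), l k k0]
  have s0 : IsSIrr G (La Θ Ξ 1 - (Ξ 1 - α - β) + (Ξ 2 - α - β) + (Ξ 3 - α - β)) :=
    ((((La_virt T X 1).sub (vz 1)).add (vz 2)).add (vz 3)).isSIrr_of_ci_self (by
      generalize hz : (fun k => Ξ k - α - β) = Z at g l l'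
      have e : ∀ k, Ξ k - α - β = Z k := fun k => congrFun hz k
      simp only [e] at g l l' ⊢
      simp only [ci_add_left, ci_add_right, ci_sub_left, ci_sub_right, La_La T X (k := 1) (j := 1) (by decide) (by decide),
        g 1 1 (by decide) (by decide), g 1 2 (by decide) (by decide), g 1 3 (by decide) (by decide),
        g 2 1 (by decide) (by decide), g 2 2 (by decide) (by decide), g 2 3 (by decide) (by decide),
        g 3 1 (by decide) (by decide), g 3 2 (by decide) (by decide), g 3 3 (by decide) (by decide),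
        l 1 (by decide), l 2 (by decide), l 3 (by decide), l' 1 (by decide), l' 2 (by decide), l' 3 (by decide)]
      simp; norm_num)
  have z0 := cZ_sirr (t := t) s0
  have z1 := cZ_sirr (t := t) (s 1 (by decide))
  have z2 := cZ_sirr (t := t) (s 2 (by decide))
  have z3 := cZ_sirr (t := t) (s 3 (by decide))
  rw [cZ_add, cZ_add, cZ_sub (α := La Θ Ξ 1), La_cZ T X hq h0 Q0 (by decide)] at z0
  simp only [Pi.add_apply, Pi.sub_apply, X.v1, X.vt, La_t T X hq, La_od T X (k := 1) (by decide) (y := 1) (by simp)]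
    at z0 z1 z2 z3
  refine mul_left_cancel₀ (mul_ne_zero (mul_ne_zero (show (16 : ℂ) ≠ 0 by norm_num) (idx0 (t := t)))
    (show (h : ℂ) ≠ 0 by exact_mod_cast h0)) ?_
  linear_combination -z0 - z1 + z2 + z3

/-- The principal block part does not have norm one. -/
theorem gen1' (J : JG t u g w x K K0 Q) {h : ℤ} (hq : Q + 1 = 2 * h) (h0 : h ≠ 0) (t1 : ¬ Odd (orderOf t))
    (hα : IsSIrr G α)
    (la : ∀ k, k ≠ 0 → ⟪α, La Θ Ξ k⟫ = 0) (ca : ⟪α, Ξ 1⟫ = 1) (v : α t = -2 * h)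
    (pe : ∀ φ, IsSIrr G φ → ⟪Ξ 1, φ⟫ ≠ 0 → ⟪φ, α⟫ = 0 → ⟪φ, fun _ => 1⟫ = 0 ∧ ∀ i, ⟪φ, Θ i⟫ = 0) : False := by
  obtain ⟨k, ok, hk⟩ := J.c8
  have hk' : (Nat.card G : ℂ) = 8 * k := by exact_mod_cast hk
  have ca' : ⟪Ξ 1, α⟫ = 1 := by rw [← ci_conj_symm, ca, map_one]
  obtain ⟨φ, ψ, hφ, hψ, o1, o2, o3, e⟩ := three_dec (X.virt 1) (nsq_eq_of_ci (by rw [X.gram]; simp)) hα ca'
  -- the section norm
  have key : ∀ f, IsSIrr G f → ⟪f, fun _ => 1⟫ = 0 → (∀ i, ⟪f, Θ i⟫ = 0) → ∀ p q r : ℤ, ⟪f, La Θ Ξ 1⟫ = p →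
      ⟪f, La Θ Ξ 2⟫ = q → ⟪f, La Θ Ξ 3⟫ = r → p ^ 2 + q ^ 2 + r ^ 2 ≤ 3 ∧
        (p ^ 2 + q ^ 2 + r ^ 2 = 3 → (∀ d : ℤ, f 1 = d → 2 ∣ d) → f t = -2 * h * (p + q + r)) := by
    intro f hf f1 fθ p q r hp hq' hr
    obtain ⟨d, hd⟩ := hf.virt.exists_int_one
    have d0 : d ≠ 0 := by have := hf.apply_one_ne_zero; rw [hd] at this; exact_mod_cast this
    obtain ⟨r2, i2, e2⟩ : ∃ r, IsIntegral ℤ r ∧ ∑ g, oddInd g * (f * conjFun f) g = (f * conjFun f) 1 + 2 * r := by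
      obtain ⟨U, -, e⟩ := sum_invol Finset.univ (fun a : G => a⁻¹) (by simp) (by simp)
        (fun g => oddInd g * (f * conjFun f) g) fun a _ => by
          simp [oddInd, conjFun_apply, hf.virt.apply_inv, mul_comm]
      refine ⟨_, IsIntegral.sum (s := U) _ fun a _ => (oddInd_int a).mul ((hf.virt.mul hf.virt.conjFun).isIntegral a),
        e.trans ?_⟩
      rw [nsmul_eq_mul, Nat.cast_ofNat, Finset.sum_eq_single 1 (fun a ha a1 => ?_) (by simp)]
      · simp [oddInd]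
      rw [oddInd, if_neg fun o => a1 (JH.sq_one o (mul_eq_one_iff_eq_inv.2 (Finset.mem_filter.1 ha).2.symm)), zero_mul]
    obtain ⟨m, hm⟩ : ∃ m : ℤ, 8 * ∑ g, oddInd g * (f * conjFun f) g = Nat.card G * m := by
      have vf := hf.virt.mul hf.virt.conjFun
      obtain ⟨a, ha⟩ := vf.ci_int virt_one
      obtain ⟨b, hb⟩ := vf.ci_int (T.virt 0)
      obtain ⟨c, hc⟩ := vf.ci_int (T.virt 1)
      obtain ⟨e, he⟩ := vf.ci_int (T.virt 2)
      exact ⟨8 * a - (b + c + e), by rw [sum_odd T, ha, hb, hc, he]; push_cast; ring⟩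
    have m2 : 2 ∣ d → m % 2 = 0 := fun d2 => by
      rw [e2, hk', Pi.mul_apply, conjFun_apply, hd, map_intCast] at hm
      obtain ⟨j, hj⟩ := int_dvd_of_isIntegral (a := k * m - d * d) (b := 2) i2 (by decide)
        (by push_cast; linear_combination -hm / 8)
      obtain ⟨i, rfl⟩ := ok
      obtain ⟨c, hc⟩ := d2
      have : m = 2 * (j - i * m + 2 * c * c) := by rw [hc] at hj; linear_combination hj
      omega
    let od : G → ℂ := fun g => oddInd g * f g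
    have n1 : ⟪od, od⟫ = m / 8 := by
      refine mul_left_cancel₀ (card_ne_zero_complex G) ?_
      rw [card_mul_ci, Finset.sum_congr rfl fun g _ => show _ = oddInd g * (f * conjFun f) g from ?_]
      · linear_combination hm / 8
      · simp only [od, oddInd]; split_ifs <;> simp
    have n2 : ⟪od, f⟫ = m / 8 := n1 ▸ congrArg (_ * ·) (Finset.sum_congr rfl fun g _ => by
      simp only [od, oddInd]; split_ifs <;> simp)
    have n3 : ⟪f, od⟫ = m / 8 := by rw [← ci_conj_symm, n2]; simp [map_ofNat]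
    have n4 : ∀ k, k ≠ 0 → ⟪od, La Θ Ξ k⟫ = 0 := fun k k0 => by
      rw [ci_def, Finset.sum_eq_zero fun g _ => ?_, mul_zero]
      simp only [od, oddInd]
      split_ifs with o
      · simp [La_od T X k0 o]
      · simp
    have m0 : 0 < m := by
      have a := nsq_pos (φ := od) fun z => d0 (by
        have := congrFun z 1
        simp only [od, oddInd, orderOf_one, odd_one, if_true, one_mul, hd, Pi.zero_apply] at this
        exact_mod_cast this)
      rw [nsq_eq_of_ci (r := m / 8) (by rw [n1]; push_cast; rfl)] at a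
      exact_mod_cast (by linarith : (0 : ℝ) < m)
    let E : G → ℂ := f - od - ((p / 4 : ℂ) • La Θ Ξ 1 + (q / 4 : ℂ) • La Θ Ξ 2 + (r / 4 : ℂ) • La Θ Ξ 3)
    have nE : ⟪E, E⟫ = ((1 - m / 8 - (p ^ 2 + q ^ 2 + r ^ 2) / 4 : ℝ) : ℂ) := by
      simp only [E, ci_sub_left, ci_sub_right, ci_add_left, ci_add_right, ci_smul_left, ci_smul_right, hf.ci_self,
        n1, n2, n3, hp, hq', hr, ci_symm_of_int hp, ci_symm_of_int hq', ci_symm_of_int hr,
        n4 1 (by decide), n4 2 (by decide), n4 3 (by decide), ci_eq_zero_symm (n4 1 (by decide)),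
        ci_eq_zero_symm (n4 2 (by decide)), ci_eq_zero_symm (n4 3 (by decide)),
        La_La T X (k := 1) (j := 1) (by decide) (by decide), La_La T X (k := 1) (j := 2) (by decide) (by decide),
        La_La T X (k := 1) (j := 3) (by decide) (by decide), La_La T X (k := 2) (j := 1) (by decide) (by decide),
        La_La T X (k := 2) (j := 2) (by decide) (by decide), La_La T X (k := 2) (j := 3) (by decide) (by decide),
        La_La T X (k := 3) (j := 1) (by decide) (by decide), La_La T X (k := 3) (j := 2) (by decide) (by decide),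
        La_La T X (k := 3) (j := 3) (by decide) (by decide)]
      simp [map_ofNat]; ring
    have nE' := nsq_eq_of_ci nE
    have nn := nsq_nonneg E
    rw [nE'] at nn
    have nn' : m + 2 * (p ^ 2 + q ^ 2 + r ^ 2) ≤ 8 := by exact_mod_cast (by linarith : (m + 2 * (p ^ 2 + q ^ 2 + r ^ 2) : ℝ) ≤ 8)
    refine ⟨by omega, fun s3 d2 => ?_⟩
    obtain rfl : m = 2 := by have := m2 (d2 d hd); omega
    have s3' : (p ^ 2 + q ^ 2 + r ^ 2 : ℝ) = 3 := by exact_mod_cast s3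
    have := congrFun (nsq_eq_zero.1 (nE'.trans (by rw [s3']; norm_num))) t
    simp only [E, od, oddInd, if_neg t1, Pi.sub_apply, Pi.add_apply, Pi.smul_apply, La_t T X hq, smul_eq_mul,
      Pi.zero_apply] at this
    linear_combination this
  have cφ : ⟪Ξ 1, φ⟫ = 1 := by
    rw [e, ci_add_left, ci_add_left, ci_eq_zero_symm o2, hφ.ci_self, ci_eq_zero_symm o1]; simp
  have cψ : ⟪Ξ 1, ψ⟫ = 1 := by rw [e, ci_add_left, ci_add_left, ci_eq_zero_symm o3, hψ.ci_self, o1]; simp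
  have main : ∀ {φ ψ : G → ℂ}, IsSIrr G φ → IsSIrr G ψ → Ξ 1 = α + (φ + ψ) → φ t = 2 * h → False := by
    intro φ ψ hφ hψ e vφ
    have a := congrFun e t
    rw [X.vt, Pi.add_apply, Pi.add_apply, v, vφ] at a
    have := three0 hα hψ hφ (Φ := Ξ 1) (by rw [e]; abel) (X.v1 1) (X.vt 1) (by rw [X.cz]; rfl)
    rw [v, show ψ t = 0 by linear_combination -a, zero_mul, mul_eq_zero, mul_eq_zero] at this
    exact this.elim (fun e => e.elim (by norm_num) (by exact_mod_cast h0)) hψ.apply_one_ne_zero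
  obtain ⟨a1, a2⟩ := pe φ hφ (by rw [cφ]; exact one_ne_zero) o2
  obtain ⟨b1, b2⟩ := pe ψ hψ (by rw [cψ]; exact one_ne_zero) o3
  choose p hp using fun k => hφ.virt.ci_int (La_virt T X k)
  choose q hq' using fun k => hψ.virt.ci_int (La_virt T X k)
  obtain ⟨k1, k2⟩ := key φ hφ a1 a2 _ _ _ (hp 1) (hp 2) (hp 3)
  obtain ⟨k3, k4⟩ := key ψ hψ b1 b2 _ _ _ (hq' 1) (hq' 2) (hq' 3)
  have s : ∀ k, k ≠ 0 → p k + q k = if 1 = k then 1 else -1 := fun k k0 => by
    have := La_xi T X k0 (j := 1) (by decide)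
    rw [e, ci_add_left, ci_add_left, la k k0, hp, hq', zero_add] at this
    split_ifs at this ⊢ <;> exact_mod_cast this
  have d : ∀ k, 2 ∣ p k - p 1 := fun k => by
    obtain ⟨c, hc⟩ := hφ.virt.ci_int ((X.virt k).sub (X.virt 1))
    have a := hp k
    have b := hp 1
    simp only [La, ci_sub_right, ci_add_right] at a b hc
    exact ⟨c, by exact_mod_cast (by linear_combination b - a + 2 * hc : (p k - p 1 : ℂ) = 2 * c)⟩
  have s1 := s 1 (by decide)
  have s2 := s 2 (by decide)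
  have s3 := s 3 (by decide)
  have d2 := d 2
  have d3 := d 3
  simp only [if_true, show ¬ (1 : Fin 4) = 2 by decide, show ¬ (1 : Fin 4) = 3 by decide, if_false] at s1 s2 s3
  have b : ∀ {a b c : ℤ}, a ^ 2 + b ^ 2 + c ^ 2 ≤ 3 → (-2 < a ∧ a < 2) ∧ (-2 < b ∧ b < 2) ∧ (-2 < c ∧ c < 2) :=
    fun e => ⟨⟨by nlinarith, by nlinarith⟩, ⟨by nlinarith, by nlinarith⟩, by nlinarith, by nlinarith⟩
  have := b k1
  have := b k3
  have ev : ∀ {φ ψ : G → ℂ}, IsSIrr G φ → IsSIrr G ψ → Ξ 1 = α + (φ + ψ) → ⟪ψ, α⟫ = 0 → ⟪Ξ 1, ψ⟫ = 1 →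
      (∀ k, k ≠ 0 → ⟪ψ, La Θ Ξ k⟫ = 0) → ∀ d : ℤ, φ 1 = d → 2 ∣ d := by
    intro φ ψ hφ hψ e o c l d hd
    have q8 := J.q8
    have E := gen2' T X hq h0 (by omega) hα hψ (ci_eq_zero_symm o) la l ca (by rw [← ci_conj_symm, c, map_one])
    have a := congrFun e t
    have b := congrFun e 1
    rw [X.vt, Pi.add_apply, Pi.add_apply] at a
    rw [X.v1, Pi.add_apply, Pi.add_apply, hd] at b
    replace E : C1[t].index * (φ t - 4 * h) = Q ^ 2 * d := by
      linear_combination -E - C1[t].index * a + Q ^ 2 * b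
    obtain ⟨v, hv⟩ := exists_int_of_isIntegral_of_rat (hφ.virt.isIntegral t)
      ⟨Q ^ 2 * d / C1[t].index + 4 * h, by push_cast; rw [← E, mul_div_cancel_left₀ _ idx0]; ring⟩
    have d8 := deg8' J hφ.virt hd hv
    have n3 := n4 J
    rw [hv] at E
    replace E : C1[t].index * (v - 4 * h) = Q ^ 2 * d := by exact_mod_cast E
    obtain ⟨j, hj⟩ : ∃ j : ℤ, C1[t].index = 4 * j + 3 := ⟨C1[t].index / 4, by omega⟩
    obtain ⟨i, rfl⟩ : ∃ i, Q = 4 * i + 1 := ⟨Q / 4, by omega⟩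
    have : 3 * v - d = 4 * (4 * i ^ 2 * d + 2 * i * d - j * v + 4 * j * h + 3 * h) := by
      rw [hj] at E; linear_combination E
    omega
  rcases show (p 1 = 1 ∧ p 2 = -1 ∧ p 3 = -1) ∨ (q 1 = 1 ∧ q 2 = -1 ∧ q 3 = -1) by omega with ⟨u1, u2, u3⟩ | ⟨u1, u2, u3⟩
  · rw [u1, u2, u3] at k2
    refine main hφ hψ e ((k2 rfl (ev hφ hψ e o3 cψ fun k k0 => (hq' k).trans ?_)).trans (by push_cast; ring))
    fin_cases k <;> simp at k0 ⊢ <;> omega
  · rw [u1, u2, u3] at k4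
    have e' : Ξ 1 = α + (ψ + φ) := by rw [e, add_comm φ]
    refine main hψ hφ e' ((k4 rfl (ev hψ hφ e' o2 cφ fun k k0 => (hp k).trans ?_)).trans (by push_cast; ring))
    fin_cases k <;> simp at k0 ⊢ <;> omega

end Cfsg.Agent.WA.JE
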