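import Cfsg.Agent.WA.JH1
import Cfsg.Agent.B84.LocC
import Cfsg.Agent.GT.Transfer

/-! Two local lemmas: a dihedral group acting on a group of odd order, and a group of order nine. -/

set_option autoImplicit false
set_option linter.unusedSectionVars false

namespace Cfsg.Agent.WA.JH

open Cfsg Subgroup Cfsg.Agent.GT Cfsg.Agent.BS Cfsg.Agent.B84H

variable {G : Type*} [Group G] {g w x z a b c m : G} {A B K N : Subgroup G}

theorem relIndex_orbit (B H : Subgroup G) : B.relIndex H = (MulAction.orbit H ((1 : G) : G ⧸ B)).ncard := by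
  rw [← MulAction.index_stabilizer, relIndex]
  congr 1
  ext x
  rw [mem_subgroupOf, MulAction.mem_stabilizer_iff, eq_comm]
  exact (QuotientGroup.eq.trans (by simp)).symm

theorem relIndex_prod (le : A ≤ N) (h : ∀ n ∈ N, ∃ a ∈ A, a⁻¹ * n ∈ B) : B.relIndex N = B.relIndex A := by
  rw [relIndex_orbit, relIndex_orbit]
  congr 1
  refine Set.Subset.antisymm ?_ ?_
  · rintro _ ⟨n, rfl⟩
    obtain ⟨a, ha, e⟩ := h n n.2
    exact ⟨⟨a, ha⟩, QuotientGroup.eq.2 (by simpa using e)⟩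
  · rintro _ ⟨a, rfl⟩
    exact ⟨⟨a, le a.2⟩, rfl⟩

variable [Finite G]

theorem odd_inv (o : Odd (orderOf c)) (oz : Odd (orderOf z)) (e : c * z * c⁻¹ = z⁻¹) : z = 1 := by
  have : c ∈ C1[z] := PG.mem_of_sq_mem_of_odd o (mem_cent1.2 (TT.commute_iff_conj.2 (by
    rw [show c * c * z * (c * c)⁻¹ = c * (c * z * c⁻¹) * c⁻¹ by group, e, ← conj_inv, e, inv_inv])))
  rw [TT.commute_iff_conj.1 (mem_cent1.1 this)] at e
  exact sq_one oz (mul_eq_one_iff_eq_inv.2 e)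

theorem odd_sq (two : ∀ (s : G) (k : ℕ), s ^ 2 ^ k = 1 → s * s = 1) (b : G) : Odd (orderOf (b ^ 2)) := by
  obtain ⟨k, n, o, e⟩ := Nat.exists_eq_two_pow_mul_odd (orderOf_pos b).ne'
  have := two (b ^ n) k (by rw [← pow_mul, mul_comm, ← e, pow_orderOf_eq_one])
  exact o.of_dvd_nat (orderOf_dvd_of_pow_eq_one (by rw [← pow_mul, mul_comm, pow_mul, sq, this]))

/-- the action on exponents -/
def st (p q r s : ℕ) (v : ℕ × ℕ) : ℕ × ℕ := ((p * v.1 + r * v.2) % 3, (q * v.1 + s * v.2) % 3)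

theorem nine_act (z3 : z ^ 3 = 1) (g3 : g ^ 3 = 1) (c : Commute z g) {p q r s : ℕ}
    (e1 : b * z * b⁻¹ = z ^ p * g ^ q) (e2 : b * g * b⁻¹ = z ^ r * g ^ s) (n : ℕ) :
    b ^ n * z * (b ^ n)⁻¹ = z ^ ((st p q r s)^[n] (1, 0)).1 * g ^ ((st p q r s)^[n] (1, 0)).2 := by
  induction n with
  | zero => simp
  | succ n ih =>
    rw [Function.iterate_succ_apply', pow_succ',
      show ∀ d : G, b * d * z * (b * d)⁻¹ = b * (d * z * d⁻¹) * b⁻¹ from fun d => by group, ih]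
    generalize (st p q r s)^[n] (1, 0) = v
    rw [← conj_mul, ← conj_pow, ← conj_pow, e1, e2, (c.pow_pow _ _).mul_pow, (c.pow_pow _ _).mul_pow, st,
      ← pow_eq_pow_mod _ z3, ← pow_eq_pow_mod _ g3, pow_add, pow_add, ← pow_mul, ← pow_mul, ← pow_mul, ← pow_mul,
      (c.pow_pow _ _).symm.mul_mul_mul_comm]

theorem nine (two : ∀ (s : G) (k : ℕ), s ^ 2 ^ k = 1 → s * s = 1) (oz : orderOf z = 3) (g3 : g ^ 3 = 1)
    (c : Commute z g) (wz : w * z * w⁻¹ = z⁻¹) (wg : Commute w g) (gz : g ∉ zpowers z) (az : a * z * a⁻¹ = g)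
    (ag : a * g * a⁻¹ ∈ zpowers z ⊔ zpowers g) : False := by
  have z3 : z ^ 3 = 1 := oz ▸ pow_orderOf_eq_one z
  have pw : ∀ {y s : G}, y ^ 3 = 1 → s ∈ zpowers y → ∃ i < 3, s = y ^ i := fun {y s} e hs => by
    obtain ⟨i, rfl⟩ : ∃ i : ℕ, y ^ i = s := mem_powers_iff_mem_zpowers.2 hs
    exact ⟨i % 3, Nat.mod_lt _ (by norm_num), pow_eq_pow_mod _ e⟩
  obtain ⟨_, h1, _, h2, e⟩ := (mem_sup_of_le_norm (le_norm_of_cent (by
    rw [cent_zpowers, zpowers_le]; exact mem_cent1.2 c))).1 ag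
  obtain ⟨i, hi, rfl⟩ := pw z3 h1
  obtain ⟨j, hj, rfl⟩ := pw g3 h2
  have i0 : i ≠ 0 := by
    rintro rfl
    rw [pow_zero, one_mul, ← az, conj_pow, mul_left_inj, mul_right_inj, az] at e
    exact gz (e ▸ npow_mem_zpowers z j)
  have A := nine_act z3 g3 c (b := a) (p := 0) (q := 1) (by simpa using az) e
  have B := nine_act z3 g3 c (b := a * w) (p := 0) (q := 2) (r := i) (s := j)
    (by rw [show a * w * z * (a * w)⁻¹ = a * (w * z * w⁻¹) * a⁻¹ by group, wz, ← conj_inv, az, pow_zero, one_mul]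
        exact inv_eq_of_mul_eq_one_right (by rw [← pow_succ', g3]))
    (by rw [show a * w * g * (a * w)⁻¹ = a * (w * g * w⁻¹) * a⁻¹ by group, TT.commute_iff_conj.1 wg, e])
  have k : ∀ (b : G) (n : ℕ), b ^ (n * 2) * z * (b ^ (n * 2))⁻¹ ≠ z ^ 2 * g ^ 0 := fun b n e => by
    have := odd_inv (c := b ^ (n * 2)) (by rw [pow_mul]; exact odd_sq two _) (oz ▸ by decide) (e.trans (by
      rw [pow_zero, mul_one]; exact (inv_eq_of_mul_eq_one_right (by rw [← pow_succ', z3])).symm))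
    rw [this, orderOf_one] at oz
    omega
  have : (st 0 1 i j)^[1 * 2] (1, 0) = (2, 0) ∨ (st 0 1 i j)^[2 * 2] (1, 0) = (2, 0) ∨
      (st 0 2 i j)^[1 * 2] (1, 0) = (2, 0) ∨ (st 0 2 i j)^[2 * 2] (1, 0) = (2, 0) := by
    clear A B e
    interval_cases i <;> interval_cases j <;> first | decide | exact absurd rfl i0
  rcases this with n | n | n | n
  · exact k _ _ (by rw [A, n])
  · exact k _ _ (by rw [A, n])
  · exact k _ _ (by rw [B, n])
  · exact k _ _ (by rw [B, n])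

theorem frob (o : Odd (Nat.card K)) (ww : w * w = 1) (wK : w ∈ N[K]) (xK : x ∈ K) (gK : g ∈ K)
    (wx : w * x * w⁻¹ = x⁻¹) (wg : Commute w g) (xg : Commute x g) (og : orderOf g = 3) (r3 : ¬ 3 ∣ orderOf x)
    (H : ∀ a ∈ zpowers x, a ≠ 1 → ∀ k ∈ K, k * a * k⁻¹ ∈ zpowers x → k ∈ zpowers x ⊔ zpowers g)
    (cop : (Nat.card ↥(K ⊓ C1[w])).Coprime (orderOf x)) {l : ℕ} (hl : l.Prime) (lr : l ∣ orderOf x) :
    Nat.card ↥(K ⊓ C1[w]) ^ 2 ≡ 9 [MOD l] := by
  have RK := zpowers_le.2 xK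
  have c3 : (orderOf x).Coprime 3 := ((Nat.Prime.coprime_iff_not_dvd Nat.prime_three).2 r3).symm
  have cg : zpowers x ≤ C[zpowers g] := by rw [cent_zpowers, zpowers_le]; exact mem_cent1.2 xg
  set C := zpowers x ⊔ zpowers g
  have CK : C ≤ K := sup_le RK (zpowers_le.2 gK)
  have Cx : C ≤ C[zpowers x] := by
    rw [cent_zpowers]; exact sup_le (zpowers_le.2 (self_mem_cent1 x)) (zpowers_le.2 (mem_cent1.2 xg.symm))
  have cC : Nat.card C = orderOf x * 3 := by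
    rw [card_sup_of_inf_eq_bot (.inl (le_norm_of_cent cg)) (GT.inf_eq_bot_of_coprime (by
      rwa [Nat.card_zpowers, Nat.card_zpowers, og])), Nat.card_zpowers, Nat.card_zpowers, og]
  have iC : (zpowers x).relIndex C = 3 := Nat.eq_of_mul_eq_mul_left (orderOf_pos x) (by
    rw [← cC, ← card_mul_relIndex (le_sup_left : zpowers x ≤ C), Nat.card_zpowers])
  -- Sylow subgroups of `R`
  have S : ∀ p, p.Prime → p ∣ orderOf x → ∃ S ≤ zpowers x, IsPiHallOf {p} S K ∧ K ⊓ N[S] = C := fun p hp d => by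
    obtain ⟨S, hS⟩ := exists_syl hp (zpowers x)
    obtain ⟨a, ha, a1⟩ := exists_ne_one_of_ne_bot ((syl_ne_bot_iff hp hS).2 (by rwa [Nat.card_zpowers]))
    have n : K ⊓ N[S] ≤ C := fun k hk => H a (syl_le hS ha) a1 k hk.1 (syl_le hS (conj_mem_of_mem_norm hk.2 ha))
    refine ⟨S, syl_le hS, syl_of_norm_le hp (syl_trans hp hS le_sup_left ?_) ((syl_le hS).trans RK) n,
      le_antisymm n (le_inf CK (le_norm_of_cent (Cx.trans (cent_anti (syl_le hS)))))⟩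
    rw [iC]
    exact fun e => r3 (((Nat.prime_dvd_prime_iff_eq hp Nat.prime_three).1 e) ▸ d)
  have md : ∀ p, p.Prime → p ∣ orderOf x → C.relIndex K ≡ 1 [MOD p] := fun p hp d => by
    obtain ⟨S, -, hS, e⟩ := S p hp d
    rw [← e, inf_comm, inf_relIndex_right]
    exact B84.syl_idx_mod hp hS
  have hN : IsPiHallOf (piOf (orderOf x))ᶜ (piCoreOf (piOf (orderOf x))ᶜ K) K :=
    hall_piCoreOf_of_der1 (isPiSubgroup_piOf_compl_iff.2 (coprime_of_forall_prime fun p hp d d' => by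
      obtain ⟨S, le, hS, e⟩ := S p hp d'
      refine (syl_inf_der1_eq_bot_iff hp hS).1 ?_ d
      rw [comm_syl_inf_der1 hp hS (isMulCommutative_of_le inferInstance le), e, ← le_cent_iff_commutator_eq_bot']
      exact Cx.trans (cent_anti le)))
  have nN : N[K] ≤ N[piCoreOf (piOf (orderOf x))ᶜ K] := le_norm_piCoreOf le_rfl
  generalize piCoreOf (piOf (orderOf x))ᶜ K = N at hN nN
  have iK := relIndex_mul_relIndex _ _ _ (le_sup_left : zpowers x ≤ C) CK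
  rw [iC] at iK
  have hR : IsPiHallOf (piOf (orderOf x)) (zpowers x) K := by
    rw [← Nat.card_zpowers]
    refine isPiHallOf_piOf RK ?_
    rw [Nat.card_zpowers, ← iK]
    refine c3.mul_right (coprime_of_forall_prime fun p hp d d' => hp.ne_one ?_)
    exact Nat.dvd_one.1 ((Nat.ModEq.dvd_iff (md p hp d) dvd_rfl).1 d')
  have cp := IsPiHallOf.isComplIn' hN hR
  have NK := IsPiHallOf.le hN
  have mN : ∀ y ∈ K, (orderOf y).Coprime (orderOf x) → y ∈ N := fun y hy e =>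
    IsPiHallOf.mem_of_normal hN (le_normalizer.trans nN) hy (piNat_piOf_compl_iff.2 e)
  have gN : zpowers g ≤ N := zpowers_le.2 (mN g gK (og ▸ c3.symm))
  have NC : ∀ y ∈ N, y ∈ C → y ∈ zpowers g := fun y hy e => by
    obtain ⟨a, ha, b, hb, rfl⟩ := (mem_sup_of_le_norm (le_norm_of_cent cg)).1 e
    have : a ∈ N ⊓ zpowers x := ⟨(mul_mem_cancel_right (gN hb)).1 hy, ha⟩
    rw [cp.inf_eq, mem_bot] at this
    rwa [this, one_mul]
  -- involutions inverting an element of `R`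
  have I : ∀ v : G, v * v = 1 → v ∈ N[K] → v * x * v⁻¹ = x⁻¹ → Commute v g → ∀ a ∈ zpowers x, a ≠ 1 → ∀ m ∈ N,
      m * v * m⁻¹ * a * (m * v * m⁻¹)⁻¹ = a⁻¹ → Commute m v := fun v vv vK vx vg a ha a1 m hm e => by
    have vi : v⁻¹ = v := inv_eq_of_mul_eq_one_right vv
    have n : m * (v * m⁻¹ * v⁻¹) ∈ N := mul_mem hm (conj_mem_of_mem_norm (nN vK) (inv_mem hm))
    have j := NC _ n (H a ha a1 _ (NK n) (by
      rw [show m * (v * m⁻¹ * v⁻¹) * a * (m * (v * m⁻¹ * v⁻¹))⁻¹ =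
        m * v * m⁻¹ * (v⁻¹ * a⁻¹ * v⁻¹⁻¹)⁻¹ * (m * v * m⁻¹)⁻¹ by group, vi, zi vx (inv_mem ha), inv_inv, ← conj_inv, e]
      simpa using ha))
    have c : Commute (m * (v * m⁻¹ * v⁻¹)) v := zc vg.symm j
    have := sq_one (B84.odd_of_mem o (NK n)) (by
      calc _ = m * (v * m⁻¹ * v⁻¹) * v * (m * (v * m⁻¹ * v⁻¹) * v) * (v * v)⁻¹ := by
            rw [c.symm.mul_mul_mul_comm, mul_inv_cancel_right]
        _ = 1 := by
            rw [show m * (v * m⁻¹ * v⁻¹) * v * (m * (v * m⁻¹ * v⁻¹) * v) = m * (v * v) * m⁻¹ by group, vv]; simp)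
    refine TT.commute_iff_conj.2 ?_
    rw [← mul_inv_eq_one, ← this]; group
  have vv : w * x * (w * x) = 1 := by
    rw [show w * x * (w * x) = w * x * w⁻¹ * (w * w) * x by group, wx, ww]; simp
  have vK : w * x ∈ N[K] := mul_mem wK (le_normalizer xK)
  have vx : w * x * x * (w * x)⁻¹ = x⁻¹ := by rw [← wx]; group
  have P : ∀ n ∈ N, ∃ k ∈ N ⊓ C1[w * x], k⁻¹ * n ∈ N ⊓ C1[w] := fun n hn => by
    have wi : w⁻¹ = w := inv_eq_of_mul_eq_one_right ww
    have ss : n * w * n⁻¹ * (n * w * n⁻¹) = 1 := by rw [conj_mul, ww]; simp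
    set y := n * w * n⁻¹ * (w * x) with hy
    have n' : n * (w * n⁻¹ * w⁻¹) ∈ N := mul_mem hn (conj_mem_of_mem_norm (nN wK) (inv_mem hn))
    have y' : y = n * (w * n⁻¹ * w⁻¹) * x := by rw [hy, wi]; group
    have yK : y ∈ K := y' ▸ mul_mem (NK n') xK
    obtain ⟨p, hp, d, d'⟩ : ∃ p, p.Prime ∧ p ∣ orderOf y ∧ p ∣ orderOf x := by
      by_contra e
      have : x ∈ N ⊓ zpowers x := ⟨(mul_mem_cancel_left n').1 (y' ▸ mN y yK (coprime_of_forall_prime
        fun p hp d d' => e ⟨p, hp, d, d'⟩)), mem_zpowers x⟩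
      rw [cp.inf_eq, mem_bot] at this
      rw [this, orderOf_one] at lr
      exact hl.ne_one (Nat.dvd_one.1 lr)
    obtain ⟨b, hb, ob⟩ := exists_mem_orderOf_eq (H := zpowers y) hp (by rwa [Nat.card_zpowers])
    obtain ⟨S, le, hS, -⟩ := S p hp d'
    obtain ⟨c, hc, e⟩ := syl_exists_conj_le hp hS (Q := zpowers b) (isPGroup_of_card_eq_prime (by
      rwa [Nat.card_zpowers])) (zpowers_le.2 (zpowers_le.2 yK hb))
    obtain ⟨ρ, hρ, k, hk, rfl⟩ := cp.symm.exists_mul hc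
    have ha : k * b * k⁻¹ ∈ zpowers x := by
      have := mul_mem (mul_mem (inv_mem hρ) (le (e (conj_mem_conj.2 (mem_zpowers b))))) hρ
      rwa [show ρ⁻¹ * (ρ * k * b * (ρ * k)⁻¹) * ρ = k * b * k⁻¹ by group] at this
    have a1 : k * b * k⁻¹ ≠ 1 := fun e => hp.ne_one (by rw [← ob, conj_eq_one_iff.1 e, orderOf_one])
    have i : ∀ s : G, s * y * s⁻¹ = y⁻¹ →
        k * s * k⁻¹ * (k * b * k⁻¹) * (k * s * k⁻¹)⁻¹ = (k * b * k⁻¹)⁻¹ := fun s e => by
      rw [conj_inv, conj_inv, conj_mul, conj_mul, zi e hb]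
    have e1 := I _ vv vK vx (wg.mul_left xg) _ ha a1 k hk (i _ (by
      rw [hy, mul_inv_rev (n * w * n⁻¹), inv_eq_of_mul_eq_one_right vv, inv_eq_of_mul_eq_one_right ss,
        mul_assoc (w * x), mul_assoc (n * w * n⁻¹), vv, mul_one]))
    have e2 := I _ ww wK wx wg _ ha a1 (k * n) (mul_mem hk hn) (by
      rw [show k * n * w * (k * n)⁻¹ = k * (n * w * n⁻¹) * k⁻¹ by group]
      refine i _ ?_
      rw [hy, mul_inv_rev (n * w * n⁻¹), inv_eq_of_mul_eq_one_right vv, inv_eq_of_mul_eq_one_right ss,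
        ← mul_assoc (n * w * n⁻¹) (n * w * n⁻¹), ss, one_mul])
    exact ⟨k⁻¹, ⟨N.inv_mem hk, mem_cent1.2 e1.inv_left⟩, by rw [inv_inv]; exact ⟨mul_mem hk hn, mem_cent1.2 e2⟩⟩
  have T : ∀ v : G, Nat.card ↥(K ⊓ C1[v]) = Nat.card ↥(K ⊓ C1[w]) → N ⊓ C1[v] = K ⊓ C1[v] := fun v e =>
    le_antisymm (inf_le_inf_right _ NK) fun y hy => ⟨mN y hy.1 (Nat.Coprime.coprime_dvd_left
      (e ▸ orderOf_dvd_card_of_mem hy) cop), hy.2⟩
  have cv : Nat.card ↥(K ⊓ C1[w * x]) = Nat.card ↥(K ⊓ C1[w]) := by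
    obtain ⟨j, hj⟩ := B84.odd_sqrt (B84.odd_of_mem o xK)
    rw [← card_conj (x ^ j) (K ⊓ _), conj_inf, conj_cent1, conj_eq_self_of_mem (pow_mem xK j)]
    congr 5
    have := zi wx (npow_mem_zpowers x j)
    generalize x ^ j = d at *
    rw [← hj, show d * (w * (d * d)) * d⁻¹ = d * (w * d * w⁻¹) * w by group, this]; group
  have e := relIndex_prod inf_le_left P
  have e1 := card_mul_relIndex (inf_le_left : N ⊓ C1[w] ≤ N)
  have e2 := card_inf_mul_relIndex (N ⊓ C1[w]) (N ⊓ C1[w * x])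
  have e3 : N ⊓ C1[w] ⊓ (N ⊓ C1[w * x]) = zpowers g := le_antisymm (fun y hy => NC y hy.1.1 (H x (mem_zpowers x)
    (fun e => hl.ne_one (Nat.dvd_one.1 (by rwa [e, orderOf_one] at lr))) y (NK hy.1.1) (by
      have := ((show Commute y w from mem_cent1.1 hy.1.2).inv_right.mul_right (mem_cent1.1 hy.2.2))
      rw [inv_mul_cancel_left] at this
      rw [TT.commute_iff_conj.1 this]; exact mem_zpowers x)))
    (le_inf (le_inf gN (zpowers_le.2 (mem_cent1.2 wg.symm))) (le_inf gN (zpowers_le.2 (mem_cent1.2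
      (wg.mul_left xg).symm))))
  have e4 := cp.relIndex_right
  rw [e3, Nat.card_zpowers, og, ← e, T _ cv, cv] at e2
  rw [← e4, ← iK] at e1
  rw [T w rfl] at e1 e2
  have : Nat.card ↥(K ⊓ C1[w]) ^ 2 = 9 * C.relIndex K := by
    rw [sq]; nth_rewrite 2 [← e2]; rw [mul_left_comm, e1]; ring
  rw [this]
  exact (md l hl lr).mul_left 9

end Cfsg.Agent.WA.JH
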