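import Cfsg.Agent.WA.JE1
import Cfsg.Agent.WA.JB3
import Cfsg.Agent.GW.Base

/-! The principal 2-block of `L D`. -/

set_option autoImplicit false
set_option linter.unusedSectionVars false

namespace Cfsg.Agent.WA.T6

open Cfsg Subgroup Cfsg.Agent.GT Cfsg.Agent.Char Cfsg.Agent.BS Cfsg.Agent.B84C Cfsg.Agent.B84H Cfsg.Agent.Cls
open scoped Classical ComplexConjugate

universe u

theorem ind_two {G X : Type*} [Group G] [Fintype G] [Group X] [Fintype X] (f : X →* G)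
    (inj : Function.Injective f) {w : G} (wn : w ∉ f.range) {a b : X} {θ : X → ℂ} (hθ : IsClassFunction X θ)
    (hr : w * f a * w⁻¹ = f b) (cov : ∀ c p, f p = c⁻¹ * f a * c → θ p ≠ 0 → c ∈ f.range ∨ w * c ∈ f.range) :
    ind f θ (f a) = θ a + θ b := by
  have k1 : ∀ {c a}, c ∈ f.range → (∑ p, if f p = c⁻¹ * f a * c then θ p else 0) = θ a := by
    rintro _ a ⟨e, rfl⟩
    rw [← map_inv, ← map_mul, ← map_mul, Finset.sum_eq_single (e⁻¹ * a * e) (fun b _ n => if_neg (inj.ne n))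
      (by simp), if_pos rfl, hθ.conj']
  have k : ∀ c, (∑ p, if f p = c⁻¹ * f a * c then θ p else 0) =
      (if c ∈ f.range then 1 else 0) * θ a + (if w * c ∈ f.range then 1 else 0) * θ b := fun c => by
    by_cases e : c ∈ f.range
    · rw [k1 e, if_pos e, if_neg fun m => wn ((mul_mem_cancel_right e).1 m)]; ring
    by_cases e' : w * c ∈ f.range
    · rw [show c⁻¹ * f a * c = (w * c)⁻¹ * f b * (w * c) by rw [← hr]; group, k1 e', if_neg e, if_pos e']; ring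
    · rw [Finset.sum_eq_zero fun b _ => ite_eq_right_iff.2 fun n => by_contra fun m => (cov c b n m).elim e e',
        if_neg e, if_neg e']; ring
  have c : ∀ r, ∑ c, (if r * c ∈ f.range then (1 : ℂ) else 0) = Nat.card X := fun r =>
    (Equiv.sum_comp (Equiv.mulLeft r) fun c => if c ∈ f.range then (1 : ℂ) else 0).trans
      ((BSW.sum_ite_mem f.range).trans (congrArg _ (Nat.card_congr (MonoidHom.ofInjective inj).toEquiv).symm))
  have c1 := c 1
  simp only [one_mul] at c1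
  rw [ind, Finset.sum_congr rfl fun c _ => k c, Finset.sum_add_distrib, ← Finset.sum_mul, ← Finset.sum_mul, c, c1,
    ← mul_add, inv_mul_cancel_left₀ (card_ne_zero_complex X)]

/-- `C(u) = (⟨u⟩ × O)⟨w⟩`, four-groups as Sylow 2-subgroups. -/
structure LT {Y O : Type u} [Group Y] [Group O] (u w : Y) (j : O →* Y) (τ : O → O) : Prop where
  uu : u * u = 1
  u1 : u ≠ 1
  ww : w * w = 1
  w1 : w ≠ 1
  wn : w ≠ u
  wu : Commute w u
  odd : Odd (Nat.card O)
  inj : Function.Injective j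
  ju : ∀ o, Commute (j o) u
  jw : ∀ o, w * j o * w⁻¹ = j (τ o)
  dec : ∀ c, Commute c u → ∃ o, c = j o ∨ c = u * j o ∨ w * c = j o ∨ w * c = u * j o
  cj : ∀ s : Y, s * s = 1 → s ≠ 1 → IsConj u s
  two : ∀ (s : Y) (k : ℕ), s ^ 2 ^ k = 1 → s * s = 1
  n8 : ¬ 8 ∣ Nat.card Y

namespace LT

variable {Y O : Type u} [Group Y] [Group O] [Fintype Y] [Fintype O] {u w : Y} {j : O →* Y} {τ : O → O}
  (h : LT u w j τ)

/-- `⟨u⟩ × O → Y` -/
noncomputable def f : ℤˣ × O →* Y where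
  toFun p := (if p.1 = 1 then 1 else u) * j p.2
  map_one' := by simp
  map_mul' := by
    rintro ⟨a, k⟩ ⟨b, l⟩
    have c := (h.ju k).eq
    rcases Int.units_eq_one_or a with rfl | rfl <;> rcases Int.units_eq_one_or b with rfl | rfl
    · simp
    · simp [← mul_assoc, c]
    · simp [mul_assoc]
    · simp only [Prod.mk_mul_mk, neg_mul_neg, mul_one, if_true, one_mul, map_mul]
      rw [if_neg (by decide), mul_assoc, ← mul_assoc (j k), c, ← mul_assoc, ← mul_assoc, h.uu, one_mul]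

theorem f1 (o : O) : h.f (1, o) = j o := by simp [f]

theorem f2 (o : O) : h.f (-1, o) = u * j o := by
  change (if (-1 : ℤˣ) = 1 then 1 else u) * j o = _
  rw [if_neg (by decide)]

include h

theorem ord : orderOf u = 2 := orderOf_eq_two_of h.uu h.u1

theorem oj (o : O) : Odd (orderOf (j o)) :=
  h.odd.of_dvd_nat ((orderOf_map_dvd j o).trans (orderOf_dvd_natCard o))

theorem c2 (o : O) : constt {2} (u * j o) = u := constt_two_mul h.ord (h.ju o) (h.oj o)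

theorem even (o : O) : ¬ Odd (orderOf (u * j o)) := fun e => h.u1 (by
  rw [← h.c2 o]
  simpa using constt_two_mul' (t := 1) (w := u * j o)
    ((piNat_single_iff Nat.prime_two (orderOf_pos _).ne').2 ⟨0, by simp⟩) (by simp) e)

theorem sq {o : O} (e : j o * j o = 1) : j o = 1 := GW.eq1_of_odd (h.oj o) e

theorem f_inj : Function.Injective h.f := by
  rw [injective_iff_map_eq_one]
  rintro ⟨a, l⟩ e
  rcases Int.units_eq_one_or a with rfl | rfl
  · rw [f1] at e; exact Prod.ext rfl ((injective_iff_map_eq_one j).1 h.inj l e)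
  · rw [f2] at e; exact (h.even l (by simp [e])).elim

theorem wf : w ∉ h.f.range := by
  rintro ⟨⟨a, l⟩, e⟩
  have ww := h.ww
  rcases Int.units_eq_one_or a with rfl | rfl
  · rw [f1] at e; exact h.w1 (e ▸ h.sq (e ▸ ww))
  · rw [f2] at e
    rw [← e, (h.ju l).mul_mul_mul_comm, h.uu, one_mul] at ww
    exact h.wn (by rw [← e, h.sq ww, mul_one])

theorem fw (p : ℤˣ × O) : w * h.f p * w⁻¹ = h.f (p.1, τ p.2) := by
  obtain ⟨a, l⟩ := p
  rcases Int.units_eq_one_or a with rfl | rfl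
  · rw [f1, f1, h.jw]
  · rw [f2, f2, ← conj_mul, h.jw, h.wu.eq, mul_inv_cancel_right]

theorem val {θ : ℤˣ × O → ℂ} (hθ : IsClassFunction _ θ) (p : ℤˣ × O)
    (cov : ∀ c q, h.f q = c⁻¹ * h.f p * c → θ q ≠ 0 → Commute c u) :
    ind h.f θ (h.f p) = θ p + θ (p.1, τ p.2) :=
  ind_two h.f h.f_inj h.wf hθ (h.fw p) fun c q e n => by
    obtain ⟨o, k | k | k | k⟩ := h.dec c (cov c q e n)
    exacts [.inl ⟨(1, o), by rw [f1, k]⟩, .inl ⟨(-1, o), by rw [f2, k]⟩, .inr ⟨(1, o), by rw [f1, k]⟩,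
      .inr ⟨(-1, o), by rw [f2, k]⟩]

theorem nrm {c : Y} (hc : Commute c u) (o : O) : c * j o * c⁻¹ ∈ j.range := by
  have a : ∀ o', u * j o' * j o * (u * j o')⁻¹ = j (o' * o * o'⁻¹) := fun o' => by
    rw [show u * j o' * j o * (u * j o')⁻¹ = u * j (o' * o * o'⁻¹) * u⁻¹ by simp only [map_mul, map_inv]; group,
      ← (h.ju _).eq, mul_inv_cancel_right]
  have b : ∀ {y}, w * c * j o * (w * c)⁻¹ = j y → c * j o * c⁻¹ ∈ j.range := fun {y} e => ⟨τ y, by
    rw [← h.jw, ← e, show w * (w * c * j o * (w * c)⁻¹) * w⁻¹ = w * w * (c * j o * c⁻¹) * (w * w)⁻¹ by group, h.ww]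
    simp⟩
  obtain ⟨o', k | k | k | k⟩ := h.dec c hc
  · exact ⟨o' * o * o'⁻¹, by simp [k]⟩
  · exact ⟨_, by rw [k, a]⟩
  · exact b (y := o' * o * o'⁻¹) (by simp [k])
  · exact b (by rw [k, a])

theorem sec {y : Y} (hy : ¬ Odd (orderOf y)) : ∃ c o, y = c * (u * j o) * c⁻¹ := by
  obtain ⟨k, hk⟩ := exists_pow_two_pow (piNat_constt {2} y)
  have n1 : constt {2} y ≠ 1 := fun e => hy (by
    have := constt_mul_constt_compl {2} y
    rw [e, one_mul] at this
    rw [← this]; exact piNat_two_compl.1 (piNat_constt _ _))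
  obtain ⟨c, hc⟩ := isConj_iff.1 (h.cj _ (h.two _ k hk) n1)
  have h1 : Commute (c⁻¹ * constt {2}ᶜ y * c) u := by
    have := (commute_constt_constt {2} {2}ᶜ y).eq
    rw [← hc] at this
    calc c⁻¹ * constt {2}ᶜ y * c * u = c⁻¹ * (constt {2}ᶜ y * (c * u * c⁻¹)) * c := by group
      _ = _ := by rw [← this]; group
  have h2 : Odd (orderOf (c⁻¹ * constt {2}ᶜ y * c)) := by
    have := orderOf_conj' (constt {2}ᶜ y) c⁻¹
    rw [inv_inv] at this
    rw [this]; exact piNat_two_compl.1 (piNat_constt _ _)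
  have h3 : y = c * (u * (c⁻¹ * constt {2}ᶜ y * c)) * c⁻¹ := by
    nth_rewrite 1 [← constt_mul_constt_compl {2} y, ← hc]; group
  generalize c⁻¹ * constt {2}ᶜ y * c = z at h1 h2 h3
  have n : w * z ∉ h.f.range := fun m => by
    have m2 : z * z ∈ h.f.range := by
      obtain ⟨p, e⟩ := m
      have := h.fw p
      rw [inv_eq_of_mul_eq_one_right h.ww, e, ← mul_assoc, h.ww, one_mul] at this
      exact ⟨(p.1, τ p.2) * p, by rw [map_mul, ← this, e, mul_assoc, ← mul_assoc w, h.ww, one_mul]⟩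
    exact h.wf ((mul_mem_cancel_right (PG.mem_of_sq_mem_of_odd h2 m2)).1 m)
  obtain ⟨o, e | e | e | e⟩ := h.dec z h1
  · exact ⟨c, o, e ▸ h3⟩
  · exact (h.even o (e ▸ h2)).elim
  · exact (n ⟨(1, o), by rw [f1, e]⟩).elim
  · exact (n ⟨(-1, o), by rw [f2, e]⟩).elim

omit h in
theorem sum_pr (F : ℤˣ × O → ℂ) : ∑ p, F p = ∑ l, F (1, l) + ∑ l, F (-1, l) := by
  rw [Fintype.sum_prod_type, UnitsInt.univ, Finset.sum_pair (by decide)]

omit h in
theorem ci_pr (F F' : ℤˣ × O → ℂ) : 2 * ⟪F, F'⟫ =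
    ⟪fun l => F (1, l), fun l => F' (1, l)⟫ + ⟪fun l => F (-1, l), fun l => F' (-1, l)⟫ := by
  have := card_ne_zero_complex O
  rw [ci_def, ci_def, ci_def, sum_pr, Nat.card_prod, Nat.card_eq_fintype_card (α := ℤˣ), Fintype.card_units_int]
  push_cast; field_simp

theorem blk : ∃ α β γ : Y → ℂ, IsSIrr Y α ∧ IsSIrr Y β ∧ IsSIrr Y γ ∧ ⟪α, β⟫ = 0 ∧ ⟪α, γ⟫ = 0 ∧ ⟪β, γ⟫ = 0 ∧
    (∀ χ, χ = α ∨ χ = β ∨ χ = γ → ⟪χ, fun _ => 1⟫ = 0 ∧ ∀ y, ¬ Odd (orderOf y) → χ y = 1) ∧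
    ∀ y, Odd (orderOf y) → (α + β + γ) y = -1 := by
  let θ : ℤˣ × O → ℂ := fun p => 1 - ((p.1 : ℤ) : ℂ)
  have hθ : IsGeneralizedCharacter _ θ := virt_one.sub (isIrrCharacter_hom (((Int.castRingHom ℂ).toMonoidHom.comp
    (Units.coeHom ℤ)).comp (MonoidHom.fst ℤˣ O))).virt
  have t1 : ∀ o, θ (1, o) = 0 := fun o => by simp [θ]
  have t2 : ∀ o, θ (-1, o) = 2 := fun o => by simp [θ]; norm_num
  have v := hθ.ind h.f
  have ev : ∀ y, ¬ Odd (orderOf y) → ind h.f θ y = 4 := fun y hy => by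
    obtain ⟨c, o, rfl⟩ := h.sec hy
    rw [v.isClassFunction, ← h.f2, h.val hθ.isClassFunction, t2]
    · norm_num
    rintro c ⟨a, l⟩ e n
    rcases Int.units_eq_one_or a with rfl | rfl
    · exact (n (t1 l)).elim
    have e2 := congrArg (constt {2}) e
    rw [f2, f2, show c⁻¹ * (u * j o) * c = c⁻¹ * (u * j o) * c⁻¹⁻¹ by simp, constt_conj, h.c2, h.c2, inv_inv,
      mul_assoc, eq_inv_mul_iff_mul_eq] at e2
    exact e2
  have od : ∀ y, Odd (orderOf y) → ind h.f θ y = 0 := fun y o => by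
    refine ind_eq_zero_of_forall fun x ⟨a, l⟩ e => ?_
    rcases Int.units_eq_one_or a with rfl | rfl
    · exact t1 l
    · rw [f2] at e
      refine (h.even l ?_).elim
      rw [e, show x⁻¹ * y * x = x⁻¹ * y * x⁻¹⁻¹ by simp, orderOf_conj']; exact o
  have ci : ∀ {χ : Y → ℂ} {z : ℂ}, IsClassFunction Y χ → (∀ o, χ (u * j o) = z) → ⟪χ, ind h.f θ⟫ = z := by
    intro χ z hχ e
    have := ci_pr (fun p => χ (h.f p)) θ
    simp only [t1, t2, h.f2, e] at this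
    rw [show (fun _ : O => (0 : ℂ)) = 0 from rfl, ci_zero_right, show (fun _ : O => z) = z • fun _ => 1 by
      ext; simp, show (fun _ : O => (2 : ℂ)) = (2 : ℂ) • fun _ => 1 by ext; simp, ci_smul_left, ci_smul_right,
      ci_one_one, map_ofNat] at this
    rw [ci_ind_right _ hχ]; linear_combination this / 2
  have o1 := ci (isClassFunction_const 1) (z := 1) fun _ => rfl
  have o2 : ⟪ind h.f θ, fun _ => 1⟫ = 1 := by rw [← ci_conj_symm, o1, map_one]
  have o3 : ⟪fun _ => 1, ind h.f θ - fun _ => 1⟫ = 0 := by rw [ci_sub_right, o1, ci_one_one, sub_self]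
  obtain ⟨α, β, γ, hα, hβ, hγ, ab, ac, bc, e⟩ := GW.Ch.exists_three (v.sub virt_one) (by
    rw [ci_sub_left, o3, ci_sub_right, o2, ci v.isClassFunction fun o => ev _ (h.even o)]; norm_num)
  refine ⟨α, β, γ, hα, hβ, hγ, ab, ac, bc, fun χ hχ => ?_, fun y o => by rw [← e, Pi.sub_apply, od y o]; simp⟩
  obtain ⟨i, c⟩ : IsSIrr Y χ ∧ ⟪ind h.f θ - fun _ => 1, χ⟫ = 1 := by
    rcases hχ with rfl | rfl | rfl <;> refine ⟨‹_›, ?_⟩ <;>
      simp [e, ci_add_left, hα.ci_self, hβ.ci_self, hγ.ci_self, ab, ac, bc, ci_eq_zero_symm ab, ci_eq_zero_symm ac,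
        ci_eq_zero_symm bc]
  have p := sirr_perp_one i o3 (by rw [c]; exact one_ne_zero)
  have c' : ⟪χ, ind h.f θ⟫ = 1 := by
    rw [ci_sub_left, ci_eq_zero_symm p, sub_zero] at c
    rw [← ci_conj_symm, c, map_one]
  have s : 4 * ∑ y, oddInd y * χ y = -Nat.card Y := by
    have e1 : ind h.f θ = (4 : ℂ) • ((fun _ => 1) - oddInd) := by
      ext y
      by_cases o : Odd (orderOf y)
      · simp [od y o, oddInd, o]
      · simp [ev y o, oddInd, o]
    have e2 : ∑ y, oddInd y * χ y = Nat.card Y * ⟪χ, oddInd⟫ := by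
      rw [card_mul_ci]
      exact Finset.sum_congr rfl fun y _ => by unfold oddInd; split_ifs <;> simp
    rw [e1, ci_smul_right, ci_sub_right, p, map_ofNat] at c'
    rw [e2]; linear_combination (-Nat.card Y : ℂ) * c'
  have B : ∀ {ψ}, IsIrrCharacter Y ψ → omega ψ = omega χ → ∀ o, ψ (u * j o) = ψ u := fun {ψ} hψ e o => by
    obtain ⟨n, hn⟩ := omega_int hψ
    obtain ⟨d, hd⟩ := i.virt.exists_int_one
    refine B0_apply_mul_odd h.ord j.range (by rintro _ ⟨o, rfl⟩; exact h.ju o)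
      (by rintro c hc _ ⟨o, rfl⟩; exact h.nrm hc o)
      (by rw [← Nat.card_congr (MonoidHom.ofInjective h.inj).toEquiv]; exact h.odd)
      (mem_B0.2 ⟨hψ, n, Int.not_even_iff_odd.1 fun ⟨m, hm⟩ => h.n8 ?_, hn⟩) ⟨o, rfl⟩
    rw [e, omega, div_eq_iff i.apply_one_ne_zero, hd, hm] at hn
    rw [hn] at s
    have : (Nat.card Y : ℤ) = 8 * (-(m * d)) := by
      have : ((Nat.card Y : ℤ) : ℂ) = (8 * (-(m * d)) : ℤ) := by push_cast at s ⊢; linear_combination s
      exact_mod_cast this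
    exact_mod_cast (Dvd.intro _ this.symm : (8 : ℤ) ∣ (Nat.card Y : ℤ))
  have k : ∀ o, χ (u * j o) = χ u := fun o => by
    rcases i with i | i
    · exact B i rfl o
    · exact neg_injective (B i (by simp [omega, neg_div_neg_eq]) o)
  refine ⟨p, fun y hy => ?_⟩
  obtain ⟨c, o, rfl⟩ := h.sec hy
  rw [i.isClassFunction, k, ← ci i.isClassFunction k, c']

end LT

section
variable {L Y : Type u} [Group L] [Fintype L] [Group Y] [Fintype Y] {x u : L} {Q : ℤ} {γ : Fin 3 → L → ℂ}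

theorem lb_ne (k : LB x Q γ) {ψ : L → ℂ} (ev : ∀ y, ¬ Odd (orderOf y) → ψ y = 1) :
    ∃ δ, (δ = (fun _ => 1) ∨ ∃ i, δ = γ i) ∧ ⟪ψ, δ⟫ ≠ 0 := by
  by_contra! n
  have e : ⟪ψ - fun _ => 1, (fun _ => 1) + (γ 0 + γ 1 + γ 2)⟫ = 0 := by
    rw [ci_def, Finset.sum_eq_zero, mul_zero]
    intro y _
    by_cases o : Odd (orderOf y)
    · simp only [Pi.add_apply, k.od y o, map_zero, mul_zero]
    · simp [ev y o]
  simp [ci_sub_left, ci_add_right, n _ (.inl rfl), n _ (.inr ⟨_, rfl⟩), ci_eq_zero_symm (k.one _), ci_one_one] at e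

theorem res (E : NormalEmb L Y) (k : LB x Q γ) (hu : ¬ Odd (orderOf u)) (q8 : Q % 8 = 5) (q3 : Q ≠ -3)
    {Γ : Y → ℂ} (hΓ : IsSIrr Y Γ) (ev : ∀ y, ¬ Odd (orderOf y) → Γ y = 1) :
    Γ 1 = 1 ∨ ∃ i, Γ 1 = xs Q i ∧ ∀ a ∈ zpowers x, a ≠ 1 → Γ (E.f a) = ys i := by
  have ev' : ∀ y, ¬ Odd (orderOf y) → Γ (E.f y) = 1 := fun y o => ev _ (by rwa [orderOf_injective _ E.inj])
  obtain ⟨δ, hδ, n⟩ := lb_ne k ev'
  have s1 : IsSIrr L (fun _ => 1) := isIrrCharacter_one.isSIrr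
  obtain ⟨i, ed⟩ : IsSIrr L δ ∧ ∀ y, ¬ Odd (orderOf y) → δ y = 1 := by
    rcases hδ with rfl | ⟨i, rfl⟩
    exacts [⟨s1, fun _ _ => rfl⟩, ⟨k.irr i, k.ev i⟩]
  have ec : ∀ c y, ¬ Odd (orderOf y) → E.cj δ c y = 1 := fun c y o => ed _ (by rwa [MulEquiv.orderOf_eq])
  have key : ∀ {l : L} {z : ℂ}, (∀ c, E.cj δ c l = z) → Γ (E.f l) = z := by
    obtain ⟨ε, χ, hε, hχ, rfl⟩ := hΓ.exists_sign
    obtain ⟨ε', θ, hε', hθ, rfl⟩ := i.exists_sign
    have n' : ⟪fun l => χ (E.f l), θ⟫ ≠ 0 := fun e => n (by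
      rw [show (fun l => ((ε : ℂ) • χ) (E.f l)) = (ε : ℂ) • fun l => χ (E.f l) from rfl, ci_smul_left, ci_smul_right,
        e, mul_zero, mul_zero])
    have c := E.clifford hχ hθ n'
    have k1 : ∀ {l : L} {z : ℂ}, (∀ c, E.cj ((ε' : ℂ) • θ) c l = z) → (ε' : ℂ) * (Nat.card (E.inertia θ) *
        χ (E.f l)) = ⟪fun l => χ (E.f l), θ⟫ * (Fintype.card Y * z) := fun {l z} e => by
      have := congrFun c l
      simp only [Pi.smul_apply, smul_eq_mul, Finset.sum_apply] at this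
      rw [this, mul_left_comm, Finset.mul_sum, Finset.sum_congr rfl (f := fun c => (ε' : ℂ) * E.cj θ c l)
        (g := fun _ => z) fun c _ => e c]; simp
    intro l z e
    have a := k1 e
    have b := k1 fun c => ec c u hu
    have d := ev' u hu
    have m : (ε' : ℂ) * Nat.card (E.inertia θ) ≠ 0 := mul_ne_zero (by rcases hε' with rfl | rfl <;> simp)
      (card_ne_zero_complex _)
    have e2 : (ε : ℂ) * ε = 1 := by rcases hε with rfl | rfl <;> simp
    simp only [Pi.smul_apply, smul_eq_mul] at d ⊢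
    refine mul_left_cancel₀ m ?_
    linear_combination ε * a - ε * z * b + ε' * Nat.card (E.inertia θ) * z * d
  have d1 := key (l := 1) fun c => E.cj_apply_one δ c
  rw [map_one] at d1
  rcases hδ with rfl | ⟨m, rfl⟩
  · exact .inl d1
  refine .inr ⟨m, d1.trans (k.deg m), fun a ha a1 => key fun c => ?_⟩
  have ic : IsSIrr L (E.cj (γ m) c) := i.imp (E.isIrr_cj · c) fun n => E.isIrr_cj (θ := -γ m) n c
  obtain ⟨δ, hδ, n⟩ := lb_ne k (ec c)
  have d2 : E.cj (γ m) c 1 = xs Q m := (E.cj_apply_one _ c).trans (k.deg m)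
  have e : E.cj (γ m) c = δ := by
    obtain ⟨i', ed⟩ : IsSIrr L δ ∧ δ u = 1 := by
      rcases hδ with rfl | ⟨i, rfl⟩
      exacts [⟨s1, rfl⟩, ⟨k.irr i, k.ev i u hu⟩]
    refine (ic.eq_or_eq_neg_of_ci_ne_zero i' n).resolve_right fun e => ?_
    have := ec c u hu
    rw [e, Pi.neg_apply, ed] at this
    norm_num at this
  rw [e] at d2 ⊢
  rcases hδ with rfl | ⟨i', rfl⟩
  · have : 1 = xs Q m := by beta_reduce at d2; exact_mod_cast d2
    clear * - this q8 q3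
    fin_cases m <;> simp [xs] at this <;> omega
  · have : xs Q i' = xs Q m := by exact_mod_cast (k.deg i').symm.trans d2
    rw [k.val i' a ha a1]
    clear * - this q8 q3
    fin_cases m <;> fin_cases i' <;> simp [xs, ys] at this ⊢ <;> omega

theorem lbt {O : Type u} [Group O] [Fintype O] {w : Y} {j : O →* Y} {τ : O → O} (E : NormalEmb L Y)
    (h : LT (E.f u) w j τ) (k : LB x Q γ) (q8 : Q % 8 = 5) (q3 : Q ≠ -3) (q5 : Q ≠ 5) : ∃ Γ, LB (E.f x) Q Γ := by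
  have hu : ¬ Odd (orderOf u) := by rw [← orderOf_injective _ E.inj, h.ord]; decide
  obtain ⟨α, β, δ, hα, hβ, hδ, ab, ac, bc, p, od⟩ := h.blk
  have r : ∀ {χ}, IsSIrr Y χ → (∀ y, ¬ Odd (orderOf y) → χ y = 1) → ∃ d v : ℤ, χ 1 = d ∧
      (d = 1 ∨ (d = Q ∧ v = 1) ∨ (d = -((Q + 1) / 2) ∧ v = -1)) ∧
      (d ≠ 1 → ∀ a ∈ zpowers (E.f x), a ≠ 1 → χ a = v) := fun hχ ev => by
    rcases res E k hu q8 q3 hχ ev with e | ⟨i, e, v⟩
    · exact ⟨1, 0, by simpa using e, .inl rfl, fun n => (n rfl).elim⟩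
    refine ⟨_, ys i, e, by fin_cases i <;> simp [xs, ys], ?_⟩
    rintro - _ ⟨m, rfl⟩ n
    beta_reduce at n ⊢
    rw [← map_zpow] at n ⊢
    exact v _ ⟨m, rfl⟩ fun e => n (by rw [e, map_one])
  have pa := p α (.inl rfl)
  have pb := p β (.inr (.inl rfl))
  have pc := p δ (.inr (.inr rfl))
  obtain ⟨a, a', a1, a2, a3⟩ := r hα pa.2
  obtain ⟨b, b', b1, b2, b3⟩ := r hβ pb.2
  obtain ⟨c, c', c1, c2, c3⟩ := r hδ pc.2
  have s : a + b + c = -1 := by
    have := od 1 (by simp)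
    rw [Pi.add_apply, Pi.add_apply, a1, b1, c1] at this
    exact_mod_cast this
  have z := @ci_eq_zero_symm Y _ _
  have fin : ∀ {α β δ : Y → ℂ}, IsSIrr Y α → IsSIrr Y β → IsSIrr Y δ → ⟪β, δ⟫ = 0 → ⟪β, α⟫ = 0 → ⟪δ, α⟫ = 0 →
      (⟪α, fun _ => 1⟫ = 0 ∧ ∀ y, ¬ Odd (orderOf y) → α y = 1) →
      (⟪β, fun _ => 1⟫ = 0 ∧ ∀ y, ¬ Odd (orderOf y) → β y = 1) →
      (⟪δ, fun _ => 1⟫ = 0 ∧ ∀ y, ¬ Odd (orderOf y) → δ y = 1) → (∀ y, Odd (orderOf y) → (α + (β + δ)) y = -1) →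
      α 1 = Q → β 1 = (-((Q + 1) / 2) : ℤ) → δ 1 = (-((Q + 1) / 2) : ℤ) →
      (Q ≠ 1 → ∀ a ∈ zpowers (E.f x), a ≠ 1 → α a = (1 : ℤ)) →
      (-((Q + 1) / 2) ≠ 1 → ∀ a ∈ zpowers (E.f x), a ≠ 1 → β a = (-1 : ℤ)) →
      (-((Q + 1) / 2) ≠ 1 → ∀ a ∈ zpowers (E.f x), a ≠ 1 → δ a = (-1 : ℤ)) → ∃ Γ, LB (E.f x) Q Γ :=
    fun hα hβ hδ o1 o2 o3 pa pb pc od d1 d2 d3 v1 v2 v3 => ⟨_, lb_of hα hβ hδ o1 o2 o3 pa.1 pb.1 pc.1
      (fun y o => ⟨pa.2 y o, pb.2 y o, pc.2 y o⟩) od d1 d2 d3 fun a ha a1 =>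
        ⟨by simpa using v1 (by omega) a ha a1, by simpa using v2 (by omega) a ha a1,
          by simpa using v3 (by omega) a ha a1⟩⟩
  rcases a2 with rfl | ⟨rfl, rfl⟩ | ⟨rfl, rfl⟩ <;> rcases b2 with rfl | ⟨hb, rfl⟩ | ⟨hb, rfl⟩ <;>
    rcases c2 with rfl | ⟨hc, rfl⟩ | ⟨hc, rfl⟩ <;> try omega
  · subst hb hc; exact fin hα hβ hδ bc (z ab) (z ac) pa pb pc (fun y o => by rw [← add_assoc, od y o]) a1 b1 c1 a3 b3 c3
  · subst hb hc
    exact fin hβ hα hδ ac ab (z bc) pb pa pc (fun y o => by rw [add_left_comm, ← add_assoc, od y o]) b1 a1 c1 b3 a3 c3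
  · subst hb hc
    exact fin hδ hα hβ ab ac bc pc pa pb (fun y o => by rw [add_comm, od y o]) c1 a1 b1 c3 a3 b3

end

theorem valK {Y A K : Type u} [Group Y] [Fintype Y] [Group A] [Fintype A] [Group K] [Fintype K] {u w x : Y}
    {j : A × K →* Y} {κ : K →* K} (h : LT u w j fun o => (o.1⁻¹, κ o.2)) (sj : Function.Surjective κ)
    (cm : ∀ a b : A, a * b = b * a) (ti : ∀ c o o', j o' = c⁻¹ * j o * c → o'.1 ≠ 1 → Commute c u) {Q : ℤ}
    {γ : Fin 3 → Y → ℂ} (k : LB x Q γ) (i : Fin 3) {a : A} (a1 : a ≠ 1) (b : K) : γ i (j (a, b)) = γ i (j (a, 1)) := by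
  have oA : Odd (Nat.card A) := h.odd.of_dvd_nat (by rw [Nat.card_prod]; exact Dvd.intro _ rfl)
  have d1 : ∀ {ν}, IsIrrCharacter A ν → ν 1 = 1 := fun hν =>
    hν.degree_one_of_commutators fun a b => by rw [cm a b]; simp
  have main : ∀ ν, IsIrrCharacter A ν → ∀ μ, IsIrrCharacter K μ → μ ≠ (fun _ => 1) → ∀ i,
      ⟪fun o => γ i (j o), fun o : A × K => ((fun _ => 1) - ν : A → ℂ) o.1 * μ o.2⟫ = 0 := by
    intro ν hν μ hμ m1
    by_cases n1 : ν = fun _ => 1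
    · intro i; rw [n1, sub_self]; simp [ci_def]
    set θ0 : A × K → ℂ := fun o => ((fun _ => 1) - ν : A → ℂ) o.1 * μ o.2 with e0
    have v0 : IsGeneralizedCharacter _ θ0 :=
      ((virt_one.sub hν.virt).comp (MonoidHom.fst A K)).mul (hμ.virt.comp (MonoidHom.snd A K))
    let θ : ℤˣ × A × K → ℂ := fun p => (1 + ((p.1 : ℤ) : ℂ)) * θ0 p.2
    have v1 : IsGeneralizedCharacter _ θ := (virt_one.add (isIrrCharacter_hom (((Int.castRingHom ℂ).toMonoidHom.comp
      (Units.coeHom ℤ)).comp (MonoidHom.fst ℤˣ (A × K)))).virt).mul (v0.comp (MonoidHom.snd ℤˣ _))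
    have t1 : ∀ o, θ (1, o) = 2 * θ0 o := fun o => by simp [θ]; norm_num
    have t2 : ∀ o, θ (-1, o) = 0 := fun o => by simp [θ]
    have z0 : ⟪fun _ => 1, θ0⟫ = 0 := by
      have := ci_prod (fun _ : A => (1 : ℂ)) ((fun _ => 1) - ν) (fun _ : K => (1 : ℂ)) μ
      rw [isIrrCharacter_one.ci_of_ne hμ (Ne.symm m1), mul_zero] at this
      simpa only [mul_one] using this
    have ci : ∀ {χ : Y → ℂ}, IsClassFunction Y χ → ⟪χ, ind h.f θ⟫ = ⟪fun o => χ (j o), θ0⟫ := fun {χ} hχ => by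
      have := LT.ci_pr (fun p => χ (h.f p)) θ
      simp only [t1, t2, h.f1] at this
      rw [show (fun _ : A × K => (0 : ℂ)) = 0 from rfl, ci_zero_right, show (fun o => 2 * θ0 o) = (2 : ℂ) • θ0 from rfl,
        ci_smul_right, map_ofNat] at this
      rw [ci_ind_right _ hχ]; linear_combination this / 2
    have vl : ∀ o, ind h.f θ (j o) = 2 * θ0 o + 2 * θ0 (o.1⁻¹, κ o.2) := fun o => by
      rw [← h.f1, h.val v1.isClassFunction, t1, t1]
      rintro c ⟨s, l⟩ e n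
      rcases Int.units_eq_one_or s with rfl | rfl
      · rw [h.f1, h.f1] at e
        exact ti c o l e fun e => n (by simp [t1, e0, e, d1 hν])
      · exact (n (t2 l)).elim
    have nr : conjFun ν ≠ ν := fun e => n1 (hν.eq_one_of_odd_of_real oA e)
    have o1 := isIrrCharacter_one.ci_of_ne hν (Ne.symm n1)
    have N : nsq (ind h.f θ) ≤ 6 := by
      have e1 := ci_prod ((fun _ => 1) - ν) ((fun _ => 1) - ν) μ μ
      have e2 := ci_prod ((fun _ => 1) - conjFun ν) ((fun _ => 1) - ν) (fun b => μ (κ b)) μ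
      simp only [ci_sub_left, ci_sub_right, ci_one_one, o1, ci_eq_zero_symm o1, hν.ci_self, hμ.ci_self,
        hν.conjFun.ci_of_ne hν nr, hν.conjFun.ci_of_ne isIrrCharacter_one fun e => n1 (by
          rw [← conjFun_conjFun ν, e, conjFun_one])] at e1 e2
      have e3 := ci (v1.ind h.f).isClassFunction
      rw [show (fun o => ind h.f θ (j o)) = (2 : ℂ) • θ0 + (2 : ℂ) • fun p : A × K =>
        ((fun _ => 1) - conjFun ν : A → ℂ) p.1 * μ (κ p.2) by
          ext o; simp [vl, e0, hν.virt.apply_inv, conjFun_apply], ci_add_left, ci_smul_left, ci_smul_left, e1, e2] at e3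
      by_cases e : (fun b => μ (κ b)) = μ
      · rw [nsq_eq_of_ci (r := 6) (by rw [e3, e, hμ.ci_self]; norm_num)]
      · rw [nsq_eq_of_ci (r := 4) (by rw [e3, (hμ.comp_surjective κ sj).ci_of_ne hμ e]; norm_num)]; norm_num
    have m : ∀ i, ∃ m : ℤ, ⟪fun o => γ i (j o), θ0⟫ = (2 * m : ℤ) := fun i => by
      obtain ⟨m, hm⟩ := ((k.irr i).virt.comp h.f).ci_int (v0.comp (MonoidHom.snd ℤˣ _))
      have := LT.ci_pr (fun p => γ i (h.f p)) fun p => θ0 p.2
      simp only [h.f1, h.f2, k.ev i _ (h.even _), z0, add_zero] at this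
      exact ⟨m, by rw [← this]; push_cast; exact congrArg _ hm⟩
    choose m hm using m
    have s : m 0 + m 1 + m 2 = 0 := by
      have : ⟪(fun o => γ 0 (j o)) + (fun o => γ 1 (j o)) + fun o => γ 2 (j o), θ0⟫ = 0 := by
        rw [show ((fun o => γ 0 (j o)) + (fun o => γ 1 (j o)) + fun o => γ 2 (j o)) = -fun _ => 1 from
          funext fun o => eq_neg_of_add_eq_zero_right (k.od _ (h.oj o)), ci_neg_left, z0, neg_zero]
      rw [ci_add_left, ci_add_left, hm, hm, hm] at this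
      have : 2 * m 0 + 2 * m 1 + 2 * m 2 = 0 := by exact_mod_cast this
      omega
    have B := (bessel_orthonormal Finset.univ γ (fun i _ l _ => by
      split_ifs with e
      exacts [e ▸ (k.irr i).ci_self, k.orth i l e]) (ind h.f θ)).trans N
    simp only [Fin.sum_univ_three, fun i => ci_symm_of_int ((ci (k.irr i).isClassFunction).trans (hm i)),
      Complex.norm_intCast, sq_abs] at B
    have B' : (2 * m 0) ^ 2 + (2 * m 1) ^ 2 + (2 * m 2) ^ 2 ≤ 6 := by exact_mod_cast B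
    have : m 0 = 0 ∧ m 1 = 0 ∧ m 2 = 0 := by
      have : m 0 ^ 2 + m 1 ^ 2 + m 0 * m 1 ≤ 0 := by
        rw [show m 2 = -m 0 - m 1 by omega] at B'
        have : 8 * (m 0 ^ 2 + m 1 ^ 2 + m 0 * m 1) ≤ 6 := by linarith
        omega
      have a : m 0 = 0 := by nlinarith [sq_nonneg (m 0 + 2 * m 1)]
      have b : m 1 = 0 := by nlinarith [sq_nonneg (2 * m 0 + m 1)]
      omega
    intro i
    rw [hm]
    fin_cases i <;> simp [this]
  have cl : ∀ a : A, IsClassFunction K fun b => γ i (j (a, b)) := fun a b c => by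
    beta_reduce
    rw [← (k.irr i).isClassFunction (j (a, b)) (j (1, c)), ← map_inv, ← map_mul, ← map_mul]; simp
  have z : ∀ μ ∈ Irr K, μ ≠ (fun _ => 1) → ⟪fun b => γ i (j (a, b)), μ⟫ = 0 := fun μ hμ m1 => by
    let c : A → ℂ := fun a => ⟪fun b => γ i (j (a, b)), μ⟫
    have e : ∀ ν ∈ Irr A, ⟪c, ν⟫ = ⟪c, fun _ => 1⟫ := fun ν hν => by
      have := main ν (mem_Irr.1 hν) μ (mem_Irr.1 hμ) m1 i
      rw [eq_comm, ← sub_eq_zero, ← ci_sub_right, ← this]
      simp only [c, ci_def, Fintype.sum_prod_type, Nat.card_prod, map_mul, Nat.cast_mul, mul_inv, Finset.mul_sum,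
        Finset.sum_mul]
      exact Finset.sum_congr rfl fun _ _ => Finset.sum_congr rfl fun _ _ => by ring
    change c a = 0
    rw [IsClassFunction.apply_eq_sum_irr (f := c) (fun a b => by rw [cm b a, mul_inv_cancel_right]),
      Finset.sum_congr rfl (g := fun ν => ⟪c, fun _ => 1⟫ * (ν 1 * ν a)) fun ν hν => by
        rw [e ν hν, d1 (mem_Irr.1 hν), one_mul], ← Finset.mul_sum, sum_irr_degree_mul, if_neg a1, mul_zero]
  have e : ∀ b, γ i (j (a, b)) = ⟪fun b => γ i (j (a, b)), fun _ => 1⟫ := fun b => by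
    rw [(cl a).apply_eq_sum_irr b, Finset.sum_eq_single_of_mem _ (mem_Irr.2 isIrrCharacter_one)
      fun μ hμ n => by rw [z μ hμ n, zero_mul], mul_one]
  rw [e b, ← e 1]

end Cfsg.Agent.WA.T6
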