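import Mathlib

/-! Arithmetic for the twisted blocks of a group of Ree type. -/

set_option autoImplicit false

namespace Cfsg.Agent.WA.JW

theorem cop3 {y : ℤ} (h : ¬ 3 ∣ y) (i : ℕ) : IsCoprime ((3 : ℤ) ^ i) y :=
  (Int.prime_three.coprime_iff_not_dvd.2 h).pow_left

theorem nmul {x y : ℤ} (a : ¬ 3 ∣ x) (b : ¬ 3 ∣ y) : ¬ 3 ∣ x * y := fun e =>
  (Int.prime_three.dvd_or_dvd e).elim a b

theorem split3 {x : ℤ} (h : x ≠ 0) : ∃ (i : ℕ) (y : ℤ), x = 3 ^ i * y ∧ ¬ 3 ∣ y := by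
  obtain ⟨i, y, a, b⟩ := WfDvdMonoid.max_power_factor h Int.prime_three.irreducible
  exact ⟨i, y, b, a⟩

theorem udvd {a k : ℕ} {y m : ℤ} (h : ¬ 3 ∣ y) (d : y ∣ ((3 : ℤ) ^ a) ^ k * m) : y ∣ m :=
  ((cop3 h a).pow_left (m := k)).symm.dvd_of_dvd_mul_left d

theorem cmp3 (i a : ℕ) : (3 : ℤ) ^ a ∣ 3 ^ i ∨ 3 * 3 ^ i ≤ (3 : ℤ) ^ a := by
  rcases le_or_gt a i with e | e
  · exact .inl (pow_dvd_pow 3 e)
  · exact .inr (by rw [← pow_succ']; exact pow_le_pow_right₀ (by norm_num) e)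

theorem eq3 {i k : ℕ} {x y : ℤ} (hx : ¬ 3 ∣ x) (hy : ¬ 3 ∣ y) (a : (3 : ℤ) ^ i ∣ 3 ^ k * y)
    (b : (3 : ℤ) ^ k ∣ 3 ^ i * x) : i = k :=
  le_antisymm ((pow_dvd_pow_iff (by norm_num) Int.prime_three.not_unit).1 ((cop3 hy i).dvd_of_dvd_mul_right a))
    ((pow_dvd_pow_iff (by norm_num) Int.prime_three.not_unit).1 ((cop3 hx k).dvd_of_dvd_mul_right b))

theorem abs_le_of {x n : ℤ} (n0 : 0 < n) (d : x ∣ n) : |x| ≤ n := Int.le_of_dvd n0 ((abs_dvd _ _).2 d)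

theorem third {x n : ℤ} (n0 : 0 < n) (o : n % 2 = 1) (d : x ∣ n) (a : x ≠ n) (b : x ≠ -n) : 3 * |x| ≤ n := by
  obtain ⟨c, rfl⟩ := d
  have oc : c % 2 = 1 := by
    by_contra e
    obtain ⟨k, rfl⟩ : 2 ∣ c := by omega
    rw [show x * (2 * k) = 2 * (x * k) by ring] at o; omega
  have : c ≠ 1 := by rintro rfl; simp at a
  have : c ≠ -1 := by rintro rfl; simp at b
  have : 3 ≤ |c| := by rcases abs_cases c with e | e <;> omega
  rw [← abs_of_pos n0, abs_mul]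
  nlinarith [abs_nonneg x]

theorem aw1 {Q ν X C : ℤ} (hν : ν = Q ^ 2 + Q + 1) (q8 : Q % 8 = 5) (X8 : X % 8 = 1) (s : X - ν + Q * ν + C = 0)
    (E : Q * (Q ^ 2 * ν) * (-ν * (Q * ν) * C + X * (Q * ν) * C + Q ^ 2 * X * -ν * (Q * ν + C)) =
      (Q * (Q + 1)) ^ 2 * (Q - 1) * (X * -ν * (Q * ν) * C)) : X = 1 := by
  obtain rfl : C = ν - Q * ν - X := by linarith
  have ν0 : ν ≠ 0 := by nlinarith [sq_nonneg (2 * Q + 1)]
  have e : Q ^ 3 * ν ^ 3 * (Q - 1) * ((X - 1) * (X + Q * ν)) = 0 := by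
    subst hν; linear_combination (-1) * E
  rcases mul_eq_zero.1 ((mul_eq_zero.1 e).resolve_left (mul_ne_zero (mul_ne_zero (pow_ne_zero _ (by omega))
    (pow_ne_zero _ ν0)) (by omega))) with e | e
  · linarith
  · obtain ⟨k, rfl⟩ : ∃ k, Q = 8 * k + 5 := ⟨Q / 8, by omega⟩
    have : X = 8 * (-(64 * k ^ 3 + 128 * k ^ 2 + 86 * k + 20)) + 5 := by rw [hν] at e; linear_combination e
    omega

theorem aw3 {Q ν g A B : ℤ} (hν : ν = Q ^ 2 + Q + 1) (bg : Q ≤ -27) (hg : 2 * g = 1 - Q) (s : -ν + A + B + Q * ν = 0)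
    (E : Q * (Q ^ 2 * ν) * (A * B * (Q * ν) + g ^ 2 * -ν * (A + B) * (Q * ν) + Q ^ 2 * -ν * A * B) =
      (Q * (Q + 1)) ^ 2 * (Q - 1) * (-ν * A * B * (Q * ν))) : False := by
  obtain rfl : B = ν - Q * ν - A := by linarith
  have ν0 : ν ≠ 0 := by nlinarith [sq_nonneg (2 * Q + 1)]
  have hQ : Q = 1 - 2 * g := by linarith
  have e : Q ^ 3 * ν ^ 3 * (Q - 1) * ((2 * A - ν + Q * ν) ^ 2 - ((Q - 1) * (Q + 1)) ^ 2 * ν) = 0 := by
    rw [hν] at E ⊢; rw [hQ] at E ⊢; linear_combination (-4) * E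
  have e2 := sub_eq_zero.1 ((mul_eq_zero.1 e).resolve_left (mul_ne_zero (mul_ne_zero (pow_ne_zero _ (by omega))
    (pow_ne_zero _ ν0)) (by omega)))
  have n0 : (Q - 1) * (Q + 1) ≠ 0 := mul_ne_zero (by omega) (by omega)
  obtain ⟨c, hc⟩ := (Int.pow_dvd_pow_iff two_ne_zero).1 (show ((Q - 1) * (Q + 1)) ^ 2 ∣ (2 * A - ν + Q * ν) ^ 2 from
    ⟨_, e2⟩)
  have e4 : |c| ^ 2 = Q ^ 2 + Q + 1 := by
    rw [sq_abs, ← hν]
    exact mul_left_cancel₀ (pow_ne_zero 2 n0) (by rw [← mul_pow, ← hc, e2])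
  have := abs_nonneg c
  rcases le_or_gt (-Q) |c| with k | k
  · nlinarith
  · have : |c| ≤ -Q - 1 := by omega
    nlinarith

section
variable {a : ℕ} {q h ν : ℤ} (hq : q = 3 ^ a) (bg : 27 ≤ q) (hh : 2 * h = 1 - q) (hν : ν = q ^ 2 - q + 1)
include hq bg

theorem q3 : 3 ∣ q := by
  rcases a with _ | a
  · simp at hq; omega
  · exact ⟨3 ^ a, by rw [hq, pow_succ']⟩

include hν in
theorem nu3 : ¬ 3 ∣ ν := by
  obtain ⟨c, e⟩ := q3 hq bg
  rw [hν, e, show (3 * c) ^ 2 - 3 * c + 1 = 3 * (3 * c ^ 2 - c) + 1 by ring]; omega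

include hh hν

theorem aw2a {X A D : ℤ} (A8 : A % 8 = 1) (X0 : X ≠ 0) (D0 : 0 < D) (dX : X ∣ q ^ 2 * ν) (dA : A ∣ q ^ 2 * ν)
    (s : X + A + D = h * ν) (E : ν * (D * (X + A) + h ^ 2 * X * A) = h * (4 * h + 5) * (X * A * D))
    (A3 : ¬ 3 ∣ A) : False := by
  have ν0 : 0 < ν := by nlinarith
  have n3 := nu3 hq bg hν
  have dA' : A ∣ ν := udvd A3 (hq ▸ dA)
  have bA := abs_le.1 (abs_le_of ν0 dA')
  obtain ⟨i, X', eX, X3⟩ := split3 X0
  have bX := abs_le.1 (abs_le_of ν0 (udvd X3 (hq ▸ (Dvd.intro_left _ eX.symm).trans dX)))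
  have p : (0 : ℤ) < 3 ^ i := by positivity
  have qX : q ∣ X := by
    rcases cmp3 i a with e | e
    · exact hq ▸ eX ▸ e.mul_right _
    · rw [← hq] at e
      have : X < (h + 1) * ν := by nlinarith
      have : -(3 ^ i * ν) ≤ X := by rw [eX]; nlinarith
      have : -(3 : ℤ) ^ i < h + 1 := by nlinarith
      omega
  have cA : IsCoprime q A := hq ▸ cop3 A3 a
  have qD : q ∣ D := by
    obtain ⟨c, rfl⟩ := qX
    refine (hq ▸ cop3 (nmul n3 A3) a : IsCoprime q (ν * A)).dvd_of_dvd_mul_left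
      ⟨h * (4 * h + 5) * (c * A * D) - ν * (D * c + h ^ 2 * c * A), by linear_combination E⟩
  obtain ⟨y, hy⟩ := dA'
  obtain ⟨z, hz⟩ : q ∣ h * y - 1 := cA.dvd_of_dvd_mul_left (by
    rw [show A * (h * y - 1) = X + D by rw [hy] at s; linear_combination -s]; exact qX.add qD)
  obtain ⟨y', e1⟩ : ∃ y', y = 2 + q * y' := ⟨y + 2 * z, by linear_combination 2 * hz - y * hh⟩
  obtain ⟨c, e2⟩ : ∃ c, 2 * A = 1 + q * c := ⟨q - 1 - A * y', by rw [e1] at hy; linear_combination hν - hy⟩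
  have e3 : q * (y' * c - 2) = -(y' + 2 * c + 2) := mul_left_cancel₀ (show q ≠ 0 by omega) (by
    have : (1 + q * c) * (2 + q * y') = 2 * ν := by rw [← e1, ← e2, hy]; ring
    linear_combination this + 2 * hν)
  have oq : Odd q := ⟨-h, by omega⟩
  have oc : Odd c := (Int.odd_mul.1 (show Odd (q * c) from ⟨A - 1, by linarith⟩)).2
  have oy : Odd y := (Int.odd_mul.1 (show Odd (A * y) from ⟨h * (2 * h - 1), by
    rw [← hy, hν, show q = 1 - 2 * h by linarith]; ring⟩)).2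
  have oy' : Odd y' := (Int.odd_mul.1 (show Odd (q * y') from by
    obtain ⟨k, e⟩ := oy; exact ⟨k - 1, by linarith⟩)).2
  have om := Int.odd_iff.1 (oy'.mul oc)
  have m0 : 0 < |y' * c| := abs_pos.2 (by omega)
  have b1 := abs_le_of m0 ((dvd_abs _ _).2 (dvd_mul_right y' c))
  have b2 := abs_le_of m0 ((dvd_abs _ _).2 (dvd_mul_left c y'))
  have e4 := congrArg abs e3
  rw [abs_mul, abs_of_pos (show 0 < q by omega), abs_neg] at e4
  have e5 : 27 * |y' * c - 2| ≤ |y' + 2 * c + 2| := by rw [← e4]; nlinarith [abs_nonneg (y' * c - 2)]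
  generalize y' * c = m at *
  rcases abs_cases m with a1 | a1 <;> rcases abs_cases (m - 2) with a2 | a2 <;>
    rcases abs_cases (y' + 2 * c + 2) with a3 | a3 <;> rcases abs_cases c with a4 | a4 <;>
    rcases abs_cases y' with a5 | a5 <;> omega

theorem aw2 {X A D : ℤ} (X8 : X % 8 = 1) (A8 : A % 8 = 1) (X1 : X ≠ 1) (A1 : A ≠ 1) (D0 : D ≠ 0)
    (dX : X ∣ q ^ 2 * ν) (dA : A ∣ q ^ 2 * ν) (dD : D ∣ q ^ 2 * (h * ν))
    (s : X + A + D = h * ν) (E : ν * (D * (X + A) + h ^ 2 * X * A) = h * (4 * h + 5) * (X * A * D)) : False := by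
  have ν0 : 0 < ν := by nlinarith
  have n3 := nu3 hq bg hν
  have X7 : 7 ≤ |X| := by rcases abs_cases X with e | e <;> omega
  have A7 : 7 ≤ |A| := by rcases abs_cases A with e | e <;> omega
  have b7 : 7 * |X + A| ≤ 2 * |X * A| := by
    rw [abs_mul]; nlinarith [abs_add_le X A]
  have XA : X * A ≠ 0 := mul_ne_zero (by omega) (by omega)
  have XA' := abs_pos.2 XA
  have Dp : 0 < D := by
    by_contra n
    have Dn : D < 0 := by omega
    have e : D * (h * (4 * h + 5) * (X * A) ^ 2 - ν * ((X + A) * (X * A))) = ν * (h * (X * A)) ^ 2 := by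
      linear_combination (-(X * A)) * E
    have k1 : (X + A) * (X * A) ≤ |X + A| * |X * A| := by rw [← abs_mul]; exact le_abs_self _
    have k2 : 7 * ((X + A) * (X * A)) ≤ 2 * (X * A) ^ 2 := by rw [← sq_abs (X * A)]; nlinarith
    have k3 : 2 * ν < 7 * (h * (4 * h + 5)) := by nlinarith
    have k4 : 0 < (X * A) ^ 2 := by positivity
    have k5 : 0 < h * (4 * h + 5) * (X * A) ^ 2 - ν * ((X + A) * (X * A)) := by nlinarith
    have k6 : 0 ≤ ν * (h * (X * A)) ^ 2 := by positivity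
    nlinarith
  by_cases A3 : 3 ∣ A
  swap; · exact aw2a hq bg hh hν A8 (by omega) Dp dX dA s E A3
  by_cases X3 : 3 ∣ X
  swap; · exact aw2a hq bg hh hν X8 (by omega) Dp dA dX (by linarith) (by linear_combination E) X3
  have h3 : ¬ 3 ∣ h := by have := q3 hq bg; omega
  have D3 : ¬ 3 ∣ D := fun e => nmul h3 n3 (s ▸ (X3.add A3).add e)
  obtain ⟨j, hj⟩ : D ∣ h * ν := udvd D3 (hq ▸ dD)
  obtain ⟨i, X', eX, X3'⟩ := split3 (show X ≠ 0 by omega)
  obtain ⟨k, A', eA, A3'⟩ := split3 (show A ≠ 0 by omega)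
  have bX := abs_le.1 (abs_le_of ν0 (udvd X3' (hq ▸ (Dvd.intro_left _ eX.symm).trans dX)))
  have bA := abs_le.1 (abs_le_of ν0 (udvd A3' (hq ▸ (Dvd.intro_left _ eA.symm).trans dA)))
  have e1 : ν * (X + A) = h * (4 * h + 5 - j) * (X * A) := mul_left_cancel₀ D0 (by
    linear_combination E - h * (X * A) * hj)
  obtain rfl : i = k := by
    refine eq3 (nmul n3 X3') (nmul n3 A3') ⟨X' * (h * (4 * h + 5 - j) * A - ν), ?_⟩
      ⟨A' * (h * (4 * h + 5 - j) * X - ν), ?_⟩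
    · rw [mul_left_comm, ← eA, ← mul_assoc, ← eX]; linear_combination e1
    · rw [mul_left_comm, ← eX, ← mul_assoc, ← eA]; linear_combination e1
  have p : (0 : ℤ) < 3 ^ i := by positivity
  have e2 : X + A = D * (j - 1) := by linarith
  have d1 : (3 : ℤ) ^ (2 * i) ∣ j - 1 := (cop3 (nmul n3 D3) _).dvd_of_dvd_mul_left
    ⟨h * (4 * h + 5 - j) * (X' * A'), by rw [mul_assoc, ← e2, e1, eX, eA]; ring⟩
  have j1 : j - 1 ≠ 0 := fun e => by rw [e] at e2; omega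
  have d2 := Int.le_of_dvd (abs_pos.2 j1) ((dvd_abs _ _).2 d1)
  have e3 := congrArg abs e1
  rw [abs_mul, abs_mul, abs_mul h, abs_of_pos ν0, abs_of_neg (show h < 0 by omega)] at e3
  have b8 : 7 * (-h * |4 * h + 5 - j|) ≤ 2 * ν := by
    refine le_of_mul_le_mul_right ?_ XA'
    nlinarith
  have b9 : 7 * |4 * h + 5 - j| ≤ 4 * q := by
    by_contra n
    have : 4 * q + 1 ≤ 7 * |4 * h + 5 - j| := by omega
    nlinarith
  have b10 : |j - 1| < 3 * q := by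
    rcases abs_cases (j - 1) with a1 | a1 <;> rcases abs_cases (4 * h + 5 - j) with a2 | a2 <;> omega
  have b11 : -(2 * 3 ^ i) < h := by
    have : -(2 * 3 ^ i * ν) ≤ X + A := by rw [eX, eA]; nlinarith
    nlinarith
  have b12 : q ≤ 3 * 3 ^ i := by
    rcases cmp3 (i + 1) a with e | e
    · rw [← pow_succ', hq]; exact Int.le_of_dvd (by positivity) e
    · rw [← hq, pow_succ] at e; omega
  rw [two_mul, pow_add] at d2
  nlinarith

theorem aw4a {g X B C Y : ℤ} (hg : g = h - 1) (q8 : q % 8 = 3) (X7 : 7 ≤ |X|) (C8 : C % 8 = 3) (B0 : B ≠ 0)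
    (Y0 : Y ≠ 0) (dC : C ∣ ν) (s0 : X + 2 * B + C = 0) (s1 : X + B + Y = h * ν)
    (E0 : q * ν * (B * C + 2 * g ^ 2 * X * C + q ^ 2 * X * B) = (q - 1) ^ 2 * (q + 1) * (X * B * C))
    (E1 : ν * (B * Y + g ^ 2 * X * Y + 4 * h ^ 2 * X * B) = h * (4 * h + 5) * (X * B * Y)) : False := by
  have ν0 : 0 < ν := by nlinarith
  obtain ⟨k, hk⟩ : ∃ k, q = 8 * k + 3 := ⟨q / 8, by omega⟩
  have ν8 : ν = 8 * (8 * k ^ 2 + 5 * k) + 7 := by rw [hν, hk]; ring
  have c3 := third ν0 (by omega) dC (by omega) (by omega)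
  have X0 : X ≠ 0 := by rintro rfl; simp at X7
  have C0 : C ≠ 0 := by omega
  have r : ∀ {a b : ℤ}, a = b → (a : ℝ) = b := fun e => by rw [e]
  have X0' : (X : ℝ) ≠ 0 := by exact_mod_cast X0
  have B0' : (B : ℝ) ≠ 0 := by exact_mod_cast B0
  have C0' : (C : ℝ) ≠ 0 := by exact_mod_cast C0
  have Y0' : (Y : ℝ) ≠ 0 := by exact_mod_cast Y0
  have E0' := r E0
  have E1' := r E1
  have s0' := r s0
  have s1' := r s1
  have hh' := r hh
  have hν' := r hν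
  have hg' := r hg
  have X7' : (7 : ℝ) ≤ |(X : ℝ)| := by exact_mod_cast X7
  have c3' : 3 * |(C : ℝ)| ≤ ν := by exact_mod_cast c3
  have bg' : (27 : ℝ) ≤ q := by exact_mod_cast bg
  push_cast at E0' E1' s0' s1' hh' hν' hg'
  generalize (X : ℝ) = X at *
  generalize (B : ℝ) = B at *
  generalize (C : ℝ) = C at *
  generalize (Y : ℝ) = Y at *
  generalize (q : ℝ) = q at *
  generalize (h : ℝ) = h at *
  generalize (g : ℝ) = g at *
  generalize (ν : ℝ) = ν at *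
  have ν1 : 0 < ν := by nlinarith
  have F0 : q * ν * (1 / X + 2 * (g ^ 2 / B) + q ^ 2 / C) = (q - 1) ^ 2 * (q + 1) := by
    field_simp; linear_combination E0'
  have F1 : ν * (1 / X + g ^ 2 / B + 4 * h ^ 2 / Y) = h * (4 * h + 5) := by
    field_simp; linear_combination E1'
  have P7 : |1 / X| ≤ 1 / 7 := by rw [abs_div, abs_one]; exact one_div_le_one_div_of_le (by norm_num) X7'
  have T3 : 3 ≤ |q ^ 2 / C| := by
    rw [abs_div, le_div_iff₀ (abs_pos.2 C0'), abs_of_pos (by positivity : 0 < q ^ 2)]; nlinarith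
  have hR : |g ^ 2 / B| * |B| = g ^ 2 := by rw [← abs_mul, div_mul_cancel₀ _ B0', abs_of_nonneg (sq_nonneg g)]
  have hZ : 4 * h ^ 2 / Y * Y = 4 * h ^ 2 := div_mul_cancel₀ _ Y0'
  generalize 1 / X = P at *
  generalize g ^ 2 / B = R at *
  generalize q ^ 2 / C = T at *
  generalize 4 * h ^ 2 / Y = Z at *
  have qν : 0 < q * ν := by positivity
  have K1 : P + 2 * R + T < 1 := lt_of_mul_lt_mul_left (by rw [F0, hν']; nlinarith) qν.le
  have K2 : 9 / 10 < P + 2 * R + T := lt_of_mul_lt_mul_left (by rw [F0, hν']; nlinarith) qν.le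
  have hq' : q = 1 - 2 * h := by linarith
  have K3 : P + R + Z < 1 := lt_of_mul_lt_mul_left (by rw [F1, hν', hq']; nlinarith) ν1.le
  have K4 : 1 / 2 < P + R + Z := lt_of_mul_lt_mul_left (by rw [F1, hν', hq']; nlinarith) ν1.le
  obtain ⟨P1, P2⟩ := abs_le.1 P7
  have R9 : 9 / 10 ≤ |R| := by
    rcases le_abs.1 T3 with e | e
    · exact le_abs.2 (.inr (by linarith))
    · exact le_abs.2 (.inl (by linarith))
  have g2 : 3 * g ^ 2 ≤ ν := by rw [hg', hν', hq']; nlinarith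
  have bB : 2 * |B| ≤ ν := by nlinarith [abs_nonneg B]
  have bY : Y ≤ (h + 1) * ν := by nlinarith [le_abs_self B, le_abs_self C]
  have h13 : h ≤ -13 := by linarith
  have bY' : Y ≤ -12 * ν := by nlinarith
  have h2 : 4 * h ^ 2 ≤ ν := by rw [hν', hq']; nlinarith
  have Z0 : Z ≤ 0 := by
    by_contra n
    nlinarith [sq_nonneg h]
  have Z1 : -(1 / 12) ≤ Z := by
    by_contra n
    nlinarith
  rcases le_abs.1 T3 with e | e <;> linarith

set_option maxHeartbeats 800000 in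
theorem aw4 {g X B C Y : ℤ} (hg : g = h - 1) (q8 : q % 8 = 3) (X8 : X % 8 = 1) (X1 : X ≠ 1) (C8 : C % 8 = 3)
    (B0 : B ≠ 0) (Y8 : Y % 4 = 2) (dX : X ∣ q ^ 2 * ν) (dB : B ∣ q ^ 2 * (g * ν)) (dC : C ∣ q ^ 3 * ν)
    (dY : Y ∣ q ^ 2 * (2 * h * ν)) (s0 : X + 2 * B + C = 0) (s1 : X + B + Y = h * ν)
    (E0 : q * ν * (B * C + 2 * g ^ 2 * X * C + q ^ 2 * X * B) = (q - 1) ^ 2 * (q + 1) * (X * B * C))
    (E1 : ν * (B * Y + g ^ 2 * X * Y + 4 * h ^ 2 * X * B) = h * (4 * h + 5) * (X * B * Y)) : False := by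
  have ν0 : 0 < ν := by nlinarith
  have n3 := nu3 hq bg hν
  obtain ⟨q', hq'⟩ := q3 hq bg
  have q0 : q ≠ 0 := by omega
  obtain ⟨k, hk⟩ : ∃ k, q = 8 * k + 3 := ⟨q / 8, by omega⟩
  have ν8 : ν = 8 * (8 * k ^ 2 + 5 * k) + 7 := by rw [hν, hk]; ring
  have h3 : ¬ 3 ∣ h := by omega
  have g3 : ¬ 3 ∣ g := by omega
  have K3 : ¬ 3 ∣ (q - 1) ^ 2 * (q + 1) := nmul (by rw [sq]; exact nmul (by omega) (by omega)) (by omega)
  by_cases C3 : 3 ∣ C
  swap
  · exact aw4a hq bg hh hν hg q8 (by rcases abs_cases X with e | e <;> omega) C8 B0 (by omega) (udvd C3 (hq ▸ dC))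
      s0 s1 E0 E1
  by_cases X3 : 3 ∣ X
  swap
  · have B3 : ¬ 3 ∣ B := by omega
    have bX := abs_le.1 (abs_le_of ν0 (udvd X3 (hq ▸ dX)))
    obtain ⟨j, hj⟩ : B ∣ g * ν := udvd B3 (hq ▸ dB)
    have u3 : ¬ 3 ∣ (q - 1) ^ 2 * (q + 1) * (X * B) - q * (ν * (B + 2 * g ^ 2 * X)) := fun e =>
      nmul K3 (nmul X3 B3) (by
        have := e.add ((Dvd.intro _ hq'.symm).mul_right (ν * (B + 2 * g ^ 2 * X)))
        rwa [sub_add_cancel] at this)
    have u4 := (cop3 u3 a).pow_left (m := 3)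
    rw [← hq] at u4
    obtain ⟨c, hc⟩ : q ^ 3 ∣ C := u4.dvd_of_dvd_mul_right
      ⟨ν * X * B, by linear_combination -E0⟩
    have e1 : 2 * B * j = -(q ^ 3 + 1) := by
      rw [hν] at hj; linear_combination (-2) * hj + (q ^ 2 - q + 1) * (2 * hg + hh)
    have q3' : q ^ 3 = 8 * (64 * k ^ 3 + 72 * k ^ 2 + 27 * k + 3) + 3 := by rw [hk]; ring
    have big : 26 * ν < q ^ 3 := by rw [hν]; nlinarith
    generalize q ^ 3 = z at *
    have bB := abs_le.1 (abs_le_of (show 0 < z + 1 by omega) (show 2 * B ∣ z + 1 from ⟨-j, by linarith⟩))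
    have c8 : c % 8 = 1 := by
      obtain ⟨m, hm⟩ : ∃ m, z = 8 * m + 3 := ⟨_, q3'⟩
      have : C = 8 * (m * c) + 3 * c := by rw [hc, hm]; ring
      omega
    have c1 : c = 1 := by
      by_contra n
      rcases show c ≤ -7 ∨ 9 ≤ c by omega with e | e <;> nlinarith
    rw [c1, mul_one] at hc
    have Bn : 2 * B < 0 := by omega
    have j0 : 0 < j := by nlinarith
    rcases show j = 1 ∨ 2 ≤ j by omega with e | e
    · rw [e] at e1; omega
    · nlinarith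
  have B3 : 3 ∣ B := by omega
  have Y3 : ¬ 3 ∣ Y := fun e => nmul h3 n3 (s1 ▸ (X3.add B3).add e)
  obtain ⟨j, hj⟩ : Y ∣ 2 * h * ν := udvd Y3 (hq ▸ dY)
  obtain ⟨i, X', eX, X3'⟩ := split3 (show X ≠ 0 by omega)
  obtain ⟨l, B', eB, B3'⟩ := split3 B0
  have gg : ¬ 3 ∣ g ^ 2 := by rw [sq]; exact nmul g3 g3
  obtain rfl : i = l := by
    refine eq3 (nmul (nmul (nmul n3 Y3) gg) X3') (nmul (nmul n3 Y3) B3')
      ⟨X' * (h * (4 * h + 5) * (B * Y) - ν * (g ^ 2 * Y + 4 * h ^ 2 * B)), ?_⟩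
      ⟨B' * (h * (4 * h + 5) * (X * Y) - ν * (Y + 4 * h ^ 2 * X)), ?_⟩
    · rw [mul_left_comm, ← eB, ← mul_assoc (3 ^ i), ← eX]; linear_combination E1
    · rw [mul_left_comm, ← eX, ← mul_assoc (3 ^ l), ← eB]; linear_combination E1
  have p : (0 : ℤ) < 3 ^ i := by positivity
  obtain ⟨m, hm⟩ : (3 : ℤ) ^ i ∣ B' + g ^ 2 * X' := (cop3 (nmul n3 Y3) i).dvd_of_dvd_mul_left
    ⟨X' * B' * (h * (4 * h + 5) * Y - 4 * h ^ 2 * ν), mul_left_cancel₀ p.ne' (by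
      rw [eX, eB] at E1; linear_combination E1)⟩
  obtain ⟨i3, hi3⟩ : (3 : ℤ) ∣ 3 ^ i := (Int.prime_three.dvd_or_dvd (eX ▸ X3)).resolve_right X3'
  obtain ⟨C', hC'⟩ : ∃ C', C' = -X' - 2 * B' := ⟨_, rfl⟩
  have eC : C = 3 ^ i * C' := by rw [hC']; linear_combination s0 - eX - 2 * eB
  have g4 : 4 * g ^ 2 = (q + 1) ^ 2 := by rw [show q = -2 * g - 1 by omega]; ring
  have C3' : ¬ 3 ∣ C' := by
    have : 4 * B' + X' = 3 * (4 * i3 * m - q' * (q + 2) * X') := by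
      rw [hi3] at hm; linear_combination 4 * hm - X' * g4 - (q + 2) * X' * hq'
    omega
  have u3 : ¬ 3 ∣ C' * (B' + 2 * g ^ 2 * X') + q * (q * X' * B') := fun e =>
    nmul C3' (nmul gg X3') (by
      have := (e.sub ((Dvd.intro _ hq'.symm).mul_right (q * X' * B'))).sub ((Dvd.intro _ hi3.symm).mul_right (m * C'))
      rwa [show C' * (B' + 2 * g ^ 2 * X') + q * (q * X' * B') - q * (q * X' * B') - 3 ^ i * (m * C') =
        C' * (g ^ 2 * X') by linear_combination C' * hm] at this)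
  have e0 : q * (ν * (C' * (B' + 2 * g ^ 2 * X') + q * (q * X' * B'))) =
      3 ^ i * ((q - 1) ^ 2 * (q + 1) * (X' * B' * C')) := mul_left_cancel₀ (pow_ne_zero 2 p.ne') (by
    rw [eX, eB, eC] at E0; linear_combination E0)
  have ia : i = a := eq3 (nmul K3 (nmul (nmul X3' B3') C3')) (nmul n3 u3) ⟨_, by rw [← hq, e0]⟩ ⟨_, by rw [← hq, e0]⟩
  rw [ia, ← hq] at eX eB eC
  have X8' : X' % 8 = 3 := by
    have : X = 8 * (k * X') + 3 * X' := by rw [eX, hk]; ring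
    omega
  have C8' : C' % 8 = 1 := by
    have : C = 8 * (k * C') + 3 * C' := by rw [eC, hk]; ring
    omega
  have bX := third ν0 (by omega) (udvd X3' (hq ▸ (Dvd.intro_left _ eX.symm).trans dX)) (by omega) (by omega)
  have dC' : C' ∣ ν := udvd C3' (hq ▸ (Dvd.intro_left _ eC.symm).trans dC)
  obtain ⟨j', hj'⟩ : q ∣ j - 2 := (hq ▸ cop3 Y3 a : IsCoprime q Y).dvd_of_dvd_mul_left
    ⟨2 * (X' + B'), by rw [eX, eB] at s1; linear_combination -hj - 2 * s1⟩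
  have j2 : j' ≠ 0 := by
    rintro rfl
    have : j = 2 := by linarith
    rw [this] at hj
    have : h * ν = Y := by linarith
    have o : Odd (h * ν) := Int.odd_mul.2 ⟨Int.odd_iff.2 (by omega), Int.odd_iff.2 (by omega)⟩
    rw [this, Int.odd_iff] at o; omega
  have bj : q - 2 ≤ |j| := by
    rcases show 1 ≤ j' ∨ j' ≤ -1 by omega with e | e
    · exact le_abs.2 (.inl (by nlinarith))
    · exact le_abs.2 (.inr (by nlinarith))
  have bY : |Y| ≤ 2 * ν := by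
    have e := congrArg abs hj
    rw [hh, abs_mul, abs_mul, abs_of_pos ν0, abs_of_neg (show 1 - q < 0 by omega)] at e
    have b1 : |Y| * (q - 2) ≤ |Y| * |j| := mul_le_mul_of_nonneg_left bj (abs_nonneg Y)
    have b2 : 27 * ν ≤ q * ν := mul_le_mul_of_nonneg_right bg ν0.le
    exact le_of_mul_le_mul_right (a := q - 2) (by linarith) (by omega)
  have e5 : q * C' = q * X' + (q - 1) * ν + 2 * Y := by rw [eX, eB] at s1; rw [hC']; linear_combination -2 * s1 - ν * hh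
  have e6 : ν < 3 * C' := by
    have b1 : q * -ν ≤ q * (3 * X') := mul_le_mul_of_nonneg_left (by linarith [neg_abs_le X']) (by omega)
    have b2 : 27 * ν ≤ q * ν := mul_le_mul_of_nonneg_right bg ν0.le
    exact lt_of_mul_lt_mul_left (a := q) (by linarith [neg_abs_le Y]) (by omega)
  have := third ν0 (by omega) dC' (by omega) (by omega)
  have := le_abs_self C'
  omega

end

end Cfsg.Agent.WA.JW
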