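import Cfsg.Agent.WA.JB3

/-! Brauer's second main theorem for a block idempotent, `C(t) = ⟨t⟩ × L`; the blocks twisted by a linear
character of `L`. -/

set_option autoImplicit false
set_option linter.unusedSectionVars false
set_option linter.unusedVariables false

namespace Cfsg.Agent.WA.JW

open Cfsg Subgroup Cfsg.Agent.GT Cfsg.Agent.Char Cfsg.Agent.BS Cfsg.Agent.WA.JB IsLocalRing
open scoped ComplexConjugate Classical

universe u

variable {G : Type u} [Group G] [Fintype G]

noncomputable def kS (B : Finset (G → ℂ)) (g : G) : ℂ := (Nat.card G : ℂ)⁻¹ * ∑ χ ∈ B, χ 1 * χ g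

section
variable {B : Finset (G → ℂ)} (hB : ∀ χ ∈ B, IsIrrCharacter G χ)
include hB

theorem kS_class : IsClassFunction G (kS B) := by
  intro g h
  unfold kS
  congr 1
  exact Finset.sum_congr rfl fun χ hχ => by rw [(hB χ hχ).isClassFunction g h]

theorem kS_irr {χ : G → ℂ} (hχ : χ ∈ B) (h : G) : ∑ c, kS B c * χ (c⁻¹ * h) = χ h := by
  have h1 := (hB χ hχ).apply_one_ne_zero
  have h0 := card_ne_zero_complex G
  apply mul_left_cancel₀ h1
  calc χ 1 * ∑ c, kS B c * χ (c⁻¹ * h)
      = (Nat.card G : ℂ)⁻¹ * ∑ ψ ∈ B, ψ 1 * (χ 1 * ∑ c, ψ c * χ (c⁻¹ * h)) := by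
        simp only [kS, Finset.mul_sum, Finset.sum_mul]
        rw [Finset.sum_comm]
        exact Finset.sum_congr rfl fun _ _ => Finset.sum_congr rfl fun _ _ => by ring
    _ = (Nat.card G : ℂ)⁻¹ * ∑ ψ ∈ B, if ψ = χ then χ 1 * (Nat.card G * χ h) else 0 := by
        congr 1
        refine Finset.sum_congr rfl fun ψ hψ => ?_
        rw [conv_irr (hB χ hχ) (hB ψ hψ), (hB ψ hψ).ci_eq_ite (hB χ hχ)]
        split_ifs with e
        · rw [e]; ring
        · ring
    _ = χ 1 * χ h := by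
        rw [Finset.sum_ite_eq', if_pos hχ]; field_simp

theorem kS_kS : cv (kS B) (kS B) = kS B := by
  funext h
  calc ∑ c, kS B c * kS B (c⁻¹ * h)
      = (Nat.card G : ℂ)⁻¹ * ∑ χ ∈ B, χ 1 * ∑ c, kS B c * χ (c⁻¹ * h) := by
        conv_lhs => enter [2, c]; rw [kS.eq_1 B (c⁻¹ * h)]
        simp only [Finset.mul_sum]
        rw [Finset.sum_comm]
        exact Finset.sum_congr rfl fun _ _ => Finset.sum_congr rfl fun _ _ => by ring
    _ = kS B h := by
        conv_rhs => rw [kS]
        congr 1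
        exact Finset.sum_congr rfl fun χ hχ => by rw [kS_irr hB hχ]

theorem kS_conj (u y : G) : ∑ a, kS B (u * a * y * a⁻¹) = ∑ χ ∈ B, χ u * χ y := by
  have h0 := card_ne_zero_complex G
  simp only [kS, Finset.mul_sum]
  rw [Finset.sum_comm]
  refine Finset.sum_congr rfl fun χ hχ => ?_
  have e := (hB χ hχ).sum_conj_mul y u
  have e1 : ∀ a : G, χ (u * a * y * a⁻¹) = χ (a * y * a⁻¹ * u) := by
    intro a
    rw [← (hB χ hχ).isClassFunction.mul_comm u]; congr 1; group
  simp only [e1, ← Finset.mul_sum]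
  rw [e]; field_simp

theorem kS_orth (m : ∀ g, kS B g ∈ V2) {x y : G} (h : ¬ IsConj (constt {2} x) (constt {2} y)) :
    ∑ χ ∈ B, χ x⁻¹ * χ y = 0 := by
  have key := sum_conj_eq_zero (R := V2) V2_two_ne V2_residue_two x y (fun _ => False)
    (fun _ => Iff.rfl) ?_ (fun g => ⟨kS B g, m g⟩) ?_ ?_ (fun _ _ h => h.elim)
  · rw [← kS_conj hB]
    have := congrArg (fun z : V2 => (z : ℂ)) key
    simpa using this
  · intro a _ j hj e
    refine h (isConj_constt_of_pow hj (isConj_iff.2 ⟨a⁻¹, ?_⟩))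
    rw [inv_inv, mul_assoc, inv_mul_eq_iff_eq_mul]
    exact mul_inv_eq_iff_eq_mul.1 e
  · intro g
    apply Subtype.ext
    simpa [cv] using congrFun (kS_kS hB) g
  · intro g
    exact Subtype.ext (kS_class hB g x)

theorem kS_zero (c : (G → ℂ) → ℂ) (h : ∀ y, ∑ χ ∈ B, c χ * χ y = 0) {χ : G → ℂ} (hχ : χ ∈ B) : c χ = 0 := by
  have e : ∑ ψ ∈ B, c ψ • ψ = 0 := by
    ext y; simpa [Finset.sum_apply] using h y
  have := ci_sum_smul_orthonormal B id (fun a ha b hb => (hB a ha).ci_eq_ite (hB b hb)) c hχ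
  simp only [id] at this
  rw [← this, e, ci_zero_left]

theorem sectG {t : G} {L : Subgroup G} [Fintype L] (h : Ct t L) (km : ∀ g, kS B g ∈ V2) {φ : L → ℂ}
    (φc : IsClassFunction L φ) (φm : ∀ l, φ l ∈ V2) (φφ : cv φ φ = φ)
    (br : ∀ c, Commute c t → ∃ r ∈ V2, kS B c = extendByZero L φ c + 2 * r) {χ : G → ℂ} (hχ : χ ∈ B) {w : G}
    (hw : w ∈ L) (o : Odd (orderOf w)) : χ (t * w) = cv (extendByZero L φ) χ (t * w) := by
  have ee : cv (extendByZero L φ) (extendByZero L φ) = extendByZero L φ := by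
    ext g
    rw [Ct.cv_ext]
    by_cases m : g ∈ L
    · rw [extendByZero_of_mem _ _ m, ← congrFun φφ ⟨g, m⟩, cv]
      exact Finset.sum_congr rfl fun l _ => by
        rw [extendByZero_of_mem _ _ (L.mul_mem (L.inv_mem l.2) m)]; rfl
    · rw [extendByZero_of_not_mem _ _ m, Finset.sum_eq_zero]
      intro l _
      rw [extendByZero_of_not_mem _ _ fun e => m ((L.mul_mem_cancel_left (L.inv_mem l.2)).1 e), mul_zero]
  have ec : ∀ {x : G}, Commute x t → ∀ g, extendByZero L φ (x * g * x⁻¹) = extendByZero L φ g := by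
    intro x hx g
    by_cases m : g ∈ L
    · obtain ⟨k, hk, e⟩ := h.cjL hx
      rw [e g m, extendByZero_of_mem _ _ m,
        extendByZero_of_mem _ _ (L.mul_mem (L.mul_mem hk m) (L.inv_mem hk))]
      exact φc ⟨g, m⟩ ⟨k, hk⟩
    · rw [extendByZero_of_not_mem _ _ m, extendByZero_of_not_mem]
      intro m'
      obtain ⟨k, hk, e⟩ := h.cjL hx.inv_left
      have := e _ m'
      rw [show x⁻¹ * (x * g * x⁻¹) * x⁻¹⁻¹ = g by group] at this
      exact m (this ▸ L.mul_mem (L.mul_mem hk m') (L.inv_mem hk))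
  have kc : ∀ a : G → ℂ, cv (kS B) a = cv a (kS B) := fun a => funext fun g => conv_comm_class (kS_class hB) a g
  have kk := kS_kS hB
  set e : G → ℂ := extendByZero L φ with he
  have em : ∀ g, e g ∈ V2 := fun g => by
    by_cases m : g ∈ L
    · rw [he, extendByZero_of_mem _ _ m]; exact φm _
    · rw [he, extendByZero_of_not_mem _ _ m]; exact zero_mem _
  have hmem : ∀ g, (kS B - cv e (kS B) : G → ℂ) g ∈ V2 := fun g =>
    sub_mem (km g) (sum_mem fun c _ => mul_mem (em c) (km _))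
  have ct : ∀ {w}, w ∈ L → Commute (t * w) t := fun hw => (Commute.refl t).mul_left (h.le _ hw)
  have step1 : ∀ w ∈ L, ∀ w' ∈ L, Odd (orderOf w) → Odd (orderOf w') →
      ∑ a, (kS B - cv e (kS B) : G → ℂ) ((t * w)⁻¹ * a * (t * w') * a⁻¹) = 0 := by
    intro w hw w' hw' hwo hwo'
    have key := sum_conj_eq_zero (R := V2) V2_two_ne V2_residue_two (t * w) (t * w')
      (fun a => Commute a t) ?_ ?_ (fun g => ⟨(kS B - cv e (kS B) : G → ℂ) g, hmem g⟩) ?_ ?_ ?_
    · have := congrArg (fun z : V2 => (z : ℂ)) key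
      simpa using this
    · intro a
      refine ⟨fun k => ?_, fun k => ((ct hw).mul_left k).mul_left (ct hw').inv_left⟩
      have := ((ct hw).inv_left.mul_left k).mul_left (ct hw')
      simpa [mul_assoc] using this
    · intro a ha j hj e
      apply ha
      have e1 : a⁻¹ * (t * w) ^ j * a⁻¹⁻¹ = (t * w') ^ j := by
        rw [inv_inv, mul_assoc, inv_mul_eq_iff_eq_mul]
        exact mul_inv_eq_iff_eq_mul.1 e
      have e2 := congrArg (constt {2}) e1
      rw [constt_conj, constt_pow, constt_pow, constt_two_mul' h.pi (h.le _ hw) hwo,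
        constt_two_mul' h.pi (h.le _ hw') hwo', inv_inv, mul_assoc, inv_mul_eq_iff_eq_mul] at e2
      exact (commute_of_mem_zpowers_left (mem_zpowers_pow_odd h.pi hj) e2).symm
    · intro g
      apply Subtype.ext
      have : cv (kS B - cv e (kS B)) (kS B - cv e (kS B)) = kS B - cv e (kS B) := by
        rw [cv_sub_left, cv_sub_right, cv_sub_right, kk, kc (cv e (kS B)), cv_assoc e (kS B) (kS B), kk,
          cv_assoc, ← cv_assoc (kS B), kc e, cv_assoc e (kS B) (kS B), kk, ← cv_assoc, ee]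
        abel
      simpa [cv] using congrFun this g
    · intro g
      apply Subtype.ext
      change kS B _ - cv e (kS B) _ = kS B g - cv e (kS B) g
      rw [kS_class hB g]
      congr 1
      refine (Fintype.sum_equiv (MulAut.conj (t * w)).toEquiv _ _ fun c => ?_).symm
      simp only [MulEquiv.toEquiv_eq_coe, EquivLike.coe_coe, MulAut.conj_apply]
      rw [ec (ct hw), ← kS_class hB (c⁻¹ * g) (t * w)]
      congr 2; group
    · intro a b ha hb
      have hc : Commute (a * b⁻¹) t := ha.mul_left hb.inv_left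
      generalize a * b⁻¹ = c at hc
      choose! r hr hr' using br
      have cl : ∀ l : L, Commute ((l : G)⁻¹ * c) t := fun l => (h.le _ l.2).inv_left.mul_left hc
      refine residue_eq_zero_of_two_mul (r := r c - ∑ l : L, φ l * r ((l : G)⁻¹ * c))
        (sub_mem (hr c hc) (sum_mem fun l _ => mul_mem (φm _) (hr _ (cl l)))) ?_
      change kS B c - cv e (kS B) c = _
      have e1 := congrFun ee c
      rw [he, Ct.cv_ext] at e1
      rw [he, Ct.cv_ext, hr' c hc, Finset.sum_congr rfl fun l _ => by rw [hr' _ (cl l), mul_add],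
        Finset.sum_add_distrib, he, e1, mul_sub, Finset.mul_sum]
      rw [Finset.sum_congr rfl (g := fun l : L => 2 * (φ l * r ((l : G)⁻¹ * c))) fun l _ => by ring]
      ring
  have step2 : ∀ u y : G, ∑ a, (kS B - cv e (kS B) : G → ℂ) (u * a * y * a⁻¹) =
      ∑ θ ∈ B, (θ u - cv e θ u) * θ y := by
    intro u y
    simp only [Pi.sub_apply, Finset.sum_sub_distrib, sub_mul, kS_conj hB, cv]
    congr 1
    rw [Finset.sum_comm]
    simp only [Finset.sum_mul]
    rw [Finset.sum_comm (s := B)]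
    refine Finset.sum_congr rfl fun c _ => ?_
    simp only [← Finset.mul_sum, mul_assoc (e c)]
    rw [← kS_conj hB]
    simp only [mul_assoc]
  rw [← sub_eq_zero]
  refine kS_zero hB (fun θ => θ (t * w) - cv e θ (t * w)) (fun y => ?_) hχ
  by_cases hy : Odd (orderOf y)
  · have aux : ∀ l ∈ L, ∑ θ ∈ B, θ (t * l) * θ y = 0 := fun l hl => by
      have := kS_orth hB km (x := (t * l)⁻¹) (y := y) fun k => h.even hl (by
        have e1 : constt {2} y = 1 := by
          simpa using constt_two_mul' (t := 1) (w := y)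
            ((piNat_single_iff Nat.prime_two (orderOf_pos _).ne').2 ⟨0, by simp⟩) (by simp) hy
        rw [e1, isConj_one_left] at k
        have := constt_mul_constt_compl {2} (t * l)⁻¹
        rw [k, one_mul] at this
        rw [← orderOf_inv, ← this]; exact piNat_two_compl.1 (piNat_constt _ _))
      rwa [inv_inv] at this
    simp only [sub_mul, Finset.sum_sub_distrib, he, Ct.cv_ext, Finset.sum_mul]
    rw [aux w hw, Finset.sum_comm, Finset.sum_eq_zero, sub_zero]
    intro l _
    simp only [mul_assoc (φ l), ← Finset.mul_sum]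
    rw [← mul_assoc, (h.le _ l.2).inv_left.eq, mul_assoc, aux _ (L.mul_mem (L.inv_mem l.2) hw), mul_zero]
  · obtain ⟨c, l, hl, ol, rfl⟩ := h.sec hy
    have := step1 w⁻¹ (L.inv_mem hw) l hl (by simpa using o) ol
    rw [step2, mul_inv_rev, inv_inv, h.ti, (h.le w hw).eq] at this
    rw [← this]
    exact Finset.sum_congr rfl fun θ hθ => by rw [(hB θ hθ).isClassFunction]

end

/-- powers of a central element -/
noncomputable def pw (f : G → ℂ) : ℕ → G → ℂ
  | 0, h => if h = 1 then 1 else 0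
  | N + 1, h => ∑ g : G, f g * pw f N (g * h)

noncomputable def omf (f χ : G → ℂ) : ℂ := (∑ g, f g * χ g) / χ 1

noncomputable def Bf (f : G → ℂ) : Finset (G → ℂ) := (Irr G).filter fun χ => ∃ n : ℤ, Odd n ∧ omf f χ = n

variable {f : G → ℂ}

theorem Bf_irr : ∀ χ ∈ Bf f, IsIrrCharacter G χ := fun χ h => mem_Irr.1 (Finset.mem_filter.1 h).1

theorem pw_mem (fm : ∀ g, f g ∈ V2) (N : ℕ) : ∀ h, pw f N h ∈ V2 := by
  induction N with
  | zero => intro h; unfold pw; split_ifs; exacts [one_mem _, zero_mem _]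
  | succ N ih => exact fun h => sum_mem fun g _ => mul_mem (fm g) (ih _)

theorem pw_eq (fc : IsClassFunction G f) (N : ℕ) (h : G) :
    pw f N h = (Nat.card G : ℂ)⁻¹ * ∑ χ ∈ Irr G, χ 1 * omf f χ ^ N * χ h := by
  induction N generalizing h with
  | zero =>
    simp only [pw, pow_zero, mul_one]
    rw [sum_irr_degree_mul]
    have := card_ne_zero_complex G
    split_ifs <;> simp [this]
  | succ N ih =>
    simp only [pw, ih, Finset.mul_sum]
    rw [Finset.sum_comm]
    refine Finset.sum_congr rfl fun χ hχ => ?_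
    have e : ∑ g, f g * χ (g * h) = omf f χ * χ h := by
      have := (mem_Irr.1 hχ).sum_class_mul fc h
      have h1 := (mem_Irr.1 hχ).apply_one_ne_zero
      unfold omf
      field_simp
      linear_combination this
    calc ∑ g : G, f g * ((Nat.card G : ℂ)⁻¹ * (χ 1 * omf f χ ^ N * χ (g * h)))
        = (Nat.card G : ℂ)⁻¹ * (χ 1 * omf f χ ^ N) * ∑ g : G, f g * χ (g * h) := by
          rw [Finset.mul_sum]; exact Finset.sum_congr rfl fun g _ => by ring
      _ = _ := by rw [e]; ring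

theorem pw_class (fc : IsClassFunction G f) (N : ℕ) : IsClassFunction G (pw f N) := fun g h => by
  rw [pw_eq fc, pw_eq fc]
  congr 1
  exact Finset.sum_congr rfl fun χ hχ => by rw [(mem_Irr.1 hχ).isClassFunction g h]

theorem kS_pw (fc : IsClassFunction G f) (hi : ∀ χ, IsIrrCharacter G χ → ∃ n : ℤ, omf f χ = n) {a m : ℕ}
    (hm : Odd m) (ha : Nat.card G ∣ 2 ^ a * m) (h : G) : ∃ r ∈ V2, kS (Bf f) h = pw f (2 ^ (a + 1)) h + 2 * r := by
  obtain ⟨d, hd⟩ := ha
  have hc : ∀ χ : G → ℂ, χ ∈ Irr G → ∃ c : ℤ,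
      (if χ ∈ Bf f then (1 : ℂ) else 0) - omf f χ ^ 2 ^ (a + 1) = 2 ^ (a + 1) * c := by
    intro χ hχ
    obtain ⟨n, hn⟩ := hi χ (mem_Irr.1 hχ)
    rcases Int.even_or_odd n with he | ho
    · have : χ ∉ Bf f := by
        intro hB
        obtain ⟨n', h1, h2⟩ := (Finset.mem_filter.1 hB).2
        have : n' = n := by exact_mod_cast h2.symm.trans hn
        exact Int.not_odd_iff_even.2 he (this ▸ h1)
      obtain ⟨k, rfl⟩ := he
      obtain ⟨d, hd⟩ := Nat.exists_eq_add_of_le (Nat.lt_two_pow_self (n := a + 1)).le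
      refine ⟨-(2 ^ d * k ^ 2 ^ (a + 1)), ?_⟩
      rw [if_neg this, hn, ← two_mul]
      push_cast
      rw [mul_pow]
      nth_rewrite 1 [hd]
      rw [pow_add]; ring
    · have hB : χ ∈ Bf f := Finset.mem_filter.2 ⟨hχ, n, ho, hn⟩
      have hcop : IsCoprime n ((2 ^ (a + 2) : ℕ) : ℤ) := by
        push_cast
        exact IsCoprime.pow_right (Int.isCoprime_two_right.2 ho)
      obtain ⟨c, hc⟩ := int_pow_totient hcop
      rw [Nat.totient_prime_pow Nat.prime_two (by omega)] at hc
      refine ⟨2 * c, ?_⟩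
      rw [if_pos hB, hn]
      have := congrArg (fun z : ℤ => (z : ℂ)) hc
      simp only [Nat.add_one_sub_one, mul_one] at this
      push_cast at this ⊢
      rw [this]; ring
  choose! c hc using hc
  refine ⟨(m : ℂ)⁻¹ * (d * ∑ χ ∈ Irr G, χ 1 * c χ * χ h), ?_, ?_⟩
  · refine V2.mul_mem _ _ (inv_odd_mem_V2 hm) (mem_V2 ((Char.isIntegral_natCast _).mul
      (IsIntegral.sum _ fun χ hχ => ?_)))
    have := (mem_Irr.1 hχ).isCharacter
    exact ((this.isIntegral 1).mul (Char.isIntegral_intCast _)).mul (this.isIntegral h)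
  · have e1 : kS (Bf f) h = (Nat.card G : ℂ)⁻¹ *
        ∑ χ ∈ Irr G, χ 1 * (if χ ∈ Bf f then (1 : ℂ) else 0) * χ h := by
      unfold kS
      congr 1
      have : Bf f = (Irr G).filter (· ∈ Bf f) := by
        ext χ; simp only [Finset.mem_filter (p := (· ∈ Bf f))]
        exact ⟨fun h => ⟨mem_Irr.2 (Bf_irr χ h), h⟩, fun h => h.2⟩
      nth_rewrite 1 [this]
      rw [Finset.sum_filter]
      exact Finset.sum_congr rfl fun χ _ => by split_ifs <;> simp
    have hm0 : (m : ℂ) ≠ 0 := by exact_mod_cast hm.pos.ne'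
    have h0 := card_ne_zero_complex G
    have hd' : (2 : ℂ) ^ a * m = Nat.card G * d := by exact_mod_cast hd
    have e2 : (2 : ℂ) * ((m : ℂ)⁻¹ * (d * ∑ χ ∈ Irr G, χ 1 * c χ * χ h)) =
        (Nat.card G : ℂ)⁻¹ * ∑ χ ∈ Irr G, χ 1 * (2 ^ (a + 1) * c χ) * χ h := by
      simp only [Finset.mul_sum]
      refine Finset.sum_congr rfl fun χ _ => ?_
      field_simp
      rw [pow_succ]
      linear_combination (-(2 * χ 1 * c χ * χ h)) * hd'
    rw [e1, e2, pw_eq fc, ← mul_add, ← Finset.sum_add_distrib]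
    congr 1
    refine Finset.sum_congr rfl fun χ hχ => ?_
    rw [← hc χ hχ]; ring

theorem S_odd (N : ℕ) : Odd (∑ l : G, nPow N l) := by
  induction N with
  | zero => simp [nPow]
  | succ N ih =>
    simp only [nPow]
    rw [Finset.sum_comm, Finset.sum_congr rfl (g := fun g => if Odd (orderOf g) then ∑ l : G, nPow N l else 0)
      fun g _ => by
        split_ifs
        · exact Equiv.sum_comp (Equiv.mulLeft g) (nPow N)
        · simp, ← Finset.sum_filter, Finset.sum_const, nsmul_eq_mul]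
    exact ((Int.odd_coe_nat _).2 odd_card_odd).mul ih

variable {t : G} {L : Subgroup G} [Fintype L] (h : Ct t L) (lam : L →* ℂˣ)

theorem lam_mem (l : L) : (lam l : ℂ) ∈ V2 :=
  mem_V2 ((isIrrCharacter_hom ((Units.coeHom ℂ).comp lam)).isCharacter.isIntegral l)

theorem odd_fT (p : ℤˣ × L) : Odd (orderOf (h.fT p)) ↔ p.1 = 1 ∧ Odd (orderOf p.2) := by
  obtain ⟨a, l⟩ := p
  rcases Int.units_eq_one_or a with rfl | rfl
  · simp [h.fT_one]
  · rw [h.fT_neg]; exact ⟨fun o => (h.even l.2 o).elim, fun o => absurd o.1 (show ¬ (-1 : ℤˣ) = 1 by decide)⟩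

theorem pw_H (fc : IsClassFunction G f) (fm : ∀ g, f g ∈ V2)
    (fH : ∀ p, f (h.fT p) = if Odd (orderOf (h.fT p)) then 0 else (lam p.2 : ℂ)⁻¹) (N : ℕ) :
    ∀ p, ∃ r ∈ V2, pw f N (h.fT p) = lam p.2 * (((if p.1 = 1 then nPow N p.2 else 0) + N : ℤ) : ℂ) + 2 * r := by
  induction N with
  | zero =>
    intro p
    refine ⟨0, zero_mem _, ?_⟩
    by_cases e : p = 1
    · simp [e, pw, nPow]
    · rw [pw, if_neg fun k => e (h.fT_inj (k.trans (map_one _).symm))]
      by_cases e1 : p.1 = 1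
      · simp [e1, nPow, show p.2 ≠ 1 from fun k => e (Prod.ext e1 k)]
      · simp [e1]
  | succ N ih =>
    intro p
    choose r hr hr' using ih
    have ct : Commute (h.fT p) t := h.fT_range.1 ⟨p, rfl⟩
    obtain ⟨T, -, hT⟩ := sum_invol Finset.univ (fun g => t * g * t⁻¹) (by simp) (fun a _ => by
      rw [show t * (t * a * t⁻¹) * t⁻¹ = (t * t) * a * (t * t)⁻¹ by group, h.tt]; simp)
      (fun g => f g * pw f N (g * h.fT p)) fun a _ => by
        rw [fc a t, ← pw_class fc N (a * h.fT p) t, mul_assoc t (a * _), mul_assoc a, ct.inv_right.eq, mul_assoc t a,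
          mul_assoc t, mul_assoc a]
    have e1 : Finset.univ.filter (fun a => t * a * t⁻¹ = a) = Finset.univ.map ⟨h.fT, h.fT_inj⟩ := by
      ext c
      simp only [Finset.mem_filter, Finset.mem_univ, true_and, Finset.mem_map, Function.Embedding.coeFn_mk]
      rw [← TT.commute_iff_conj, Commute.symm_iff, ← h.fT_range]; rfl
    let E : ℕ → ℤˣ × L → ℤ := fun N p => if p.1 = 1 then nPow N p.2 else 0
    have sp : ∀ F : ℤˣ × L → ℤ, ∑ p, F p = ∑ l, F (1, l) + ∑ l, F (-1, l) := fun F => by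
      rw [Fintype.sum_prod_type, UnitsInt.univ, Finset.sum_pair (by decide)]
    obtain ⟨k, hk⟩ : ∃ k : ℤ, ∑ q, (if Odd (orderOf (h.fT q)) then 0 else E N (q * p) + N) =
        E (N + 1) p + (N + 1 : ℕ) + 2 * k := by
      have a1 : ∑ q, E N (q * p) = ∑ l : L, nPow N l := by
        refine (Equiv.sum_comp (Equiv.mulRight p) (E N)).trans ?_
        rw [sp]; simp [E]
      have a2 : ∑ q, (if Odd (orderOf (h.fT q)) then E N (q * p) + N else 0) =
          E (N + 1) p + (Finset.univ.filter fun g : L => Odd (orderOf g)).card * N := by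
        rw [sp]
        simp only [odd_fT, true_and, show ¬ (-1 : ℤˣ) = 1 by decide, false_and, if_false, Finset.sum_const_zero,
          add_zero]
        rw [← nsmul_eq_mul, ← Finset.sum_const, Finset.sum_filter]
        by_cases e : p.1 = 1
        · simp only [E, Prod.fst_mul, Prod.snd_mul, one_mul, if_pos e, nPow, ← Finset.sum_add_distrib]
          exact Finset.sum_congr rfl fun l _ => by split_ifs <;> simp
        · simp [E, e]
      obtain ⟨s, hs⟩ := S_odd (G := L) N
      obtain ⟨o, ho⟩ := odd_card_odd (G := L)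
      have a3 : ∑ q, (if Odd (orderOf (h.fT q)) then 0 else E N (q * p) + N) =
          ∑ q, (E N (q * p) + N) - ∑ q, (if Odd (orderOf (h.fT q)) then E N (q * p) + N else 0) := by
        rw [← Finset.sum_sub_distrib]
        exact Finset.sum_congr rfl fun q _ => by split_ifs <;> simp
      refine ⟨s + Fintype.card L * N - E (N + 1) p - (o + 1) * N, ?_⟩
      rw [a3, a2, Finset.sum_add_distrib, a1, hs, ho, sp]
      simp; ring
    refine ⟨∑ g ∈ T, f g * pw f N (g * h.fT p) + lam p.2 * k + ∑ q, f (h.fT q) * r (q * p), add_mem (add_mem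
      (sum_mem fun g _ => mul_mem (fm g) (pw_mem fm N _)) (mul_mem (lam_mem lam _)
        (mem_V2 (Char.isIntegral_intCast _)))) (sum_mem fun q _ => mul_mem (fm _) (hr _)), ?_⟩
    have e2 : ∑ q, f (h.fT q) * pw f N (h.fT q * h.fT p) = lam p.2 *
        ((∑ q, (if Odd (orderOf (h.fT q)) then 0 else E N (q * p) + N) : ℤ) : ℂ) +
          2 * ∑ q, f (h.fT q) * r (q * p) := by
      rw [Int.cast_sum, Finset.mul_sum, Finset.mul_sum, ← Finset.sum_add_distrib]
      refine Finset.sum_congr rfl fun q _ => ?_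
      rw [← map_mul, hr', mul_add, mul_left_comm _ 2]
      congr 1
      rw [fH]
      by_cases o : Odd (orderOf (h.fT q))
      · simp [o]
      · rw [if_neg o, if_neg o, Prod.snd_mul, map_mul, Units.val_mul, mul_assoc,
          inv_mul_cancel_left₀ (lam q.2).ne_zero]; rfl
    rw [pw, hT, e1, Finset.sum_map]
    simp only [Function.Embedding.coeFn_mk]
    rw [e2, hk, two_smul]
    simp only [E]
    push_cast; ring

theorem tw_sect (fc : IsClassFunction G f) (fm : ∀ g, f g ∈ V2)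
    (fH : ∀ p, f (h.fT p) = if Odd (orderOf (h.fT p)) then 0 else (lam p.2 : ℂ)⁻¹)
    (hi : ∀ χ, IsIrrCharacter G χ → ∃ n : ℤ, omf f χ = n) {χ : G → ℂ} (hχ : IsIrrCharacter G χ) :
    (∀ w : L, Odd (orderOf w) → χ (t * w) =
      lam w * ∑ ψ ∈ B0 L, ⟪fun l : L => (lam l : ℂ)⁻¹ * χ (t * l), ψ⟫ * ψ w) ∨
    ∀ w : L, Odd (orderOf w) → ∑ ψ ∈ B0 L, ⟪fun l : L => (lam l : ℂ)⁻¹ * χ (t * l), ψ⟫ * ψ w = 0 := by
  obtain ⟨a, m, hm, ha⟩ := Nat.exists_eq_two_pow_mul_odd (Nat.card_pos (α := G)).ne'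
  let φ : L → ℂ := fun l => lam l * kB l
  have lc : ∀ a b : L, lam (b * a * b⁻¹) = lam a := fun a b => by simp [mul_inv_cancel_comm]
  have φc : IsClassFunction L φ := fun a b => by simp only [φ, lc, kB_class a b]
  have φm : ∀ l, φ l ∈ V2 := fun l => mul_mem (lam_mem lam l) (kB_mem l)
  have φφ : cv φ φ = φ := funext fun g => by
    simp only [cv, φ]
    rw [← conv_kB_kB g, Finset.mul_sum]
    refine Finset.sum_congr rfl fun c _ => ?_
    rw [map_mul, map_inv, Units.val_mul, Units.val_inv_eq_inv_val]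
    field_simp
  have km : ∀ g, kS (Bf f) g ∈ V2 := fun g => by
    obtain ⟨r, hr, e⟩ := kS_pw fc hi hm ha.dvd g
    rw [e]
    exact add_mem (pw_mem fm _ _) (mul_mem (mem_V2 (Char.isIntegral_natCast 2)) hr)
  have br : ∀ c, Commute c t → ∃ r ∈ V2, kS (Bf f) c = extendByZero L φ c + 2 * r := fun c hc => by
    obtain ⟨p, rfl⟩ := h.fT_range.2 hc
    obtain ⟨r, hr, e⟩ := kS_pw fc hi hm ha.dvd (h.fT p)
    obtain ⟨r', hr', e'⟩ := pw_H h lam fc fm fH (2 ^ (a + 1)) p
    have m2 : (lam p.2 : ℂ) * 2 ^ a ∈ V2 := mul_mem (lam_mem lam _) (pow_mem (mem_V2 (Char.isIntegral_natCast 2)) _)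
    obtain ⟨ε, l⟩ := p
    rcases Int.units_eq_one_or ε with rfl | rfl
    · obtain ⟨s, hs, e''⟩ := kB_nPow (G := L) hm (L.card_subgroup_dvd_card.trans ha.dvd) l
      refine ⟨r + r' + lam l * 2 ^ a - lam l * s, sub_mem (add_mem (add_mem hr hr') m2) (mul_mem (lam_mem lam _) hs), ?_⟩
      rw [e, e', h.fT_one, extendByZero_coe]
      simp only [φ, e'', if_true]
      push_cast; ring
    · refine ⟨r + r' + lam l * 2 ^ a, add_mem (add_mem hr hr') m2, ?_⟩
      rw [e, e', h.fT_neg, extendByZero_of_not_mem _ _ fun k => h.tL ((L.mul_mem_cancel_right l.2).1 k),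
        if_neg (show ¬ (-1 : ℤˣ) = 1 by decide)]
      push_cast; ring
  have key : ∀ w : L, cv (extendByZero L φ) χ (t * w) =
      lam w * ∑ ψ ∈ B0 L, ⟪fun l : L => (lam l : ℂ)⁻¹ * χ (t * l), ψ⟫ * ψ w := fun w => by
    rw [Ct.cv_ext, ← cv_proj (F := fun l : L => (lam l : ℂ)⁻¹ * χ (t * l)) (fun a b => by
      have := h.cl hχ.isClassFunction a b
      beta_reduce at this ⊢
      rw [this, lc]), cv, Finset.mul_sum]
    refine Finset.sum_congr rfl fun l _ => ?_
    rw [← mul_assoc (l : G)⁻¹, (h.le _ l.2).inv_left.eq, mul_assoc t]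
    simp only [φ, map_mul, map_inv, Units.val_mul, Units.val_inv_eq_inv_val, coe_mul, coe_inv]
    field_simp
  by_cases b : χ ∈ Bf f
  · exact .inl fun w o => (sectG Bf_irr h km φc φm φφ br b w.2 (by rwa [orderOf_coe])).trans (key w)
  refine .inr fun w o => ?_
  let δ : ∀ (X : Type u) [Group X], X → ℂ := fun X _ g => if g = 1 then 1 else 0
  have δm : ∀ (X : Type u) [Group X] (g : X), δ X g ∈ V2 := fun X _ g => by
    simp only [δ]; split_ifs; exacts [one_mem _, zero_mem _]
  have δ1 : ∀ F : L → ℂ, cv (δ L) F = F := fun F => funext fun g => by simp [cv, δ]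
  have δ2 : ∀ F : L → ℂ, cv F (δ L) = F := fun F => funext fun g => by simp [cv, δ, inv_mul_eq_one]
  have hB : ∀ χ ∈ Irr G \ Bf f, IsIrrCharacter G χ := fun χ e => mem_Irr.1 (Finset.mem_sdiff.1 e).1
  have ks : ∀ g, kS (Irr G \ Bf f) g = δ G g - kS (Bf f) g := fun g => by
    have := card_ne_zero_complex G
    rw [kS, kS, Finset.sum_sdiff_eq_sub (show Bf f ⊆ Irr G from fun χ e => mem_Irr.2 (Bf_irr χ e)), sum_irr_degree_mul, mul_sub]
    simp only [δ]
    split_ifs <;> simp [this]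
  have ex : ∀ c, extendByZero L (δ L - φ) c = δ G c - extendByZero L φ c := fun c => by
    by_cases m : c ∈ L
    · rw [extendByZero_of_mem _ _ m, extendByZero_of_mem _ _ m, Pi.sub_apply]
      congr 1
      by_cases e : c = 1 <;> simp [δ, e]
    · simp [extendByZero_of_not_mem _ _ m, δ, show c ≠ 1 from fun e => m (e ▸ L.one_mem)]
  have := sectG hB h (fun g => ks g ▸ sub_mem (δm G g) (km g)) (φ := δ L - φ)
    (fun a b => by
      rw [Pi.sub_apply, Pi.sub_apply, φc a b]
      congr 1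
      by_cases e : a = 1 <;> simp [δ, e, conj_eq_one_iff]) (fun l => sub_mem (δm L l) (φm l))
    (by rw [cv_sub_left, cv_sub_right, cv_sub_right, δ1, δ1, δ2, φφ]; abel)
    (fun c hc => by
      obtain ⟨r, hr, e⟩ := br c hc
      exact ⟨-r, neg_mem hr, by rw [ks, ex, e]; ring⟩)
    (Finset.mem_sdiff.2 ⟨mem_Irr.2 hχ, b⟩) w.2 (by rwa [orderOf_coe])
  rw [show extendByZero L (δ L - φ) = δ G - extendByZero L φ from funext ex, cv_sub_left, Pi.sub_apply, key,
    show cv (δ G) χ (t * w) = χ (t * w) by simp [cv, δ]] at this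
  exact (mul_eq_zero.1 (by linear_combination this)).resolve_left (lam w).ne_zero

end Cfsg.Agent.WA.JW
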