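import Cfsg.Agent.WA.JG3
import Cfsg.Agent.WA.JW0

/-! The analysis of a twisted block. -/

set_option autoImplicit false
set_option linter.unusedSectionVars false
set_option linter.unusedVariables false

namespace Cfsg.Agent.WA.JW

open Cfsg Subgroup Cfsg.Agent.GT Cfsg.Agent.Char Cfsg.Agent.BS Cfsg.Agent.B84C Cfsg.Agent.B84H Cfsg.Agent.Cls
open scoped Classical ComplexConjugate
open JE (La idx0 dvd_val three0 sum_odd deg8' n4)

universe u

structure TW {G : Type u} [Group G] [Fintype G] (t : G) (Q : ℤ) (Θ : Fin 3 → G → ℂ) : Prop where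
  virt : ∀ i, IsGeneralizedCharacter G (Θ i)
  gram : ∀ i j, ⟪Θ i, Θ j⟫ = if i = j then 4 else 2
  one : ∀ i, ⟪Θ i, fun _ => 1⟫ = 0
  od : ∀ i y, Odd (orderOf y) → Θ i y = 0
  vt : ∀ i, Θ i t = 2 * (1 - xs Q i)
  cz : ∀ i, cZ t (Θ i) * xs Q i = C1[t].index * (Q * (Q + 1)) ^ 2 * (xs Q i - 1)
  sec : ∀ χ, IsIrrCharacter G χ → ∀ i, ⟪χ, Θ i⟫ ≠ 0 →
    ∃ c : Fin 3 → ℂ, ∀ y, ¬ Odd (orderOf y) → χ y = c 0 * Θ 0 y + c 1 * Θ 1 y + c 2 * Θ 2 y

structure XW {G : Type u} [Group G] [Fintype G] (t : G) (Q : ℤ) (Θ : Fin 3 → G → ℂ) (Ξ : Fin 4 → G → ℂ) : Prop where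
  virt : ∀ k, IsGeneralizedCharacter G (Ξ k)
  gram : ∀ k j, ⟪Ξ k, Ξ j⟫ = if k = 0 then (if j = 0 then 7 else 0) else if j = 0 then 0 else if k = j then 3 else 2
  th : ∀ k i, ⟪Ξ k, Θ i⟫ = if i = 0 then 0 else if k = 0 then 3 else -1
  v1 : ∀ k, Ξ k 1 = 0
  vt : ∀ k, Ξ k t = 0
  cz : ∀ k, cZ t (Ξ k) = if k = 0 then (C1[t].index * (Q * (Q - 1) ^ 2 * (Q + 1)) : ℂ) else 0
  od : ∀ k, k ≠ 0 → ∀ y, Odd (orderOf y) → Ξ 0 y + 2 * Ξ k y - Ξ 1 y - Ξ 2 y - Ξ 3 y = 0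

variable {G : Type u} [Group G] [Fintype G] {t u g w x : G} {K K0 : Subgroup G} {Q : ℤ} {α β γ δ Φ : G → ℂ}
  {Θ : Fin 3 → G → ℂ} {Ξ : Fin 4 → G → ℂ}

theorem four (hδ : IsSIrr G δ) (hα : IsSIrr G α) (hβ : IsSIrr G β) (hγ : IsSIrr G γ) (e : Φ = δ + α + β + γ) :
    cZ t Φ * (δ 1 * α 1 * β 1 * γ 1) = (C1[t].index : ℂ) ^ 2 * (δ t ^ 2 * α 1 * β 1 * γ 1 +
      α t ^ 2 * δ 1 * β 1 * γ 1 + β t ^ 2 * δ 1 * α 1 * γ 1 + γ t ^ 2 * δ 1 * α 1 * β 1) := by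
  have zd := cZ_sirr (t := t) hδ
  have za := cZ_sirr (t := t) hα
  have zb := cZ_sirr (t := t) hβ
  have zc := cZ_sirr (t := t) hγ
  rw [e, cZ_add, cZ_add, cZ_add]
  linear_combination α 1 * β 1 * γ 1 * zd + δ 1 * β 1 * γ 1 * za + δ 1 * α 1 * γ 1 * zb + δ 1 * α 1 * β 1 * zc

theorem TW.sec' (T : TW t Q Θ) (hγ : IsSIrr G γ) (i : Fin 3) (n : ⟪γ, Θ i⟫ ≠ 0) :
    ∃ c : Fin 3 → ℂ, ∀ y, ¬ Odd (orderOf y) → γ y = c 0 * Θ 0 y + c 1 * Θ 1 y + c 2 * Θ 2 y := by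
  rcases hγ with a | a
  · exact T.sec γ a i n
  · obtain ⟨c, e⟩ := T.sec _ a i (by rwa [ci_neg_left, neg_ne_zero])
    exact ⟨-c, fun y o => by have := e y o; simp only [Pi.neg_apply] at this ⊢; linear_combination -this⟩

theorem TW.val_t (T : TW t Q Θ) (ht : orderOf t = 2) (q8 : Q % 8 = 5) (hγ : IsSIrr G γ) (i : Fin 3)
    (n : ⟪γ, Θ i⟫ ≠ 0) : γ t = -(⟪γ, Θ 0⟫ * xs Q 0 + ⟪γ, Θ 1⟫ * xs Q 1 + ⟪γ, Θ 2⟫ * xs Q 2) := by
  obtain ⟨c, hc⟩ := T.sec' hγ i n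
  have e : ∀ i, ⟪γ, Θ i⟫ = ⟪c 0 • Θ 0 + c 1 • Θ 1 + c 2 • Θ 2, Θ i⟫ := fun i => by
    rw [ci_def, ci_def]
    refine congrArg _ (Finset.sum_congr rfl fun z _ => ?_)
    by_cases o : Odd (orderOf z)
    · simp [T.od i z o]
    · simp [hc z o]
  have s : (xs Q 0 : ℂ) + xs Q 1 + xs Q 2 = -1 := by
    exact_mod_cast (show xs Q 0 + xs Q 1 + xs Q 2 = -1 by simp [xs]; omega)
  simp only [e, ci_add_left, ci_smul_left, T.gram]
  simp only [hc t (by rw [ht]; decide), T.vt, Fin.isValue, Fin.reduceEq, if_true, if_false]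
  linear_combination (2 * (c 0 + c 1 + c 2)) * s

theorem TW.lin [IsSimpleGroup G] (T : TW t Q Θ) (nc : ¬ IsMulCommutative G) (hγ : IsSIrr G γ) (i : Fin 3)
    (n : ⟪γ, Θ i⟫ ≠ 0) {d : ℤ} (hd : γ 1 = d) : d ≠ 1 := by
  refine (GW.Ch.sirr_one nc hγ ?_ hd).1
  rcases hγ.ci_cases isIrrCharacter_one.isSIrr with ⟨rfl, _⟩ | ⟨rfl, _⟩ | ⟨_, _, a⟩
  · exact (n (ci_eq_zero_symm (T.one i))).elim
  · exact (n (by rw [ci_neg_left, ci_eq_zero_symm (T.one i), neg_zero])).elim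
  · exact a

variable (T : TW t Q Θ) (X : XW t Q Θ Ξ)
include T X

theorem La_virt (k : Fin 4) : IsGeneralizedCharacter G (La Θ Ξ k) :=
  ((((((X.virt 0).add (X.virt k)).add (X.virt k)).sub (X.virt 1)).sub (X.virt 2)).sub (X.virt 3)).sub
    (((T.virt 1).add (T.virt 2)).sub (T.virt 0))

theorem La_od {k : Fin 4} (k0 : k ≠ 0) {y : G} (o : Odd (orderOf y)) : La Θ Ξ k y = 0 := by
  have := X.od k k0 y o
  simp only [La, Pi.sub_apply, Pi.add_apply, T.od _ y o]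
  linear_combination this

theorem th' (k : Fin 4) (i : Fin 3) : ⟪Θ i, Ξ k⟫ = if i = 0 then 0 else if k = 0 then 3 else -1 := by
  rw [(T.virt i).ci_comm (X.virt k), X.th]

theorem La_th {k : Fin 4} (k0 : k ≠ 0) (i : Fin 3) : ⟪Θ i, La Θ Ξ k⟫ = 0 := by
  simp only [La, ci_sub_right, ci_add_right, th' T X, T.gram, if_neg k0]
  fin_cases i <;> simp <;> norm_num

theorem La_xi {k j : Fin 4} (k0 : k ≠ 0) (j0 : j ≠ 0) : ⟪Ξ j, La Θ Ξ k⟫ = if j = k then 1 else -1 := by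
  simp only [La, ci_sub_right, ci_add_right, X.th, X.gram, if_neg k0, if_neg j0]
  fin_cases j <;> fin_cases k <;> simp at j0 k0 ⊢ <;> norm_num

theorem La_La {k j : Fin 4} (k0 : k ≠ 0) (j0 : j ≠ 0) : ⟪La Θ Ξ j, La Θ Ξ k⟫ = if j = k then 4 else 0 := by
  have z : ⟪Ξ 0, La Θ Ξ k⟫ = 1 := by
    simp only [La, ci_sub_right, ci_add_right, X.th, X.gram, if_neg k0]
    simp; norm_num
  conv_lhs => rw [La]
  simp only [ci_sub_left, ci_add_left, La_th T X k0, z, La_xi T X k0 j0, La_xi T X k0 (j := 1) (by decide),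
    La_xi T X k0 (j := 2) (by decide), La_xi T X k0 (j := 3) (by decide)]
  fin_cases j <;> fin_cases k <;> simp at j0 k0 ⊢ <;> norm_num

theorem La_t {h : ℤ} (hq : Q + 1 = 2 * h) (k : Fin 4) : La Θ Ξ k t = -8 * h := by
  have e : (Q + 1) / 2 = h := by omega
  have := congrArg (Int.cast : ℤ → ℂ) hq
  push_cast at this
  simp only [La, Pi.sub_apply, Pi.add_apply, X.vt, T.vt]
  simp [xs, e]; linear_combination -2 * this

theorem La_cZ {h : ℤ} (hq : Q + 1 = 2 * h) (h0 : h ≠ 0) (Q0 : Q ≠ 0) {k : Fin 4} (k0 : k ≠ 0) :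
    cZ t (La Θ Ξ k) = -16 * C1[t].index * Q ^ 2 * h := by
  have e : (Q + 1) / 2 = h := by omega
  have q := congrArg (Int.cast : ℤ → ℂ) hq
  have c0 := T.cz 0
  have c1 := T.cz 1
  have c2 := T.cz 2
  simp only [xs, e, Matrix.cons_val_zero, Matrix.cons_val_one, Matrix.cons_val] at c0 c1 c2
  push_cast at q c1 c2
  have d0 : cZ t (Θ 0) = C1[t].index * Q * (Q + 1) ^ 2 * (Q - 1) :=
    mul_right_cancel₀ (show (Q : ℂ) ≠ 0 by exact_mod_cast Q0) (by linear_combination c0)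
  have h0' : (h : ℂ) ≠ 0 := by exact_mod_cast h0
  have d1 : cZ t (Θ 1) = C1[t].index * Q ^ 2 * (4 * h * (h + 1)) :=
    mul_right_cancel₀ (neg_ne_zero.2 h0') (by rw [c1, mul_pow, q]; ring)
  have d2 : cZ t (Θ 2) = C1[t].index * Q ^ 2 * (4 * h * (h + 1)) :=
    mul_right_cancel₀ (neg_ne_zero.2 h0') (by rw [c2, mul_pow, q]; ring)
  simp only [La, cZ_sub, cZ_add, X.cz, if_neg k0, d0, d1, d2]
  simp
  obtain rfl : Q = 2 * h - 1 := by omega
  push_cast; ring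

theorem La_b0 {k : Fin 4} (k0 : k ≠ 0) (hγ : IsSIrr G γ) (i : Fin 3) (n : ⟪γ, Θ i⟫ ≠ 0) : ⟪γ, La Θ Ξ k⟫ = 0 := by
  obtain ⟨c, e⟩ := T.sec' hγ i n
  have : ⟪γ, La Θ Ξ k⟫ = ⟪c 0 • Θ 0 + c 1 • Θ 1 + c 2 • Θ 2, La Θ Ξ k⟫ :=
    congrArg (_ * ·) (Finset.sum_congr rfl fun y _ => by
      by_cases o : Odd (orderOf y)
      · simp [La_od T X k0 o]
      · simp [e y o])
  simp [this, ci_add_left, ci_smul_left, La_th T X k0]

theorem xi_eq {k : Fin 4} (k0 : k ≠ 0) (h : ∀ k, k ≠ 0 → ⟪γ, La Θ Ξ k⟫ = 0) : ⟪γ, Ξ k⟫ = ⟪γ, Ξ 1⟫ := by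
  have a := h k k0
  have b := h 1 (by decide)
  simp only [La, ci_sub_right, ci_add_right] at a b
  linear_combination (a - b) / 2

/-- The principal block part has norm two. -/
theorem gen2 {h : ℤ} (hq : Q + 1 = 2 * h) (h0 : h ≠ 0) (Q0 : Q ≠ 0) (hα : IsSIrr G α) (hβ : IsSIrr G β)
    (o : ⟪α, β⟫ = 0) (la : ∀ k, k ≠ 0 → ⟪α, La Θ Ξ k⟫ = 0) (lb : ∀ k, k ≠ 0 → ⟪β, La Θ Ξ k⟫ = 0)
    (ca : ⟪α, Ξ 1⟫ = 1) (cb : ⟪β, Ξ 1⟫ = 1) (v : α t + β t = -2 * h) :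
    α t * β 1 = β t * α 1 ∧ Q ^ 2 * (α 1 + β 1) = 2 * h * C1[t].index := by
  have ca' : ∀ k, k ≠ 0 → ⟪α, Ξ k⟫ = 1 := fun k k0 => (xi_eq T X k0 la).trans ca
  have cb' : ∀ k, k ≠ 0 → ⟪β, Ξ k⟫ = 1 := fun k k0 => (xi_eq T X k0 lb).trans cb
  have ca'' : ∀ k, k ≠ 0 → ⟪Ξ k, α⟫ = 1 := fun k k0 => by rw [← ci_conj_symm, ca' k k0, map_one]
  have cb'' : ∀ k, k ≠ 0 → ⟪Ξ k, β⟫ = 1 := fun k k0 => by rw [← ci_conj_symm, cb' k k0, map_one]
  have g : ∀ k j, k ≠ 0 → j ≠ 0 → ⟪Ξ k - α - β, Ξ j - α - β⟫ = if k = j then 1 else 0 := fun k j k0 j0 => by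
    simp only [ci_sub_left, ci_sub_right, X.gram, if_neg k0, if_neg j0, ca' j j0, cb' j j0, ca'' k k0, cb'' k k0,
      hα.ci_self, hβ.ci_self, o, ci_eq_zero_symm o]
    split_ifs <;> norm_num
  have vz : ∀ k, IsGeneralizedCharacter G (Ξ k - α - β) := fun k => ((X.virt k).sub hα.virt).sub hβ.virt
  have s : ∀ k, k ≠ 0 → IsSIrr G (Ξ k - α - β) := fun k k0 => (vz k).isSIrr_of_ci_self (by rw [g k k k0 k0, if_pos rfl])
  have l : ∀ k, k ≠ 0 → ⟪Ξ k - α - β, La Θ Ξ 1⟫ = if k = 1 then 1 else -1 := fun k k0 => by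
    rw [ci_sub_left, ci_sub_left, la 1 (by decide), lb 1 (by decide), La_xi T X (by decide) k0]; simp
  have l' : ∀ k, k ≠ 0 → ⟪La Θ Ξ 1, Ξ k - α - β⟫ = if k = 1 then 1 else -1 := fun k k0 => by
    rw [(La_virt T X 1).ci_comm (vz k), l k k0]
  have s0 : IsSIrr G (La Θ Ξ 1 - (Ξ 1 - α - β) + (Ξ 2 - α - β) + (Ξ 3 - α - β)) :=
    ((((La_virt T X 1).sub (vz 1)).add (vz 2)).add (vz 3)).isSIrr_of_ci_self (by
      generalize hz : (fun k => Ξ k - α - β) = Z at g l l'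
      have e : ∀ k, Ξ k - α - β = Z k := fun k => congrFun hz k
      simp only [e] at g l l' ⊢
      simp only [ci_add_left, ci_add_right, ci_sub_left, ci_sub_right, La_La T X (k := 1) (j := 1) (by decide) (by decide),
        g 1 1 (by decide) (by decide), g 1 2 (by decide) (by decide), g 1 3 (by decide) (by decide),
        g 2 1 (by decide) (by decide), g 2 2 (by decide) (by decide), g 2 3 (by decide) (by decide),
        g 3 1 (by decide) (by decide), g 3 2 (by decide) (by decide), g 3 3 (by decide) (by decide),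
        l 1 (by decide), l 2 (by decide), l 3 (by decide), l' 1 (by decide), l' 2 (by decide), l' 3 (by decide)]
      simp; norm_num)
  refine ⟨three0 hα hβ (s 1 (by decide)) (Φ := Ξ 1) (by abel) (X.v1 1) (X.vt 1) (by rw [X.cz]; rfl), ?_⟩
  have z0 := cZ_sirr (t := t) s0
  have z1 := cZ_sirr (t := t) (s 1 (by decide))
  have z2 := cZ_sirr (t := t) (s 2 (by decide))
  have z3 := cZ_sirr (t := t) (s 3 (by decide))
  rw [cZ_add, cZ_add, cZ_sub (α := La Θ Ξ 1), La_cZ T X hq h0 Q0 (by decide)] at z0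
  simp only [Pi.add_apply, Pi.sub_apply, X.v1, X.vt, La_t T X hq, La_od T X (k := 1) (by decide) (y := 1) (by simp)]
    at z0 z1 z2 z3
  rw [show (0 : ℂ) - α t - β t = 2 * h by linear_combination -v] at z0 z1 z2 z3
  refine mul_left_cancel₀ (mul_ne_zero (mul_ne_zero (show (16 : ℂ) ≠ 0 by norm_num) (idx0 (t := t)))
    (show (h : ℂ) ≠ 0 by exact_mod_cast h0)) ?_
  linear_combination z0 + z1 - z2 - z3

theorem gen2' {h : ℤ} (hq : Q + 1 = 2 * h) (h0 : h ≠ 0) (Q0 : Q ≠ 0) (hα : IsSIrr G α) (hβ : IsSIrr G β)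
    (o : ⟪α, β⟫ = 0) (la : ∀ k, k ≠ 0 → ⟪α, La Θ Ξ k⟫ = 0) (lb : ∀ k, k ≠ 0 → ⟪β, La Θ Ξ k⟫ = 0)
    (ca : ⟪α, Ξ 1⟫ = 1) (cb : ⟪β, Ξ 1⟫ = 1) :
    C1[t].index * (α t + β t + 4 * h) = Q ^ 2 * (α 1 + β 1) := by
  have ca' : ∀ k, k ≠ 0 → ⟪α, Ξ k⟫ = 1 := fun k k0 => (xi_eq T X k0 la).trans ca
  have cb' : ∀ k, k ≠ 0 → ⟪β, Ξ k⟫ = 1 := fun k k0 => (xi_eq T X k0 lb).trans cb
  have ca'' : ∀ k, k ≠ 0 → ⟪Ξ k, α⟫ = 1 := fun k k0 => by rw [← ci_conj_symm, ca' k k0, map_one]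
  have cb'' : ∀ k, k ≠ 0 → ⟪Ξ k, β⟫ = 1 := fun k k0 => by rw [← ci_conj_symm, cb' k k0, map_one]
  have g : ∀ k j, k ≠ 0 → j ≠ 0 → ⟪Ξ k - α - β, Ξ j - α - β⟫ = if k = j then 1 else 0 := fun k j k0 j0 => by
    simp only [ci_sub_left, ci_sub_right, X.gram, if_neg k0, if_neg j0, ca' j j0, cb' j j0, ca'' k k0, cb'' k k0,
      hα.ci_self, hβ.ci_self, o, ci_eq_zero_symm o]
    split_ifs <;> norm_num
  have vz : ∀ k, IsGeneralizedCharacter G (Ξ k - α - β) := fun k => ((X.virt k).sub hα.virt).sub hβ.virt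
  have s : ∀ k, k ≠ 0 → IsSIrr G (Ξ k - α - β) := fun k k0 => (vz k).isSIrr_of_ci_self (by rw [g k k k0 k0, if_pos rfl])
  have l : ∀ k, k ≠ 0 → ⟪Ξ k - α - β, La Θ Ξ 1⟫ = if k = 1 then 1 else -1 := fun k k0 => by
    rw [ci_sub_left, ci_sub_left, la 1 (by decide), lb 1 (by decide), La_xi T X (by decide) k0]; simp
  have l' : ∀ k, k ≠ 0 → ⟪La Θ Ξ 1, Ξ k - α - β⟫ = if k = 1 then 1 else -1 := fun k k0 => by
    rw [(La_virt T X 1).ci_comm (vz k), l k k0]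
  have s0 : IsSIrr G (La Θ Ξ 1 - (Ξ 1 - α - β) + (Ξ 2 - α - β) + (Ξ 3 - α - β)) :=
    ((((La_virt T X 1).sub (vz 1)).add (vz 2)).add (vz 3)).isSIrr_of_ci_self (by
      generalize hz : (fun k => Ξ k - α - β) = Z at g l l'
      have e : ∀ k, Ξ k - α - β = Z k := fun k => congrFun hz k
      simp only [e] at g l l' ⊢
      simp only [ci_add_left, ci_add_right, ci_sub_left, ci_sub_right, La_La T X (k := 1) (j := 1) (by decide) (by decide),
        g 1 1 (by decide) (by decide), g 1 2 (by decide) (by decide), g 1 3 (by decide) (by decide),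
        g 2 1 (by decide) (by decide), g 2 2 (by decide) (by decide), g 2 3 (by decide) (by decide),
        g 3 1 (by decide) (by decide), g 3 2 (by decide) (by decide), g 3 3 (by decide) (by decide),
        l 1 (by decide), l 2 (by decide), l 3 (by decide), l' 1 (by decide), l' 2 (by decide), l' 3 (by decide)]
      simp; norm_num)
  have z0 := cZ_sirr (t := t) s0
  have z1 := cZ_sirr (t := t) (s 1 (by decide))
  have z2 := cZ_sirr (t := t) (s 2 (by decide))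
  have z3 := cZ_sirr (t := t) (s 3 (by decide))
  rw [cZ_add, cZ_add, cZ_sub (α := La Θ Ξ 1), La_cZ T X hq h0 Q0 (by decide)] at z0
  simp only [Pi.add_apply, Pi.sub_apply, X.v1, X.vt, La_t T X hq, La_od T X (k := 1) (by decide) (y := 1) (by simp)]
    at z0 z1 z2 z3
  refine mul_left_cancel₀ (mul_ne_zero (mul_ne_zero (show (16 : ℂ) ≠ 0 by norm_num) (idx0 (t := t)))
    (show (h : ℂ) ≠ 0 by exact_mod_cast h0)) ?_
  linear_combination -z0 - z1 + z2 + z3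

/-- The principal block part does not have norm one. -/
theorem gen1' (J : JG t u g w x K K0 Q) {Θ0 : Fin 3 → G → ℂ} (T0 : TD t x Q Θ0) {h : ℤ} (hq : Q + 1 = 2 * h) (h0 : h ≠ 0) (t1 : ¬ Odd (orderOf t))
    (hα : IsSIrr G α)
    (la : ∀ k, k ≠ 0 → ⟪α, La Θ Ξ k⟫ = 0) (ca : ⟪α, Ξ 1⟫ = 1) (v : α t = -2 * h) :
    False := by
  obtain ⟨k, ok, hk⟩ := J.c8
  have hk' : (Nat.card G : ℂ) = 8 * k := by exact_mod_cast hk
  have ca' : ⟪Ξ 1, α⟫ = 1 := by rw [← ci_conj_symm, ca, map_one]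
  obtain ⟨φ, ψ, hφ, hψ, o1, o2, o3, e⟩ := three_dec (X.virt 1) (nsq_eq_of_ci (by rw [X.gram]; simp)) hα ca'
  -- the section norm
  have key : ∀ f, IsSIrr G f → ∀ p q r : ℤ, ⟪f, La Θ Ξ 1⟫ = p →
      ⟪f, La Θ Ξ 2⟫ = q → ⟪f, La Θ Ξ 3⟫ = r → p ^ 2 + q ^ 2 + r ^ 2 ≤ 3 ∧
        (p ^ 2 + q ^ 2 + r ^ 2 = 3 → (∀ d : ℤ, f 1 = d → 2 ∣ d) → f t = -2 * h * (p + q + r)) := by
    intro f hf p q r hp hq' hr
    obtain ⟨d, hd⟩ := hf.virt.exists_int_one
    have d0 : d ≠ 0 := by have := hf.apply_one_ne_zero; rw [hd] at this; exact_mod_cast this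
    obtain ⟨r2, i2, e2⟩ : ∃ r, IsIntegral ℤ r ∧ ∑ g, oddInd g * (f * conjFun f) g = (f * conjFun f) 1 + 2 * r := by
      obtain ⟨U, -, e⟩ := sum_invol Finset.univ (fun a : G => a⁻¹) (by simp) (by simp)
        (fun g => oddInd g * (f * conjFun f) g) fun a _ => by
          simp [oddInd, conjFun_apply, hf.virt.apply_inv, mul_comm]
      refine ⟨_, IsIntegral.sum (s := U) _ fun a _ => (oddInd_int a).mul ((hf.virt.mul hf.virt.conjFun).isIntegral a),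
        e.trans ?_⟩
      rw [nsmul_eq_mul, Nat.cast_ofNat, Finset.sum_eq_single 1 (fun a ha a1 => ?_) (by simp)]
      · simp [oddInd]
      rw [oddInd, if_neg fun o => a1 (JH.sq_one o (mul_eq_one_iff_eq_inv.2 (Finset.mem_filter.1 ha).2.symm)), zero_mul]
    obtain ⟨m, hm⟩ : ∃ m : ℤ, 8 * ∑ g, oddInd g * (f * conjFun f) g = Nat.card G * m := by
      have vf := hf.virt.mul hf.virt.conjFun
      obtain ⟨a, ha⟩ := vf.ci_int virt_one
      obtain ⟨b, hb⟩ := vf.ci_int (T0.virt 0)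
      obtain ⟨c, hc⟩ := vf.ci_int (T0.virt 1)
      obtain ⟨e, he⟩ := vf.ci_int (T0.virt 2)
      exact ⟨8 * a - (b + c + e), by rw [sum_odd T0, ha, hb, hc, he]; push_cast; ring⟩
    have m2 : 2 ∣ d → m % 2 = 0 := fun d2 => by
      rw [e2, hk', Pi.mul_apply, conjFun_apply, hd, map_intCast] at hm
      obtain ⟨j, hj⟩ := int_dvd_of_isIntegral (a := k * m - d * d) (b := 2) i2 (by decide)
        (by push_cast; linear_combination -hm / 8)
      obtain ⟨i, rfl⟩ := ok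
      obtain ⟨c, hc⟩ := d2
      have : m = 2 * (j - i * m + 2 * c * c) := by rw [hc] at hj; linear_combination hj
      omega
    let od : G → ℂ := fun g => oddInd g * f g
    have n1 : ⟪od, od⟫ = m / 8 := by
      refine mul_left_cancel₀ (card_ne_zero_complex G) ?_
      rw [card_mul_ci, Finset.sum_congr rfl fun g _ => show _ = oddInd g * (f * conjFun f) g from ?_]
      · linear_combination hm / 8
      · simp only [od, oddInd]; split_ifs <;> simp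
    have n2 : ⟪od, f⟫ = m / 8 := n1 ▸ congrArg (_ * ·) (Finset.sum_congr rfl fun g _ => by
      simp only [od, oddInd]; split_ifs <;> simp)
    have n3 : ⟪f, od⟫ = m / 8 := by rw [← ci_conj_symm, n2]; simp [map_ofNat]
    have n4 : ∀ k, k ≠ 0 → ⟪od, La Θ Ξ k⟫ = 0 := fun k k0 => by
      rw [ci_def, Finset.sum_eq_zero fun g _ => ?_, mul_zero]
      simp only [od, oddInd]
      split_ifs with o
      · simp [La_od T X k0 o]
      · simp
    have m0 : 0 < m := by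
      have a := nsq_pos (φ := od) fun z => d0 (by
        have := congrFun z 1
        simp only [od, oddInd, orderOf_one, odd_one, if_true, one_mul, hd, Pi.zero_apply] at this
        exact_mod_cast this)
      rw [nsq_eq_of_ci (r := m / 8) (by rw [n1]; push_cast; rfl)] at a
      exact_mod_cast (by linarith : (0 : ℝ) < m)
    let E : G → ℂ := f - od - ((p / 4 : ℂ) • La Θ Ξ 1 + (q / 4 : ℂ) • La Θ Ξ 2 + (r / 4 : ℂ) • La Θ Ξ 3)
    have nE : ⟪E, E⟫ = ((1 - m / 8 - (p ^ 2 + q ^ 2 + r ^ 2) / 4 : ℝ) : ℂ) := by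
      simp only [E, ci_sub_left, ci_sub_right, ci_add_left, ci_add_right, ci_smul_left, ci_smul_right, hf.ci_self,
        n1, n2, n3, hp, hq', hr, ci_symm_of_int hp, ci_symm_of_int hq', ci_symm_of_int hr,
        n4 1 (by decide), n4 2 (by decide), n4 3 (by decide), ci_eq_zero_symm (n4 1 (by decide)),
        ci_eq_zero_symm (n4 2 (by decide)), ci_eq_zero_symm (n4 3 (by decide)),
        La_La T X (k := 1) (j := 1) (by decide) (by decide), La_La T X (k := 1) (j := 2) (by decide) (by decide),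
        La_La T X (k := 1) (j := 3) (by decide) (by decide), La_La T X (k := 2) (j := 1) (by decide) (by decide),
        La_La T X (k := 2) (j := 2) (by decide) (by decide), La_La T X (k := 2) (j := 3) (by decide) (by decide),
        La_La T X (k := 3) (j := 1) (by decide) (by decide), La_La T X (k := 3) (j := 2) (by decide) (by decide),
        La_La T X (k := 3) (j := 3) (by decide) (by decide)]
      simp [map_ofNat]; ring
    have nE' := nsq_eq_of_ci nE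
    have nn := nsq_nonneg E
    rw [nE'] at nn
    have nn' : m + 2 * (p ^ 2 + q ^ 2 + r ^ 2) ≤ 8 := by exact_mod_cast (by linarith : (m + 2 * (p ^ 2 + q ^ 2 + r ^ 2) : ℝ) ≤ 8)
    refine ⟨by omega, fun s3 d2 => ?_⟩
    obtain rfl : m = 2 := by have := m2 (d2 d hd); omega
    have s3' : (p ^ 2 + q ^ 2 + r ^ 2 : ℝ) = 3 := by exact_mod_cast s3
    have := congrFun (nsq_eq_zero.1 (nE'.trans (by rw [s3']; norm_num))) t
    simp only [E, od, oddInd, if_neg t1, Pi.sub_apply, Pi.add_apply, Pi.smul_apply, La_t T X hq, smul_eq_mul,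
      Pi.zero_apply] at this
    linear_combination this
  have cφ : ⟪Ξ 1, φ⟫ = 1 := by
    rw [e, ci_add_left, ci_add_left, ci_eq_zero_symm o2, hφ.ci_self, ci_eq_zero_symm o1]; simp
  have cψ : ⟪Ξ 1, ψ⟫ = 1 := by rw [e, ci_add_left, ci_add_left, ci_eq_zero_symm o3, hψ.ci_self, o1]; simp
  have main : ∀ {φ ψ : G → ℂ}, IsSIrr G φ → IsSIrr G ψ → Ξ 1 = α + (φ + ψ) → φ t = 2 * h → False := by
    intro φ ψ hφ hψ e vφ
    have a := congrFun e t
    rw [X.vt, Pi.add_apply, Pi.add_apply, v, vφ] at a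
    have := three0 hα hψ hφ (Φ := Ξ 1) (by rw [e]; abel) (X.v1 1) (X.vt 1) (by rw [X.cz]; rfl)
    rw [v, show ψ t = 0 by linear_combination -a, zero_mul, mul_eq_zero, mul_eq_zero] at this
    exact this.elim (fun e => e.elim (by norm_num) (by exact_mod_cast h0)) hψ.apply_one_ne_zero
  choose p hp using fun k => hφ.virt.ci_int (La_virt T X k)
  choose q hq' using fun k => hψ.virt.ci_int (La_virt T X k)
  obtain ⟨k1, k2⟩ := key φ hφ _ _ _ (hp 1) (hp 2) (hp 3)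
  obtain ⟨k3, k4⟩ := key ψ hψ _ _ _ (hq' 1) (hq' 2) (hq' 3)
  have s : ∀ k, k ≠ 0 → p k + q k = if 1 = k then 1 else -1 := fun k k0 => by
    have := La_xi T X k0 (j := 1) (by decide)
    rw [e, ci_add_left, ci_add_left, la k k0, hp, hq', zero_add] at this
    split_ifs at this ⊢ <;> exact_mod_cast this
  have d : ∀ k, 2 ∣ p k - p 1 := fun k => by
    obtain ⟨c, hc⟩ := hφ.virt.ci_int ((X.virt k).sub (X.virt 1))
    have a := hp k
    have b := hp 1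
    simp only [La, ci_sub_right, ci_add_right] at a b hc
    exact ⟨c, by exact_mod_cast (by linear_combination b - a + 2 * hc : (p k - p 1 : ℂ) = 2 * c)⟩
  have s1 := s 1 (by decide)
  have s2 := s 2 (by decide)
  have s3 := s 3 (by decide)
  have d2 := d 2
  have d3 := d 3
  simp only [if_true, show ¬ (1 : Fin 4) = 2 by decide, show ¬ (1 : Fin 4) = 3 by decide, if_false] at s1 s2 s3
  have b : ∀ {a b c : ℤ}, a ^ 2 + b ^ 2 + c ^ 2 ≤ 3 → (-2 < a ∧ a < 2) ∧ (-2 < b ∧ b < 2) ∧ (-2 < c ∧ c < 2) :=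
    fun e => ⟨⟨by nlinarith, by nlinarith⟩, ⟨by nlinarith, by nlinarith⟩, by nlinarith, by nlinarith⟩
  have := b k1
  have := b k3
  have ev : ∀ {φ ψ : G → ℂ}, IsSIrr G φ → IsSIrr G ψ → Ξ 1 = α + (φ + ψ) → ⟪ψ, α⟫ = 0 → ⟪Ξ 1, ψ⟫ = 1 →
      (∀ k, k ≠ 0 → ⟪ψ, La Θ Ξ k⟫ = 0) → ∀ d : ℤ, φ 1 = d → 2 ∣ d := by
    intro φ ψ hφ hψ e o c l d hd
    have q8 := J.q8
    have E := gen2' T X hq h0 (by omega) hα hψ (ci_eq_zero_symm o) la l ca (by rw [← ci_conj_symm, c, map_one])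
    have a := congrFun e t
    have b := congrFun e 1
    rw [X.vt, Pi.add_apply, Pi.add_apply] at a
    rw [X.v1, Pi.add_apply, Pi.add_apply, hd] at b
    replace E : C1[t].index * (φ t - 4 * h) = Q ^ 2 * d := by
      linear_combination -E - C1[t].index * a + Q ^ 2 * b
    obtain ⟨v, hv⟩ := exists_int_of_isIntegral_of_rat (hφ.virt.isIntegral t)
      ⟨Q ^ 2 * d / C1[t].index + 4 * h, by push_cast; rw [← E, mul_div_cancel_left₀ _ idx0]; ring⟩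
    have d8 := deg8' J hφ.virt hd hv
    have n3 := n4 J
    rw [hv] at E
    replace E : C1[t].index * (v - 4 * h) = Q ^ 2 * d := by exact_mod_cast E
    obtain ⟨j, hj⟩ : ∃ j : ℤ, C1[t].index = 4 * j + 3 := ⟨C1[t].index / 4, by omega⟩
    obtain ⟨i, rfl⟩ : ∃ i, Q = 4 * i + 1 := ⟨Q / 4, by omega⟩
    have : 3 * v - d = 4 * (4 * i ^ 2 * d + 2 * i * d - j * v + 4 * j * h + 3 * h) := by
      rw [hj] at E; linear_combination E
    omega
  rcases show (p 1 = 1 ∧ p 2 = -1 ∧ p 3 = -1) ∨ (q 1 = 1 ∧ q 2 = -1 ∧ q 3 = -1) by omega with ⟨u1, u2, u3⟩ | ⟨u1, u2, u3⟩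
  · rw [u1, u2, u3] at k2
    refine main hφ hψ e ((k2 rfl (ev hφ hψ e o3 cψ fun k k0 => (hq' k).trans ?_)).trans (by push_cast; ring))
    fin_cases k <;> simp at k0 ⊢ <;> omega
  · rw [u1, u2, u3] at k4
    have e' : Ξ 1 = α + (ψ + φ) := by rw [e, add_comm φ]
    refine main hψ hφ e' ((k4 rfl (ev hψ hφ e' o2 cφ fun k k0 => (hp k).trans ?_)).trans (by push_cast; ring))
    fin_cases k <;> simp at k0 ⊢ <;> omega

end Cfsg.Agent.WA.JW
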