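import Cfsg.Agent.WA.JG1
import Cfsg.Agent.WA.JB2

/-! Groups of Janko-Ree type with field automorphisms: fusion of a linear character on `C(t)`. -/

set_option autoImplicit false
set_option linter.unusedSectionVars false
set_option linter.unusedVariables false

namespace Cfsg.Agent.WA.JW

open Cfsg Subgroup Cfsg.Agent.GT Cfsg.Agent.Char Cfsg.Agent.BS Cfsg.Agent.B84C Cfsg.Agent.B84H

universe u

variable {G : Type u} [Group G] {t u g w x : G} {K K0 L : Subgroup G} {Q : ℤ}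

theorem odd_dec (h : JG t u g w x K K0 Q) {o : G} (od : Odd (orderOf o)) (a : Commute o t) (b : Commute o u) :
    ∃ y ∈ zpowers x, ∃ k ∈ K, o = y * k := by
  obtain ⟨e, he, y, hy, k, hk, r | r⟩ := h.cU o a b
  · refine ⟨y, hy, k, hk, ?_⟩
    have o2 := ((h.oR hy).mul (h.oK' hk)).of_dvd_nat (h.RK hy hk).orderOf_mul_dvd_mul_orderOf
    have c0 : Commute (y * k) e := (h.RW hy he).mul_left (h.KW hk he)
    have cm : Commute (e * (y * k)) (y * k)⁻¹ := c0.symm.inv_right.mul_left (Commute.refl _).inv_right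
    have d := cm.orderOf_mul_dvd_mul_orderOf
    rw [mul_inv_cancel_right, orderOf_inv, ← mul_assoc, ← r] at d
    rw [r, JH.sq_one ((od.mul o2).of_dvd_nat d) (h.toQ3.sqU he), one_mul]
  · exfalso
    have c := h.EX he hy hk (mem_zpowers x)
    have iv : o * x * o⁻¹ = x⁻¹ := by
      rw [r, show ∀ z : G, z * w * x * (z * w)⁻¹ = z * (w * x * w⁻¹) * z⁻¹ from fun z => by group, h.wx]
      exact TT.commute_iff_conj.1 c.inv_right
    have c2 : Commute (o ^ 2) x := TT.commute_iff_conj.2 (by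
      rw [show o ^ 2 * x * (o ^ 2)⁻¹ = o * (o * x * o⁻¹) * o⁻¹ by rw [sq]; group, iv, ← conj_inv, iv, inv_inv])
    obtain ⟨n, hn⟩ := od
    have c3 : Commute o x := by
      have := c2.pow_left (n + 1)
      rwa [← pow_mul, show 2 * (n + 1) = orderOf o + 1 by omega, pow_succ, pow_orderOf_eq_one, one_mul] at this
    rw [TT.commute_iff_conj.1 c3] at iv
    exact h.x1 (h.sq1 (mem_zpowers x) (mul_eq_one_iff_eq_inv.2 iv))

theorem fus [Fintype G] [Fintype L] (h : JG t u g w x K K0 Q) (c : JB.Ct t L) (uL : u ∈ L) (xL : x ∈ L) (KL : K ≤ L)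
    (cj : ∀ s : L, s * s = 1 → s ≠ 1 → IsConj (⟨u, uL⟩ : L) s) (lam : L →* ℂˣ) (lu : lam ⟨u, uL⟩ = 1)
    (lx : lam ⟨x, xL⟩ = 1) (lg : ∀ l l' : L, (l : G) ∈ K → (l' : G) = g * l * g⁻¹ → lam l' = lam l) (a : G) (l : L)
    (o : Odd (orderOf l)) (p : ℤˣ × L) (e : c.fT p = a * (t * l) * a⁻¹) : lam p.2 = lam l := by
  have cL : ∀ k l l' : L, l' = k * l * k⁻¹ → lam l' = lam l := fun k l l' r => by
    rw [r, map_mul, map_mul, map_inv, mul_inv_cancel_comm]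
  have A : ∀ (b : G) (l l' : L), Commute b t → (l' : G) = b * l * b⁻¹ → lam l' = lam l := fun b l l' cb r => by
    obtain ⟨k, hk, m⟩ := c.cjL cb
    exact cL ⟨k, hk⟩ l l' (Subtype.ext (r.trans (m l l.2)))
  have XL : zpowers x ≤ L := zpowers_le.2 xL
  have lX : ∀ y (hy : y ∈ zpowers x), lam ⟨y, XL hy⟩ = 1 := by
    rintro _ ⟨n, rfl⟩
    exact (map_zpow lam ⟨x, xL⟩ n).trans (by rw [lx, one_zpow])
  have B : ∀ l : L, Odd (orderOf (l : G)) → Commute (l : G) u → ∃ l' : L, (l' : G) = g * l * g⁻¹ ∧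
      Odd (orderOf (l' : G)) ∧ Commute (l' : G) u ∧ lam l' = lam l := fun l o cu => by
    obtain ⟨y, hy, k, hk, r⟩ := odd_dec h o (c.le _ l.2) cu
    have r' : g * l * g⁻¹ = g * y * g⁻¹ * (g * k * g⁻¹) := by rw [r, conj_mul]
    refine ⟨⟨_, XL (h.gR hy)⟩ * ⟨_, KL (h.gK k hk)⟩, r'.symm, ?_, ?_, ?_⟩
    · rwa [coe_mul, ← r', orderOf_conj']
    · rw [coe_mul, ← r', ← h.g1]; exact (TT.commute_conj_iff g).2 (c.le _ l.2)
    · rw [show l = ⟨y, XL hy⟩ * ⟨k, KL hk⟩ from Subtype.ext r, map_mul, map_mul, lX _ hy, lX _ (h.gR hy),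
        lg ⟨k, KL hk⟩ _ hk rfl]
  rw [← orderOf_coe] at o
  have lt := c.le _ l.2
  have ct : Commute (a * (t * l) * a⁻¹) t := e ▸ c.fT_range.1 ⟨p, rfl⟩
  have st : Commute (a * t * a⁻¹) t := by
    obtain ⟨n, hn⟩ := o
    have := ct.pow_left (orderOf (l : G))
    rwa [conj_pow, lt.symm.mul_pow, pow_orderOf_eq_one, mul_one, hn, pow_succ, pow_mul, sq, c.tt, one_pow,
      one_mul] at this
  have ot : Commute (a * l * a⁻¹) t := by
    have := st.inv_left.mul_left ct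
    rwa [← conj_mul (b := a) (a := t), inv_mul_cancel_left] at this
  have oo : Odd (orderOf (a * l * a⁻¹)) := by rwa [orderOf_conj']
  have oL := c.mem_of_odd ot oo
  have ss : a * t * a⁻¹ * (a * t * a⁻¹) = 1 := by rw [conj_mul, c.tt, mul_one, mul_inv_cancel]
  obtain ⟨s, s2, r⟩ : ∃ s : L, s * s = 1 ∧ (a * t * a⁻¹ = s ∨ a * t * a⁻¹ = t * s) := by
    rcases c.dec _ st with m | m
    · exact ⟨⟨_, m⟩, Subtype.ext ss, .inl rfl⟩
    · refine ⟨⟨_, m⟩, Subtype.ext ?_, .inr (by rw [← mul_assoc t t, c.tt, one_mul])⟩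
      rw [coe_mul, st.mul_mul_mul_comm, c.tt, ss, one_mul, coe_one]
  have p2 : p.2 = s * ⟨_, oL⟩ := by
    rw [← conj_mul (b := a) (a := t)] at e
    rcases r with r | r
    · exact congrArg Prod.snd (c.fT_inj (a₂ := (1, s * ⟨_, oL⟩)) (by rw [e, r, c.fT_one]; rfl))
    · exact congrArg Prod.snd (c.fT_inj (a₂ := (-1, s * ⟨_, oL⟩)) (by rw [e, r, c.fT_neg, mul_assoc]; rfl))
  by_cases s1 : s = 1
  · rw [p2, s1, one_mul]
    rcases r with r | r
    · exact (c.t1 (conj_eq_one_iff.1 (r.trans (congrArg Subtype.val s1)))).elim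
    · rw [s1, coe_one, mul_one] at r
      exact A a l _ (TT.commute_iff_conj.2 r) rfl
  obtain ⟨k, hk⟩ := isConj_iff.1 (cj s s2 s1)
  have kt := c.le _ k.2
  have ks : (k : G)⁻¹ * s * k = u := by rw [← hk]; simp [mul_assoc]
  rw [p2, map_mul, cL k _ s hk.symm, lu, one_mul, ← cL k⁻¹ ⟨_, oL⟩ _ rfl]
  have v : ((k⁻¹ * ⟨_, oL⟩ * k⁻¹⁻¹ : L) : G) = (k : G)⁻¹ * a * l * ((k : G)⁻¹ * a)⁻¹ := by simp [mul_assoc]
  generalize (k⁻¹ * ⟨_, oL⟩ * k⁻¹⁻¹ : L) = m at v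
  have om : Odd (orderOf (m : G)) := by rwa [v, orderOf_conj']
  have mc : Commute (m : G) ((k : G)⁻¹ * a * t * ((k : G)⁻¹ * a)⁻¹) := v ▸ (TT.commute_conj_iff _).2 lt
  have bt : (k : G)⁻¹ * a * t * ((k : G)⁻¹ * a)⁻¹ = (k : G)⁻¹ * (a * t * a⁻¹) * k := by group
  generalize (k : G)⁻¹ * a = b at v mc bt
  rcases r with r | r
  · rw [r, ks] at bt
    obtain ⟨m1, e1, o1, c1, l1⟩ := B m om (bt ▸ mc)
    obtain ⟨m2, e2, -, -, l2⟩ := B m1 o1 c1
    rw [← l1, ← l2]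
    refine A (g * g * b) l m2 (TT.commute_iff_conj.2 ?_) (by rw [e2, e1, v]; group)
    rw [show g * g * b * t * (g * g * b)⁻¹ = g * (g * (b * t * b⁻¹) * g⁻¹) * g⁻¹ by group, bt, h.g2, h.g3]
  · rw [r, ← mul_assoc, kt.inv_left.eq, mul_assoc t, mul_assoc t, ks] at bt
    obtain ⟨m1, e1, -, -, l1⟩ := B m om (by
      have := (c.le _ m.2).inv_right.mul_right (bt ▸ mc)
      rwa [inv_mul_cancel_left] at this)
    rw [← l1]
    refine A (g * b) l m1 (TT.commute_iff_conj.2 ?_) (by rw [e1, v]; group)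
    rw [show g * b * t * (g * b)⁻¹ = g * (b * t * b⁻¹) * g⁻¹ by group, bt, h.g3]

end Cfsg.Agent.WA.JW
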