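import Cfsg.Agent.WA.NJA

/-! Degrees in the principal 2-block of a group of Janko-Ree type; elements of odd order. -/

set_option autoImplicit false
set_option linter.unusedSectionVars false
set_option linter.unusedVariables false

namespace Cfsg.Agent.WA.NJ

open Cfsg Subgroup Cfsg.Agent.GT Cfsg.Agent.Char Cfsg.Agent.BS Cfsg.Agent.B84C Cfsg.Agent.B84H Cfsg.Agent.Cls JE
open scoped Classical ComplexConjugate

universe u

theorem ar1' {Q h n A C B' C' : ℤ} (hq : Q + 1 = 2 * h) (big : 27 ≤ |Q|)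
    (A8 : A % 8 = 1) (hn : n = -(Q ^ 2 * A)) (s0 : 1 + A - Q * A + C = 0) (s1 : 1 + A + B' + C' = 0)
    (E0 : n * (A * (-Q * A) * C + (-Q * A) * C + Q ^ 2 * A * (-Q * A + C)) =
      Q * (Q + 1) ^ 2 * (Q - 1) * (A * (-Q * A) * C))
    (E1 : n * (A * B' * C' + B' * C' + h ^ 2 * A * (B' + C')) = 4 * Q ^ 2 * h * (h + 1) * (A * B' * C')) :
    A = -(Q ^ 2 + Q + 1) ∧ 3 * (B' - C') ^ 2 = -Q * (Q ^ 2 - 1) ^ 2 := by
  have Q0 : Q ≠ 0 := by rintro rfl; simp at big
  have A0 : A ≠ 0 := by omega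
  have bq : Q ≤ -27 ∨ 27 ≤ Q := by rcases abs_cases Q with e | e <;> omega
  obtain rfl : C = Q * A - A - 1 := by linarith
  subst hn
  have e1 : Q ^ 2 * A ^ 2 * ((Q * A - 1) * (A + (Q ^ 2 + Q + 1))) * (Q - 1) = 0 := by linear_combination E0
  have e2 : A = -(Q ^ 2 + Q + 1) := by
    rcases mul_eq_zero.1 ((mul_eq_zero.1 ((mul_eq_zero.1 e1).resolve_right (by omega))).resolve_left
      (by positivity)) with e | e
    · have := Int.isUnit_iff.1 (IsUnit.of_mul_eq_one A (sub_eq_zero.1 e))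
      omega
    · linarith
  refine ⟨e2, ?_⟩
  obtain rfl : C' = -1 - A - B' := by linarith
  have h0 : h ≠ 0 := by omega
  obtain rfl : Q = 2 * h - 1 := by omega
  have : (2 * h - 1) ^ 2 * A * (2 * h) * (3 * (B' - (-1 - A - B')) ^ 2 -
      -(2 * h - 1) * ((2 * h - 1) ^ 2 - 1) ^ 2) = 0 := by
    rw [e2] at E1 ⊢
    linear_combination 4 * E1
  exact sub_eq_zero.1 ((mul_eq_zero.1 this).resolve_left (by positivity))

variable {G : Type u} [Group G] [Fintype G] {t u g w x : G} {L : Subgroup G} {Q : ℤ} {γ : G → ℂ}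
  {Θ : Fin 3 → G → ℂ} {Ξ : Fin 4 → G → ℂ}

set_option maxHeartbeats 1000000 in
theorem sa_deg (h : JD t u g w x L Q) (bg : 27 ≤ |Q|) (T : TD t x Q Θ) (X : XD t Q Θ Ξ) {a : G → ℂ}
    {b : Fin 3 → Bool → G → ℂ} (S : SA t Q Θ a b) :
    a 1 = (-(Q ^ 2 + Q + 1) : ℤ) ∧ (∃ e, b 0 e 1 = (Q * (Q ^ 2 + Q + 1) : ℤ) ∧ b 0 (!e) 1 = (-Q ^ 3 : ℤ)) ∧
      ∃ B C : ℤ, b 1 true 1 = B ∧ b 1 false 1 = C ∧ B + C = Q ^ 2 + Q ∧
        3 * (B - C) ^ 2 = -Q * (Q ^ 2 - 1) ^ 2 := by
  have P := par h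
  have q8 := h.q8
  obtain ⟨H, hq⟩ : ∃ H, Q + 1 = 2 * H := ⟨(Q + 1) / 2, by omega⟩
  have eH : (Q + 1) / 2 = H := by omega
  have H0 : H ≠ 0 := by omega
  have Q0 : Q ≠ 0 := by omega
  have qC : (Q : ℂ) + 1 = 2 * H := by exact_mod_cast hq
  obtain ⟨A, hA⟩ := S.ia.virt.exists_int_one
  choose B hB using fun i e => (S.ib i e).virt.exists_int_one
  have ta : ∀ i, ⟪a, Θ i⟫ = 1 := fun i => by
    rw [S.eq, ci_add_right, ci_add_right, ci_add_right, S.a1, S.ia.ci_self, S.ab, S.ab]; simp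
  have tb : ∀ i e j, ⟪b i e, Θ j⟫ = if i = j then 1 else 0 := fun i e j => by
    rw [S.eq, ci_add_right, ci_add_right, ci_add_right, S.b1, ci_eq_zero_symm (S.ab i e)]
    split_ifs with k
    · subst k
      cases e
      · rw [(S.ib _ _).ci_self, S.bb _ _ _ _ (by simp)]; simp
      · rw [(S.ib _ _).ci_self, S.bb _ _ _ _ (by simp)]; simp
    · rw [S.bb _ _ _ _ (by simp [k]), S.bb _ _ _ _ (by simp [k])]; simp
  have la : ∀ k, k ≠ 0 → ⟪a, La Θ Ξ k⟫ = 0 := fun k k0 =>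
    La_b0 T X k0 (mem_b0 T P S.ia S.a1 (m := 3) (by simp [ta]; norm_num) hA (Or.inl rfl))
  have lb : ∀ i e k, k ≠ 0 → ⟪b i e, La Θ Ξ k⟫ = 0 := fun i e k k0 =>
    La_b0 T X k0 (mem_b0 T P (S.ib i e) (S.b1 i e) (m := 1) (by fin_cases i <;> simp [tb]) (hB i e) (Or.inl rfl))
  obtain ⟨ma, hma⟩ := S.ia.virt.ci_int (X.virt 1)
  choose m hm using fun i e => (S.ib i e).virt.ci_int (X.virt 1)
  have s : ∀ i, ma + m i true + m i false = if i = 0 then 0 else -1 := fun i => by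
    have := th' T X 1 i
    rw [S.eq, ci_add_left, ci_add_left, ci_add_left, hma, hm, hm, ← ci_conj_symm, X.one] at this
    simp only [show ¬ (1 : Fin 4) = 0 by decide, if_false, map_zero, zero_add] at this
    split_ifs at this ⊢ <;> exact_mod_cast this
  have bes := bessel_orthonormal Finset.univ (fun o : Option (Fin 3 × Bool) => o.elim a fun p => b p.1 p.2)
    (fun i _ j _ => by
      rcases i with _ | ⟨i, e⟩ <;> rcases j with _ | ⟨j, e'⟩
      · simpa using S.ia.ci_self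
      · simpa using S.ab j e'
      · simpa using ci_eq_zero_symm (S.ab i e)
      · by_cases k : (i, e) = (j, e')
        · rw [k]; simpa using (S.ib j e').ci_self
        · rw [if_neg (by simpa using k)]; exact S.bb _ _ _ _ k) (Ξ 1 + Ξ 2)
  have c2 : ∀ {γ : G → ℂ} {m : ℤ}, (∀ k, k ≠ 0 → ⟪γ, La Θ Ξ k⟫ = 0) → ⟪γ, Ξ 1⟫ = m →
      ‖⟪Ξ 1 + Ξ 2, γ⟫‖ ^ 2 = 4 * m ^ 2 := fun {γ m} l e => by
    rw [← ci_conj_symm, ci_add_right, xi_eq T X (k := 2) (by decide) l, e, Complex.norm_conj, ← Int.cast_add,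
      Complex.norm_intCast, sq_abs]; push_cast; ring
  rw [Fintype.sum_option, Fintype.sum_prod_type, nsq_eq_of_ci (r := 10) (by
    simp only [ci_add_left, ci_add_right, X.gram]; simp; norm_num)] at bes
  simp only [Option.elim, c2 la hma, c2 (lb _ _) (hm _ _), Fin.sum_univ_three, Fintype.sum_bool] at bes
  have bes' : ma ^ 2 + (m 0 true ^ 2 + m 0 false ^ 2) + (m 1 true ^ 2 + m 1 false ^ 2) +
      (m 2 true ^ 2 + m 2 false ^ 2) < 3 := by
    exact_mod_cast (by linarith : (ma ^ 2 + (m 0 true ^ 2 + m 0 false ^ 2) + (m 1 true ^ 2 + m 1 false ^ 2) +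
      (m 2 true ^ 2 + m 2 false ^ 2) : ℝ) < 3)
  have ab : ∀ z : ℤ, z ≤ z ^ 2 ∧ -z ≤ z ^ 2 := fun z => ⟨by nlinarith [sq_nonneg (2 * z - 1)], by nlinarith [sq_nonneg (2 * z + 1)]⟩
  have s0 := s 0
  have s1 := s 1
  have s2 := s 2
  simp only [if_true, show ¬ (1 : Fin 3) = 0 by decide, show ¬ (2 : Fin 3) = 0 by decide, if_false] at s0 s1 s2
  have d : ∀ i e, 1 + A + B i e + B i (!e) = 0 := fun i e => by
    have := T.od i 1 (by simp)
    rw [S.eq] at this
    simp only [Pi.add_apply, hA, hB] at this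
    have : 1 + A + B i true + B i false = 0 := by exact_mod_cast this
    cases e <;> simp <;> linarith
  have E : ∀ i e, xs Q i * C1[t].index * (A * B i e * B i (!e) + B i e * B i (!e) + xs Q i ^ 2 * A * (B i e + B i (!e))) =
      (Q * (Q + 1)) ^ 2 * (xs Q i - 1) * (A * B i e * B i (!e)) := fun i e => by
    have f := four (t := t) S.ia (S.ib i true) (S.ib i false) (S.eq i)
    have z := T.cz i
    rw [hA, hB, hB, S.va, S.vb, S.vb] at f
    have : (xs Q i * C1[t].index * (A * B i true * B i false + B i true * B i false +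
        xs Q i ^ 2 * A * (B i true + B i false)) : ℂ) = (Q * (Q + 1)) ^ 2 * (xs Q i - 1) * (A * B i true * B i false) :=
      mul_left_cancel₀ (idx0 (t := t)) (by linear_combination (A * B i true * B i false : ℂ) * z - (xs Q i : ℂ) * f)
    have : xs Q i * C1[t].index * (A * B i true * B i false + B i true * B i false +
        xs Q i ^ 2 * A * (B i true + B i false)) = (Q * (Q + 1)) ^ 2 * (xs Q i - 1) * (A * B i true * B i false) := by
      exact_mod_cast this
    cases e <;> simp only [Bool.not_true, Bool.not_false] <;> linear_combination this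
  have A8 : A % 8 = 1 := by have := deg8 h S.ia.virt hA (v := 1) (by simpa using S.va); omega
  have v0 : ∀ e, b 0 e t = (-Q : ℤ) := fun e => by simp [S.vb, xs]
  have v1 : ∀ e, b 1 e t = H := fun e => by simp [S.vb, xs, eH]
  have v2 : ∀ e, b 2 e t = H := fun e => by simp [S.vb, xs, eH]
  have x0 : xs Q 0 = Q := rfl
  have x1 : xs Q 1 = -H := by simp [xs, eH]
  rcases show (ma = -1 ∧ ∃ e, m 0 e = 1) ∨ ∃ e e', m 1 e = -1 ∧ m 2 e' = -1 by
    have := ab ma; have := ab (m 0 true); have := ab (m 0 false); have := ab (m 1 true); have := ab (m 1 false)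
    have := ab (m 2 true); have := ab (m 2 false)
    simp only [Bool.exists_bool]
    omega with ⟨e1, e, e2⟩ | ⟨e, e', e1, e2⟩
  · obtain ⟨g1, g2⟩ := gen2 T X hq H0 Q0 S.ia.neg (S.ib 0 e) (by rw [ci_neg_left, S.ab, neg_zero])
      (fun k k0 => by rw [ci_neg_left, la k k0, neg_zero]) (lb 0 e) (by rw [ci_neg_left, hma, e1]; simp)
      (by rw [hm, e2]; simp) (by rw [Pi.neg_apply, S.va, v0]; push_cast; linear_combination -qC)
    rw [Pi.neg_apply, Pi.neg_apply, S.va, v0, hA, hB] at g1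
    rw [Pi.neg_apply, hA, hB] at g2
    have g1' : B 0 e = -Q * A := by exact_mod_cast (by push_cast at g1; linear_combination -g1 : (B 0 e : ℂ) = -Q * A)
    have g2' : Q ^ 2 * (-A + B 0 e) = 2 * H * C1[t].index := by exact_mod_cast g2
    have E0 := E 0 e
    have E1 := E 1 true
    have d0 := d 0 e
    rw [g1'] at E0 d0 g2'
    rw [x0] at E0
    rw [x1] at E1
    obtain ⟨r1, r2⟩ := ar1' (C := B 0 (!e)) (n := C1[t].index) hq bg A8
      (mul_left_cancel₀ (show 2 * H ≠ 0 by omega) (by rw [← g2', ← hq]; ring))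
      (by linear_combination d0) (d 1 true) (mul_left_cancel₀ Q0 (by linear_combination E0))
      (mul_left_cancel₀ (neg_ne_zero.2 H0) (by rw [mul_pow, hq] at E1; linear_combination E1))
    have d1 := d 1 true
    refine ⟨by rw [hA, r1], ⟨e, ?_, ?_⟩, _, _, hB _ _, hB _ _, by simp only [Bool.not_true] at d1; linarith, r2⟩
    · rw [hB, g1', r1]; push_cast; ring
    · rw [hB, show B 0 (!e) = -Q ^ 3 by rw [r1] at d0; linear_combination d0]
  · obtain ⟨g1, g2⟩ := gen2 T X hq H0 Q0 (S.ib 1 e).neg (S.ib 2 e').neg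
      (by rw [ci_neg_left, ci_neg_right, S.bb _ _ _ _ (by simp)]; simp)
      (fun k k0 => by rw [ci_neg_left, lb _ _ k k0, neg_zero]) (fun k k0 => by rw [ci_neg_left, lb _ _ k k0, neg_zero])
      (by rw [ci_neg_left, hm, e1]; simp) (by rw [ci_neg_left, hm, e2]; simp)
      (by rw [Pi.neg_apply, Pi.neg_apply, v1, v2]; ring)
    simp only [Pi.neg_apply, v1, v2, hB] at g1 g2
    have g1' : B 2 e' = B 1 e := by
      exact_mod_cast mul_left_cancel₀ (show (H : ℂ) ≠ 0 by exact_mod_cast H0)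
        (by linear_combination g1 : (H * B 2 e' : ℂ) = H * B 1 e)
    rw [g1'] at g2
    obtain ⟨μ, μ0, μ8, hn, hb⟩ := exists_m hq (by omega) (n := C1[t].index)
      (by exact_mod_cast Nat.pos_of_ne_zero index_ne_zero_of_finite) Q0 (deg8 h (S.ib 1 e).virt (hB _ _) (v1 e))
      (by exact_mod_cast g2)
    have E0 := E 0 true
    have E1 := E 1 e
    have d1 := d 1 e
    have D0 := dvd_val S.ia hA (v := 1) (by simpa using S.va)
    have D1 := fun e => dvd_val (S.ib 0 e) (hB _ _) (v0 e)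
    have D2 := dvd_val (S.ib 1 (!e)) (hB _ _) (v1 _)
    rw [hn] at E0 E1 D0 D1 D2
    rw [hb] at E1 d1
    rw [x0] at E0
    rw [x1] at E1
    exact (ar2' Q H μ A (B 0 true) (B 0 false) (B 1 (!e)) h.pp hq (by omega) bg μ0 μ8 A8
      (by simpa using deg8 h (S.ib 0 _).virt (hB _ _) (v0 _)) (by simpa using deg8 h (S.ib 0 _).virt (hB _ _) (v0 _))
      (deg8 h (S.ib 1 _).virt (hB _ _) (v1 _)) (d 0 true) (by linear_combination d1) (by simpa using D0)
      (by rw [show Q ^ 3 * μ = -(Q ^ 2 * μ * -Q) by ring]; exact (D1 _).neg_right)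
      (by rw [show Q ^ 3 * μ = -(Q ^ 2 * μ * -Q) by ring]; exact (D1 _).neg_right)
      (by rw [show H * Q ^ 2 * μ = Q ^ 2 * μ * H by ring]; exact D2)
      (mul_left_cancel₀ (pow_ne_zero 2 Q0) (by simp only [Bool.not_true] at E0; linear_combination E0))
      (mul_left_cancel₀ (mul_ne_zero (mul_ne_zero (pow_ne_zero 2 Q0) (pow_ne_zero 2 H0)) μ0.ne')
        (by rw [mul_pow, hq] at E1; linear_combination E1))).elim


end Cfsg.Agent.WA.NJ
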