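import Cfsg.Agent.WA.J5
import Cfsg.Agent.BS.Brauer

/-! Characters of defect zero vanish on singular elements. -/

set_option autoImplicit false
set_option linter.unusedSectionVars false

namespace Cfsg.Agent.WA.NK

open Cfsg Subgroup Cfsg.Agent.GT Cfsg.Agent.Char Cfsg.Agent.BS
open scoped ComplexConjugate Classical

universe u

variable {G : Type u} [Group G] [Fintype G] {χ : G → ℂ} {p k m : ℕ} {d : ℤ} {y : G}

theorem int_div (hχ : IsSIrr G χ) (hd : χ 1 = d) (hm : Nat.card G = d.natAbs * m) (c : k.Coprime m)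
    (hk : k ∣ Nat.card C1[y]) : IsIntegral ℤ (χ y / k) := by
  have i := J5.int_div hχ y
  obtain ⟨j, hj⟩ := hk
  have e := (C1[y]).card_mul_index
  have k0 : (k : ℂ) ≠ 0 := by
    have := Nat.card_pos (α := C1[y])
    exact_mod_cast (show k ≠ 0 by rintro rfl; omega)
  have d0 : d ≠ 0 := by
    have := Nat.card_pos (α := G)
    rintro rfl; simp at hm
  have d0' : (d : ℂ) ≠ 0 := by exact_mod_cast d0
  obtain ⟨s, hs⟩ : ∃ s : ℤ, (d.natAbs : ℤ) = s * d := ⟨d.sign, by rw [Int.sign_mul_self_eq_natAbs]⟩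
  have ss : s * s = 1 := by
    have : (d.natAbs : ℤ) * d.natAbs = d * d := Int.natAbs_mul_self' d
    rw [hs] at this
    exact mul_right_cancel₀ (mul_ne_zero d0 d0) (by linear_combination this)
  rw [hm, hj] at e
  have e' : (k * j * C1[y].index : ℂ) = s * d * m := by
    have : ((k * j * C1[y].index : ℕ) : ℤ) = s * d * m := by rw [e, ← hs]; push_cast; rfl
    exact_mod_cast this
  have ss' : (s * s : ℂ) = 1 := by exact_mod_cast ss
  obtain ⟨a, b, ab⟩ := Nat.isCoprime_iff_coprime.2 c
  have ab' : (a * k + b * m : ℂ) = 1 := by exact_mod_cast ab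
  have : χ y / k = a * χ y + (b * s * j : ℤ) * (C1[y].index * χ y / χ 1) := by
    rw [hd]; push_cast; field_simp
    linear_combination -(χ y * d) * ab' - b * s * χ y * e' - b * d * m * χ y * ss'
  rw [this]
  exact ((Char.isIntegral_intCast a).mul (hχ.virt.isIntegral y)).add ((Char.isIntegral_intCast _).mul i)

theorem dz' (hχ : IsIrrCharacter G χ) (hp : p.Prime) (hd : χ 1 = d) (hm : Nat.card G = d.natAbs * m)
    (c : ¬ p ∣ m) (hy : p ∣ orderOf y) : χ y = 0 := by
  set F : G → ℂ := fun g => if p ∣ orderOf g then 0 else χ g with hF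
  have zc : ZC F := by
    refine zc_of_elementary F (fun a b => by simp only [hF, GT.orderOf_conj, hχ.isClassFunction a b])
      (fun g => by
        simp only [hF]
        split_ifs
        exacts [isIntegral_zero, hχ.isCharacter.isIntegral g]) fun l hl w hw P hP hPw => ?_
    have hc : ∀ y : P, Commute w y := fun y => (mem_cent1.1 (hPw y.2)).symm
    have ho : ∀ y : P, ∃ j, orderOf (y : G) = l ^ j := fun y => by
      have := Fact.mk hl
      rw [orderOf_coe]; exact IsPGroup.iff_orderOf.1 hP y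
    have o : ∀ y : P, orderOf (w * y) = orderOf w * orderOf (y : G) := fun y => by
      obtain ⟨j, e⟩ := ho y
      exact (hc y).orderOf_mul_eq_mul_orderOf_of_coprime
        (e ▸ ((piNat_single_compl_iff_coprime hl).1 hw).pow_right j)
    by_cases e : l = p
    · subst e
      have pw := (piNat_single_compl_iff hl).1 hw
      have e : ∀ y : P, y ≠ 1 → F (w * y) = 0 := fun y y1 => by
        obtain ⟨j, e⟩ := ho y
        refine if_pos (o y ▸ Dvd.dvd.mul_left (e ▸ dvd_pow_self l ?_) _)
        rintro rfl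
        exact y1 (Subtype.ext (orderOf_eq_one_iff.1 e))
      refine zc_of_ci (fun a b => ?_) fun ψ hψ => ?_
      · by_cases a1 : a = 1
        · simp [a1]
        · exact (e _ (by simpa using a1)).trans (e a a1).symm
      · rw [ci_def, Finset.sum_eq_single 1 (fun y _ y1 => by rw [e y y1, zero_mul]) (by simp)]
        have := Fact.mk hl
        obtain ⟨j, hj⟩ := PG.exists_card_eq_pow hP
        have := int_div (k := Nat.card P) hχ.isSIrr hd hm (hj ▸ ((hl.coprime_iff_not_dvd).2 c).pow_left j)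
          (card_dvd_of_le hPw)
        simp only [hF, coe_one, mul_one, if_neg pw]
        rw [← mul_assoc, inv_mul_eq_div]
        exact this.mul (hψ.isCharacter.conjFun.isIntegral 1)
    · have e2 : ∀ y : P, p ∣ orderOf (w * y) ↔ p ∣ orderOf w := fun y => by
        obtain ⟨j, e'⟩ := ho y
        rw [o, hp.dvd_mul, e', or_iff_left fun h =>
          e ((Nat.prime_dvd_prime_iff_eq hp hl).1 (hp.dvd_of_dvd_pow h)).symm]
      simp only [hF, e2]
      split_ifs
      · exact zc_zero
      · exact (((zc_char hχ.isCharacter).comp (C1[w]).subtype).translate (z := ⟨w, self_mem_cent1 w⟩)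
          fun x => Subtype.ext (mem_cent1.1 x.2)).comp (inclusion hPw)
  obtain ⟨n, hn⟩ : ∃ n : ℤ, ⟪F, χ⟫ = n := by
    refine exists_int_of_forall_ringEquiv (zc.ci_char hχ.isCharacter) fun σ => ?_
    obtain ⟨k, hk, hσ⟩ := exists_pow_of_ringHom (σ : ℂ →+* ℂ) (Nat.card_pos (α := G))
    have e := ci_map_ringHom (σ : ℂ →+* ℂ) F hχ.virt
    have e2 : ∀ g, (σ : ℂ →+* ℂ) (χ g) = χ (g ^ k) := fun g => by
      refine hχ.isCharacter.ringHom_apply _ fun z hz => hσ z ?_
      obtain ⟨c, hc⟩ := orderOf_dvd_natCard g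
      rw [hc, pow_mul, hz, one_pow]
    have e1 : ∀ g, (σ : ℂ →+* ℂ) (F g) = F (g ^ k) := fun g => by
      simp only [hF, (hk.symm.coprime_dvd_left (orderOf_dvd_natCard g)).orderOf_pow]
      split_ifs
      exacts [map_zero _, e2 g]
    simp only [e1, e2] at e
    change (σ : ℂ →+* ℂ) _ = _
    rw [← e, ← ci_comp_equiv (powCoprime hk.symm) F χ]
    rfl
  have o : ⟪F, χ - F⟫ = 0 := by
    rw [ci_def, Finset.sum_eq_zero, mul_zero]
    intro g _
    simp only [hF, Pi.sub_apply]
    split_ifs <;> simp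
  have s := nsq_add_of_orth o
  rw [add_sub_cancel, hχ.nsq] at s
  rw [ci_sub_right, hn, ci_self, sub_eq_zero] at o
  have e : nsq F = n := by exact_mod_cast o.symm
  have p0 : 0 < nsq F := nsq_pos fun z => by
    have := congrFun z 1
    simp only [hF, orderOf_one, Nat.dvd_one, hp.ne_one, if_false, Pi.zero_apply] at this
    exact hχ.apply_one_ne_zero this
  have p1 := nsq_nonneg (χ - F)
  have n1 : (1 : ℝ) ≤ n := by exact_mod_cast (show 1 ≤ n from by exact_mod_cast (e ▸ p0 : (0 : ℝ) < n))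
  have := congrFun (nsq_eq_zero.1 (show nsq (χ - F) = 0 by linarith)) y
  simpa [hF, hy] using this

theorem dz (hχ : IsSIrr G χ) (hp : p.Prime) (hd : χ 1 = d) (hm : Nat.card G = d.natAbs * m)
    (c : ¬ p ∣ m) (hy : p ∣ orderOf y) : χ y = 0 := by
  rcases hχ with h | h
  · exact dz' h hp hd hm c hy
  · simpa using dz' h hp (d := -d) (by simp [hd]) (by rwa [Int.natAbs_neg]) c hy

/-- no element of order `p` commutes with an element of order `r`. -/
def NC (G : Type u) [Group G] (p r : ℕ) : Prop := ∀ y z : G, orderOf y = p → orderOf z = r → ¬ Commute y z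

theorem nc_of {α β γ : G → ℂ} (hα : IsSIrr G α) (hβ : IsSIrr G β) (hγ : IsSIrr G γ)
    (od : ∀ y : G, Odd (orderOf y) → 1 + α y + β y + γ y = 0) {A B C : ℤ} (a1 : α 1 = A) (b1 : β 1 = B)
    (c1 : γ 1 = C) {a b c r : ℕ} (ea : Nat.card G = A.natAbs * a) (eb : Nat.card G = B.natAbs * b)
    (ec : Nat.card G = C.natAbs * c) (hp : p.Prime) (p2 : p ≠ 2) (hr : r.Prime) (pa : ¬ p ∣ a) (pb : ¬ p ∣ b)
    (rc : ¬ r ∣ c) : NC G p r := by
  intro y z oy oz cm
  have e := od y (oy ▸ hp.odd_of_ne_two p2)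
  rw [dz hα hp a1 ea pa oy.symm.dvd, dz hβ hp b1 eb pb oy.symm.dvd] at e
  have i := int_div (y := y) hγ c1 ec (hr.coprime_iff_not_dvd.2 rc)
    (oz ▸ orderOf_dvd_card_of_mem (mem_cent1.2 cm.symm))
  rw [show γ y = -1 by linear_combination e] at i
  have r0 : (r : ℂ) ≠ 0 := by exact_mod_cast hr.ne_zero
  obtain ⟨n, hn⟩ := exists_int_of_isIntegral_of_rat i ⟨-1 / r, by simp⟩
  have : (r : ℤ) * -n = 1 := by
    rw [div_eq_iff r0] at hn
    exact_mod_cast (by linear_combination hn : (r * -n : ℂ) = 1)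
  exact hr.ne_one (by exact_mod_cast Int.eq_one_of_mul_eq_one_right (by positivity) this)

end Cfsg.Agent.WA.NK
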