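import Cfsg.Agent.WA.NKA
import Cfsg.Agent.WA.NKB

/-! Groups of Janko-Ree type: pairs of primes without commuting elements. -/

set_option autoImplicit false
set_option linter.unusedSectionVars false

namespace Cfsg.Agent.WA

open Cfsg Subgroup Cfsg.Agent.GT Cfsg.Agent.Char Cfsg.Agent.BS Cfsg.Agent.B84C Cfsg.Agent.B84H Cfsg.Agent.Cls NK J5
open scoped Classical ComplexConjugate

universe u

theorem NK.deg5 {A B C : ℤ} (dA : J5.Dg 1463 A 1) (s0 : 1 + A + B + C = 0)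
    (e0 : 1463 * (A * B * C + 1 * B * C + 25 * A * C + 25 * A * B) = 720 * A * B * C) :
    A = 209 ∧ (B = -77 ∧ C = -133 ∨ B = -133 ∧ C = -77) := by
  have e : B * C * (743 * A + 1463) = 36575 * A * (A + 1) := by
    rw [show C = -1 - A - B by linarith] at e0 ⊢
    linear_combination e0
  have d : A.natAbs ∈ Nat.divisors 1463 := Nat.mem_divisors.2 ⟨by simpa using Int.natAbs_dvd_natAbs.2 dA.dv, by decide⟩
  have m := dA.m8
  have f := dA.fa
  rw [show Nat.divisors 1463 = {1, 7, 11, 19, 77, 133, 209, 1463} by decide +kernel] at d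
  simp only [Finset.mem_insert, Finset.mem_singleton] at d
  obtain rfl : A = 209 := by
    rcases (by omega : A = -7 ∨ A = 209 ∨ A = -1463) with rfl | rfl | rfl <;> generalize B * C = z at e <;> omega
  have : (B + 77) * (B + 133) = 0 := by
    rw [show C = -210 - B by linarith] at e
    linarith
  rcases mul_eq_zero.1 this with k | k <;> omega

theorem NK.cop {q s v c : ℕ} (e : q = 3 * s) (hv : v + q = q ^ 2 + 1) (hc : c + 1 = q ^ 2) :
    v.Coprime q ∧ v.Coprime c ∧ ¬ 3 ∣ c * v := by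
  have hv' : (v : ℤ) = (3 * s) ^ 2 + 1 - 3 * s := by subst e; zify at hv; linarith
  have hc' : (c : ℤ) = (3 * s - 1) * (3 * s + 1) := by subst e; zify at hc; linarith
  refine ⟨Nat.isCoprime_iff_coprime.1 ⟨1, 1 - 3 * s, by rw [hv', e]; push_cast; ring⟩,
    Nat.isCoprime_iff_coprime.1 (hc' ▸ IsCoprime.mul_right ⟨1, -3 * s, by rw [hv']; ring⟩
      ⟨-s, 1 + s * (3 * s - 2), by rw [hv']; ring⟩), fun d => ?_⟩
  have : q ^ 2 = 3 * (3 * s ^ 2) := by rw [e]; ring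
  rcases (Nat.prime_three.dvd_mul).1 d with d | d <;> omega

variable {G : Type u} [Group G] [Finite G] [IsSimpleGroup G] {t u g w x : G} {L : Subgroup G} {Q : ℤ}

theorem JD.nc (h : JD t u g w x L Q) :
    (Q = 5 ∧ C1[t].index = 1463 ∧ NC G 11 7 ∧ NC G 11 19) ∨ ∃ k q v c : ℕ, 1 ≤ k ∧ q = 3 ^ (2 * k + 1) ∧
      4 * orderOf x = q + 1 ∧ v + q = q ^ 2 + 1 ∧ c + 1 = q ^ 2 ∧ C1[t].index = q ^ 2 * v ∧
      Nat.card G = q ^ 3 * c * v ∧ ∀ p : ℕ, p.Prime → p ∣ v → NC G p 3 := by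
  have := Fintype.ofFinite G
  obtain ⟨Θ, T⟩ := h.td
  have s := h.shape (fun c => h.h_gt (c.is_comm.comm g t)) T
  have od : ∀ {a : G → ℂ} {b : Fin 3 → Bool → G → ℂ}, SA t Q Θ a b → ∀ e y, Odd (orderOf y) →
      1 + a y + b 0 e y + b 0 (!e) y = 0 := fun {a b} s e y o => by
    have := T.od 0 y o
    rw [s.eq] at this
    simp only [Pi.add_apply] at this
    cases e <;> simp only [Bool.not_true, Bool.not_false] <;> linear_combination this
  by_cases n : Commute g x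
  · have o := h.ord
    have q3 := h.q3
    rw [h.jh2 n, orderOf_one] at o
    obtain rfl : Q = 5 := by omega
    rcases s with ⟨a, b, s⟩ | ⟨a, c, s⟩
    swap
    · exact (h.not_SB T s).elim
    have i := h.SA5 T s
    have cG : Nat.card G = 175560 := by rw [h.card_G5, i]
    have v0 : a t = (1 : ℤ) := by simp [s.va]
    have v1 : ∀ e, b 0 e t = (-5 : ℤ) := fun e => by rw [s.vb]; simp [xs]
    obtain ⟨A, a1, dA⟩ := h.dg s.ia s.a1 v0
    obtain ⟨B, b1, -⟩ := h.dg (s.ib 0 true) (s.b1 _ _) (v1 _)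
    obtain ⟨C, c1, -⟩ := h.dg (s.ib 0 false) (s.b1 _ _) (v1 _)
    have e0 := eqZ s.ia (s.ib 0 true) (s.ib 0 false) a1 b1 c1 v0 (v1 _) (v1 _) (by rw [← s.eq, T.cz0 h])
    rw [i] at e0 dA
    obtain ⟨rfl, k⟩ := deg5 dA (T.s0 h (s.eq 0) a1 b1 c1) (by linear_combination e0)
    obtain ⟨e, b1, c1⟩ : ∃ e, b 0 e 1 = (-77 : ℤ) ∧ b 0 (!e) 1 = (-133 : ℤ) := by
      rcases k with ⟨rfl, rfl⟩ | ⟨rfl, rfl⟩
      exacts [⟨true, b1, c1⟩, ⟨false, c1, b1⟩]
    have k := fun r => nc_of (p := 11) (r := r) (a := 840) (b := 2280) (c := 1320) s.ia (s.ib 0 e) (s.ib 0 !e)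
      (od s e) a1 b1 c1 cG cG cG (by norm_num) (by decide)
    exact .inl ⟨rfl, i, k 7 (by norm_num) (by decide) (by decide) (by decide),
      k 19 (by norm_num) (by decide) (by decide) (by decide)⟩
  obtain ⟨Ξ, X⟩ := h.xd (fun a ha a1 => h.jh1 n ha a1) n T
  rcases s with ⟨a, b, s⟩ | ⟨a, c, s⟩
  swap
  · exact (JE.sb_main JE.ar4' h (JE.big h n) T X s).elim
  obtain ⟨⟨i, k, k1, e⟩, ε, a1, b1, c1⟩ := JE.sa_deg JE.ar2' h (JE.big h n) T X s
  obtain ⟨q, hq⟩ : ∃ q : ℕ, q = 3 ^ (2 * k + 1) := ⟨_, rfl⟩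
  obtain rfl : Q = -q := by rw [e, hq]; simp
  have q0 : 0 < q := by rw [hq]; positivity
  obtain ⟨v, hv⟩ : ∃ v, v + q = q ^ 2 + 1 := ⟨q ^ 2 + 1 - q, Nat.sub_add_cancel (by nlinarith)⟩
  obtain ⟨c, hc⟩ : ∃ c, c + 1 = q ^ 2 := ⟨q ^ 2 - 1, Nat.sub_add_cancel (by nlinarith)⟩
  have ev : (-q : ℤ) ^ 2 + -q + 1 = v := by zify at hv; linarith
  rw [ev] at i a1 b1
  have i' : C1[t].index = q ^ 2 * v := by zify; rw [i]; ring
  have cG : Nat.card G = q ^ 3 * c * v := by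
    rw [← (C1[t]).card_mul_index, h.card_C, h.card, i', Int.natAbs_neg, Int.natAbs_natCast, ← hc, Nat.add_sub_cancel, hc]
    ring
  obtain ⟨c1', c2, c3⟩ := cop (s := 3 ^ (2 * k)) (by rw [hq, pow_succ']) hv hc
  have o := h.ord
  refine .inr ⟨k, q, v, c, k1, hq, by omega, hv, hc, i', cG, fun p hp d => ?_⟩
  have nd : ∀ j, ¬ p ∣ q ^ j * c := fun j => hp.coprime_iff_not_dvd.1
    ((Nat.Coprime.mul_right (c1'.pow_right j) c2).coprime_dvd_left d)
  refine nc_of (a := q ^ 3 * c) (b := q ^ 2 * c) (c := c * v) s.ia (s.ib 0 ε) (s.ib 0 !ε) (od s ε) a1 b1 c1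
    (by rw [cG]; simp; ring) (by rw [cG]; simp [Int.natAbs_mul]; ring) (by rw [cG]; simp [Int.natAbs_pow]; ring) hp
    ?_ Nat.prime_three (nd 3) (nd 2) c3
  rintro rfl
  have : Odd q := hq ▸ Odd.pow (by decide)
  have : Odd (q ^ 2) := this.pow
  grind

end Cfsg.Agent.WA
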