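import Cfsg.Agent.WA.SDef
import Cfsg.Agent.B84C.A

/-! SEA: Mackey formula for a doubly transitive group. -/

set_option autoImplicit false
set_option linter.unusedSectionVars false
set_option linter.unusedVariables false

namespace Cfsg.Agent.WA

open Cfsg Subgroup MulAction Cfsg.Agent.GT Cfsg.Agent.Cls Cfsg.Agent.GW Cfsg.Agent.Char Cfsg.Agent.B84C
open scoped ComplexConjugate Classical

universe u

variable {G Ω : Type u} [Group G] [MulAction G Ω] {α β : Ω} {t : G}

/-- the two point stabiliser inside the point stabiliser -/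
abbrev Dab (G : Type u) [Group G] [MulAction G Ω] (α β : Ω) : Subgroup (stabilizer G α) :=
  (stabilizer G β).subgroupOf (stabilizer G α)

theorem mem_Dab {h : stabilizer G α} : h ∈ Dab G α β ↔ (h : G) • β = β := Iff.rfl

/-- conjugation by the swapping involution -/
def cjt (tt : t * t = 1) (ta : t • α = β) (tb : t • β = α) : Dab G α β →* stabilizer G α where
  toFun d := ⟨t * d * t, by
    rw [mem_stabilizer_iff, mul_smul, mul_smul, ta, mem_Dab.1 d.2, tb]⟩
  map_one' := Subtype.ext (by simpa using tt)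
  map_mul' a b := Subtype.ext (by
    simp only [coe_mul, MulMemClass.mk_mul_mk]
    calc _ = t * a * (t * t) * b * t := by rw [tt]; group
      _ = _ := by group)

theorem Tw.finite_pts [Finite G] (h : Tw G Ω) : Finite Ω := by
  obtain ⟨a, -⟩ := h.ac.nt
  exact Finite.of_surjective (fun g : G => g • a) fun b => h.ac.tr a b

theorem Tw.card_G [Finite G] (h : Tw G Ω) (α : Ω) :
    Nat.card G = Nat.card Ω * Nat.card (stabilizer G α) := by
  haveI : IsPretransitive G Ω := ⟨h.ac.tr⟩
  rw [← index_stabilizer_of_transitive G α, index_mul_card]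

theorem Tw.index [Finite G] (h : Tw G Ω) (α : Ω) : (stabilizer G α).index = Nat.card Ω := by
  haveI : IsPretransitive G Ω := ⟨h.ac.tr⟩
  exact index_stabilizer_of_transitive G α

theorem Tw.card_H [Finite G] (h : Tw G Ω) (ne : α ≠ β) :
    Nat.card (stabilizer G α) + Nat.card (Dab G α β) = Nat.card Ω * Nat.card (Dab G α β) := by
  haveI := h.finite_pts
  have e : stabilizer (stabilizer G α) β = Dab G α β := by ext; rfl
  have h1 := (stabilizer (stabilizer G α) β).index_mul_card
  rw [index_stabilizer, e] at h1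
  have h2 : orbit (stabilizer G α) β = {α}ᶜ := by
    ext c
    constructor
    · rintro ⟨g, rfl⟩ e
      apply ne
      have := g.2
      rw [mem_stabilizer_iff] at this
      exact smul_left_cancel (g : G) (this.trans (Set.mem_singleton_iff.1 e).symm)
    · intro hc
      obtain ⟨g, h1, h2⟩ := h.two α β c ne.symm hc
      exact ⟨⟨g, h1⟩, h2⟩
  have h3 : (orbit (stabilizer G α) β).ncard + 1 = Nat.card Ω := by
    rw [h2, ← Set.ncard_singleton α, add_comm, Set.ncard_add_ncard_compl]
  rw [← h1, ← h3]; ring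

theorem Tw.dc (h : Tw G Ω) (ne : α ≠ β) (ta : t • α = β) {x : G} (hx : x ∉ stabilizer G α) :
    ∃ y z : stabilizer G α, x = y * t * z := by
  obtain ⟨y, h1, h2⟩ := h.two α β (x • α) ne.symm hx
  refine ⟨⟨y, h1⟩, ⟨t⁻¹ * y⁻¹ * x, ?_⟩, by simp [mul_assoc]⟩
  rw [mem_stabilizer_iff, mul_smul, mul_smul, ← h2, inv_smul_smul, ← ta, inv_smul_smul]

variable [Fintype G]

local notation3 "H" => stabilizer G α

theorem Tw.mackey (h : Tw G Ω) (ne : α ≠ β) (tt : t * t = 1) (ta : t • α = β) (tb : t • β = α)
    {θ θ' : H → ℂ} (hθ : IsClassFunction _ θ) (hθ' : IsClassFunction _ θ') :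
    ⟪indFun _ θ, indFun _ θ'⟫ =
      ⟪θ, θ'⟫ + ⟪fun d : Dab G α β => θ d, fun d => θ' (cjt tt ta tb d)⟫ := by
  have ti : t⁻¹ = t := inv_eq_of_mul_eq_one_right tt
  have hc : ∀ (z : H) (g : G), extendByZero H θ' ((z : G)⁻¹ * g * z) = extendByZero H θ' g := by
    intro z g
    by_cases hg : g ∈ H
    · rw [extendByZero_of_mem _ _ hg, extendByZero_of_mem _ _ (mul_mem (mul_mem (inv_mem z.2) hg) z.2)]
      exact hθ'.conj' ⟨g, hg⟩ z
    · rw [extendByZero_of_not_mem _ _ hg, extendByZero_of_not_mem]
      intro e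
      apply hg
      have := mul_mem (mul_mem z.2 e) (inv_mem z.2)
      simpa [mul_assoc] using this
  obtain ⟨T, hT⟩ : ∃ T : ℂ, ∑ d : Dab G α β, θ d * conj (θ' (cjt tt ta tb d)) = T := ⟨_, rfl⟩
  obtain ⟨T0, hT0⟩ : ∃ T : ℂ, ∑ a : H, θ a * conj (θ' a) = T := ⟨_, rfl⟩
  have h1 : ∀ x : G, ∑ a : H, θ a * conj (extendByZero H θ' (x⁻¹ * a * x)) =
      if x ∈ H then T0 else T := by
    intro x
    split_ifs with hx
    · rw [← hT0]
      refine Finset.sum_congr rfl fun a _ => ?_
      rw [hc ⟨x, hx⟩, extendByZero_coe]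
    · obtain ⟨y, z, rfl⟩ := h.dc ne ta hx
      calc _ = ∑ a : H, θ a * conj (extendByZero H θ' (t * a * t)) := by
            refine Fintype.sum_equiv (MulAut.conj y⁻¹).toEquiv _ _ fun a => ?_
            rw [← hc z (t * _ * t), ← hθ.conj' a y]
            simp [mul_assoc, ti]
        _ = ∑ a : H, if a ∈ Dab G α β then θ a * conj (extendByZero H θ' (t * a * t)) else 0 := by
            refine Finset.sum_congr rfl fun a _ => ?_
            split_ifs with ha
            · rfl
            · rw [extendByZero_of_not_mem, map_zero, mul_zero]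
              intro e
              apply ha
              rw [mem_stabilizer_iff, mul_smul, mul_smul, ta] at e
              exact smul_left_cancel t (e.trans tb.symm)
        _ = T := by
            rw [← sum_subgroup_eq_sum_ite, ← hT]
            refine Finset.sum_congr rfl fun d _ => ?_
            rw [← extendByZero_coe H θ' (cjt tt ta tb d)]
            rfl
  have c1 : (Nat.card H : ℂ) ≠ 0 := Nat.cast_ne_zero.2 Nat.card_pos.ne'
  have c2 : (Nat.card (Dab G α β) : ℂ) ≠ 0 := Nat.cast_ne_zero.2 Nat.card_pos.ne'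
  have c3 : (Nat.card G : ℂ) = Nat.card Ω * Nat.card H := by exact_mod_cast h.card_G α
  have c4 : (Nat.card H : ℂ) + Nat.card (Dab G α β) = Nat.card Ω * Nat.card (Dab G α β) := by
    exact_mod_cast h.card_H ne
  have h2 : ∑ x : G, (if x ∈ H then T0 else T) = Nat.card H * T0 + (Nat.card G - Nat.card H) * T := by
    have : ∀ x : G, (if x ∈ H then T0 else T) = (if x ∈ H then T0 - T else 0) + T := fun x => by
      split_ifs <;> ring
    simp_rw [this]
    rw [Finset.sum_add_distrib, ← sum_subgroup_eq_sum_ite H (fun _ => T0 - T)]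
    simp only [Finset.sum_const, Finset.card_univ, nsmul_eq_mul, Nat.card_eq_fintype_card]
    ring
  rw [ci_indFun_left _ _ (isClassFunction_indFun _ _)]
  simp only [classInner, indFun, map_mul, map_sum, map_inv₀, map_natCast]
  rw [hT, hT0]
  have h3 : ∀ a : H, θ a * ((Nat.card H : ℂ)⁻¹ * ∑ x : G, conj (extendByZero H θ' (x⁻¹ * a * x))) =
      (Nat.card H : ℂ)⁻¹ * ∑ x : G, θ a * conj (extendByZero H θ' (x⁻¹ * a * x)) := fun a => by
    rw [mul_left_comm, Finset.mul_sum]
  rw [Finset.sum_congr rfl fun a _ => h3 a]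
  rw [← Finset.mul_sum, Finset.sum_comm, Finset.sum_congr rfl fun x _ => h1 x, h2, c3]
  field_simp
  linear_combination (-T) * c4

theorem Tw.exists_inv (h : Tw G Ω) : ∃ s : G, orderOf s = 2 := by
  obtain ⟨a, -, -, h, -⟩ := h.ac.rk
  exact ⟨a, h⟩

/-- a simple group of even order with a point stabiliser of even order and odd index > 1 has no
non-trivial linear character -/
theorem Tw.lin_eq [IsSimpleGroup G] (h : Tw G Ω) (f : G →* ℂˣ) : f = 1 := by
  obtain ⟨a, b, c, ha, hb, hc, ab, ac, bc, ba, -⟩ := h.ac.rk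
  rcases f.normal_ker.eq_bot_or_eq_top with e | e
  · exfalso
    have i : Function.Injective f := (MonoidHom.ker_eq_bot_iff f).1 e
    have k : ∀ x : G, orderOf x = 2 → f x = -1 := fun x hx => by
      have h1 : f x * f x = 1 := by rw [← map_mul, ← sq, ← hx, pow_orderOf_eq_one, map_one]
      have h2 : (f x : ℂ) * f x = 1 := by simpa using congrArg Units.val h1
      rcases mul_self_eq_one_iff.1 h2 with h3 | h3
      · have : x = 1 := i (by rw [map_one]; exact Units.ext h3)
        simp [this] at hx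
      · exact Units.ext h3
    exact ba (i (by rw [k a ha, k b hb]))
  · ext x
    have : x ∈ f.ker := e ▸ mem_top x
    simpa using this

theorem Tw.St_irr (h : Tw G Ω) (ne : α ≠ β) :
    IsIrrCharacter G (indFun H (fun _ => 1) - fun _ => 1) := by
  obtain ⟨t, ht, ta, tb⟩ := h.swap α β ne
  have tt : t * t = 1 := by rw [← sq, ← ht, pow_orderOf_eq_one]
  have c : IsCharacter G (indFun H fun _ => 1) := isCharacter_one.indFun
  have e1 : ⟪indFun H (fun _ => 1), fun _ => 1⟫ = 1 := by
    rw [ci_indFun_left _ _ (isClassFunction_const _)]; exact isIrrCharacter_one.ci_self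
  have e2 := h.mackey ne tt ta tb (isClassFunction_const (1 : ℂ)) (isClassFunction_const (1 : ℂ))
  rw [isIrrCharacter_one.ci_self, isIrrCharacter_one.ci_self] at e2
  refine (c.sub_irr isIrrCharacter_one (by rw [e1]; exact one_ne_zero)).isIrr_of_ci_self ?_
  rw [ci_sub_left, ci_sub_right, ci_sub_right, e2, ← c.ci_comm isCharacter_one, e1,
    isIrrCharacter_one.ci_self]
  ring

theorem lin_triv [IsSimpleGroup G] (h : Tw G Ω) (a b : Ω) (ne : a ≠ b) (lam : stabilizer G a →* ℂˣ)
    (hl : ∀ x : stabilizer G a, (x : G) • b = b → lam x = 1) : lam = 1 := by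
  by_contra l1
  obtain ⟨t, ht, ta, tb⟩ := h.swap a b ne
  have tt : t * t = 1 := by rw [← sq, ← ht, pow_orderOf_eq_one]
  have St := h.St_irr ne
  have c : IsCharacter G (indFun _ (ch lam)) := (ch_irr lam).isCharacter.indFun
  have d1 : (fun d : Dab G a b => ch lam d) = fun _ => 1 := funext fun d => by simp [ch, hl d d.2]
  have d2 : (fun d : Dab G a b => ch lam (cjt tt ta tb d)) = fun _ => 1 := funext fun d => by
    have : ((cjt tt ta tb d : stabilizer G a) : G) • b = b := by
      show (t * d * t) • b = b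
      rw [mul_smul, mul_smul, tb, (d.1.2 : (d.1 : G) • a = a), ta]
    simp [ch, hl _ this]
  have n1 : ⟪ch lam, fun _ => 1⟫ = 0 := by
    have := ci_ch lam 1
    rwa [if_neg l1] at this
  have e1 := h.mackey ne tt ta tb (ch_irr lam).isClassFunction (ch_irr lam).isClassFunction
  rw [d1, d2, (ch_irr lam).ci_self, isIrrCharacter_one.ci_self] at e1
  have e2 := h.mackey ne tt ta tb (ch_irr lam).isClassFunction (isClassFunction_const (1 : ℂ))
  rw [d1, n1, isIrrCharacter_one.ci_self] at e2
  have e3 : ⟪indFun _ (ch lam), fun _ => 1⟫ = 0 := by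
    rw [ci_indFun_left _ _ (isClassFunction_const _)]; exact n1
  have e4 : ⟪indFun _ (ch lam), indFun (stabilizer G a) (fun _ => 1) - fun _ => 1⟫ = 1 := by
    rw [ci_sub_right, e2, e3]; ring
  have c2 := c.sub_irr St (by rw [e4]; exact one_ne_zero)
  obtain ⟨f, hf⟩ := c2.exists_hom_of_degree_one (by
    simp [indFun_apply_one, ch])
  have e5 : ⟪indFun _ (ch lam) - (indFun (stabilizer G a) (fun _ => 1) - fun _ => 1), fun _ => 1⟫ = 0 := by
    rw [ci_sub_left, e3, ci_sub_left, ci_indFun_left _ _ (isClassFunction_const _),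
      isIrrCharacter_one.ci_self, isIrrCharacter_one.ci_self]
    ring
  rw [hf, h.lin_eq f] at e5
  exact one_ne_zero (isIrrCharacter_one.ci_self.symm.trans e5)

end Cfsg.Agent.WA
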