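import Cfsg.Agent.WA.SC0
import Cfsg.Agent.BS.Block2

/-! SEA: class functions of `S ⋊ E` lifted to the point stabiliser and induced to `G`. -/

set_option autoImplicit false
set_option linter.unusedSectionVars false
set_option linter.unusedVariables false

namespace Cfsg.Agent.WA

open Cfsg Subgroup MulAction Cfsg.Agent.GT Cfsg.Agent.Cls Cfsg.Agent.GW Cfsg.Agent.Char Cfsg.Agent.B84C
open Cfsg.Agent.BS SemidirectProduct
open scoped ComplexConjugate Classical

universe u

theorem sc_inv_pow {X : Type*} [Group X] [Finite X] {g : X} (h : ¬ Odd (orderOf g)) :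
    ∃ m : ℕ, orderOf (g ^ m) = 2 := by
  obtain ⟨m, hm⟩ := Nat.not_odd_iff_even.1 h
  have p : 0 < orderOf g := orderOf_pos g
  refine ⟨m, ?_⟩
  rw [orderOf_pow' _ (by omega), hm, show m + m = 2 * m by ring, Nat.gcd_mul_left_left,
    Nat.mul_div_cancel _ (by omega)]

theorem mul_self_of_two {X : Type*} [Group X] {s : X} (h : orderOf s = 2) : s * s = 1 := by
  rw [← sq, ← h, pow_orderOf_eq_one]

theorem ne_one_of_two {X : Type*} [Group X] {s : X} (h : orderOf s = 2) : s ≠ 1 := by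
  rintro rfl; simp at h

theorem two_of_mul_self {X : Type*} [Group X] {s : X} (h : s * s = 1) (h1 : s ≠ 1) : orderOf s = 2 :=
  orderOf_eq_prime (by rw [sq, h]) h1

theorem ind_fib {A B : Type*} [Group A] [Fintype A] [Group B] [Fintype B] (f : A →* B)
    (hf : Function.Surjective f) {θ : A → ℂ} (hθ : IsClassFunction A θ) (y : B) :
    Nat.card f.ker * ind f θ y = ∑ a, if f a = y then θ a else 0 := by
  have k : ∀ x : B, (∑ a, if f a = x⁻¹ * y * x then θ a else 0) = ∑ a, if f a = y then θ a else 0 := by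
    intro x
    obtain ⟨c, rfl⟩ := hf x
    refine (Fintype.sum_equiv (MulAut.conj c⁻¹).toEquiv _ _ fun a => ?_).symm
    simp [hθ.conj']
  have c := card_eq_card_ker_mul f hf
  rw [ind, Finset.sum_congr rfl fun x _ => k x, Finset.sum_const, nsmul_eq_mul, Finset.card_univ,
    ← Nat.card_eq_fintype_card, c]
  have c1 : (Nat.card f.ker : ℂ) ≠ 0 := Nat.cast_ne_zero.2 Nat.card_pos.ne'
  have c2 : (Nat.card B : ℂ) ≠ 0 := Nat.cast_ne_zero.2 Nat.card_pos.ne'
  push_cast
  field_simp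

variable {G Ω : Type u} [Group G] [MulAction G Ω] {α β : Ω} {t : G}

theorem Tw.fix_eq (h : Tw G Ω) {s : G} (hs : orderOf s = 2) {a b : Ω} (ha : s • a = a)
    (hb : s • b = b) : a = b := (h.ac.fix s hs).unique ha hb

theorem Tw.mem_of_comm (h : Tw G Ω) {s g : G} (hs : orderOf s = 2) (ha : s • α = α)
    (c : g * s = s * g) : g ∈ stabilizer G α :=
  h.fix_eq hs (by rw [← mul_smul, ← c, mul_smul, ha]) ha

theorem Tw.mem_of_even [Finite G] (h : Tw G Ω) {g x : G} (hg : ¬ Odd (orderOf g))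
    (ha : g ∈ stabilizer G α) (hx : x⁻¹ * g * x ∈ stabilizer G α) : x ∈ stabilizer G α := by
  obtain ⟨m, hm⟩ := sc_inv_pow hg
  refine h.fix_eq hm ?_ (pow_mem ha m)
  have := pow_mem hx m
  rw [show (x⁻¹ * g * x) ^ m = x⁻¹ * g ^ m * x by simpa using conj_pow (a := x⁻¹) (b := g) (i := m),
    mem_stabilizer_iff, mul_smul, mul_smul, inv_smul_eq_iff] at this
  exact this

theorem Tw.exists_conj [Finite G] (h : Tw G Ω) (α : Ω) {g : G} (hg : ¬ Odd (orderOf g)) :
    ∃ x : G, x⁻¹ * g * x ∈ stabilizer G α := by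
  obtain ⟨m, hm⟩ := sc_inv_pow hg
  obtain ⟨a, ha, -⟩ := h.ac.fix _ hm
  obtain ⟨x, rfl⟩ := h.ac.tr α a
  have : g ∈ stabilizer G (x • α) := h.mem_of_comm hm ha (by group)
  exact ⟨x, by rw [mem_stabilizer_iff, mul_smul, mul_smul, this, inv_smul_smul]⟩

variable [Fintype G] {S E : Type u} [CommGroup S] [Group E] {φ : E →* MulAut S}
  {π : stabilizer G α →* S ⋊[φ] E} {τ : E →* E} {Z : Subgroup E}

local notation3 "H" => stabilizer G α

/-- inflate and induce -/
noncomputable def Up (π : H →* S ⋊[φ] E) (θ : S ⋊[φ] E → ℂ) : G → ℂ := indFun H fun h => θ (π h)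

theorem Up_class (θ : S ⋊[φ] E → ℂ) : IsClassFunction G (Up π θ) := isClassFunction_indFun _ _

theorem Up_char {θ : S ⋊[φ] E → ℂ} (h : IsCharacter _ θ) : IsCharacter G (Up π θ) :=
  (h.comp π).indFun

theorem Up_sub (θ θ' : S ⋊[φ] E → ℂ) : Up π (θ - θ') = Up π θ - Up π θ' := indFun_sub _ _ _

theorem Md.tt (M : Md α β t φ π τ Z) : t * t = 1 := mul_self_of_two M.ord

theorem Md.fin (M : Md α β t φ π τ Z) : Finite (S ⋊[φ] E) := Finite.of_surjective _ M.surj

theorem Md.finS (M : Md α β t φ π τ Z) : Finite S :=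
  haveI := M.fin; Finite.of_injective _ (inl_injective (φ := φ))

theorem Md.finE (M : Md α β t φ π τ Z) : Finite E :=
  haveI := M.fin; Finite.of_injective _ (inr_injective (φ := φ))

theorem Md.Up_one (M : Md α β t φ π τ Z) (θ : S ⋊[φ] E → ℂ) : Up π θ 1 = Nat.card Ω * θ 1 := by
  rw [Up, indFun_apply_one, M.tw.index, map_one]

theorem Md.Up_even (M : Md α β t φ π τ Z) {θ : S ⋊[φ] E → ℂ} (hθ : IsClassFunction _ θ) (g : H)
    (hg : ¬ Odd (orderOf (g : G))) : Up π θ g = θ (π g) :=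
  indFun_apply_of_TI _ (hθ.comp π) g fun x hx _ => M.tw.mem_of_even hg g.2 hx

theorem Md.odd_iff (M : Md α β t φ π τ Z) (g : H) : Odd (orderOf (π g)) ↔ Odd (orderOf (g : G)) := by
  rw [orderOf_coe]
  refine ⟨fun h => ?_, fun h => h.of_dvd_nat (orderOf_map_dvd π g)⟩
  have h1 : g ^ orderOf (π g) ∈ π.ker := by rw [MonoidHom.mem_ker, map_pow, pow_orderOf_eq_one]
  have h2 := orderOf_dvd_card_of_mem h1
  refine (h.mul M.ker).of_dvd_nat (orderOf_dvd_of_pow_eq_one ?_)
  rw [pow_mul]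
  exact orderOf_dvd_iff_pow_eq_one.1 h2

theorem Md.two_map (M : Md α β t φ π τ Z) {g : H} (hg : orderOf (g : G) = 2) : orderOf (π g) = 2 := by
  refine two_of_mul_self ?_ fun e => ?_
  · rw [← map_mul, show g * g = 1 from Subtype.ext (mul_self_of_two hg), map_one]
  · have := (M.odd_iff g).1 (by simp [e])
    rw [hg] at this
    exact absurd this (by decide)

theorem Md.right_two (M : Md α β t φ π τ Z) {y : S ⋊[φ] E} (hy : y * y = 1) : y.right = 1 := by
  haveI := M.finE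
  have h1 : y.right ^ 2 = 1 := by simpa [sq] using congrArg SemidirectProduct.right hy
  have := Nat.dvd_gcd (orderOf_dvd_of_pow_eq_one h1) (orderOf_dvd_natCard y.right)
  rw [(Nat.coprime_two_left.2 M.oE), Nat.dvd_one, orderOf_eq_one_iff] at this
  exact this

theorem eq_inl {y : S ⋊[φ] E} (hy : y.right = 1) : y = inl y.left := by ext <;> simp [hy]

theorem Md.left_two (M : Md α β t φ π τ Z) {g : H} (hg : orderOf (g : G) = 2) :
    π g = inl (π g).left ∧ orderOf (π g).left = 2 := by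
  have h1 := M.two_map hg
  have h2 := eq_inl (M.right_two (mul_self_of_two h1))
  refine ⟨h2, ?_⟩
  rw [h2, orderOf_injective _ inl_injective] at h1
  exact h1

theorem Md.lift (M : Md α β t φ π τ Z) {x : S} (hx : orderOf x = 2) :
    ∃ s : H, orderOf (s : G) = 2 ∧ π s = inl x := by
  obtain ⟨g, hg⟩ := M.surj (inl x)
  have h1 : orderOf (π g) = 2 := by rw [hg, orderOf_injective _ inl_injective, hx]
  have h2 : ¬ Odd (orderOf (g : G)) := by rw [← M.odd_iff, h1]; decide
  obtain ⟨m, hm⟩ := sc_inv_pow h2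
  refine ⟨g ^ m, hm, ?_⟩
  have h3 := M.two_map (g := g ^ m) hm
  rw [map_pow] at h3 ⊢
  rcases Nat.even_or_odd' m with ⟨k, rfl | rfl⟩
  · rw [pow_mul, sq, mul_self_of_two h1] at h3
    simp at h3
  · rw [pow_succ, pow_mul, sq, mul_self_of_two h1, one_pow, one_mul, hg]

variable [Fintype S] [Fintype E] [Fintype (S ⋊[φ] E)]

theorem Md.ci_Up (M : Md α β t φ π τ Z) {θ θ' : S ⋊[φ] E → ℂ} (hθ : IsClassFunction _ θ)
    (hθ' : IsClassFunction _ θ') :
    ⟪Up π θ, Up π θ'⟫ = ⟪θ, θ'⟫ + ⟪fun e : E => θ (inr e), fun e => θ' (inr (τ e))⟫ := by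
  rw [Up, Up, M.tw.mackey M.ne M.tt M.ta M.tb (hθ.comp π) (hθ'.comp π), ci_comp_surjective π M.surj]
  congr 1
  let ρ : Dab G α β →* E := rightHom.comp (π.comp (Dab G α β).subtype)
  have hρ : Function.Surjective ρ := fun e => by
    obtain ⟨h, h1, h2⟩ := M.right e
    exact ⟨⟨h, h1⟩, h2⟩
  rw [← ci_comp_surjective ρ hρ]
  congr 1
  · funext d
    congr 1
    ext
    · simpa using M.left d d.2
    · rfl
  · funext d
    congr 1
    ext
    · refine M.left _ ?_
      show (t * d * t) • β = β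
      rw [mul_smul, mul_smul, M.tb, (d.1.2 : (d.1 : G) • α = α), M.ta]
    · exact M.tau d _ d.2 rfl

/-- the part of the restriction on which the kernel acts trivially -/
noncomputable def push (π : H →* S ⋊[φ] E) (χ : G → ℂ) : S ⋊[φ] E → ℂ := ind π fun h => χ h

theorem push_char {χ : G → ℂ} (h : IsCharacter G χ) : IsCharacter _ (push π χ) :=
  (h.restrict _).ind π

theorem ci_Up_left (θ : S ⋊[φ] E → ℂ) (hθ : IsClassFunction _ θ) {χ : G → ℂ}
    (h : IsClassFunction G χ) : ⟪Up π θ, χ⟫ = ⟪θ, push π χ⟫ := by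
  rw [Up, ci_indFun_left _ _ h, push, ci_ind_right _ hθ]

theorem Md.ci_Up_one (M : Md α β t φ π τ Z) {θ : S ⋊[φ] E → ℂ} :
    ⟪Up π θ, fun _ => 1⟫ = ⟪θ, fun _ => 1⟫ := by
  rw [Up, ci_indFun_left _ _ (isClassFunction_const _), ← ci_comp_surjective π M.surj]

theorem Md.push_one (M : Md α β t φ π τ Z) {χ : G → ℂ} (h : IsCharacter G χ) :
    (push π χ 1).re ≤ (χ 1).re := by
  have h1 := congrArg Complex.re (ind_fib π M.surj (h.isClassFunction.restrict H) 1)
  have h2 := congrArg Complex.re (sum_fib π 1 (χ 1))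
  have c : (0 : ℝ) < Nat.card π.ker := Nat.cast_pos.2 Nat.card_pos
  rw [Complex.re_sum] at h1 h2
  simp only [Complex.mul_re, Complex.natCast_re, Complex.natCast_im, zero_mul, sub_zero, map_one] at h1 h2
  refine le_of_mul_le_mul_left ?_ c
  rw [push, h1, ← h2]
  refine Finset.sum_le_sum fun a _ => ?_
  split_ifs
  · exact h.re_le _
  · exact le_rfl

theorem Md.B0_fib (M : Md α β t φ π τ Z) {χ : G → ℂ} (h : χ ∈ B0 G) {s g : H}
    (hs : orderOf (s : G) = 2) (e : π g = π s) : χ g = χ s := by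
  have h1 := M.two_map hs
  have h2 : g ^ 2 ∈ π.ker := by rw [MonoidHom.mem_ker, map_pow, e, ← h1, pow_orderOf_eq_one]
  obtain ⟨k, hk⟩ := M.ker.of_dvd_nat (orderOf_dvd_card_of_mem h2)
  have h3 : (g ^ 2) ^ (2 * k + 1) = 1 := by rw [← hk, pow_orderOf_eq_one]
  have hz : orderOf ((g : G) ^ (2 * k + 1)) = 2 := by
    refine two_of_mul_self ?_ fun e1 => ?_
    · rw [← pow_add, ← two_mul, pow_mul]
      exact congrArg Subtype.val h3
    · have e2 : g ^ (2 * k + 1) = 1 := Subtype.ext e1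
      have := congrArg π e2
      rw [map_pow, pow_succ, pow_mul, e, ← h1, pow_orderOf_eq_one] at this
      exact ne_one_of_two h1 (by simpa using this)
  have zH : (g : G) ^ (2 * k + 1) • α = α := pow_mem g.2 _
  have := B0_apply_mul_odd hz (π.ker.map (H).subtype ⊓ C1[(g : G) ^ (2 * k + 1)])
    (fun o ho => mem_cent1.1 ho.2) ?_ ?_ h (v := ((g : G) ^ (2 * k))⁻¹)
    ⟨⟨_, inv_mem (pow_mem h2 k), by simp [pow_mul]⟩, mem_cent1.2 (by group)⟩
  · rw [show (g : G) ^ (2 * k + 1) * ((g : G) ^ (2 * k))⁻¹ = g by group] at this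
    rw [this]
    exact (B0_irr h).isClassFunction.eq_of_isConj (M.tw.cj _ _ hz hs)
  · rintro c hc _ ⟨⟨o, ho, rfl⟩, ho2⟩
    have cH := M.tw.mem_of_comm hz zH hc
    exact ⟨⟨_, π.normal_ker.conj_mem o ho ⟨c, cH⟩, rfl⟩,
      Subgroup.mul_mem _ (Subgroup.mul_mem _ (mem_cent1.2 hc) ho2) (Subgroup.inv_mem _ (mem_cent1.2 hc))⟩
  · refine odd_card_of_le ?_ inf_le_left
    rw [card_map_inj (subtype_injective _)]
    exact M.ker

theorem Md.push_B0 (M : Md α β t φ π τ Z) {χ : G → ℂ} (h : χ ∈ B0 G) {s : H}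
    (hs : orderOf (s : G) = 2) : push π χ (π s) = χ s := by
  have h1 := ind_fib π M.surj ((B0_irr h).isClassFunction.restrict H) (π s)
  have h2 := h1.trans ((Finset.sum_congr rfl fun a _ => ?_).trans (sum_fib π s (χ s)))
  · exact mul_left_cancel₀ (Nat.cast_ne_zero.2 Nat.card_pos.ne') h2
  · split_ifs with e
    · exact M.B0_fib h hs e
    · rfl

end Cfsg.Agent.WA
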