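import Cfsg.Agent.WA.SC1
import Cfsg.Agent.PF.Normal

/-! SEA: monomial characters of `S ⋊ E`. -/

set_option autoImplicit false
set_option linter.unusedSectionVars false
set_option linter.unusedVariables false

namespace Cfsg.Agent.WA

open Cfsg Subgroup MulAction Cfsg.Agent.GT Cfsg.Agent.Cls Cfsg.Agent.GW Cfsg.Agent.Char Cfsg.Agent.B84C
open Cfsg.Agent.BS SemidirectProduct Cfsg.Agent.PF
open scoped ComplexConjugate Classical

universe u

variable {S E : Type u} [CommGroup S] [Group E] (φ : E →* MulAut S)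

/-- action on the dual group -/
def ac (g : E) : (S →* ℂˣ) →* (S →* ℂˣ) where
  toFun ν := ν.comp (φ g⁻¹).toMonoidHom
  map_one' := rfl
  map_mul' _ _ := rfl

variable {φ}

theorem ac_apply (g : E) (ν : S →* ℂˣ) (x : S) : ac φ g ν x = ν (φ g⁻¹ x) := rfl

theorem ac_one (ν : S →* ℂˣ) : ac φ 1 ν = ν := by ext x; simp [ac_apply]

theorem ac_mul (g h : E) (ν : S →* ℂˣ) : ac φ (g * h) ν = ac φ g (ac φ h ν) := by
  ext x; simp [ac_apply]

theorem ac_pow (g : E) (ν : S →* ℂˣ) (n : ℕ) : ac φ g (ν ^ n) = ac φ g ν ^ n := by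
  ext x; simp [ac_apply]

theorem ac_inv (g : E) (ν : S →* ℂˣ) : ac φ g ν⁻¹ = (ac φ g ν)⁻¹ := by
  ext x; simp [ac_apply]

theorem ac_inv_ac (g : E) (ν : S →* ℂˣ) : ac φ g⁻¹ (ac φ g ν) = ν := by
  rw [← ac_mul, inv_mul_cancel, ac_one]

theorem ac_inj (g : E) : Function.Injective (ac φ g) := fun a b e => by
  rw [← ac_inv_ac (φ := φ) g a, e, ac_inv_ac]

theorem ac_eq_one {g : E} {ν : S →* ℂˣ} : ac φ g ν = 1 ↔ ν = 1 :=
  ⟨fun e => ac_inj g (e.trans (map_one _).symm), fun e => by rw [e, map_one]⟩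

variable (φ) in
/-- stabiliser of a character -/
def stb (ν : S →* ℂˣ) : Subgroup E where
  carrier := {g | ac φ g ν = ν}
  one_mem' := ac_one ν
  mul_mem' {a b} ha hb := by
    show ac φ (a * b) ν = ν
    rw [ac_mul, hb, ha]
  inv_mem' {a} ha := by
    show ac φ a⁻¹ ν = ν
    conv_lhs => rw [← ha]
    exact ac_inv_ac a ν

theorem mem_stb {ν : S →* ℂˣ} {g : E} : g ∈ stb φ ν ↔ ac φ g ν = ν := Iff.rfl

theorem stb_apply {ν : S →* ℂˣ} {g : E} (h : g ∈ stb φ ν) (x : S) : ν (φ g x) = ν x := by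
  have := DFunLike.congr_fun (mem_stb.1 (inv_mem h)) x
  rwa [ac_apply, inv_inv] at this

theorem stb_le_pow (ν : S →* ℂˣ) (n : ℕ) : stb φ ν ≤ stb φ (ν ^ n) := fun g h => by
  rw [mem_stb, ac_pow, mem_stb.1 h]

variable [Fintype S] [Fintype E] [Fintype (S ⋊[φ] E)]

variable (φ) in
/-- the character induced from `S ⋊ B` -/
noncomputable def om (B : Subgroup E) (ν : S →* ℂˣ) (l : E →* ℂˣ) : S ⋊[φ] E → ℂ := fun y =>
  l y.right * ((Nat.card B : ℂ)⁻¹ * ∑ g : E, if g⁻¹ * y.right * g ∈ B then (ac φ g ν y.left : ℂ) else 0)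

theorem sum_sd (f : S ⋊[φ] E → ℂ) : ∑ y, f y = ∑ e : E, ∑ x : S, f ⟨x, e⟩ := by
  rw [← Fintype.sum_prod_type']
  exact Fintype.sum_equiv ⟨fun y => (y.right, y.left), fun p => ⟨p.2, p.1⟩, fun _ => rfl, fun _ => rfl⟩
    _ _ fun _ => rfl

theorem card_sd : Nat.card (S ⋊[φ] E) = Nat.card S * Nat.card E := SemidirectProduct.card

theorem card_KB (B : Subgroup E) :
    Nat.card (B.comap (rightHom : S ⋊[φ] E →* E)) = Nat.card S * Nat.card B := by
  rw [← Nat.card_prod]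
  exact Nat.card_congr ⟨fun y => (y.1.left, ⟨y.1.right, y.2⟩), fun p => ⟨⟨p.1, p.2⟩, p.2.2⟩,
    fun _ => rfl, fun _ => rfl⟩

/-- the inducing linear character -/
def eta1 {B : Subgroup E} {ν : S →* ℂˣ} (h : B ≤ stb φ ν) (l : E →* ℂˣ) :
    B.comap (rightHom : S ⋊[φ] E →* E) →* ℂˣ where
  toFun y := ν y.1.left * l y.1.right
  map_one' := by simp
  map_mul' a b := by
    have := stb_apply (h a.2) b.1.left
    simp only [coe_mul, mul_left, mul_right, map_mul]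
    rw [show ν (φ a.1.right b.1.left) = ν b.1.left from this]
    exact mul_mul_mul_comm _ _ _ _

theorem om_eq {B : Subgroup E} {ν : S →* ℂˣ} (h : B ≤ stb φ ν) (l : E →* ℂˣ) :
    om φ B ν l = indFun _ (ch (eta1 h l)) := by
  funext y
  have c1 : (Nat.card S : ℂ) ≠ 0 := Nat.cast_ne_zero.2 Nat.card_pos.ne'
  have k : ∀ (g : E) (c : S), extendByZero _ (ch (eta1 h l)) ((⟨c, g⟩ : S ⋊[φ] E)⁻¹ * y * ⟨c, g⟩) =
      l y.right * if g⁻¹ * y.right * g ∈ B then (ac φ g ν y.left : ℂ) else 0 := by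
    intro g c
    split_ifs with hg
    · rw [extendByZero_of_mem _ _ (show _ ∈ B.comap rightHom from hg)]
      have := stb_apply (h hg) (φ g⁻¹ c)
      simp only [map_mul, MulAut.mul_apply, map_inv, MulAut.apply_inv_self] at this
      simp only [MulAut.inv_def] at this
      simp [ch, eta1, ac_apply, MulAut.inv_def, this, mul_comm, mul_left_comm]
    · rw [extendByZero_of_not_mem _ _ (show _ ∉ B.comap rightHom from hg), mul_zero]
  rw [indFun, sum_sd, card_KB, om]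
  simp only [k, Finset.sum_const, Finset.card_univ, nsmul_eq_mul, ← Finset.mul_sum,
    ← Nat.card_eq_fintype_card]
  push_cast
  field_simp

theorem om_char {B : Subgroup E} {ν : S →* ℂˣ} (h : B ≤ stb φ ν) (l : E →* ℂˣ) :
    IsCharacter _ (om φ B ν l) := om_eq h l ▸ (ch_irr _).isCharacter.indFun

theorem ci_om {B : Subgroup E} {ν : S →* ℂˣ} (h : B ≤ stb φ ν) (l : E →* ℂˣ) {θ : S ⋊[φ] E → ℂ}
    (hθ : IsClassFunction _ θ) : ⟪om φ B ν l, θ⟫ = ((Nat.card S : ℂ) * Nat.card B)⁻¹ *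
      ∑ e : B, ∑ x : S, ν x * l e * conj (θ ⟨x, e⟩) := by
  rw [om_eq h, ci_indFun_left _ _ hθ, ci_def, card_KB, Nat.cast_mul, ← Fintype.sum_prod_type']
  congr 1
  exact Fintype.sum_equiv ⟨fun y => (⟨y.1.right, y.2⟩, y.1.left), fun p => ⟨⟨p.2, p.1⟩, p.1.2⟩,
    fun _ => rfl, fun _ => rfl⟩ _ _ fun y => by simp [ch, eta1]

theorem sum_ch (ν ν' : S →* ℂˣ) :
    ∑ x, (ν x : ℂ) * conj (ν' x : ℂ) = if ν = ν' then (Nat.card S : ℂ) else 0 := by
  have := card_mul_ci (ch ν) (ch ν')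
  rw [ci_ch] at this
  rw [show ∑ x, (ν x : ℂ) * conj (ν' x : ℂ) = _ from this.symm]
  split_ifs <;> simp

theorem ci_om_om {B B' : Subgroup E} {ν ν' : S →* ℂˣ} (h : B ≤ stb φ ν) (h' : B' ≤ stb φ ν')
    (l l' : E →* ℂˣ) : ⟪om φ B ν l, om φ B' ν' l'⟫ = ((Nat.card B : ℂ) * Nat.card B')⁻¹ *
      ∑ g : E, if ν = ac φ g ν' then
        ∑ e : B, if g⁻¹ * e * g ∈ B' then l e * conj (l' e : ℂ) else 0 else 0 := by
  have c1 : (Nat.card S : ℂ) ≠ 0 := Nat.cast_ne_zero.2 Nat.card_pos.ne'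
  rw [ci_om h l (om_char h' l').isClassFunction]
  have k : ∀ e : B, ∑ x : S, ν x * l e * conj (om φ B' ν' l' ⟨x, e⟩) =
      (Nat.card S : ℂ) * (Nat.card B' : ℂ)⁻¹ * ∑ g : E, if ν = ac φ g ν' then
        (if g⁻¹ * e * g ∈ B' then l e * conj (l' e : ℂ) else 0) else 0 := by
    intro e
    simp only [om, map_mul, map_inv₀, map_natCast, map_sum, Finset.mul_sum]
    rw [Finset.sum_comm]
    refine Finset.sum_congr rfl fun g _ => ?_
    by_cases hg : g⁻¹ * e * g ∈ B'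
    · simp only [if_pos hg]
      have := sum_ch ν (ac φ g ν')
      calc _ = l e * conj (l' e : ℂ) * (Nat.card B' : ℂ)⁻¹ * ∑ x, (ν x : ℂ) * conj (ac φ g ν' x : ℂ) := by
            rw [Finset.mul_sum]; exact Finset.sum_congr rfl fun x _ => by ring
        _ = _ := by rw [this]; split_ifs <;> ring
    · simp [if_neg hg]
  rw [Finset.sum_congr rfl fun e _ => k e, ← Finset.mul_sum, Finset.sum_comm]
  simp only [Finset.sum_ite_irrel, Finset.sum_const_zero]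
  field_simp

theorem ci_om_of_not {B B' : Subgroup E} {ν ν' : S →* ℂˣ} (h : B ≤ stb φ ν) (h' : B' ≤ stb φ ν')
    (l l' : E →* ℂˣ) (n : ∀ g, ν ≠ ac φ g ν') : ⟪om φ B ν l, om φ B' ν' l'⟫ = 0 := by
  simp [ci_om_om h h', n]

theorem ci_om_lin {B : Subgroup E} {ν : S →* ℂˣ} (h : B ≤ stb φ ν) (l l' : E →* ℂˣ) :
    ⟪om φ B ν l, ch (l'.comp rightHom)⟫ =
      if ν = 1 then ⟪fun e : B => (l e : ℂ), fun e => (l' e : ℂ)⟫ else 0 := by
  have c1 : (Nat.card S : ℂ) ≠ 0 := Nat.cast_ne_zero.2 Nat.card_pos.ne'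
  rw [ci_om h l (ch_irr _).isClassFunction]
  have k : ∀ e : B, ∑ x : S, ν x * l e * conj (ch (l'.comp (rightHom : S ⋊[φ] E →* E)) ⟨x, e⟩) =
      (if ν = 1 then (Nat.card S : ℂ) else 0) * (l e * conj (l' e : ℂ)) := by
    intro e
    rw [← sum_ch, Finset.sum_mul]
    exact Finset.sum_congr rfl fun x _ => by simp [ch]; ring
  rw [Finset.sum_congr rfl fun e _ => k e, ← Finset.mul_sum, ci_def]
  split_ifs
  · field_simp
  · simp

theorem om_inr (B : Subgroup E) (ν : S →* ℂˣ) (l : E →* ℂˣ) :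
    (fun e => om φ B ν l (inr e)) = indFun B fun b => (l b : ℂ) := by
  funext e
  rw [om, indFun, mul_left_comm, Finset.mul_sum]
  congr 1
  refine Finset.sum_congr rfl fun g _ => ?_
  simp only [right_inr, left_inr, map_one, Units.val_one]
  split_ifs with hg
  · rw [extendByZero_of_mem _ _ hg]; simp [mul_comm]
  · rw [extendByZero_of_not_mem _ _ hg, mul_zero]

theorem om_bot (ν : S →* ℂˣ) (y : S ⋊[φ] E) :
    om φ ⊥ ν 1 y = if y.right = 1 then ∑ g, (ac φ g ν y.left : ℂ) else 0 := by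
  have : ∀ g : E, g⁻¹ * y.right * g = 1 ↔ y.right = 1 := fun g => by
    rw [mul_assoc, inv_mul_eq_one, eq_comm, mul_eq_right]
  simp [om, this, Finset.sum_ite_irrel]

theorem om_bot_ac (ν : S →* ℂˣ) (g : E) : om φ ⊥ (ac φ g ν) 1 = om φ ⊥ ν 1 := by
  funext y
  rw [om_bot, om_bot]
  congr 1
  exact Fintype.sum_equiv (Equiv.mulRight g) _ _ fun a => by simp [ac_mul]

theorem ci_om_bot (ν : S →* ℂˣ) {θ : S ⋊[φ] E → ℂ} (hθ : IsClassFunction _ θ) :
    ⟪om φ ⊥ ν 1, θ⟫ = ⟪ch ν, fun x => θ (inl x)⟫ := by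
  rw [ci_om bot_le 1 hθ, ci_def, Fintype.sum_subsingleton _ (1 : (⊥ : Subgroup E))]
  simp only [card_bot, Nat.cast_one, mul_one, MonoidHom.one_apply, Units.val_one]
  rfl

end Cfsg.Agent.WA
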