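import Cfsg.Agent.WA.SC2

/-! SEA: the dual group, Fourier expansion, products of involutions. -/

set_option autoImplicit false
set_option linter.unusedSectionVars false
set_option linter.unusedVariables false

namespace Cfsg.Agent.WA

open Cfsg Subgroup MulAction Cfsg.Agent.GT Cfsg.Agent.Cls Cfsg.Agent.GW Cfsg.Agent.Char Cfsg.Agent.B84C
open Cfsg.Agent.BS SemidirectProduct Cfsg.Agent.PF
open scoped ComplexConjugate Classical

universe u

variable {G Ω : Type u} [Group G] [MulAction G Ω] {α β : Ω} {t : G}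
  [Fintype G] {S E : Type u} [CommGroup S] [Group E] {φ : E →* MulAut S}
  {π : stabilizer G α →* S ⋊[φ] E} {τ : E →* E} {Z : Subgroup E}
  [Fintype S] [Fintype E] [Fintype (S ⋊[φ] E)]

local notation3 "H" => stabilizer G α

theorem dual_equiv (S : Type u) [CommGroup S] [Finite S] : Nonempty ((S →* ℂˣ) ≃* S) :=
  haveI : NeZero (Monoid.exponent S) := ⟨Monoid.exponent_ne_zero_of_finite⟩
  CommGroup.monoidHom_mulEquiv_of_hasEnoughRootsOfUnity S ℂ

theorem Md.ac_fpf (M : Md α β t φ π τ Z) {z : E} (hz : z ∈ Z) {ν : S →* ℂˣ} (h : ac φ z ν = ν) :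
    z = 1 ∨ ν = 1 := by
  by_cases z1 : z = 1
  · exact Or.inl z1
  right
  let f : S →* S := (φ z).toMonoidHom * (MonoidHom.id S)⁻¹
  have hf : Function.Injective f := (injective_iff_map_eq_one f).2 fun x hx =>
    (M.fpf z hz x (mul_inv_eq_one.1 hx)).resolve_left z1
  ext x
  obtain ⟨y, rfl⟩ := Finite.surjective_of_injective hf x
  have := stb_apply (φ := φ) (g := z) h y
  simp [f, this]

theorem Md.bij (M : Md α β t φ π τ Z) {x : S} (hx : orderOf x = 2) :
    Function.Bijective fun z : Z => (⟨φ z x, by rw [MulEquiv.orderOf_eq, hx]⟩ : {y : S // orderOf y = 2}) := by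
  constructor
  · intro a b e
    have e1 : φ a x = φ b x := congrArg Subtype.val e
    have := M.fpf _ (b⁻¹ * a).2 x (by simp [e1])
    exact (inv_mul_eq_one.1 (Subtype.ext (this.resolve_right (ne_one_of_two hx)))).symm
  · rintro ⟨y, hy⟩
    obtain ⟨z, hz, e⟩ := M.reg x y hx hy
    exact ⟨⟨z, hz⟩, Subtype.ext e⟩

theorem Md.card_Z (M : Md α β t φ π τ Z) : Nat.card Z = Nat.card {y : S // orderOf y = 2} := by
  obtain ⟨x, -, hx, -⟩ := M.big
  exact Nat.card_eq_of_bijective _ (M.bij hx)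

theorem Md.card_Z' (M : Md α β t φ π τ Z) : Nat.card Z = Nat.card {y : S →* ℂˣ // orderOf y = 2} := by
  obtain ⟨e⟩ := dual_equiv S
  rw [M.card_Z]
  exact Nat.card_congr (e.toEquiv.subtypeEquiv fun y => by rw [← e.orderOf_eq y]; rfl).symm

theorem Md.three (M : Md α β t φ π τ Z) : 3 ≤ Nat.card Z := by
  obtain ⟨x, y, hx, hy, ne⟩ := M.big
  have h1 : 1 < Nat.card {y : S // orderOf y = 2} :=
    Finite.one_lt_card_iff_nontrivial.2 ⟨⟨⟨x, hx⟩, ⟨y, hy⟩, fun e => ne (congrArg Subtype.val e)⟩⟩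
  obtain ⟨k, hk⟩ := M.oE.of_dvd_nat Z.card_subgroup_dvd_card
  have := M.card_Z
  omega

theorem Md.ac_reg (M : Md α β t φ π τ Z) {μ μ' : S →* ℂˣ} (h : orderOf μ = 2) (h' : orderOf μ' = 2) :
    ∃ z ∈ Z, ac φ z μ = μ' := by
  let f : Z → {y : S →* ℂˣ // orderOf y = 2} := fun z =>
    ⟨ac φ z μ, by rw [orderOf_injective _ (ac_inj _), h]⟩
  have hf : Function.Injective f := fun a b e => by
    have e1 : ac φ a μ = ac φ b μ := congrArg Subtype.val e
    have := M.ac_fpf (b⁻¹ * a).2 (ν := μ) (by rw [coe_mul, ac_mul, e1, coe_inv, ac_inv_ac])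
    exact (inv_mul_eq_one.1 (Subtype.ext (this.resolve_right (ne_one_of_two h)))).symm
  obtain ⟨z, hz⟩ := ((Nat.bijective_iff_injective_and_card f).2 ⟨hf, M.card_Z'⟩).2 ⟨μ', h'⟩
  exact ⟨z, z.2, congrArg Subtype.val hz⟩

theorem Md.pD (M : Md α β t φ π τ Z) : IsPGroup 2 (S →* ℂˣ) :=
  M.pS.of_equiv (dual_equiv S).some.symm

theorem two_pow_of_pgroup {X : Type*} [Group X] [Finite X] (h : IsPGroup 2 X) {x : X} (hx : x ≠ 1) :
    ∃ m : ℕ, orderOf (x ^ m) = 2 := by
  refine sc_inv_pow fun o => hx ?_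
  obtain ⟨k, hk⟩ := h x
  have := Nat.dvd_gcd (orderOf_dvd_of_pow_eq_one hk) (dvd_refl (orderOf x))
  rwa [(Nat.coprime_two_left.2 o).pow_left k, Nat.dvd_one, orderOf_eq_one_iff] at this

theorem Md.not_real (M : Md α β t φ π τ Z) {μ : S →* ℂˣ} (h : μ * μ ≠ 1) (g : E) : μ ≠ ac φ g μ⁻¹ := by
  intro e
  have h1 : g ^ 2 ∈ stb φ μ := by
    rw [mem_stb, sq, ac_mul]
    have : ac φ g μ = μ⁻¹ := by
      rw [ac_inv] at e
      exact (inv_eq_iff_eq_inv (G := S →* ℂˣ)).1 e.symm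
    rw [this, ← e]
  obtain ⟨k, hk⟩ := M.oE
  have h2 : g ∈ stb φ μ := by
    have := pow_mem h1 (k + 1)
    rwa [← pow_mul, show 2 * (k + 1) = Nat.card E + 1 by omega, pow_succ, pow_card_eq_one', one_mul] at this
  rw [ac_inv, mem_stb.1 h2] at e
  exact h ((mul_eq_one_iff_eq_inv (G := S →* ℂˣ)).2 e)

theorem Md.sum_Z (M : Md α β t φ π τ Z) {ν : S →* ℂˣ} {y : S} (hy : orderOf y = 2) (hν : ν y ≠ 1)
    {x : S} (hx : orderOf x = 2) : ∑ z : Z, (ac φ z ν x : ℂ) = -1 := by
  have h1 : ∑ z : Z, (ac φ z ν x : ℂ) = ∑ w : {y : S // orderOf y = 2}, (ν w : ℂ) := by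
    rw [← Fintype.sum_bijective _ (M.bij hx) (fun z : Z => (ν (φ z x) : ℂ)) _ fun _ => rfl]
    exact Fintype.sum_equiv (Equiv.inv Z) _ _ fun z => rfl
  have h2 : ∑ w : S, (if w * w = 1 then (ν w : ℂ) else 0) = 0 := by
    have : (ν y : ℂ) * ∑ w : S, (if w * w = 1 then (ν w : ℂ) else 0) =
        ∑ w : S, (if w * w = 1 then (ν w : ℂ) else 0) := by
      rw [Finset.mul_sum]
      refine Fintype.sum_equiv (Equiv.mulLeft y) _ _ fun w => ?_
      simp [mul_mul_mul_comm y w y w, mul_self_of_two hy]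
    by_contra n
    exact hν (Units.ext ((mul_eq_right₀ n).1 this))
  have h3 : ∀ w : S, (if w * w = 1 then (ν w : ℂ) else 0) =
      (if orderOf w = 2 then (ν w : ℂ) else 0) + if w = 1 then 1 else 0 := fun w => by
    by_cases w1 : w = 1
    · simp [w1]
    · by_cases w2 : w * w = 1
      · simp [w1, w2, two_of_mul_self w2 w1]
      · have : orderOf w ≠ 2 := fun e => w2 (mul_self_of_two e)
        simp [w1, w2, this]
  rw [Finset.sum_congr rfl fun w _ => h3 w, Finset.sum_add_distrib, ← Finset.sum_filter,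
    Finset.sum_subtype (p := fun w => orderOf w = 2) _ (by simp)] at h2
  rw [h1]
  simp only [Finset.sum_ite_eq', Finset.mem_univ, if_true] at h2
  linear_combination h2

/-- induced from the preimage of `S` -/
noncomputable def II (π : H →* S ⋊[φ] E) (ν : S →* ℂˣ) : G → ℂ := Up π (om φ ⊥ ν 1)

theorem II_char (ν : S →* ℂˣ) : IsCharacter G (II π ν) := Up_char (om_char bot_le 1)

theorem II_ac (ν : S →* ℂˣ) (g : E) : II π (ac φ g ν) = II π ν := by rw [II, om_bot_ac, II]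

theorem Md.II_one (M : Md α β t φ π τ Z) (ν : S →* ℂˣ) : II π ν 1 = Nat.card Ω * Nat.card E := by
  simp [II, M.Up_one, om_bot]

theorem Md.ci_II (M : Md α β t φ π τ Z) (ν ν' : S →* ℂˣ) :
    ⟪II π ν, II π ν'⟫ = (∑ g : E, if ν = ac φ g ν' then 1 else 0) + Nat.card E := by
  rw [II, II, M.ci_Up (om_char bot_le 1).isClassFunction (om_char bot_le 1).isClassFunction,
    ci_om_om bot_le bot_le]
  congr 1
  · simp only [Fintype.sum_subsingleton _ (1 : (⊥ : Subgroup E))]
    simp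
  · have c1 : (Fintype.card E : ℂ) ≠ 0 := Nat.cast_ne_zero.2 Fintype.card_ne_zero
    simp [ci_def, om_bot, c1]

/-- multiplicity of `ν` -/
noncomputable def mm (π : H →* S ⋊[φ] E) (ν : S →* ℂˣ) (χ : G → ℂ) : ℤ := zi (II π ν) χ

theorem ci_mm (ν : S →* ℂˣ) {χ : G → ℂ} (h : IsCharacter G χ) : ⟪II π ν, χ⟫ = mm π ν χ :=
  (II_char ν).virt.ci_eq_zi h.virt

theorem mm_nonneg (ν : S →* ℂˣ) {χ : G → ℂ} (h : IsCharacter G χ) : 0 ≤ mm π ν χ := by
  obtain ⟨n, hn⟩ := (II_char (π := π) ν).ci_nat h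
  rw [mm, zi_eq_of_ci (n := n) (by simpa using hn)]
  positivity

theorem mm_ac (ν : S →* ℂˣ) (g : E) (χ : G → ℂ) : mm π (ac φ g ν) χ = mm π ν χ := by
  rw [mm, II_ac, mm]

variable [Fintype (S →* ℂˣ)]

theorem fourier {χ : G → ℂ} (h : IsCharacter G χ) (x : S) :
    push π χ (inl x) = ∑ ν : S →* ℂˣ, mm π ν χ * (ν x : ℂ) := by
  have := congrFun (eq_sum_lc fun x : S => push π χ (inl x)) x
  rw [this, Finset.sum_apply]
  refine Finset.sum_congr rfl fun ν _ => ?_
  have e := ci_mm (π := π) ν h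
  rw [II, ci_Up_left _ (om_char bot_le 1).isClassFunction h.isClassFunction,
    ci_om_bot _ (push_char h).isClassFunction] at e
  rw [Pi.smul_apply, smul_eq_mul, show ⟪fun x : S => push π χ (inl x), lc ν⟫ = _ from ci_symm_of_int e]

theorem Md.sum_mm_le (M : Md α β t φ π τ Z) {χ : G → ℂ} (h : IsCharacter G χ) :
    ((∑ ν : S →* ℂˣ, mm π ν χ : ℤ) : ℝ) ≤ (χ 1).re := by
  have := M.push_one h
  rw [← map_one (inl (φ := φ)), fourier h] at this
  simpa using this

theorem Md.B0_val (M : Md α β t φ π τ Z) {χ : G → ℂ} (h : χ ∈ B0 G) {s : G} (hs : orderOf s = 2)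
    {x : S} (hx : orderOf x = 2) : χ s = ∑ ν : S →* ℂˣ, mm π ν χ * (ν x : ℂ) := by
  obtain ⟨s', h1, h2⟩ := M.lift hx
  rw [← fourier (B0_irr h).isCharacter, ← h2, M.push_B0 h h1]
  exact (B0_irr h).isClassFunction.eq_of_isConj (M.tw.cj _ _ hs h1)

theorem Tw.cI_eq (h : Tw G Ω) {s : G} (hs : orderOf s = 2) (u : G) :
    cI s u = if orderOf u = 2 then 1 else 0 := by
  have : IsConj s u ↔ orderOf u = 2 := by
    refine ⟨fun e => ?_, h.cj _ _ hs⟩
    obtain ⟨c, rfl⟩ := isConj_iff.1 e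
    rw [orderOf_conj, hs]
  simp only [cI, this]

theorem Md.cZ_Up (M : Md α β t φ π τ Z) {s : G} (hs : orderOf s = 2) {θ : S ⋊[φ] E → ℂ}
    (h0 : ∀ y, Odd (orderOf y) → θ y = 0) :
    B84C.cZ s (Up π θ) = Nat.card Ω * ∑ u : H, ∑ w : H, cI s u * cI s w * θ (π u * π w) := by
  rw [Up, indFun_eq_ind, cZ_ind, card_div_card_eq_index, M.tw.index]
  congr 1
  have k : ∀ y : H, θ (π y) * cN s ((H).subtype y) = ∑ u : H, cI s u * cI s ((u⁻¹ * y : H) : G) * θ (π y) := by
    intro y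
    by_cases hy : Odd (orderOf (y : G))
    · simp [h0 _ ((M.odd_iff y).2 hy)]
    rw [← Finset.sum_mul, mul_comm, cN]
    congr 1
    refine Eq.trans ?_ (sum_subgroup_eq_sum_ite H fun u => cI s u * cI s (u⁻¹ * y)).symm
    refine Finset.sum_congr rfl fun u _ => ?_
    split_ifs with hu
    · rfl
    · rw [M.tw.cI_eq hs, M.tw.cI_eq hs]
      split_ifs with h1 h2
      · refine absurd (M.tw.mem_of_even hy y.2 ?_) hu
        have e := mul_self_of_two h2
        have e1 := inv_eq_of_mul_eq_one_right (mul_self_of_two h1)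
        have : u⁻¹ * y * u = (y : G)⁻¹ := by
          rw [eq_inv_iff_mul_eq_one, ← e]
          simp [e1, mul_assoc]
        rw [this]
        exact inv_mem y.2
      all_goals simp
  rw [Finset.sum_congr rfl fun y _ => k y, Finset.sum_comm]
  refine Finset.sum_congr rfl fun u _ => Fintype.sum_equiv (Equiv.mulLeft u⁻¹) _ _ fun y => ?_
  simp

/-- sum of `ν` over the involutions of the point stabiliser -/
noncomputable def sg (π : H →* S ⋊[φ] E) (s : G) (ν : S →* ℂˣ) : ℂ :=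
  ∑ u : H, cI s u * ν (π u).left

theorem Md.sg_ac (M : Md α β t φ π τ Z) {s : G} (hs : orderOf s = 2) (ν : S →* ℂˣ) (g : E) :
    sg π s (ac φ g ν) = sg π s ν := by
  obtain ⟨c, -, rfl⟩ := M.right g
  refine Fintype.sum_equiv (MulAut.conj c⁻¹).toEquiv _ _ fun u => ?_
  have : cI s ((MulAut.conj c⁻¹).toEquiv u : H) = cI s (u : G) := by
    rw [← cI_class.conj' (u : G) c]; simp
  rw [this, M.tw.cI_eq hs]
  split_ifs with hu
  · have := M.right_two (mul_self_of_two (M.two_map hu))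
    simp [ac_apply, this, mul_comm, mul_left_comm]
  · simp

theorem Md.cZ_II (M : Md α β t φ π τ Z) {s : G} (hs : orderOf s = 2) (ν ν' : S →* ℂˣ) :
    B84C.cZ s (II π ν - II π ν') = Nat.card Ω * Nat.card E * (sg π s ν ^ 2 - sg π s ν' ^ 2) := by
  have k : ∀ ν : S →* ℂˣ, ∑ u : H, ∑ w : H, cI s u * cI s w * om φ ⊥ ν 1 (π u * π w) =
      Nat.card E * sg π s ν ^ 2 := by
    intro ν
    have h1 : ∀ u w : H, cI s u * cI s w * om φ ⊥ ν 1 (π u * π w) =
        ∑ g : E, (cI s u * ac φ g ν (π u).left) * (cI s w * ac φ g ν (π w).left) := by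
      intro u w
      rw [M.tw.cI_eq hs, M.tw.cI_eq hs]
      split_ifs with hu hw
      · have a := M.right_two (mul_self_of_two (M.two_map hu))
        have b := M.right_two (mul_self_of_two (M.two_map hw))
        simp [om_bot, a, b]
      all_goals simp
    simp only [h1]
    rw [Finset.sum_congr rfl fun u _ => Finset.sum_comm, Finset.sum_comm]
    simp only [← Finset.sum_mul_sum]
    have : ∀ g : E, ∑ u : H, cI s u * (ac φ g ν (π u).left : ℂ) = sg π s ν := fun g => M.sg_ac hs ν g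
    simp [this, sq]
  rw [II, II, ← Up_sub, M.cZ_Up hs]
  · simp only [Pi.sub_apply, mul_sub, Finset.sum_sub_distrib, k]
    ring
  · intro y hy
    rw [Pi.sub_apply, om_bot, om_bot]
    split_ifs with h1
    · have : y.left = 1 := by
        by_contra n
        obtain ⟨m, hm⟩ := two_pow_of_pgroup M.pS n
        rw [eq_inl h1, orderOf_injective _ inl_injective] at hy
        have := hy.of_dvd_nat (orderOf_pow_dvd m)
        rw [hm] at this
        exact absurd this (by decide)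
      simp [this]
    · simp

theorem Md.index_eq (M : Md α β t φ π τ Z) {s : G} (hs : orderOf s = 2) :
    (C1[s].index : ℂ) = Nat.card Ω * sg π s 1 := by
  have h1 := sum_cI (t := s) (isClassFunction_const (1 : ℂ))
  have h2 := ci_indFun_right H (cI_class (t := s)) fun _ => 1
  have h3 : ∀ u : G, cI s u * conj (indFun H (fun _ => 1) u) = cI s u * 1 := fun u => by
    rw [M.tw.cI_eq hs]
    split_ifs with hu
    · have hu' : ¬ Odd (orderOf u) := by rw [hu]; decide
      obtain ⟨x, hx⟩ := M.tw.exists_conj α hu'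
      have := M.Up_even (isClassFunction_const (1 : ℂ)) ⟨_, hx⟩ (by
        rwa [show orderOf (x⁻¹ * u * x) = orderOf u by simpa using orderOf_conj x⁻¹ u])
      rw [(Up_class _).conj'] at this
      rw [show indFun H (fun _ => 1) u = 1 from this, map_one]
    · simp
  have c1 : (Nat.card H : ℂ) ≠ 0 := Nat.cast_ne_zero.2 Nat.card_pos.ne'
  have c2 : (Nat.card G : ℂ) ≠ 0 := Nat.cast_ne_zero.2 Nat.card_pos.ne'
  have c3 : (Nat.card G : ℂ) = Nat.card Ω * Nat.card H := by exact_mod_cast M.tw.card_G α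
  rw [ci_def, ci_def, Finset.sum_congr rfl fun u _ => h3 u, h1] at h2
  simp only [sg, map_one, MonoidHom.one_apply, Units.val_one] at h2 ⊢
  field_simp at h2
  refine mul_left_cancel₀ c1 ?_
  rw [mul_comm, h2, c3]
  ring

theorem Md.sg_triv (M : Md α β t φ π τ Z) {s : G} (hs : orderOf s = 2) {ν : S →* ℂˣ}
    (h : ∀ y, orderOf y = 2 → ν y = 1) : sg π s ν = sg π s 1 := by
  refine Finset.sum_congr rfl fun u _ => ?_
  rw [M.tw.cI_eq hs]
  split_ifs with hu
  · rw [h _ (M.left_two hu).2]; rfl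
  · simp

theorem Md.sg_ntriv (M : Md α β t φ π τ Z) {s : G} (hs : orderOf s = 2) {ν : S →* ℂˣ} {y : S}
    (hy : orderOf y = 2) (hν : ν y ≠ 1) : Nat.card Z * sg π s ν = -sg π s 1 := by
  have : ∑ z : Z, sg π s (ac φ z ν) = Nat.card Z * sg π s ν := by simp [M.sg_ac hs]
  rw [← this, sg, ← Finset.sum_neg_distrib]
  simp only [sg]
  rw [Finset.sum_comm]
  refine Finset.sum_congr rfl fun u _ => ?_
  rw [← Finset.mul_sum, M.tw.cI_eq hs]
  split_ifs with hu
  · rw [M.sum_Z hy hν (M.left_two hu).2]; simp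
  · simp

end Cfsg.Agent.WA
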