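import Cfsg.Agent.WA.SC3

/-! SEA: the Frobenius case, the degree bound (P7). -/

set_option autoImplicit false
set_option linter.unusedSectionVars false
set_option linter.unusedVariables false

namespace Cfsg.Agent.WA

open Cfsg Subgroup MulAction Cfsg.Agent.GT Cfsg.Agent.Cls Cfsg.Agent.GW Cfsg.Agent.Char Cfsg.Agent.B84C
open Cfsg.Agent.BS SemidirectProduct Cfsg.Agent.PF
open scoped ComplexConjugate Classical

universe u

variable {G Ω : Type u} [Group G] [MulAction G Ω] {α β : Ω} {t : G}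
  [Fintype G] {S E : Type u} [CommGroup S] [Group E] {φ : E →* MulAut S}
  {π : stabilizer G α →* S ⋊[φ] E} {τ : E →* E} {Z : Subgroup E}
  [Fintype S] [Fintype E] [Fintype (S ⋊[φ] E)] [Fintype (S →* ℂˣ)]

local notation3 "H" => stabilizer G α

theorem cZ_expand (s : G) {Θ : G → ℂ} (h : IsGeneralizedCharacter G Θ) :
    B84C.cZ s Θ = ∑ χ ∈ Irr G, zi Θ χ * B84C.cZ s χ := by
  conv_lhs => rw [h.eq_sum_zi]
  simp only [cZ_eq, Finset.sum_apply, Finset.sum_mul, Finset.mul_sum]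
  rw [Finset.sum_comm]
  refine Finset.sum_congr rfl fun χ _ => Finset.sum_congr rfl fun y _ => ?_
  simp [mul_assoc]

theorem Md.odd_of_right (M : Md α β t φ π τ ⊤) {y : S ⋊[φ] E} (h : y.right ≠ 1) : Odd (orderOf y) := by
  let f : S →* S := MonoidHom.id S * ((φ y.right).toMonoidHom)⁻¹
  have hf : Function.Injective f := (injective_iff_map_eq_one f).2 fun x hx =>
    (M.fpf _ (mem_top _) x (mul_inv_eq_one.1 hx).symm).resolve_left h
  obtain ⟨c, hc⟩ := Finite.surjective_of_injective hf y.left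
  have : y = inl c * inr y.right * (inl c)⁻¹ := by
    ext
    · simpa [f] using hc.symm
    · simp
  rw [this, orderOf_conj, orderOf_injective _ inr_injective]
  exact M.oE.of_dvd_nat (orderOf_dvd_natCard _)

theorem Md.II_sect (M : Md α β t φ π τ ⊤) (ν ν' : S →* ℂˣ) (g : G) :
    (II π ν - II π ν') (constt {2} g) = (II π ν - II π ν') g := by
  rw [II, II, ← Up_sub]
  set θ := om φ ⊥ ν 1 - om φ ⊥ ν' 1 with hθ
  have c : IsClassFunction _ θ :=
    (om_char bot_le 1).isClassFunction.sub (om_char bot_le 1).isClassFunction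
  have t1 : θ 1 = 0 := by simp [hθ, om_bot]
  have k : ∀ y, θ (constt {2} y) = θ y := fun y => by
    by_cases h : y.right = 1
    · rw [constt_of_piNat]
      rw [eq_inl h, orderOf_injective _ inl_injective]
      obtain ⟨k, hk⟩ := M.pS y.left
      intro p hp hd
      exact (Nat.prime_dvd_prime_iff_eq hp Nat.prime_two).1
        (hp.dvd_of_dvd_pow (hd.trans (orderOf_dvd_of_pow_eq_one hk)))
    · rw [constt_of_piNat_compl (piNat_two_compl.2 (M.odd_of_right h)), t1]
      simp [hθ, om_bot, h]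
  by_cases hg : Odd (orderOf g)
  · rw [constt_of_piNat_compl (piNat_two_compl.2 hg), M.Up_one, t1, mul_zero, Up, eq_comm]
    refine indFun_eq_zero_of_forall _ fun x hx => ?_
    rw [← k, constt_of_piNat_compl (piNat_two_compl.2 ((M.odd_iff _).2 ?_)), t1]
    rwa [show orderOf (x⁻¹ * g * x) = orderOf g by simpa using orderOf_conj x⁻¹ g]
  · obtain ⟨x, hx⟩ := M.tw.exists_conj α hg
    have e : orderOf (x⁻¹ * g * x) = orderOf g := by simpa using orderOf_conj x⁻¹ g
    have h1 := M.Up_even c ⟨_, hx⟩ (by rwa [e])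
    have h2 : ((constt {2} (⟨_, hx⟩ : H) : H) : G) = x⁻¹ * constt {2} g * x := by
      have := constt_map (H).subtype {2} ⟨_, hx⟩
      have e2 := constt_conj {2} x⁻¹ g
      rw [inv_inv] at e2
      exact this.symm.trans e2
    have h3 := M.Up_even c (constt {2} (⟨_, hx⟩ : H)) (by
      rw [h2, show orderOf (x⁻¹ * constt {2} g * x) = _ by simpa using orderOf_conj x⁻¹ (constt {2} g),
        Nat.not_odd_iff_even, even_iff_two_dvd]
      exact prime_dvd_orderOf_constt Nat.prime_two rfl (even_iff_two_dvd.1 (Nat.not_odd_iff_even.1 hg)))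
    rw [h2, (Up_class _).conj', ← constt_map, k] at h3
    rw [(Up_class _).conj'] at h1
    rw [h3, h1]

theorem Md.mem_B0 (M : Md α β t φ π τ ⊤) (ν ν' : S →* ℂˣ) {χ : G → ℂ} (h : IsIrrCharacter G χ)
    (n : ⟪II π ν - II π ν', χ⟫ ≠ 0) : χ ∈ B0 G := by
  by_contra hB
  have c := ((II_char (π := π) ν).virt.sub (II_char (π := π) ν').virt).isClassFunction
  have := ci_mul_eq_zero_of_not_mem (F := II π ν - II π ν') (fun x y e => by
    rw [← M.II_sect _ _ x, ← M.II_sect _ _ y, c.eq_of_isConj e]) one_mem_B0 h hB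
  exact n (by rwa [show (II π ν - II π ν') * (fun _ => (1 : ℂ)) = II π ν - II π ν' from mul_one _] at this)

theorem Md.cnt_self (M : Md α β t φ π τ ⊤) {ν : S →* ℂˣ} (h : ν ≠ 1) :
    (∑ g : E, if ν = ac φ g ν then (1 : ℂ) else 0) = 1 := by
  rw [Finset.sum_eq_single 1, if_pos (ac_one ν).symm]
  · exact fun g _ g1 => if_neg fun e => h ((M.ac_fpf (mem_top g) e.symm).resolve_left g1)
  · simp

/-- lift of a linear character of `E` -/
noncomputable abbrev LL (π : H →* S ⋊[φ] E) (l : E →* ℂˣ) : G → ℂ := Up π (ch (l.comp rightHom))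

theorem LL_char (l : E →* ℂˣ) : IsCharacter G (LL π l) := Up_char (ch_irr _).isCharacter

theorem Md.ci_LL (M : Md α β t φ π τ Z) (l l' : E →* ℂˣ) :
    ⟪LL π l, LL π l'⟫ = (if l = l' then 1 else 0) + if l = l'.comp τ then 1 else 0 := by
  have a := ci_lc l l'
  have b := ci_lc l (l'.comp τ)
  rw [← ci_comp_surjective rightHom (rightHom_surjective (φ := φ)) (lc l)] at a
  rw [M.ci_Up (ch_irr _).isClassFunction (ch_irr _).isClassFunction]
  exact congrArg₂ (· + ·) a b

theorem Md.ci_LL_one (M : Md α β t φ π τ Z) {l : E →* ℂˣ} (h : l ≠ 1) : ⟪LL π l, fun _ => 1⟫ = 0 := by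
  have := ci_ch l 1
  rw [if_neg h, ← ci_comp_surjective rightHom (rightHom_surjective (φ := φ))] at this
  rw [M.ci_Up_one]
  exact this

theorem Md.ci_om_LL (M : Md α β t φ π τ Z) {B : Subgroup E} {ν : S →* ℂˣ} (h : B ≤ stb φ ν)
    (l l' : E →* ℂˣ) : ⟪Up π (om φ B ν l), LL π l'⟫ =
      (if ν = 1 then ⟪fun e : B => (l e : ℂ), fun e => (l' e : ℂ)⟫ else 0) +
        ⟪fun e : B => (l e : ℂ), fun e => (l' (τ e) : ℂ)⟫ := by
  rw [M.ci_Up (om_char h l).isClassFunction (ch_irr _).isClassFunction, ci_om_lin h, om_inr]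
  congr 1
  exact ci_indFun_left B _ (ch_irr (l'.comp τ)).isClassFunction

theorem Md.ci_II_LL (M : Md α β t φ π τ Z) (ν : S →* ℂˣ) (l : E →* ℂˣ) :
    ⟪II π ν, LL π l⟫ = (if ν = 1 then 1 else 0) + 1 := by
  rw [II, M.ci_om_LL bot_le]
  simp only [ci_def, Fintype.sum_subsingleton _ (1 : (⊥ : Subgroup E))]
  simp

theorem Md.LL_val (M : Md α β t φ π τ Z) (l : E →* ℂˣ) {s : G} (hs : orderOf s = 2) : LL π l s = 1 := by
  obtain ⟨x, -, hx, -⟩ := M.big
  obtain ⟨s', h1, h2⟩ := M.lift hx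
  rw [(LL_char l).isClassFunction.eq_of_isConj (M.tw.cj _ _ hs h1), LL,
    M.Up_even (ch_irr _).isClassFunction s' (by rw [h1]; decide), h2]
  simp [ch]

theorem sum_dual_ne {x : S} (hx : x ≠ 1) :
    ∑ ν ∈ (Finset.univ : Finset (S →* ℂˣ)).erase 1, (ν x : ℂ) = -1 := by
  have := sum_lin_apply x
  rw [if_neg hx, ← Finset.add_sum_erase _ _ (Finset.mem_univ 1)] at this
  simp only [MonoidHom.one_apply, Units.val_one] at this
  linear_combination this

theorem Md.sg_ne (M : Md α β t φ π τ Z) {s : G} (hs : orderOf s = 2) :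
    (Nat.card Ω : ℂ) ≠ 0 ∧ sg π s 1 ≠ 0 := by
  have := M.index_eq hs
  have h1 : (C1[s].index : ℂ) ≠ 0 := Nat.cast_ne_zero.2 index_ne_zero_of_finite
  rw [this] at h1
  exact mul_ne_zero_iff.1 h1

theorem Md.p7 (M : Md α β t φ π τ ⊤) (el : ∀ x : S, x * x = 1) : Nat.card Ω ≤ Nat.card S + 1 := by
  haveI : IsMulCommutative E := ⟨⟨fun a b => M.cZ a (mem_top a) b (mem_top b)⟩⟩
  haveI := Fintype.ofFinite (E →* ℂˣ)
  obtain ⟨x, -, hx, -⟩ := M.big
  obtain ⟨s, hs⟩ := M.tw.exists_inv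
  obtain ⟨μ, -, hμ⟩ := exists_Ann_apply_ne (N := (⊥ : Subgroup S)) (w := x) (by simpa using ne_one_of_two hx)
  have μ1 : μ ≠ 1 := by rintro rfl; exact hμ rfl
  have two : ∀ ν : S →* ℂˣ, ν ≠ 1 → orderOf ν = 2 := fun ν h =>
    two_of_mul_self (by ext y; simp [← Units.val_mul, ← map_mul, el]) h
  have q3 : 3 ≤ Nat.card E := by simpa using M.three
  have cS : Nat.card S = Nat.card E + 1 := by
    have := M.card_Z
    rw [card_top, Nat.card_congr (Equiv.subtypeEquivRight (q := fun y => ¬ y = 1) fun y =>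
      ⟨ne_one_of_two, two_of_mul_self (el y)⟩), Nat.card_eq_fintype_card (α := {y : S // _}),
      Fintype.card_subtype_compl, Fintype.card_subtype_eq, ← Nat.card_eq_fintype_card] at this
    have := Nat.card_pos (α := S)
    omega
  obtain ⟨Θ, hΘ⟩ : ∃ Θ, Θ = II π 1 - II π μ := ⟨_, rfl⟩
  have v : IsGeneralizedCharacter G Θ := hΘ ▸ (II_char 1).virt.sub (II_char μ).virt
  have nΘ : nsq Θ = Nat.card E + 1 := by
    refine nsq_eq_of_ci ?_
    have : ∀ g, μ ≠ ac φ g 1 := fun g => by rwa [map_one]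
    have a : ∀ g, 1 ≠ ac φ g μ := fun g e => μ1 (ac_eq_one.1 e.symm)
    simp only [hΘ, ci_sub_left, ci_sub_right, M.ci_II, M.cnt_self μ1, this, a, map_one]
    simp [μ1]
  have dm : ∀ χ, IsIrrCharacter G χ → zi Θ χ = mm π 1 χ - mm π μ χ := fun χ h =>
    zi_eq_of_ci (by rw [hΘ, ci_sub_left, ci_mm _ h.isCharacter, ci_mm _ h.isCharacter]; simp)
  have mν : ∀ χ, ∀ ν ∈ (Finset.univ : Finset (S →* ℂˣ)).erase 1, mm π ν χ = mm π μ χ := fun χ ν h => by
    obtain ⟨z, -, rfl⟩ := M.ac_reg (two μ μ1) (two ν (Finset.ne_of_mem_erase h))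
    exact mm_ac _ _ _
  have val : ∀ χ, IsIrrCharacter G χ → zi Θ χ ≠ 0 → χ s = zi Θ χ := fun χ h n => by
    have hB := M.mem_B0 1 μ h (by rw [← hΘ, v.ci_eq_zi h.virt]; exact_mod_cast n)
    rw [M.B0_val hB hs hx, ← Finset.add_sum_erase _ _ (Finset.mem_univ 1),
      Finset.sum_congr rfl fun ν hν => by rw [mν χ ν hν], ← Finset.mul_sum, sum_dual_ne (ne_one_of_two hx),
      dm χ h]
    simp [sub_eq_add_neg]
  have deg : ∀ χ, IsIrrCharacter G χ → (Nat.card E : ℝ) * (-zi Θ χ) ≤ (χ 1).re := fun χ h => by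
    refine le_trans ?_ (M.sum_mm_le h.isCharacter)
    rw [← Finset.add_sum_erase _ _ (Finset.mem_univ 1), Finset.sum_congr rfl (mν χ), Finset.sum_const,
      Finset.card_erase_of_mem (Finset.mem_univ _), Finset.card_univ, ← Nat.card_eq_fintype_card,
      card_linChar, cS, dm χ h]
    have a : (0 : ℝ) ≤ mm π 1 χ := by exact_mod_cast mm_nonneg 1 h.isCharacter
    have b : (0 : ℝ) ≤ Nat.card E := by positivity
    simp only [Nat.add_sub_cancel, nsmul_eq_mul]
    push_cast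
    nlinarith
  obtain ⟨n0, σ0⟩ := M.sg_ne hs
  have e0 : (Nat.card E : ℂ) ≠ 0 := Nat.cast_ne_zero.2 (by omega)
  have main : ∑ χ ∈ Irr G, (zi Θ χ : ℝ) ^ 3 / (χ 1).re =
      ((Nat.card E : ℝ) ^ 2 - 1) / (Nat.card E * Nat.card Ω) := by
    have h1 := cZ_expand s v
    have h2 := M.sg_ntriv hs hx hμ
    rw [card_top] at h2
    rw [hΘ, M.cZ_II hs, ← hΘ] at h1
    have h3 : ∀ χ ∈ Irr G, zi Θ χ * B84C.cZ s χ =
        (C1[s].index : ℂ) ^ 2 * (((zi Θ χ : ℝ) ^ 3 / (χ 1).re : ℝ) : ℂ) := fun χ h => by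
      rw [mem_Irr] at h
      by_cases n : zi Θ χ = 0
      · simp [n]
      have := cZ_sirr (t := s) h.isSIrr
      obtain ⟨d, d0, hd⟩ := h.exists_degree
      have d1 : (d : ℂ) ≠ 0 := Nat.cast_ne_zero.2 d0.ne'
      rw [val χ h n, hd] at this
      simp only [hd, Complex.natCast_re]
      push_cast
      field_simp
      linear_combination this
    rw [Finset.sum_congr rfl h3, ← Finset.mul_sum, M.index_eq hs, ← Complex.ofReal_sum] at h1
    rw [← Complex.ofReal_inj]
    rw [show sg π s μ = -sg π s 1 / Nat.card E by field_simp; linear_combination h2] at h1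
    generalize ((∑ χ ∈ Irr G, (zi Θ χ : ℝ) ^ 3 / (χ 1).re : ℝ) : ℂ) = Y at h1 ⊢
    push_cast
    field_simp at h1 ⊢
    linear_combination -h1
  have tinv : ∀ l : E →* ℂˣ, l.comp τ = l⁻¹ := fun l => by ext e; simp [M.inv e (mem_top e)]
  have irr : ∀ l : E →* ℂˣ, l ≠ 1 → IsIrrCharacter G (LL π l) := fun l h =>
    (LL_char l).isIrr_of_ci_self (by
      rw [M.ci_LL, tinv, if_pos rfl, if_neg (inv_ne_self_of_odd M.oE h).symm, add_zero])
  obtain ⟨P, hP⟩ : ∃ P, P = ((Finset.univ : Finset (E →* ℂˣ)).erase 1).image (LL π) := ⟨_, rfl⟩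
  have cP : Nat.card E - 1 ≤ 2 * P.card := by
    have := Finset.card_le_mul_card_image (f := LL π) ((Finset.univ : Finset (E →* ℂˣ)).erase 1) 2 (by
      intro a ha
      obtain ⟨l, hl, rfl⟩ := Finset.mem_image.1 ha
      refine le_trans (Finset.card_le_card (t := {l, l⁻¹}) fun l' h => ?_) Finset.card_le_two
      obtain ⟨h1, h2⟩ := Finset.mem_filter.1 h
      have := M.ci_LL l' l
      rw [h2, (irr l (Finset.ne_of_mem_erase hl)).ci_self, tinv] at this
      by_contra n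
      simp only [Finset.mem_insert, Finset.mem_singleton, not_or] at n
      simp [n.1, n.2] at this)
    rwa [Finset.card_erase_of_mem (Finset.mem_univ _), Finset.card_univ, ← Nat.card_eq_fintype_card,
      card_linChar, ← hP] at this
  have nP : (fun _ => 1) ∉ P := fun h => by
    obtain ⟨l, hl, e⟩ := Finset.mem_image.1 (hP ▸ h)
    have := M.ci_LL_one (Finset.ne_of_mem_erase hl)
    rw [e, ci_one_one] at this
    exact one_ne_zero this
  have e1 : (0 : ℝ) < Nat.card E := Nat.cast_pos.2 (by omega)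
  have n1 : (0 : ℝ) < Nat.card Ω := Nat.cast_pos.2 (Nat.pos_of_ne_zero (Nat.cast_ne_zero.1 n0))
  have low : ∀ χ ∈ Irr G, (if χ = (fun _ => 1) then 1 + 1 / (Nat.card E : ℝ) else 0) +
      (if χ ∈ P then 1 / (Nat.card Ω : ℝ) + 1 / Nat.card E else 0) - (zi Θ χ : ℝ) ^ 2 / Nat.card E ≤
      (zi Θ χ : ℝ) ^ 3 / (χ 1).re := fun χ h => by
    rw [mem_Irr] at h
    by_cases h1 : χ = fun _ => 1
    · subst h1
      have : zi Θ (fun _ => 1) = 1 := zi_eq_of_ci (by
        have a := ci_om_lin (φ := φ) (ν := 1) bot_le 1 1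
        have b := ci_om_lin (φ := φ) (ν := μ) bot_le 1 1
        rw [if_neg μ1] at b
        rw [hΘ, ci_sub_left, II, II, M.ci_Up_one, M.ci_Up_one, show ⟪om φ ⊥ μ 1, fun _ => 1⟫ = 0 from b,
          show ⟪om φ ⊥ 1 1, fun _ => 1⟫ = _ from a]
        simp [ci_one_one])
      simp [this, nP]
    by_cases h2 : χ ∈ P
    · rw [if_neg h1, if_pos h2]
      obtain ⟨l, hl, rfl⟩ := Finset.mem_image.1 (hP ▸ h2)
      have : zi Θ (LL π l) = 1 := zi_eq_of_ci (by
        rw [hΘ, ci_sub_left, M.ci_II_LL, M.ci_II_LL]; simp [μ1])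
      simp [this, M.Up_one, ch]
    · rw [if_neg h1, if_neg h2]
      have a := deg χ h
      have b := h.re_one_pos
      rw [add_zero, zero_sub, ← neg_div, div_le_div_iff₀ e1 b]
      nlinarith [mul_le_mul_of_nonneg_left a (sq_nonneg (zi Θ χ : ℝ))]
  have := Finset.sum_le_sum low
  rw [main, Finset.sum_sub_distrib, Finset.sum_add_distrib, ← Finset.sum_div, ← v.nsq_eq_sum_zi, nΘ,
    Finset.sum_ite_eq', if_pos (mem_Irr.2 isIrrCharacter_one), ← Finset.sum_filter,
    Finset.filter_mem_eq_inter, Finset.inter_eq_right.2 (fun χ h => by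
      obtain ⟨l, hl, rfl⟩ := Finset.mem_image.1 (hP ▸ h)
      exact mem_Irr.2 (irr l (Finset.ne_of_mem_erase hl))), Finset.sum_const, nsmul_eq_mul] at this
  have c2 : (Nat.card E : ℝ) - 1 ≤ 2 * P.card := by
    have : (Nat.card E : ℝ) ≤ 2 * P.card + 1 := by exact_mod_cast (by omega : Nat.card E ≤ 2 * P.card + 1)
    linarith
  have e3 : (3 : ℝ) ≤ Nat.card E := by exact_mod_cast q3
  rw [cS]
  field_simp at this
  have : (Nat.card Ω : ℝ) ≤ Nat.card E + 1 + 1 := by nlinarith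
  exact_mod_cast this

theorem p7 : P7.{u} := by
  intro G Ω _ _ _ _ α β t S E _ _ φ π τ M el
  haveI := Fintype.ofFinite G
  haveI := M.fin
  haveI := M.finS
  haveI := M.finE
  haveI := Fintype.ofFinite S
  haveI := Fintype.ofFinite E
  haveI := Fintype.ofFinite (S ⋊[φ] E)
  haveI := Fintype.ofFinite (S →* ℂˣ)
  exact M.p7 el

end Cfsg.Agent.WA
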