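import Cfsg.Agent.WA.SC4

/-! SEA: the Frobenius case, the Sylow 2-subgroup is elementary (P6). -/

set_option autoImplicit false
set_option linter.unusedSectionVars false
set_option linter.unusedVariables false

namespace Cfsg.Agent.WA

open Cfsg Subgroup MulAction Cfsg.Agent.GT Cfsg.Agent.Cls Cfsg.Agent.GW Cfsg.Agent.Char Cfsg.Agent.B84C
open Cfsg.Agent.BS SemidirectProduct Cfsg.Agent.PF
open scoped ComplexConjugate Classical

universe u

section
variable {G : Type u} [Group G] [Fintype G]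

theorem card_le_nsq {v : G → ℂ} (hv : IsGeneralizedCharacter G v) (T : Finset (G → ℂ))
    (h : ∀ e ∈ T, IsIrrCharacter G e ∧ ⟪v, e⟫ ≠ 0) : (T.card : ℝ) ≤ nsq v := by
  rw [hv.nsq_eq_sum_zi, Finset.card_eq_sum_ones, Nat.cast_sum]
  refine le_trans (Finset.sum_le_sum fun e he => ?_) (Finset.sum_le_sum_of_subset_of_nonneg
    (fun e he => mem_Irr.2 (h e he).1) fun _ _ _ => sq_nonneg _)
  have := (h e he).2
  rw [hv.ci_eq_zi (h e he).1.virt, Int.cast_ne_zero] at this
  have : 1 ≤ zi v e ^ 2 := by nlinarith [Int.one_le_abs this, sq_abs (zi v e)]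
  exact_mod_cast this

theorem pair_cases {a b a' b' : G → ℂ} (ha : IsIrrCharacter G a) (hb : IsIrrCharacter G b)
    (ha' : IsIrrCharacter G a') (hb' : IsIrrCharacter G b') (h : ⟪a - b, a' - b'⟫ = 1) :
    (a = a' ∨ b = b') ∧ (a ≠ b → a = a' → b ≠ b') := by
  rw [ci_sub_left, ci_sub_right, ci_sub_right, ha.ci_eq_ite ha', ha.ci_eq_ite hb', hb.ci_eq_ite ha',
    hb.ci_eq_ite hb'] at h
  constructor
  · by_contra n
    rw [not_or] at n
    rw [if_neg n.1, if_neg n.2] at h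
    split_ifs at h <;> norm_num at h
  · rintro n rfl rfl
    simp [n, n.symm] at h

theorem coh (V : Finset (G → ℂ)) (c : ℕ) (hV : ∀ v ∈ V, IsCharacter G v)
    (hc : ∀ v ∈ V, ∀ w ∈ V, ⟪v, w⟫ = c + if v = w then 1 else 0) (hd : ∀ v ∈ V, ∀ w ∈ V, v 1 = w 1)
    (hn : c + 2 ≤ V.card) {e₀ : G → ℂ} (he : IsIrrCharacter G e₀) (he' : ∀ v ∈ V, ⟪v, e₀⟫ = 1)
    {v w : G → ℂ} (hv : v ∈ V) (hw : w ∈ V) (ne : w ≠ v) :
    ∃ χ χ', IsIrrCharacter G χ ∧ IsIrrCharacter G χ' ∧ χ ≠ χ' ∧ v - w = χ - χ' ∧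
      ∀ u ∈ V, (⟪u, χ⟫ = if u = v then 1 else 0) ∧ ⟪u, χ'⟫ = if u = w then 1 else 0 := by
  have ex : ∀ u, ∃ a b, u ∈ V.erase v → IsIrrCharacter G a ∧ IsIrrCharacter G b ∧ a ≠ b ∧ v - u = a - b := by
    intro u
    by_cases hu : u ∈ V.erase v
    · obtain ⟨n, hu'⟩ := Finset.mem_erase.1 hu
      obtain ⟨a, b, h⟩ := ((hV v hv).virt.sub (hV u hu').virt).exists_sub_of_nsq_two (nsq_eq_of_ci (by
        simp only [ci_sub_left, ci_sub_right, hc, hv, hu', n, n.symm]
        simp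
        ring)) (by rw [Pi.sub_apply, hd v hv u hu', sub_self])
      exact ⟨a, b, fun _ => h⟩
    · exact ⟨0, 0, fun h => absurd h hu⟩
  choose a b hab using ex
  have ia := fun u h => (hab u h).1
  have ib := fun u h => (hab u h).2.1
  have nab := fun u h => (hab u h).2.2.1
  have eq := fun u h => (hab u h).2.2.2
  have w' : w ∈ V.erase v := Finset.mem_erase.2 ⟨ne, hw⟩
  have pc : ∀ u ∈ V.erase v, ∀ u' ∈ V.erase v, u ≠ u' →
      (a u = a u' ∨ b u = b u') ∧ (a u ≠ b u → a u = a u' → b u ≠ b u') := fun u h u' h' n => by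
    refine pair_cases (ia u h) (ib u h) (ia u' h') (ib u' h') ?_
    obtain ⟨n1, h1⟩ := Finset.mem_erase.1 h
    obtain ⟨n2, h2⟩ := Finset.mem_erase.1 h'
    rw [← eq u h, ← eq u' h']
    simp only [ci_sub_left, ci_sub_right, hc, hv, h1, h2, n, n1, n2.symm]
    simp
  have nv : nsq v = c + 1 := nsq_eq_of_ci (by simp [hc v hv v hv])
  have dif : ∀ u ∈ V.erase v, ⟪v, a u⟫ = ⟪v, b u⟫ + 1 := fun u h => by
    obtain ⟨n1, h1⟩ := Finset.mem_erase.1 h
    have := congrArg (fun f => ⟪v, f⟫) (eq u h)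
    simp only [ci_sub_right, hc, hv, h1, n1.symm] at this
    simp only [if_true, if_false] at this
    linear_combination -this
  have pos : ∀ u ∈ V.erase v, ⟪v, a u⟫ ≠ 0 := fun u h => by
    obtain ⟨n, hn⟩ := (hV v hv).ci_irr_nat (ib u h)
    rw [dif u h, hn]
    exact_mod_cast Nat.succ_ne_zero n
  have big : ∀ (f : (G → ℂ) → G → ℂ) (e : G → ℂ), Set.InjOn f (V.erase v) → (∀ u ∈ V.erase v, f u ≠ e) →
      (∀ u ∈ V.erase v, IsIrrCharacter G (f u) ∧ ⟪v, f u⟫ ≠ 0) → IsIrrCharacter G e → ⟪v, e⟫ ≠ 0 → False := by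
    intro f e i n h1 h2 h3
    have := card_le_nsq (hV v hv).virt (insert e ((V.erase v).image f)) (by
      intro x hx
      rcases Finset.mem_insert.1 hx with rfl | hx
      · exact ⟨h2, h3⟩
      · obtain ⟨u, hu, rfl⟩ := Finset.mem_image.1 hx
        exact h1 u hu)
    rw [Finset.card_insert_of_notMem (by
      intro hx
      obtain ⟨u, hu, e⟩ := Finset.mem_image.1 hx
      exact n u hu e), Finset.card_image_of_injOn i, Finset.card_erase_add_one hv, nv] at this
    have : V.card ≤ c + 1 := by exact_mod_cast this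
    omega
  have c1 : ∀ u ∈ V.erase v, a u = a w := by
    by_contra! n
    obtain ⟨k, hk, nk⟩ := n
    have kw : k ≠ w := fun e => nk (e ▸ rfl)
    have bk := (pc k hk w w' kw).1.resolve_left nk
    have all : ∀ u ∈ V.erase v, b u = b w := fun u hu => by
      by_contra n
      have uw : u ≠ w := fun e => n (e ▸ rfl)
      have uk : u ≠ k := fun e => n (e ▸ bk)
      have au := (pc u hu w w' uw).1.resolve_right n
      rcases (pc u hu k hk uk).1 with e | e
      · exact nk (e ▸ au)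
      · exact n (e.trans bk)
    refine big a e₀ (fun u hu u' hu' e => ?_) (fun u hu e => ?_) (fun u hu => ⟨ia u hu, pos u hu⟩) he
      (by rw [he' v hv]; exact one_ne_zero)
    · by_contra n
      exact (pc u hu u' hu' n).2 (nab u hu) e ((all u hu).trans (all u' hu').symm)
    · have := congrArg (fun f => ⟪f, e₀⟫) (eq u hu)
      simp only [ci_sub_left, he' v hv, he' u (Finset.mem_of_mem_erase hu)] at this
      rw [← e, (ia u hu).ci_self, (ib u hu).ci_of_ne (ia u hu) (nab u hu).symm] at this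
      simp at this
  have bi : Set.InjOn b (V.erase v) := fun u hu u' hu' e => by
    by_contra n
    exact (pc u hu u' hu' n).2 (nab u hu) ((c1 u hu).trans (c1 u' hu').symm) e
  have y0 : ⟪v, b w⟫ = 0 := by
    by_contra n
    refine big b (a w) bi (fun u hu e => nab u hu ((c1 u hu).trans e.symm)) (fun u hu => ⟨ib u hu, ?_⟩)
      (ia w w') (pos w w')
    have := dif u hu
    rw [c1 u hu, dif w w', add_left_inj] at this
    rwa [← this]
  have y1 : ⟪v, a w⟫ = 1 := by rw [dif w w', y0, zero_add]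
  refine ⟨a w, b w, ia w w', ib w w', nab w w', eq w w', fun u hu => ?_⟩
  by_cases h : u = v
  · subst h
    simp [y0, y1, ne.symm]
  have hu' : u ∈ V.erase v := Finset.mem_erase.2 ⟨h, hu⟩
  have e : u = v - (a w - b u) := by rw [← c1 u hu', ← eq u hu', sub_sub_cancel]
  constructor
  · rw [if_neg h, e, ci_sub_left, ci_sub_left, y1, (ia w w').ci_self,
      (ib u hu').ci_of_ne (ia w w') (c1 u hu' ▸ (nab u hu').symm)]
    simp
  · conv_lhs => rw [e]
    rw [ci_sub_left, ci_sub_left, y0, (ia w w').ci_of_ne (ib w w') (nab w w'), (ib u hu').ci_eq_ite (ib w w')]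
    by_cases h2 : u = w
    · simp [h2]
    · simp [h2, show b u ≠ b w from fun e => h2 (bi hu' w' e)]

end

variable {G Ω : Type u} [Group G] [MulAction G Ω] {α β : Ω} {t : G}
  [Fintype G] {S E : Type u} [CommGroup S] [Group E] {φ : E →* MulAut S}
  {π : stabilizer G α →* S ⋊[φ] E} {τ : E →* E} {Z : Subgroup E}
  [Fintype S] [Fintype E] [Fintype (S ⋊[φ] E)] [Fintype (S →* ℂˣ)]

local notation3 "H" => stabilizer G α

theorem Md.exists_four (M : Md α β t φ π τ Z) {x : S} (hx : x * x ≠ 1) :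
    ∃ μ : S →* ℂˣ, orderOf (μ ^ 2) = 2 := by
  obtain ⟨e⟩ := dual_equiv S
  obtain ⟨m, hm⟩ := two_pow_of_pgroup M.pS hx
  refine ⟨e.symm (x ^ m), ?_⟩
  rw [← map_pow, MulEquiv.orderOf_eq, ← pow_mul, mul_comm, pow_mul, sq, hm]

theorem Md.II_eq_iff (M : Md α β t φ π τ ⊤) {ν ν' : S →* ℂˣ} (h : ν' ≠ 1) :
    II π ν = II π ν' ↔ ∃ g, ν = ac φ g ν' := by
  refine ⟨fun e => by_contra fun n => ?_, fun ⟨g, e⟩ => e ▸ II_ac _ _⟩
  have := M.ci_II ν ν'
  rw [e, M.ci_II, M.cnt_self h] at this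
  simp [not_exists.1 n] at this

theorem Md.orbit_sum (M : Md α β t φ π τ ⊤) {ν' : S →* ℂˣ} (h : ν' ≠ 1) (x : S) :
    ∑ ν ∈ (Finset.univ : Finset (S →* ℂˣ)).erase 1, (if II π ν = II π ν' then 1 else 0) * (ν x : ℂ) =
      ∑ g, (ac φ g ν' x : ℂ) := by
  simp only [ite_mul, one_mul, zero_mul]
  rw [← Finset.sum_filter]
  refine (Finset.sum_bij (fun g _ => ac φ g ν') (fun g _ => ?_) (fun a _ b _ e => ?_) (fun ν hν => ?_)
    fun _ _ => rfl).symm
  · simp [II_ac, ac_eq_one, h]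
  · have := M.ac_fpf (mem_top (b⁻¹ * a)) (ν := ν') (by rw [ac_mul, e, ac_inv_ac])
    exact (inv_mul_eq_one.1 (this.resolve_right h)).symm
  · obtain ⟨g, e⟩ := (M.II_eq_iff h).1 (Finset.mem_filter.1 hν).2
    exact ⟨g, Finset.mem_univ _, e.symm⟩

theorem Md.p6 (M : Md α β t φ π τ ⊤) (y : S) : y * y = 1 := by
  by_contra hy
  obtain ⟨μ, hμ⟩ := M.exists_four hy
  obtain ⟨x, -, hx, -⟩ := M.big
  obtain ⟨s, hs⟩ := M.tw.exists_inv
  obtain ⟨ν, -, hν⟩ := exists_Ann_apply_ne (N := (⊥ : Subgroup S)) (w := x) (by simpa using ne_one_of_two hx)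
  have ν1 : ν ≠ 1 := by rintro rfl; exact hν rfl
  have μ1 := ne_one_of_two hμ
  have triv : ∀ g y, orderOf y = 2 → ac φ g (μ ^ 2) y = 1 := fun g y h => by
    rw [ac_pow, MonoidHom.pow_apply, ← map_pow, ← h, pow_orderOf_eq_one, map_one]
  have q3 : 3 ≤ Nat.card E := by simpa using M.three
  have cS : (Nat.card E + 1) ^ 2 ≤ Nat.card (S →* ℂˣ) := by
    let f : (S →* ℂˣ) →* (S →* ℂˣ) := powMonoidHom 2
    have h1 : f.ker ≤ f.range := fun a ha => by
      by_cases a1 : a = 1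
      · exact a1 ▸ one_mem _
      obtain ⟨z, -, rfl⟩ := M.ac_reg hμ (orderOf_eq_prime ha a1)
      exact ⟨ac φ z μ, (ac_pow _ _ _).symm⟩
    have h2 : Nat.card E + 1 ≤ Nat.card f.ker := by
      have := M.card_Z'
      rw [card_top] at this
      rw [this, ← Finite.card_option]
      refine Nat.card_le_card_of_injective (fun o => o.elim 1 fun a => ⟨a, show a.1 ^ 2 = 1 by
        rw [sq]; exact mul_self_of_two a.2⟩) ?_
      rintro (_ | a) (_ | b) e
      · rfl
      · exact absurd (congrArg Subtype.val e).symm (ne_one_of_two b.2)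
      · exact absurd (congrArg Subtype.val e) (ne_one_of_two a.2)
      · have e' := congrArg Subtype.val e
        exact congrArg some (Subtype.ext e')
    have h3 := card_eq_card_ker_mul f.rangeRestrict f.rangeRestrict_surjective
    rw [MonoidHom.ker_rangeRestrict] at h3
    rw [h3, sq]
    exact Nat.mul_le_mul h2 (h2.trans (card_le_of_le h1))
  obtain ⟨V, hV⟩ : ∃ V, V = ((Finset.univ : Finset (S →* ℂˣ)).erase 1).image (II π) := ⟨_, rfl⟩
  have mV : ∀ v ∈ V, ∃ a, a ≠ 1 ∧ II π a = v := fun v h => by simpa [hV] using h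
  have mV' : ∀ a, a ≠ 1 → II π a ∈ V := fun a h => hV ▸ Finset.mem_image_of_mem _ (by simpa using h)
  have cV : Nat.card E + 2 ≤ V.card := by
    have := Finset.card_le_mul_card_image (f := II π) ((Finset.univ : Finset (S →* ℂˣ)).erase 1)
      (Nat.card E) (by
      intro a ha
      obtain ⟨l, hl, rfl⟩ := Finset.mem_image.1 ha
      refine le_trans (Finset.card_le_card (t := Finset.univ.image fun g => ac φ g l) fun l' h => ?_)
        (Finset.card_image_le.trans (by simp))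
      obtain ⟨g, e⟩ := (M.II_eq_iff (Finset.ne_of_mem_erase hl)).1 (Finset.mem_filter.1 h).2
      exact Finset.mem_image.2 ⟨g, Finset.mem_univ _, e.symm⟩)
    rw [Finset.card_erase_of_mem (Finset.mem_univ _), Finset.card_univ, ← Nat.card_eq_fintype_card,
      ← hV] at this
    refine Nat.le_of_mul_le_mul_left (c := Nat.card E) ?_ (by omega)
    have : (Nat.card E + 1) ^ 2 - 1 ≤ Nat.card E * V.card := le_trans (by omega) this
    have e : (Nat.card E + 1) ^ 2 = Nat.card E * (Nat.card E + 2) + 1 := by ring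
    omega
  have nn : II π ν ≠ II π (μ ^ 2) := fun e => by
    obtain ⟨g, rfl⟩ := (M.II_eq_iff μ1).1 e
    exact hν (triv g x hx)
  obtain ⟨χ, χ', i, i', ne, e, hm⟩ := coh V (Nat.card E) (fun v h => by
      obtain ⟨a, -, rfl⟩ := mV v h
      exact II_char a) (fun v h w h' => by
      obtain ⟨a, a1, rfl⟩ := mV v h
      obtain ⟨b, b1, rfl⟩ := mV w h'
      split_ifs with e
      · rw [e, M.ci_II, M.cnt_self b1, add_comm]
      · rw [M.II_eq_iff b1] at e
        simp [M.ci_II, not_exists.1 e]) (fun v h w h' => by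
      obtain ⟨a, -, rfl⟩ := mV v h
      obtain ⟨b, -, rfl⟩ := mV w h'
      rw [M.II_one, M.II_one]) cV (M.tw.St_irr M.ne) (fun v h => by
      obtain ⟨a, a1, rfl⟩ := mV v h
      have h1 := M.ci_II_LL a 1
      have h2 := ci_om_lin (φ := φ) (ν := a) bot_le 1 1
      rw [if_neg a1] at h1 h2
      rw [ci_sub_right, show ⟪II π a, indFun H fun _ => 1⟫ = _ from h1, II, M.ci_Up_one,
        show ⟪om φ ⊥ a 1, fun _ => 1⟫ = 0 from h2]
      simp) (mV' _ μ1) (mV' _ ν1) nn
  have B := M.mem_B0 (μ ^ 2) ν i (by rw [e, ci_sub_left, i.ci_self, i'.ci_of_ne i ne.symm]; simp)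
  have B' := M.mem_B0 (μ ^ 2) ν i' (by rw [e, ci_sub_left, i'.ci_self, i.ci_of_ne i' ne]; simp)
  have c0 : mm π 1 χ' = mm π 1 χ := by
    have := congrArg (fun f => ⟪II π 1, f⟫) e
    have a : ∀ g, 1 ≠ ac φ g (μ ^ 2) := fun g e => μ1 (ac_eq_one.1 e.symm)
    have b : ∀ g, 1 ≠ ac φ g ν := fun g e => ν1 (ac_eq_one.1 e.symm)
    simp only [ci_sub_right, M.ci_II, a, b, sub_self, ci_mm _ i.isCharacter, ci_mm _ i'.isCharacter,
      if_false] at this
    exact_mod_cast (sub_eq_zero.1 this.symm).symm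
  have v1 : χ s = mm π 1 χ + Nat.card E := by
    rw [M.B0_val B hs hx, ← Finset.add_sum_erase _ _ (Finset.mem_univ 1), Finset.sum_congr rfl fun a ha => by
      rw [← ci_mm _ i.isCharacter, (hm _ (mV' a (Finset.ne_of_mem_erase ha))).1], M.orbit_sum μ1]
    simp only [triv _ x hx]
    simp
  have v2 : χ' s = mm π 1 χ - 1 := by
    rw [M.B0_val B' hs hx, ← Finset.add_sum_erase _ _ (Finset.mem_univ 1), Finset.sum_congr rfl fun a ha => by
      rw [← ci_mm _ i'.isCharacter, (hm _ (mV' a (Finset.ne_of_mem_erase ha))).2], M.orbit_sum ν1, c0,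
      Fintype.sum_equiv topEquiv.symm.toEquiv (fun g => (ac φ g ν x : ℂ)) (fun z : (⊤ : Subgroup E) => (ac φ z ν x : ℂ)) fun _ => rfl,
      M.sum_Z hx hν hx]
    simp [sub_eq_add_neg]
  obtain ⟨N, N0, hN⟩ := i.exists_degree
  have hN' : χ' 1 = N := by
    have := congrFun e 1
    rw [Pi.sub_apply, Pi.sub_apply, M.II_one, M.II_one, sub_self, hN] at this
    exact (sub_eq_zero.1 this.symm).symm
  have k1 := cZ_sirr (t := s) i.isSIrr
  have k2 := cZ_sirr (t := s) i'.isSIrr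
  have k3 := M.cZ_II hs (μ ^ 2) ν
  have k4 := M.sg_ntriv hs hx hν
  obtain ⟨n0, σ0⟩ := M.sg_ne hs
  have e0 : (Nat.card E : ℂ) ≠ 0 := Nat.cast_ne_zero.2 (by omega)
  have e1 : (Nat.card E : ℂ) + 1 ≠ 0 := by exact_mod_cast Nat.succ_ne_zero (Nat.card E)
  rw [card_top] at k4
  rw [e, cZ_sub, M.sg_triv hs fun y h => by simpa [ac_one] using triv 1 y h,
    show sg π s ν = -sg π s 1 / Nat.card E by field_simp; linear_combination k4] at k3
  rw [hN, v1, M.index_eq hs] at k1
  rw [hN', v2, M.index_eq hs] at k2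
  have k5 : (N : ℂ) * (Nat.card E - 1) = Nat.card E * Nat.card Ω * (2 * mm π 1 χ + Nat.card E - 1) := by
    refine mul_left_cancel₀ (mul_ne_zero (mul_ne_zero n0 (pow_ne_zero 2 σ0)) e1) ?_
    field_simp at k3
    linear_combination (-N : ℂ) * k3 + (Nat.card E : ℂ) * (k1 - k2)
  have k6 : (N : ℤ) * (Nat.card E - 1) = Nat.card E * Nat.card Ω * (2 * mm π 1 χ + Nat.card E - 1) := by
    exact_mod_cast k5
  have k7 : (Nat.card Ω * Nat.card E : ℤ) ≤ N := by
    have a := mm_nonneg (π := π) 1 i.isCharacter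
    have b : (3 : ℤ) ≤ Nat.card E := by exact_mod_cast q3
    refine Int.le_of_mul_le_mul_right (a := (Nat.card E : ℤ) - 1) ?_ (by omega)
    have : (0 : ℤ) ≤ Nat.card E * Nat.card Ω * mm π 1 χ := by positivity
    nlinarith
  have k8 := (II_char (π := π) (μ ^ 2)).eq_of_degree_le i (by
    rw [(hm _ (mV' _ μ1)).1, if_pos rfl]; exact one_ne_zero) (by
    rw [M.II_one, hN]
    simp only [Complex.mul_re, Complex.natCast_re, Complex.natCast_im, mul_zero, sub_zero]
    exact_mod_cast k7)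
  have := M.ci_II (μ ^ 2) (μ ^ 2)
  rw [M.cnt_self μ1, k8, i.ci_self] at this
  exact e0 (by linear_combination -this)

theorem p6 : P6.{u} := by
  intro G Ω _ _ _ _ α β t S E _ _ φ π τ M
  haveI := Fintype.ofFinite G
  haveI := M.fin
  haveI := M.finS
  haveI := M.finE
  haveI := Fintype.ofFinite S
  haveI := Fintype.ofFinite E
  haveI := Fintype.ofFinite (S ⋊[φ] E)
  haveI := Fintype.ofFinite (S →* ℂˣ)
  exact M.p6

end Cfsg.Agent.WA
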