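import Cfsg.Agent.WA.SC5

/-! SEA: the Frobenius case holds (P5). -/

set_option autoImplicit false
set_option linter.unusedSectionVars false
set_option linter.unusedVariables false

namespace Cfsg.Agent.WA

open Cfsg Subgroup MulAction Cfsg.Agent.GT Cfsg.Agent.Cls Cfsg.Agent.GW Cfsg.Agent.Char Cfsg.Agent.B84C
open Cfsg.Agent.BS SemidirectProduct Cfsg.Agent.PF
open scoped ComplexConjugate Classical

universe u

section
variable {G : Type u} [Group G] [Fintype G]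

theorem pair_disj {a b a' b' e : G → ℂ} (ha : IsIrrCharacter G a) (hb : IsIrrCharacter G b)
    (ha' : IsIrrCharacter G a') (hb' : IsIrrCharacter G b') (n : a ≠ b) (n' : a' ≠ b')
    (h : ⟪a - b, a' - b'⟫ = 0) (h1 : e = a ∨ e = b) (h2 : e = a' ∨ e = b') : False := by
  rw [ci_sub_left, ci_sub_right, ci_sub_right, ha.ci_eq_ite ha', ha.ci_eq_ite hb', hb.ci_eq_ite ha',
    hb.ci_eq_ite hb'] at h
  rcases h1 with rfl | rfl <;> rcases h2 with rfl | rfl <;>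
    simp only [n, n', n.symm, n'.symm, if_true, if_false] at h <;> split_ifs at h <;> norm_num at h

theorem cnt5 {ι : Type*} [Fintype ι] {δ : G → ℂ} (hδ : IsGeneralizedCharacter G δ) (d : ι → G → ℂ)
    (hd : ∀ i, IsGeneralizedCharacter G (d i)) (h2 : ∀ i j, ⟪d i, d j⟫ = if i = j then 2 else 0)
    (h1 : ∀ i, d i 1 = 0) (h3 : ∀ i, ⟪δ, d i⟫ ≠ 0) {χ χ' : G → ℂ} (c : IsIrrCharacter G χ)
    (c' : IsIrrCharacter G χ') (ne : χ ≠ χ') (o : ∀ i, ⟪d i, χ⟫ = 0) (o' : ∀ i, ⟪d i, χ'⟫ = 0)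
    (n : ⟪δ, χ⟫ ≠ 0) (n' : ⟪δ, χ'⟫ ≠ 0) : (Fintype.card ι + 2 : ℝ) ≤ nsq δ := by
  have ex : ∀ i, ∃ a b e, IsIrrCharacter G a ∧ IsIrrCharacter G b ∧ a ≠ b ∧ d i = a - b ∧
      (e = a ∨ e = b) ∧ IsIrrCharacter G e ∧ ⟪δ, e⟫ ≠ 0 ∧ ⟪d i, e⟫ ≠ 0 := fun i => by
    obtain ⟨a, b, ha, hb, n, e⟩ := (hd i).exists_sub_of_nsq_two (nsq_eq_of_ci (by simp [h2])) (h1 i)
    by_cases z : ⟪δ, a⟫ = 0
    · refine ⟨a, b, b, ha, hb, n, e, Or.inr rfl, hb, fun z' => h3 i ?_, ?_⟩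
      · rw [e, ci_sub_right, z, z', sub_self]
      · rw [e, ci_sub_left, hb.ci_self, ha.ci_of_ne hb n]; simp
    · refine ⟨a, b, a, ha, hb, n, e, Or.inl rfl, ha, z, ?_⟩
      rw [e, ci_sub_left, ha.ci_self, hb.ci_of_ne ha n.symm]; simp
  choose a b e ha hb nab hab he ie e1 e2 using ex
  have inj : Function.Injective e := fun i j h => by
    by_contra n
    exact pair_disj (ha i) (hb i) (ha j) (hb j) (nab i) (nab j) (by rw [← hab, ← hab, h2, if_neg n])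
      (he i) (h ▸ he j)
  have := card_le_nsq hδ (insert χ (insert χ' (Finset.univ.image e))) (by
    intro x hx
    simp only [Finset.mem_insert, Finset.mem_image, Finset.mem_univ, true_and] at hx
    rcases hx with rfl | rfl | ⟨i, rfl⟩
    exacts [⟨c, n⟩, ⟨c', n'⟩, ⟨ie i, e1 i⟩])
  rw [Finset.card_insert_of_notMem, Finset.card_insert_of_notMem, Finset.card_image_of_injective _ inj,
    Finset.card_univ] at this
  · push_cast at this
    linarith
  · intro hx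
    obtain ⟨i, -, h⟩ := Finset.mem_image.1 hx
    exact e2 i (h ▸ o' i)
  · intro hx
    rcases Finset.mem_insert.1 hx with h | hx
    · exact ne h
    obtain ⟨i, -, h⟩ := Finset.mem_image.1 hx
    exact e2 i (h ▸ o i)

theorem ci_res_ne {K : Type*} [Group K] [Fintype K] (f : K →* G) {θ : G → ℂ} (h : IsCharacter G θ)
    {η : G →* ℂˣ} (n : ⟪ch η, θ⟫ ≠ 0) : ⟪ch (η.comp f), fun x => θ (f x)⟫ ≠ 0 := by
  have c := (h.sub_irr (ch_irr η) fun z => n (ci_eq_zero_symm z)).comp f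
  obtain ⟨m, hm⟩ := (ch_irr (η.comp f)).isCharacter.ci_nat c
  have : (fun x => θ (f x)) = ch (η.comp f) + fun x => (θ - ch η) (f x) := by
    funext x; simp [ch]
  rw [this, ci_add_right, hm, (ch_irr _).ci_self, add_comm]
  exact_mod_cast Nat.succ_ne_zero m

theorem oddInd_sect (x y : G) (c : IsConj (constt {2} x) (constt {2} y)) : oddInd x = oddInd y := by
  have i : ∀ x : G, Odd (orderOf x) ↔ constt {2} x = 1 := fun x =>
    piNat_two_compl.symm.trans constt_eq_one_iff.symm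
  have : constt {2} x = 1 ↔ constt {2} y = 1 :=
    ⟨fun e => isConj_one_right.1 (e ▸ c), fun e => isConj_one_left.1 (e ▸ c)⟩
  simp only [oddInd, i, this]

theorem exists_sqrt_fix {X A : Type*} [CommGroup X] [Group A] [Finite A] (o : Odd (Nat.card A))
    (f : A → X →* X) (hf : ∀ a b x, f (a * b) x = f a (f b x)) (g : X →* X) {x y : X} {m : ℕ}
    (h : g ((x * x) ^ m) = y) (hy : orderOf y = 2) (fy : ∀ a, f a y = y) :
    ∃ z, z ^ 2 = y ∧ ∀ a, f a z = z := by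
  haveI := Fintype.ofFinite A
  refine ⟨∏ a, f a (g (x ^ m)), ?_, fun b => ?_⟩
  · rw [← Finset.prod_pow, Finset.prod_congr rfl (g := fun _ => y) fun a _ => by
      rw [← map_pow, ← map_pow, sq, ← mul_pow, h, fy], Finset.prod_const, Finset.card_univ,
      ← Nat.card_eq_fintype_card]
    obtain ⟨k, hk⟩ := o
    rw [hk, pow_succ, pow_mul, ← hy, pow_orderOf_eq_one, one_pow, one_mul]
  · rw [map_prod]
    exact Fintype.prod_equiv (Equiv.mulLeft b) _ _ fun a => (hf _ _ _).symm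

theorem lin_odd {E : Type*} [Group E] [Finite E] (o : Odd (Nat.card E)) (l : E →* ℂˣ) {e : E}
    (h : (l e)⁻¹ = l e) : l e = 1 := by
  obtain ⟨k, hk⟩ := o
  have h2 : l e ^ 2 = 1 := by rw [sq]; nth_rewrite 1 [← h]; exact inv_mul_cancel _
  have := congrArg l (pow_card_eq_one' (x := e))
  rwa [map_pow, map_one, hk, pow_succ, pow_mul, h2, one_pow, one_mul] at this

end

variable {G Ω : Type u} [Group G] [MulAction G Ω] {α β : Ω} {t : G}
  [Fintype G] {S E : Type u} [CommGroup S] [Group E] {φ : E →* MulAut S}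
  {π : stabilizer G α →* S ⋊[φ] E} {τ : E →* E} {Z : Subgroup E}
  [Fintype S] [Fintype E] [Fintype (S ⋊[φ] E)] [Fintype (S →* ℂˣ)]

local notation3 "H" => stabilizer G α

theorem Md.odd_sum (M : Md α β t φ π τ Z) (l : E →* ℂˣ) : ⟪LL π l, oddInd⟫ ≠ 0 := by
  have ex : ∀ e : E, ∃ c : S, (c * (φ e c)⁻¹) * (c * (φ e c)⁻¹) = 1 ∧ (c * (φ e c)⁻¹ = 1 → e = 1) := by
    intro e
    by_cases h : e = 1
    · exact ⟨1, by simp, fun _ => h⟩
    obtain ⟨x, hx⟩ := not_forall.1 (mt (M.faith e) h)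
    let f : S →* S := MonoidHom.id S * ((φ e).toMonoidHom)⁻¹
    obtain ⟨m, hm⟩ := two_pow_of_pgroup M.pS (x := f x) fun z => hx (mul_inv_eq_one.1 z).symm
    rw [← map_pow] at hm
    exact ⟨x ^ m, mul_self_of_two hm, fun z => absurd z (ne_one_of_two hm)⟩
  choose c c1 c2 using ex
  obtain ⟨T, -, hT⟩ := sum_invol (Finset.univ.filter fun y : S ⋊[φ] E => Odd (orderOf y))
    (fun y => ⟨y.left * (c y.right * (φ y.right (c y.right))⁻¹), y.right⟩) (fun y hy => by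
      have : (⟨y.left * (c y.right * (φ y.right (c y.right))⁻¹), y.right⟩ : S ⋊[φ] E) =
          inl (c y.right) * y * (inl (c y.right))⁻¹ := by
        ext
        · simp [mul_left_comm, mul_assoc]
        · simp
      rw [Finset.mem_filter, this, orderOf_conj]
      exact ⟨Finset.mem_univ _, (Finset.mem_filter.1 hy).2⟩) (fun y _ => by
      ext
      · simp only [mul_assoc y.left, c1, mul_one]
      · rfl) (fun y => (l y.right : ℂ)) fun _ _ => rfl
  rw [Finset.sum_eq_single (s := Finset.filter _ (Finset.filter _ _)) 1 (fun y hy y1 => absurd ?_ y1)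
    (by simp)] at hT
  swap
  · simp only [Finset.mem_filter, Finset.mem_univ, true_and] at hy
    have h := c2 _ (mul_eq_left.1 (congrArg SemidirectProduct.left hy.2))
    by_contra n
    rw [eq_inl h, orderOf_injective _ inl_injective] at hy
    obtain ⟨m, hm⟩ := two_pow_of_pgroup M.pS (x := y.left) fun z => n (by rw [eq_inl h, z, map_one])
    have := hy.1.of_dvd_nat (orderOf_pow_dvd (x := y.left) m)
    rw [hm] at this
    exact absurd this (by decide)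
  rw [LL, Up, ci_indFun_left _ _ oddInd_class,
    show (fun h : H => oddInd (h : G)) = fun h => oddInd (π h) from funext fun h => by
      simp only [oddInd, M.odd_iff], ci_comp_surjective π M.surj, ci_def]
  refine mul_ne_zero (inv_ne_zero (card_ne_zero_complex _)) fun z => ?_
  have e : ∑ y : S ⋊[φ] E, ch (l.comp rightHom) y * conj (oddInd y) =
      ∑ y ∈ Finset.univ.filter fun y : S ⋊[φ] E => Odd (orderOf y), (l y.right : ℂ) := by
    rw [Finset.sum_filter]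
    exact Finset.sum_congr rfl fun y _ => by unfold oddInd; split_ifs <;> simp [ch]
  rw [e, hT] at z
  have := int_dvd_of_isIntegral (a := -1) (b := 2) (IsIntegral.sum (s := T) _ fun y _ =>
    (ch_irr l).isCharacter.isIntegral y.right) (by norm_num) (by
      simp only [one_right, map_one, Units.val_one, nsmul_eq_mul] at z
      simp only [ch]
      push_cast at z ⊢
      linear_combination -z)
  omega

theorem Md.inv_lin (M : Md α β t φ π τ Z) {l : E →* ℂˣ} (hl : l.comp τ = l) (h : H) {u : G}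
    (hu : u * u = 1) (e : u * h * u = (h : G)⁻¹) : l (π h).right = 1 := by
  let f : H →* ℂˣ := l.comp (rightHom.comp π)
  refine lin_odd M.oE l (show (f h)⁻¹ = f h from ?_)
  by_cases ua : u • α = α
  · have : (⟨u, ua⟩ : H) * h * ⟨u, ua⟩ = h⁻¹ := Subtype.ext e
    rw [← map_inv, ← this, map_mul, map_mul, mul_right_comm, ← map_mul,
      show (⟨u, ua⟩ : H) * ⟨u, ua⟩ = 1 from Subtype.ext hu, map_one, one_mul]
  obtain ⟨k, ka, kb⟩ := M.tw.two α (u • α) β ua M.ne.symm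
  have ki : k⁻¹ • α = α := inv_smul_eq_iff.2 ka.symm
  have kj : k⁻¹ • β = u • α := inv_smul_eq_iff.2 kb.symm
  have uu : u • u • α = α := by rw [← mul_smul, hu, one_smul]
  have ui : u⁻¹ = u := inv_eq_of_mul_eq_one_right hu
  have d : t * (k * u * k⁻¹) ∈ H := by
    rw [mem_stabilizer_iff, mul_smul, mul_smul, mul_smul, ki, kb, M.tb]
  have hu' : (h : G) • u • α = u • α := by
    have : (h : G) * u = u * h⁻¹ := by rw [coe_inv, ← e, ← mul_assoc, ← mul_assoc, hu, one_mul]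
    rw [← mul_smul, this, mul_smul, (h⁻¹).2]
  have := M.tau (⟨k, ka⟩ * h * ⟨k, ka⟩⁻¹) (⟨_, d⟩ * (⟨k, ka⟩ * h⁻¹ * ⟨k, ka⟩⁻¹) * ⟨_, d⟩⁻¹) (by
    simp only [coe_mul, coe_inv, mul_smul, kj, hu', kb]) (by
    simp only [coe_mul, coe_inv, ← e, mul_inv_rev, ui, inv_eq_of_mul_eq_one_right M.tt, inv_inv]
    have : ∀ x, u * (u * x) = x := fun x => by rw [← mul_assoc, hu, one_mul]
    simp [mul_assoc, this])
  have h2 := congrArg l this
  rw [show ∀ x, l (τ x) = l x from DFunLike.congr_fun hl] at h2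
  have h3 : f (⟨_, d⟩ * (⟨k, ka⟩ * h⁻¹ * ⟨k, ka⟩⁻¹) * ⟨_, d⟩⁻¹) = f (⟨k, ka⟩ * h * ⟨k, ka⟩⁻¹) := h2
  simpa only [map_mul, map_inv, mul_inv_cancel_comm] using h3

theorem Md.cZ_LL (M : Md α β t φ π τ Z) {l : E →* ℂˣ} (hl : l.comp τ = l) {s : G} (hs : orderOf s = 2) :
    B84C.cZ s (LL π l) = (C1[s].index : ℂ) ^ 2 := by
  have h1 : B84C.cZ s (LL π l - LL π 1) = 0 := by
    refine Finset.sum_eq_zero fun w _ => ?_
    rw [Finset.mul_sum]
    refine Finset.sum_eq_zero fun v _ => ?_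
    rw [M.tw.cI_eq hs, M.tw.cI_eq hs]
    split_ifs with hw hv
    · rw [LL, LL, ← Up_sub, Up, indFun_eq_zero_of_forall _ fun x hx => ?_]
      · simp
      have v2 := mul_self_of_two hv
      have := M.inv_lin hl ⟨_, hx⟩ (u := x⁻¹ * v * x) (by
        calc _ = x⁻¹ * (v * v) * x := by group
          _ = 1 := by simp [v2]) (by
        rw [eq_inv_iff_mul_eq_one]
        calc _ = x⁻¹ * ((v * v) * (w * ((v * v) * w))) * x := by simp only; group
          _ = 1 := by simp [v2, mul_self_of_two hw])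
      simp [ch, this]
    all_goals simp
  have St := M.tw.St_irr M.ne
  have h2 := cZ_sirr (t := s) St.isSIrr
  have h3 : indFun H (fun _ => 1) s = 1 := M.LL_val 1 hs
  rw [Pi.sub_apply _ _ s, h3, sub_self, cZ_sub, cZ_one] at h2
  simp only [ne_eq, OfNat.ofNat_ne_zero, not_false_eq_true, zero_pow, mul_zero] at h2
  rw [cZ_sub, sub_eq_zero] at h1
  exact h1.trans (sub_eq_zero.1 ((mul_eq_zero.1 h2).resolve_left St.apply_one_ne_zero))

theorem Md.end5 [IsSimpleGroup G] (M : Md α β t φ π τ Z) {l : E →* ℂˣ} (hl : l.comp τ = l) (l1 : l ≠ 1)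
    {χ χ' : G → ℂ} (c : IsIrrCharacter G χ) (c' : IsIrrCharacter G χ') (e : LL π l = χ + χ')
    {s : G} (hs : orderOf s = 2) (v : χ' s = 0) : False := by
  have h0 := M.LL_val l hs
  have h1 := M.cZ_LL hl hs
  have h2 := cZ_sirr (t := s) c.isSIrr
  have h3 := cZ_sirr (t := s) c'.isSIrr
  have n : (C1[s].index : ℂ) ^ 2 ≠ 0 := pow_ne_zero _ (Nat.cast_ne_zero.2 index_ne_zero_of_finite)
  rw [e, Pi.add_apply, v, add_zero] at h0
  rw [v, zero_pow two_ne_zero, mul_zero] at h3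
  rw [e, cZ_add, (mul_eq_zero.1 h3).resolve_left c'.apply_one_ne_zero, add_zero] at h1
  rw [h1, h0, one_pow, mul_one, mul_eq_right₀ n] at h2
  obtain ⟨f, rfl⟩ := c.isCharacter.exists_hom_of_degree_one h2
  have h4 := M.ci_LL_one l1
  obtain ⟨m, hm⟩ := c'.isCharacter.ci_nat isCharacter_one
  rw [e, M.tw.lin_eq f, ci_add_left, hm] at h4
  simp only [MonoidHom.one_apply, Units.val_one, ci_one_one] at h4
  exact Nat.succ_ne_zero m (by exact_mod_cast (add_comm _ _).trans h4)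

theorem Md.ci_Up0 (M : Md α β t φ π τ Z) {B : Subgroup E} {ν ν' : S →* ℂˣ} (h : B ≤ stb φ ν)
    (h' : B ≤ stb φ ν') (l : E →* ℂˣ) {θ : S ⋊[φ] E → ℂ} (hθ : IsClassFunction _ θ) :
    ⟪Up π (om φ B ν l - om φ B ν' l), Up π θ⟫ = ⟪om φ B ν l - om φ B ν' l, θ⟫ := by
  rw [M.ci_Up ((om_char h l).isClassFunction.sub (om_char h' l).isClassFunction) hθ,
    show (fun e => (om φ B ν l - om φ B ν' l) (inr e)) = 0 from
      sub_eq_zero.2 ((om_inr B ν l).trans (om_inr B ν' l).symm)]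
  simp [ci_def]

theorem Md.ci_om_same (M : Md α β t φ π τ Z) {B B' : Subgroup E} {ν : S →* ℂˣ} (n : ν ≠ 1) (h : B ≤ B')
    (h' : B' ≤ stb φ ν) (l l' : E →* ℂˣ) : ⟪om φ B ν l, om φ B' ν l'⟫ =
      Nat.card (stb φ ν) / Nat.card B' * ⟪fun e : B => (l e : ℂ), fun e => (l' e : ℂ)⟫ := by
  rw [ci_om_om (h.trans h') h', ci_def, ← Finset.sum_filter,
    Finset.sum_subtype (p := (· ∈ stb φ ν)) (F := inferInstance) _ (by simp [mem_stb, eq_comm]),
    Finset.sum_congr rfl fun g _ => Finset.sum_congr rfl fun e _ => if_pos ?_]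
  · simp only [Finset.sum_const, Finset.card_univ, nsmul_eq_mul, ← Nat.card_eq_fintype_card]
    ring
  · have := (M.ac_fpf (M.der g⁻¹ e) (ν := ν) (mul_mem (mul_mem (mul_mem (inv_mem g.2) (h' (h e.2)))
      (inv_mem (inv_mem g.2))) (inv_mem (h' (h e.2))))).resolve_right n
    rw [inv_inv, mul_inv_eq_one] at this
    rw [this]
    exact h e.2

theorem mm_zero {B : Subgroup E} {ν : S →* ℂˣ} (h : B ≤ stb φ ν) (l : E →* ℂˣ) {χ : G → ℂ}
    (c : IsCharacter G χ) (z : mm π ν χ = 0) : ⟪Up π (om φ B ν l), χ⟫ = 0 := by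
  by_contra n
  rw [ci_Up_left _ (om_char h l).isClassFunction c.isClassFunction, om_eq h,
    ci_indFun_left _ _ (push_char c).isClassFunction] at n
  have := ci_res_ne (inl.codRestrict (B.comap (rightHom : S ⋊[φ] E →* E)) fun x => by simp)
    ((push_char (π := π) c).restrict _) n
  have e := ci_mm (π := π) ν c
  rw [z, II, ci_Up_left _ (om_char bot_le 1).isClassFunction c.isClassFunction,
    ci_om_bot _ (push_char c).isClassFunction] at e
  refine this (Eq.trans ?_ (e.trans Int.cast_zero))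
  congr 2
  ext x
  simp [eta1]

theorem mm_one_ne {l : E →* ℂˣ} {χ : G → ℂ} (c : IsCharacter G χ) (n : ⟪LL π l, χ⟫ ≠ 0) :
    mm π 1 χ ≠ 0 := fun z => by
  rw [ci_Up_left _ (ch_irr _).isClassFunction c.isClassFunction] at n
  have := ci_res_ne inl (push_char (π := π) c) n
  have e := ci_mm (π := π) 1 c
  rw [z, II, ci_Up_left _ (om_char bot_le 1).isClassFunction c.isClassFunction,
    ci_om_bot _ (push_char c).isClassFunction] at e
  refine this (Eq.trans ?_ (e.trans Int.cast_zero))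
  congr 2
  ext x
  simp

theorem Md.mm_sum (M : Md α β t φ π τ Z) {l : E →* ℂˣ} {χ χ' : G → ℂ} (c : IsCharacter G χ)
    (c' : IsCharacter G χ') (e : LL π l = χ + χ') (ν : S →* ℂˣ) :
    mm π ν χ + mm π ν χ' = if ν = 1 then 2 else 1 := by
  have := M.ci_II_LL ν l
  rw [e, ci_add_right, ci_mm _ c, ci_mm _ c'] at this
  split_ifs at this ⊢
  · exact_mod_cast this.trans one_add_one_eq_two
  · exact_mod_cast this.trans (zero_add _)

theorem Md.ci_W (M : Md α β t φ π τ Z) {l₀ : E →* ℂˣ} (hl : l₀.comp τ = l₀) {χ χ' : G → ℂ}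
    (c : IsCharacter G χ) (c' : IsCharacter G χ') (e : LL π l₀ = χ + χ') {ν : S →* ℂˣ} (n : ν ≠ 1)
    {B : Subgroup E} (h : B ≤ stb φ ν) (l : E →* ℂˣ) : ⟪Up π (om φ B ν l), χ⟫ =
      mm π ν χ * ⟪fun e : B => (l e : ℂ), fun e => (l₀ e : ℂ)⟫ := by
  have h1 := M.mm_sum c c' e ν
  rw [if_neg n] at h1
  by_cases z : mm π ν χ = 0
  · simp [mm_zero h l c z, z]
  have a := mm_nonneg (π := π) ν c
  have b := mm_nonneg (π := π) ν c'
  have h2 := M.ci_om_LL h l l₀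
  rw [if_neg n, zero_add, e, ci_add_right, mm_zero h l c' (by omega), add_zero] at h2
  rw [h2, show mm π ν χ = 1 by omega, Int.cast_one, one_mul]
  simp only [show ∀ x, l₀ (τ x) = l₀ x from DFunLike.congr_fun hl]

theorem Md.side0 (M : Md α β t φ π τ Z) {ι : Type*} [Fintype ι] (l : ι → E →* ℂˣ) {l₀ : E →* ℂˣ}
    (hl : l₀.comp τ = l₀) {χ χ' : G → ℂ} (c : IsIrrCharacter G χ) (c' : IsIrrCharacter G χ') (ne : χ ≠ χ')
    (e : LL π l₀ = χ + χ') {A : Subgroup E} {μ μ' ν : S →* ℂˣ}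
    (inj : ∀ i j, (l i).comp A.subtype = (l j).comp A.subtype → i = j) (res : ∀ i, ∀ x ∈ stb φ ν, l i x = l₀ x)
    (a : stb φ μ = A) (a' : stb φ μ' = A) (m : μ ≠ 1) (m' : μ' ≠ 1) (n : ν ≠ 1) (b : stb φ ν ≤ A)
    (k : ∀ g, μ ≠ ac φ g μ') (k1 : ∀ g, ν ≠ ac φ g μ) (k2 : ∀ g, ν ≠ ac φ g μ')
    (same : mm π μ χ = mm π μ' χ) (dif : mm π ν χ ≠ mm π μ χ) :
    (Fintype.card ι + 2 : ℝ) ≤ 1 + Nat.card A / Nat.card (stb φ ν) := by
  have sy : ∀ {x y : S →* ℂˣ}, (∀ g, x ≠ ac φ g y) → ∀ g, y ≠ ac φ g x := fun h g e =>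
    h g⁻¹ (by rw [e, ac_inv_ac])
  have e' := e.trans (add_comm _ _)
  have i := c.isCharacter
  have i' := c'.isCharacter
  have bμ := b.trans a.ge
  have cA : (Nat.card A : ℂ) ≠ 0 := Nat.cast_ne_zero.2 Nat.card_pos.ne'
  have cB : (Nat.card (stb φ ν) : ℂ) ≠ 0 := Nat.cast_ne_zero.2 Nat.card_pos.ne'
  have s1 := M.mm_sum i i' e μ
  have s2 := M.mm_sum i i' e μ'
  have s3 := M.mm_sum i i' e ν
  rw [if_neg m] at s1
  rw [if_neg m'] at s2
  rw [if_neg n] at s3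
  have self : ⟪fun e : stb φ ν => (l₀ e : ℂ), fun e => (l₀ e : ℂ)⟫ = 1 := ci_lc_self (l₀.comp (stb φ ν).subtype)
  have cl := fun j => (om_char a.ge (l j)).isClassFunction.sub (om_char a'.ge (l j)).isClassFunction
  obtain ⟨δ, hδ⟩ : ∃ δ, δ = Up π (om φ (stb φ ν) ν l₀ - om φ (stb φ ν) μ l₀) := ⟨_, rfl⟩
  obtain ⟨d, hd⟩ : ∃ d : ι → G → ℂ, ∀ j, d j = Up π (om φ A μ (l j) - om φ A μ' (l j)) := ⟨_, fun _ => rfl⟩
  have h2 : ∀ i j, ⟪d i, d j⟫ = if i = j then 2 else 0 := fun i j => by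
    have := ci_lc ((l i).comp A.subtype) ((l j).comp A.subtype)
    rw [if_congr (show _ ↔ i = j from ⟨inj i j, fun h => by rw [h]⟩) rfl rfl] at this
    rw [hd, hd, M.ci_Up0 a.ge a'.ge _ (cl j),
      ci_sub_left, ci_sub_right, ci_sub_right, M.ci_om_same m le_rfl a.ge, M.ci_om_same m' le_rfl a'.ge,
      ci_om_of_not a.ge a'.ge _ _ k, ci_om_of_not a'.ge a.ge _ _ (sy k), a, a', div_self cA,
      show ⟪fun e : A => (l i e : ℂ), fun e => (l j e : ℂ)⟫ = _ from this]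
    split_ifs <;> norm_num
  have h3 : ∀ j, ⟪δ, d j⟫ ≠ 0 := fun j => by
    rw [hδ, hd, M.ci_Up0 le_rfl bμ _ (cl j), ci_sub_left, ci_sub_right, ci_sub_right, M.ci_om_same m b a.ge,
      ci_om_of_not le_rfl a.ge _ _ k1, ci_om_of_not le_rfl a'.ge _ _ k2, ci_om_of_not bμ a'.ge _ _ k,
      a, div_self cA, show (fun e : stb φ ν => (l j e : ℂ)) = fun e : stb φ ν => (l₀ e : ℂ) from
        funext fun x => by rw [res j x x.2], self]
    norm_num
  have h4 : nsq δ = 1 + Nat.card A / Nat.card (stb φ ν) := nsq_eq_of_ci (by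
    rw [hδ, M.ci_Up0 le_rfl bμ _ ((om_char le_rfl _).isClassFunction.sub (om_char bμ _).isClassFunction),
      ci_sub_left, ci_sub_right, ci_sub_right, M.ci_om_same n le_rfl le_rfl, M.ci_om_same m le_rfl bμ,
      ci_om_of_not le_rfl bμ _ _ k1, ci_om_of_not bμ le_rfl _ _ (sy k1), a, div_self cB, self]
    push_cast
    ring)
  rw [← h4]
  refine cnt5 ?_ d (fun j => ?_) h2 (fun j => ?_) h3 c c' ne (fun j => ?_) (fun j => ?_) ?_ ?_
  · rw [hδ, Up_sub]; exact (Up_char (om_char le_rfl _)).virt.sub (Up_char (om_char bμ _)).virt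
  · rw [hd, Up_sub]; exact (Up_char (om_char a.ge _)).virt.sub (Up_char (om_char a'.ge _)).virt
  · have := congrFun ((om_inr (φ := φ) A μ (l j)).trans (om_inr (φ := φ) A μ' _).symm) 1
    rw [map_one] at this
    rw [hd, M.Up_one, Pi.sub_apply, this, sub_self, mul_zero]
  · rw [hd, Up_sub, ci_sub_left, M.ci_W hl i i' e m a.ge, M.ci_W hl i i' e m' a'.ge, same, sub_self]
  · rw [hd, Up_sub, ci_sub_left, M.ci_W hl i' i e' m a.ge, M.ci_W hl i' i e' m' a'.ge,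
      show mm π μ χ' = mm π μ' χ' by omega, sub_self]
  · rw [hδ, Up_sub, ci_sub_left, M.ci_W hl i i' e n le_rfl, M.ci_W hl i i' e m bμ, self, mul_one, mul_one]
    exact sub_ne_zero.2 (by exact_mod_cast dif)
  · rw [hδ, Up_sub, ci_sub_left, M.ci_W hl i' i e' n le_rfl, M.ci_W hl i' i e' m bμ, self, mul_one, mul_one]
    exact sub_ne_zero.2 (by exact_mod_cast (by omega : mm π ν χ' ≠ mm π μ χ'))

theorem Md.side (M : Md α β t φ π τ Z) {Q : Type u} [Group Q] [Finite Q] [IsMulCommutative Q]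
    (q : E →* Q) (hq : ∀ e, q e = 1 → e ∈ Z) {ψ₀ : Q →* ℂˣ} (hl : (ψ₀.comp q).comp τ = ψ₀.comp q)
    {χ χ' : G → ℂ} (c : IsIrrCharacter G χ) (c' : IsIrrCharacter G χ') (ne : χ ≠ χ')
    (e : LL π (ψ₀.comp q) = χ + χ') {A : Subgroup E} (hA : ∀ y, ∃ a ∈ A, q a = y) {μ μ' ν : S →* ℂˣ}
    (a : stb φ μ = A) (a' : stb φ μ' = A) (m : μ ≠ 1) (m' : μ' ≠ 1) (n : ν ≠ 1) (b : stb φ ν ≤ A)
    (k : ∀ g, μ ≠ ac φ g μ') (k1 : ∀ g, ν ≠ ac φ g μ) (k2 : ∀ g, ν ≠ ac φ g μ')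
    (same : mm π μ χ = mm π μ' χ) : mm π ν χ = mm π μ χ := by
  by_contra dif
  haveI := Fintype.ofFinite (Ann ((stb φ ν).map q))
  have := M.side0 (fun ψ : Ann ((stb φ ν).map q) => (ψ₀ * ψ.1).comp q) hl c c' ne e
    (fun ψ ψ' h => Subtype.ext (MonoidHom.ext fun y => by
      obtain ⟨x, hx, rfl⟩ := hA y
      exact mul_left_cancel (a := ψ₀ (q x)) (DFunLike.congr_fun h ⟨x, hx⟩)))
    (fun ψ x hx => by simp [ψ.2 _ (mem_map_of_mem q hx)]) a a' m m' n b k k1 k2 same dif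
  rw [← Nat.card_eq_fintype_card, card_Ann] at this
  have h1 : Nat.card A ≤ Nat.card Q := Nat.card_le_card_of_injective (q.comp A.subtype)
    ((injective_iff_map_eq_one _).2 fun x hx =>
      Subtype.ext ((M.ac_fpf (hq _ hx) (a.ge x.2)).resolve_right m))
  have h2 : Nat.card A ≤ ((stb φ ν).map q).index * Nat.card (stb φ ν) := by
    rw [← ((stb φ ν).map q).index_mul_card] at h1
    exact h1.trans (Nat.mul_le_mul_left _ (Nat.le_of_dvd Nat.card_pos (card_map_dvd _ _)))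
  have h3 : (Nat.card A : ℝ) / Nat.card (stb φ ν) ≤ ((stb φ ν).map q).index := by
    rw [div_le_iff₀ (Nat.cast_pos.2 Nat.card_pos)]
    exact_mod_cast h2
  linarith

theorem Md.const (M : Md α β t φ π τ Z) {Q : Type u} [Group Q] [Finite Q] [IsMulCommutative Q]
    (q : E →* Q) (sq : Function.Surjective q) (hq : ∀ e, q e = 1 ↔ e ∈ Z) {ψ₀ : Q →* ℂˣ}
    (hl : (ψ₀.comp q).comp τ = ψ₀.comp q)
    {χ χ' : G → ℂ} (c : IsIrrCharacter G χ) (c' : IsIrrCharacter G χ') (ne : χ ≠ χ')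
    (e : LL π (ψ₀.comp q) = χ + χ') : ∃ μ ≠ 1, ∀ ν ≠ 1, mm π ν χ = mm π μ χ := by
  obtain ⟨x, -, hx, -⟩ := M.big
  obtain ⟨ν₀, -, hν⟩ := exists_Ann_apply_ne (N := (⊥ : Subgroup S)) (w := x) (by simpa using ne_one_of_two hx)
  obtain ⟨m₀, h₁⟩ := two_pow_of_pgroup M.pD (x := ν₀) (by rintro rfl; exact hν rfl)
  generalize ν₀ ^ m₀ = μ₁ at h₁
  have n₁ := ne_one_of_two h₁
  by_cases el : ∀ ν : S →* ℂˣ, ν * ν = 1
  · refine ⟨μ₁, n₁, fun ν n => ?_⟩
    obtain ⟨z, -, rfl⟩ := M.ac_reg h₁ (two_of_mul_self (el ν) n)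
    exact mm_ac _ _ _
  obtain ⟨ν₁, hν₁⟩ := not_forall.1 el
  obtain ⟨m, hm⟩ := two_pow_of_pgroup M.pD hν₁
  obtain ⟨z, -, hz⟩ := M.ac_reg hm h₁
  have hA : ∀ y, ∃ a ∈ stb φ μ₁, q a = y := fun y => by
    obtain ⟨g, rfl⟩ := sq y
    obtain ⟨z, hz, e⟩ := M.ac_reg h₁ ((orderOf_injective _ (ac_inj (φ := φ) g) μ₁).trans h₁)
    exact ⟨z⁻¹ * g, by rw [mem_stb, ac_mul, ← e, ac_inv_ac], by
      rw [map_mul, (hq _).2 (inv_mem hz), one_mul]⟩
  obtain ⟨μ₂, h₂, a₂⟩ : ∃ μ₂ : S →* ℂˣ, μ₂ ^ 2 = μ₁ ∧ stb φ μ₁ ≤ stb φ μ₂ := by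
    obtain ⟨y, h1, h2⟩ := exists_sqrt_fix (X := S →* ℂˣ) (M.oE.of_dvd_nat (stb φ μ₁).card_subgroup_dvd_card)
      (fun a => ac φ a) (fun a b => ac_mul _ _) (ac φ z) hz h₁ fun a => a.2
    exact ⟨y, h1, fun g hg => h2 ⟨g, hg⟩⟩
  have b₂ : stb φ μ₂ = stb φ μ₁ := le_antisymm (h₂ ▸ stb_le_pow μ₂ 2) a₂
  have n₂ : μ₂ * μ₂ ≠ 1 := fun z => n₁ (h₂.symm.trans ((pow_two (M := S →* ℂˣ) μ₂).trans z))
  have n₂' : μ₂ ≠ 1 := by rintro rfl; exact n₂ (lmul_one _)
  have b₃ : stb φ μ₂⁻¹ = stb φ μ₁ := by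
    rw [← b₂]
    ext g
    rw [mem_stb, mem_stb, ac_inv]
    exact inv_inj (G := S →* ℂˣ)
  have k : ∀ μ : S →* ℂˣ, μ * μ ≠ 1 → ∀ g, μ₁ ≠ ac φ g μ := fun μ h g e => h (by
    have := mul_self_of_two h₁
    rwa [e, ← map_mul, ac_eq_one] at this)
  have key : ∀ μ μ' : S →* ℂˣ, stb φ μ = stb φ μ₁ → stb φ μ' = stb φ μ₁ → μ ≠ 1 → μ' ≠ 1 →
      (∀ g, μ ≠ ac φ g μ') → mm π μ χ = mm π μ' χ → ∃ μ ≠ 1, ∀ ν ≠ 1, mm π ν χ = mm π μ χ := by
    refine fun μ μ' a a' n n' k s => ⟨μ, n, fun ν h => ?_⟩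
    obtain ⟨m, hm⟩ := two_pow_of_pgroup M.pD h
    obtain ⟨z, -, hz⟩ := M.ac_reg hm h₁
    rw [← mm_ac ν z]
    by_cases k1 : ∃ g, ac φ z ν = ac φ g μ
    · obtain ⟨g, e⟩ := k1
      rw [e, mm_ac]
    by_cases k2 : ∃ g, ac φ z ν = ac φ g μ'
    · obtain ⟨g, e⟩ := k2
      rw [e, mm_ac, s]
    exact M.side q (fun e => (hq e).1) hl c c' ne e hA a a' n n' (mt ac_eq_one.1 h)
      (by rw [← hz, ac_pow]; exact stb_le_pow _ _) k (not_exists.1 k1) (not_exists.1 k2) s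
  have n₃ : μ₂⁻¹ ≠ 1 := mt linv_eq_one.1 n₂'
  by_cases s1 : mm π μ₁ χ = mm π μ₂ χ
  · exact key _ _ rfl b₂ n₁ n₂' (k _ n₂) s1
  by_cases s2 : mm π μ₁ χ = mm π μ₂⁻¹ χ
  · exact key _ _ rfl b₃ n₁ n₃ (k _ (by rw [← lmul_inv]; exact mt linv_eq_one.1 n₂)) s2
  refine key _ _ b₂ b₃ n₂' n₃ (M.not_real n₂) ?_
  have b : ∀ ν ≠ 1, mm π ν χ = 0 ∨ mm π ν χ = 1 := fun ν n => by
    have := M.mm_sum c.isCharacter c'.isCharacter e ν
    have a := mm_nonneg (π := π) ν c.isCharacter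
    have b := mm_nonneg (π := π) ν c'.isCharacter
    rw [if_neg n] at this
    omega
  have := b _ n₁
  have := b _ n₂'
  have := b _ n₃
  omega

theorem Md.p5 [IsSimpleGroup G] (M : Md α β t φ π τ Z) : Z = ⊤ := by
  haveI := M.nZ
  haveI : IsMulCommutative (E ⧸ Z) := ⟨⟨fun a b => by
    obtain ⟨a, rfl⟩ := QuotientGroup.mk_surjective a
    obtain ⟨b, rfl⟩ := QuotientGroup.mk_surjective b
    exact QuotientGroup.eq.2 (by simpa [mul_assoc] using M.der b⁻¹ a⁻¹)⟩⟩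
  by_contra n
  obtain ⟨w, hw⟩ := not_forall.1 (mt (eq_top_iff' Z).2 n)
  obtain ⟨ψ, -, hψ⟩ := exists_Ann_apply_ne (N := (⊥ : Subgroup (E ⧸ Z))) (w := w) (by simpa using hw)
  have l1 : ψ.comp (QuotientGroup.mk' Z) ≠ 1 := fun e => hψ (DFunLike.congr_fun e w)
  have hl : (ψ.comp (QuotientGroup.mk' Z)).comp τ = ψ.comp (QuotientGroup.mk' Z) :=
    MonoidHom.ext fun e => congrArg ψ (QuotientGroup.eq.2 (M.tZ e)).symm
  obtain ⟨s, hs⟩ := M.tw.exists_inv
  obtain ⟨x, -, hx, -⟩ := M.big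
  have fin : ∀ χ χ', IsIrrCharacter G χ → IsIrrCharacter G χ' → χ ≠ χ' →
      LL π (ψ.comp (QuotientGroup.mk' Z)) = χ + χ' → χ ∉ B0 G := fun χ χ' c c' ne e hB => by
    obtain ⟨μ, m, hμ⟩ := M.const (QuotientGroup.mk' Z) (QuotientGroup.mk'_surjective Z)
      (fun e => QuotientGroup.eq_one_iff e) hl c c' ne e
    have a := mm_one_ne (π := π) (l := ψ.comp (QuotientGroup.mk' Z)) c.isCharacter (by
      rw [e, ci_add_left, c.ci_self, c'.ci_of_ne c ne.symm]; simp)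
    have a' := mm_one_ne (π := π) (l := ψ.comp (QuotientGroup.mk' Z)) c'.isCharacter (by
      rw [e, ci_add_left, c'.ci_self, c.ci_of_ne c' ne]; simp)
    have b := mm_nonneg (π := π) 1 c.isCharacter
    have b' := mm_nonneg (π := π) 1 c'.isCharacter
    have d := mm_nonneg (π := π) μ c.isCharacter
    have d' := mm_nonneg (π := π) μ c'.isCharacter
    have s1 := M.mm_sum c.isCharacter c'.isCharacter e 1
    have s2 := M.mm_sum c.isCharacter c'.isCharacter e μ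
    rw [if_pos rfl] at s1
    rw [if_neg m] at s2
    have v := M.B0_val hB hs hx
    rw [← Finset.add_sum_erase _ _ (Finset.mem_univ 1), Finset.sum_congr rfl fun ν hν => by
      rw [hμ ν (Finset.ne_of_mem_erase hν)], ← Finset.mul_sum, sum_dual_ne (ne_one_of_two hx),
      show mm π 1 χ = 1 by omega] at v
    have v' := M.LL_val (ψ.comp (QuotientGroup.mk' Z)) hs
    rw [e, Pi.add_apply] at v'
    by_cases z : mm π μ χ = 0
    · exact M.end5 hl l1 c c' e hs (by simp [z] at v; linear_combination v' - v)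
    · exact M.end5 hl l1 c' c (e.trans (add_comm _ _)) hs (by simpa [show mm π μ χ = 1 by omega] using v)
  have X := LL_char (π := π) (ψ.comp (QuotientGroup.mk' Z))
  have n2 := M.ci_LL (ψ.comp (QuotientGroup.mk' Z)) (ψ.comp (QuotientGroup.mk' Z))
  rw [if_pos rfl, if_pos hl.symm] at n2
  obtain ⟨χ, c, hc⟩ := X.exists_irr_ci_ne_zero (fun z => by simp [z, ci_def] at n2; norm_num at n2)
  have Y := X.sub_irr c hc
  obtain ⟨k, hk⟩ := X.ci_irr_nat c
  obtain ⟨j, hj⟩ := Y.ci_nat Y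
  have h1 := hj
  rw [ci_sub_left, ci_sub_right, ci_sub_right, n2, c.isCharacter.ci_comm X, hk, c.ci_self] at h1
  have h2 : j + 2 * k = 3 := by exact_mod_cast (by linear_combination -h1 : (j + 2 * k : ℂ) = 3)
  have h3 : k ≠ 0 := fun z => hc (by rw [hk, z, Nat.cast_zero])
  obtain rfl : j = 1 := by omega
  obtain rfl : k = 1 := by omega
  have c' := Y.isIrr_of_ci_self (hj.trans Nat.cast_one)
  have ne : χ ≠ LL π (ψ.comp (QuotientGroup.mk' Z)) - χ := fun e => by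
    have := c.ci_self
    nth_rewrite 1 [e] at this
    rw [ci_sub_left, hk, c.ci_self] at this
    simp at this
  have e := (add_sub_cancel χ (LL π (ψ.comp (QuotientGroup.mk' Z)))).symm
  have z := ci_mul_eq_zero_of_not_mem oddInd_sect one_mem_B0 c (fin _ _ c c' ne e)
  have z' := ci_mul_eq_zero_of_not_mem oddInd_sect one_mem_B0 c' (fin _ _ c' c ne.symm (e.trans (add_comm _ _)))
  rw [show oddInd * (fun _ : G => (1 : ℂ)) = oddInd from mul_one _] at z z'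
  rw [ci_sub_right, z, sub_zero] at z'
  exact M.odd_sum _ (ci_eq_zero_symm z')

theorem p5 : P5.{u} := by
  intro G Ω _ _ _ _ α β t S E _ _ φ π τ Z M
  haveI := Fintype.ofFinite G
  haveI := M.fin
  haveI := M.finS
  haveI := M.finE
  haveI := Fintype.ofFinite S
  haveI := Fintype.ofFinite E
  haveI := Fintype.ofFinite (S ⋊[φ] E)
  haveI := Fintype.ofFinite (S →* ℂˣ)
  exact M.p5

end Cfsg.Agent.WA
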