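import Cfsg.Agent.WA.Def

/-! Walter's theorem, part SEA (strongly embedded subgroup): interface between the pieces. -/

set_option autoImplicit false
set_option linter.unusedSectionVars false
set_option linter.unusedVariables false

namespace Cfsg.Agent.WA

open Cfsg Subgroup MulAction Cfsg.Agent.GT Cfsg.Agent.Cls Cfsg.Agent.GW

universe u

/-- transitive action, every involution fixes exactly one point. -/
structure Ac (G Ω : Type u) [Group G] [MulAction G Ω] : Prop where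
  tr : ∀ a b : Ω, ∃ g : G, g • a = b
  nt : Nontrivial Ω
  fix : ∀ z : G, orderOf z = 2 → ∃! a : Ω, z • a = a
  ab : AB G
  rk : Rk3 G

/-- point stabilisers are 2-closed modulo the odd core. -/
def Cl (G Ω : Type u) [Group G] [MulAction G Ω] : Prop :=
  ∀ (a : Ω) (S : Subgroup G), IsPiHallOf {2} S ⊤ → S ≤ stabilizer G a →
    stabilizer G a ≤ N[O[stabilizer G a] ⊔ S]

section
variable {G Ω : Type u} [Group G] [MulAction G Ω]

/-- `P` centralises no involution of `G_a / O(G_a)`. -/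
def Free (a : Ω) (P : Subgroup G) : Prop :=
  ∀ v ∈ stabilizer G a, orderOf v = 2 → ¬ ∀ x ∈ P, x * v * x⁻¹ * v⁻¹ ∈ O[stabilizer G a]

/-- number of involutions of `S`. -/
noncomputable def nI (S : Subgroup G) : ℕ := Nat.card {x : G // x ∈ S ∧ orderOf x = 2}

/-- output of the pieces P1, P2. -/
structure Tw (G Ω : Type u) [Group G] [MulAction G Ω] : Prop where
  ac : Ac G Ω
  cl : Cl G Ω
  /-- all involutions are conjugate -/
  cj : ∀ s s' : G, orderOf s = 2 → orderOf s' = 2 → IsConj s s'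
  swap : ∀ a b : Ω, a ≠ b → ∃ t : G, orderOf t = 2 ∧ t • a = b ∧ t • b = a
  odd : ∀ a b : Ω, a ≠ b → Odd (Nat.card ↥(stabilizer G a ⊓ stabilizer G b))
  /-- `k ↦ k s k⁻¹` is a bijection from the elements of `D` inverted by `t` onto `I(G_a)` -/
  kk : ∀ (a b : Ω) (t s s' : G), a ≠ b → orderOf t = 2 → t • a = b → t • b = a →
    orderOf s = 2 → orderOf s' = 2 → s • a = a → s' • a = a →
    ∃! k : G, k • a = a ∧ k • b = b ∧ t * k * t = k⁻¹ ∧ k * s * k⁻¹ = s'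
  /-- free lemma -/
  free : ∀ (a : Ω) (S P : Subgroup G) (l : ℕ), IsPiHallOf {2} S ⊤ → l.Prime → l ∣ nI S →
    IsPGroup l P → P ≤ stabilizer G a → Free a P →
    ∀ b c : Ω, b ≠ a → c ≠ a → P ≤ stabilizer G b → P ≤ stabilizer G c → b = c
  syl : ∀ (a b : Ω) (S P : Subgroup G) (l : ℕ), a ≠ b → IsPiHallOf {2} S ⊤ → l.Prime → l ∣ nI S →
    IsPiHallOf {l} P (stabilizer G a ⊓ stabilizer G b) → Free a P ∧ IsPiHallOf {l} P (stabilizer G a)
  two : ∀ a b c : Ω, b ≠ a → c ≠ a → ∃ h : G, h • a = a ∧ h • b = c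

/-- the model of `H / O(H) = S ⋊ E`, `E = D / (D ∩ O(H))`. -/
structure Md (α β : Ω) (t : G) {S E : Type u} [CommGroup S] [Group E] (φ : E →* MulAut S)
    (π : stabilizer G α →* S ⋊[φ] E) (τ : E →* E) (Z : Subgroup E) : Prop where
  tw : Tw G Ω
  ne : α ≠ β
  ord : orderOf t = 2
  ta : t • α = β
  tb : t • β = α
  surj : Function.Surjective π
  ker : Odd (Nat.card π.ker)
  pS : IsPGroup 2 S
  oE : Odd (Nat.card E)
  left : ∀ h : stabilizer G α, (h : G) • β = β → (π h).left = 1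
  right : ∀ e : E, ∃ h : stabilizer G α, (h : G) • β = β ∧ (π h).right = e
  tau : ∀ h h' : stabilizer G α, (h : G) • β = β → (h' : G) = t * h * t →
    (π h').right = τ (π h).right
  nZ : Z.Normal
  cZ : ∀ x ∈ Z, ∀ y ∈ Z, x * y = y * x
  inv : ∀ z ∈ Z, τ z = z⁻¹
  tZ : ∀ e : E, e⁻¹ * τ e ∈ Z
  der : ∀ e e' : E, e * e' * e⁻¹ * e'⁻¹ ∈ Z
  fpf : ∀ z ∈ Z, ∀ x : S, φ z x = x → z = 1 ∨ x = 1
  reg : ∀ x y : S, orderOf x = 2 → orderOf y = 2 → ∃ z ∈ Z, φ z x = y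
  big : ∃ x y : S, orderOf x = 2 ∧ orderOf y = 2 ∧ x ≠ y
  faith : ∀ e : E, (∀ x : S, φ e x = x) → e = 1

end

/-- (NJ) no point stabiliser involves a `JR` group as a normal section over its odd core. -/
def NJ : Prop :=
  ∀ (G Ω : Type u) [Group G] [Finite G] [IsSimpleGroup G] [MulAction G Ω], Mn G → Ac G Ω →
    ∀ (a : Ω) (T : Subgroup (stabilizer G a ⧸ piCore ({2} : Set ℕ)ᶜ (stabilizer G a))),
      T.Normal → IsSimpleGroup T → JR T → False

/-- (P0) -/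
def P0 : Prop :=
  ∀ (G Ω : Type u) [Group G] [Finite G] [IsSimpleGroup G] [MulAction G Ω], Mn G → Ac G Ω → Cl G Ω

/-- (P2) -/
def P2 : Prop :=
  ∀ (G Ω : Type u) [Group G] [Finite G] [MulAction G Ω], Ac G Ω → Cl G Ω → Tw G Ω

/-- (P3) -/
def P3 : Prop :=
  ∀ (G Ω : Type u) [Group G] [Finite G] [IsSimpleGroup G] [MulAction G Ω], Tw G Ω →
    ∃ (α β : Ω) (t : G) (S E : Type u) (_ : CommGroup S) (_ : Group E) (φ : E →* MulAut S)
      (π : stabilizer G α →* S ⋊[φ] E) (τ : E →* E) (Z : Subgroup E), Md α β t φ π τ Z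

/-- (P5) -/
def P5 : Prop :=
  ∀ (G Ω : Type u) [Group G] [Finite G] [IsSimpleGroup G] [MulAction G Ω] (α β : Ω) (t : G)
    (S E : Type u) [CommGroup S] [Group E] (φ : E →* MulAut S)
    (π : stabilizer G α →* S ⋊[φ] E) (τ : E →* E) (Z : Subgroup E), Md α β t φ π τ Z → Z = ⊤

/-- (P6) -/
def P6 : Prop :=
  ∀ (G Ω : Type u) [Group G] [Finite G] [IsSimpleGroup G] [MulAction G Ω] (α β : Ω) (t : G)
    (S E : Type u) [CommGroup S] [Group E] (φ : E →* MulAut S)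
    (π : stabilizer G α →* S ⋊[φ] E) (τ : E →* E), Md α β t φ π τ ⊤ → ∀ x : S, x * x = 1

/-- (P7) -/
def P7 : Prop :=
  ∀ (G Ω : Type u) [Group G] [Finite G] [IsSimpleGroup G] [MulAction G Ω] (α β : Ω) (t : G)
    (S E : Type u) [CommGroup S] [Group E] (φ : E →* MulAut S)
    (π : stabilizer G α →* S ⋊[φ] E) (τ : E →* E), Md α β t φ π τ ⊤ → (∀ x : S, x * x = 1) →
    Nat.card Ω ≤ Nat.card S + 1

/-- (P8) -/
def P8 : Prop :=
  ∀ (G Ω : Type u) [Group G] [Finite G] [IsSimpleGroup G] [MulAction G Ω] (α β : Ω) (t : G)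
    (S E : Type u) [CommGroup S] [Group E] (φ : E →* MulAut S)
    (π : stabilizer G α →* S ⋊[φ] E) (τ : E →* E), Md α β t φ π τ ⊤ → (∀ x : S, x * x = 1) →
    Nat.card Ω ≤ Nat.card S + 1 → L2e G

/-- (P9) the coset action. -/
def P9 : Prop :=
  ∀ (G : Type u) [Group G] [Finite G] [IsSimpleGroup G], Mn G → ∀ H : Subgroup G, SE H →
    Ac G (G ⧸ H)

theorem sea_of (p0 : P0.{u}) (p2 : P2.{u}) (p3 : P3.{u}) (p5 : P5.{u}) (p6 : P6.{u})
    (p7 : P7.{u}) (p8 : P8.{u}) (p9 : P9.{u}) : SEA.{u} := by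
  intro G _ _ _ m H h
  have a := p9 G m H h
  obtain ⟨α, β, t, S, E, _, _, φ, π, τ, Z, M⟩ := p3 G _ (p2 G _ a (p0 G _ m a))
  obtain rfl := p5 G _ α β t S E φ π τ Z M
  have e := p6 G _ α β t S E φ π τ M
  exact p8 G _ α β t S E φ π τ M e (p7 G _ α β t S E φ π τ M e)

end Cfsg.Agent.WA
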