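import Cfsg.Agent.WA.SC0

/-! SEA, P3: an odd group with a subgroup transitive on the non-trivial vectors. -/

set_option autoImplicit false
set_option linter.unusedSectionVars false
set_option linter.unusedVariables false

namespace Cfsg.Agent.WA.SM

open Cfsg Subgroup Cfsg.Agent.GT Cfsg.Agent.Cls Cfsg.Agent.GW
open scoped commutatorElement

universe u

variable {X : Type u} [Group X] [Finite X] {V A B N P : Subgroup X} {a b c v w x : X} {l : ℕ}

structure TA (V A B : Subgroup X) : Prop where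
  el : ∀ v ∈ V, v * v = 1
  ne : V ≠ ⊥
  nV : A ≤ N[V]
  odd : Odd (Nat.card A)
  le : B ≤ A
  faith : A ⊓ C[V] = ⊥
  tr : ∀ v ∈ V, ∀ w ∈ V, v ≠ 1 → w ≠ 1 → ∃ b ∈ B, b * v * b⁻¹ = w

def T (a v : X) : X := v * (a * v * a⁻¹)

theorem T_fix (hv : Commute c v) (ha : Commute c a) : Commute c (T a v) :=
  hv.mul_right ((ha.mul_right hv).mul_right ha.inv_right)

theorem T_one (a : X) : T a 1 = 1 := by simp [T]

namespace TA
variable (h : TA V A B)
include h

theorem inv (hv : v ∈ V) : v⁻¹ = v := inv_eq_of_mul_eq_one_right (h.el v hv)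

theorem comm (hv : v ∈ V) (hw : w ∈ V) : v * w = w * v := by
  rw [← h.inv (mul_mem hv hw), mul_inv_rev, h.inv hv, h.inv hw]

theorem eq_of_mul (hv : v ∈ V) (e : v * w = 1) : v = w := by
  rw [← h.inv hv]; exact inv_eq_of_mul_eq_one_right e

theorem pV : IsPGroup 2 V := fun v => ⟨1, Subtype.ext (by simpa [pow_two] using h.el v v.2)⟩

theorem cop (hN : N ≤ A) : (Nat.card V).Coprime (Nat.card N) :=
  (cop2' (h.odd.of_dvd_nat (card_dvd_of_le hN)) h.pV).symm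

theorem cjm (ha : a ∈ A) (hv : v ∈ V) : a * v * a⁻¹ ∈ V := conj_mem_of_le_norm h.nV ha hv

theorem T_mem (ha : a ∈ A) (hv : v ∈ V) : T a v ∈ V := mul_mem hv (h.cjm ha hv)

theorem T_mul (ha : a ∈ A) (hv : v ∈ V) (hw : w ∈ V) : T a (v * w) = T a v * T a w := by
  have := h.comm hw (h.cjm ha hv)
  unfold T
  calc _ = v * (w * (a * v * a⁻¹)) * (a * w * a⁻¹) := by group
    _ = _ := by rw [this]; group

theorem T_comm (ha : a ∈ A) (hb : b ∈ A) (hab : Commute a b) (hv : v ∈ V) :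
    T a (T b v) = T b (T a v) := by
  have h1 := h.comm (h.cjm hb hv) (h.cjm ha hv)
  have h2 : a * (b * v * b⁻¹) * a⁻¹ = b * (a * v * a⁻¹) * b⁻¹ := by
    calc _ = (a * b) * v * (a * b)⁻¹ := by group
      _ = _ := by rw [hab.eq]; group
  unfold T
  calc _ = v * ((b * v * b⁻¹) * (a * v * a⁻¹)) * (a * (b * v * b⁻¹) * a⁻¹) := by group
    _ = _ := by rw [h1, h2]; group

theorem T_eq_one (hv : v ∈ V) : T a v = 1 ↔ Commute a v := by
  constructor
  · intro e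
    have := h.eq_of_mul hv e
    show a * v = v * a
    nth_rewrite 2 [this]; group
  · intro e
    rw [T, e.eq, mul_inv_cancel_right, h.el v hv]

theorem const (hn : B ≤ N[N]) (hv : v ∈ V) (hw : w ∈ V) (v1 : v ≠ 1) (w1 : w ≠ 1) :
    Nat.card ↥(N ⊓ C1[v]) = Nat.card ↥(N ⊓ C1[w]) := by
  obtain ⟨b, hb, rfl⟩ := h.tr v hv w hw v1 w1
  rw [← conj_cent1, ← conj_eq_self (hn hb), ← conj_inf, card_conj, conj_eq_self (hn hb)]

theorem eqc (hn : B ≤ N[N]) (hv : v ∈ V) (hw : w ∈ V) (v1 : v ≠ 1) (w1 : w ≠ 1)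
    (hle : N ⊓ C1[v] ≤ C1[w]) : N ⊓ C1[v] = N ⊓ C1[w] :=
  eq_of_le_of_card_ge (le_inf inf_le_left hle) (h.const hn hv hw v1 w1).ge

theorem eq1 (ha : a ∈ A) (e : ∀ v ∈ V, Commute a v) : a = 1 := by
  have : a ∈ A ⊓ C[V] := ⟨ha, fun v hv => (e v hv).eq.symm⟩
  rwa [h.faith, mem_bot] at this

/-- abelian subgroups normalised by `B` act semiregularly. -/
theorem semi (hN : N ≤ A) (hn : B ≤ N[N]) (hc : N ≤ C[N]) (hx : x ∈ N) (hv : v ∈ V)
    (e : Commute x v) : x = 1 ∨ v = 1 := by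
  have key : ∀ v ∈ V, ∀ w ∈ V, v ≠ 1 → w ≠ 1 → N ⊓ C1[v] = N ⊓ C1[w] := by
    intro v hv w hw v1 w1
    by_contra ne
    have vw : v * w ≠ 1 := fun e => ne (by rw [h.eq_of_mul hv e])
    have : ∀ x ∈ N ⊓ C1[v * w], Commute x v ∧ Commute x w := by
      intro x hx
      have e1 : T x v = T x w := h.eq_of_mul (h.T_mem (hN hx.1) hv)
        (by rw [← h.T_mul (hN hx.1) hv hw]; exact (h.T_eq_one (mul_mem hv hw)).2 (mem_cent1.1 hx.2))
      have e2 : T x v = 1 := by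
        by_contra u1
        apply ne
        have f : ∀ w ∈ V, N ⊓ C1[w] ≤ C1[T x w] := fun w hw y hy =>
          mem_cent1.2 (T_fix (mem_cent1.1 hy.2) (hc hx.1 y hy.1))
        rw [h.eqc hn hv (h.T_mem (hN hx.1) hv) v1 u1 (f v hv),
          h.eqc hn hw (h.T_mem (hN hx.1) hw) w1 (e1 ▸ u1) (f w hw), e1]
      exact ⟨(h.T_eq_one hv).1 e2, (h.T_eq_one hw).1 (e1 ▸ e2)⟩
    exact ne ((h.eqc hn (mul_mem hv hw) hv vw v1 fun x hx => mem_cent1.2 (this x hx).1).symm.trans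
      (h.eqc hn (mul_mem hv hw) hw vw w1 fun x hx => mem_cent1.2 (this x hx).2))
  by_cases v1 : v = 1
  · exact Or.inr v1
  refine Or.inl (h.eq1 (hN hx) fun w hw => ?_)
  by_cases w1 : w = 1
  · rw [w1]; exact Commute.one_right x
  have : x ∈ N ⊓ C1[v] := ⟨hx, mem_cent1.2 e⟩
  rw [key v hv w hw v1 w1] at this
  exact mem_cent1.1 this.2

theorem cyc_of_comm (hN : N ≤ A) (hn : B ≤ N[N]) (hc : N ≤ C[N]) : IsCyclic N := by
  by_contra nc
  obtain ⟨a, ha, a1, e⟩ := coprime_abelian_exists_cent1_ne_bot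
    (isMulCommutative_iff_le_cent.2 hc) nc (hN.trans h.nV) (h.cop hN) h.ne
  obtain ⟨v, hv, v1⟩ := exists_ne_one_of_ne_bot e
  exact (h.semi hN hn hc ha hv.1 (mem_cent1.1 hv.2).symm).elim a1 v1

/-- `l`-subgroups normalised by `B` are cyclic. -/
theorem cyc (hl : l.Prime) (hP : IsPGroup l P) (hA : P ≤ A) (hn : B ≤ N[P]) : IsCyclic P := by
  have := Fact.mk hl
  by_contra nc
  have l2 : l ≠ 2 := by
    rintro rfl
    have := cop2' (h.odd.of_dvd_nat (card_dvd_of_le hA)) hP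
    rw [Nat.coprime_self, card_eq_one] at this
    exact nc (this ▸ inferInstance)
  obtain ⟨M, MP, nM, eM, cM⟩ := PG.exists_normal_elemAb_sq' l2 hP nc
  have MA := MP.trans hA
  have mc : ∀ a ∈ M, ∀ b ∈ M, Commute a b := (PG.isElemAb_iff.1 eM).1
  have Mne : M ≠ ⊥ := by
    rintro rfl
    exact PG.not_isCyclic_of_elemAb_sq hl eM cM inferInstance
  obtain ⟨z, hz, z1⟩ := exists_ne_one_of_ne_bot (PG.inf_cent_ne_bot hP (PG.elemAb_isPGroup eM) nM Mne)
  have K0 : ∀ a ∈ M, a ≠ 1 → ∀ u ∈ V, u ≠ 1 → Commute a u → zpowers a = M ⊓ C1[u] := by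
    intro a ha a1 u hu u1 e
    refine eq_of_le_of_card_ge (zpowers_le.2 ⟨ha, mem_cent1.2 e⟩) ?_
    rw [Nat.card_zpowers, orderOf_eq_prime (PG.elemAb_pow eM ha) a1]
    have d := card_dvd_of_le (inf_le_left : M ⊓ C1[u] ≤ M)
    rw [cM] at d
    obtain ⟨k, hk, e'⟩ := (Nat.dvd_prime_pow hl).1 d
    rcases hk.eq_or_lt with rfl | hk
    · exfalso
      have : M ⊓ C1[u] = M := eq_of_le_of_card_ge inf_le_left (by rw [e', cM])
      have hz' : z ∈ M ⊓ C1[u] := this.symm ▸ hz.1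
      exact (h.semi (N := P ⊓ C[P]) (inf_le_left.trans hA) (le_norm_inf hn (le_norm_cent hn))
        (fun x hx y hy => hx.2 y hy.1) ⟨MP hz.1, hz.2⟩ hu (mem_cent1.1 hz'.2)).elim z1 u1
    · rw [e']
      calc l ^ k ≤ l ^ 1 := Nat.pow_le_pow_right hl.pos (by omega)
        _ = l := pow_one l
  have K : ∀ a ∈ M, a ≠ 1 → ∀ b ∈ M, b ≠ 1 → ∀ u ∈ V, Commute a u → Commute b u →
      u = 1 ∨ zpowers a = zpowers b := by
    intro a ha a1 b hb b1 u hu ea eb
    by_cases u1 : u = 1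
    · exact Or.inl u1
    · exact Or.inr ((K0 a ha a1 u hu u1 ea).trans (K0 b hb b1 u hu u1 eb).symm)
  have K' : ∀ a b u : X, zpowers a = zpowers b → Commute a u → Commute b u := fun a b u e c =>
    commute_of_mem_zpowers_left (e ▸ mem_zpowers b) c
  have nMV := MA.trans h.nV
  have ncM := PG.not_isCyclic_of_elemAb_sq hl eM cM
  obtain ⟨y, hy, y1, e⟩ := coprime_abelian_exists_cent1_ne_bot eM.1 ncM nMV (h.cop MA) h.ne
  obtain ⟨v0, ⟨hv0, c0⟩, v01⟩ := exists_ne_one_of_ne_bot e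
  obtain ⟨y', hy', y1', e'⟩ := coprime_abelian_exists_cent1 (X := C1[y]) eM.1 ncM nMV (h.cop MA)
    fun e => y1 (h.eq1 (MA hy) fun v hv => (mem_cent1.1 (e hv)).symm)
  obtain ⟨v1, ⟨hv1, c1⟩, n1⟩ := SetLike.not_le_iff_exists.1 e'
  have c0 : Commute y v0 := (mem_cent1.1 c0).symm
  have c1 : Commute y' v1 := (mem_cent1.1 c1).symm
  have n1 : ¬ Commute y v1 := fun e => n1 (mem_cent1.2 e.symm)
  have v11 : v1 ≠ 1 := fun e => n1 (e ▸ Commute.one_right y)
  have YY : zpowers y' ≠ zpowers y := fun e => n1 (K' _ _ _ e c1)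
  have KK : ∀ u ∈ V, Commute y u → Commute y' u → u = 1 := fun u hu e1 e2 =>
    (K y' hy' y1' y hy y1 u hu e2 e1).resolve_right YY
  have vw : v0 * v1 ≠ 1 := fun e => n1 (h.eq_of_mul hv0 e ▸ c0)
  have main : ∀ x ∈ P ⊓ C1[v0 * v1], Commute x v0 ∧ Commute x v1 := by
    intro x hx
    have xA := hA hx.1
    have cc : ∀ {a u : X}, Commute a u → Commute (x * a * x⁻¹) (x * u * x⁻¹) := fun e =>
      e.map (MulAut.conj x)
    have n1' : ∀ {a : X}, a ≠ 1 → x * a * x⁻¹ ≠ 1 := fun e f => e (by simpa using f)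
    obtain ⟨a, ea⟩ : ∃ a, a = x * y * x⁻¹ := ⟨_, rfl⟩
    obtain ⟨b, eb⟩ : ∃ a, a = x * y' * x⁻¹ := ⟨_, rfl⟩
    obtain ⟨w0, e0⟩ : ∃ a, a = x * v0 * x⁻¹ := ⟨_, rfl⟩
    obtain ⟨w1, e1⟩ : ∃ a, a = x * v1 * x⁻¹ := ⟨_, rfl⟩
    have ha : a ∈ M := ea ▸ conj_mem_of_le_norm nM hx.1 hy
    have hb : b ∈ M := eb ▸ conj_mem_of_le_norm nM hx.1 hy'
    have a1 : a ≠ 1 := ea ▸ n1' y1
    have b1 : b ≠ 1 := eb ▸ n1' y1'
    have hw0 : w0 ∈ V := e0 ▸ h.cjm xA hv0
    have hw1 : w1 ∈ V := e1 ▸ h.cjm xA hv1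
    have ca : Commute a w0 := by rw [ea, e0]; exact cc c0
    have cb : Commute b w1 := by rw [eb, e1]; exact cc c1
    have ee : v0 * v1 = w0 * w1 := by
      rw [e0, e1]
      calc _ = x * (v0 * v1) * x⁻¹ := by rw [mem_cent1.1 hx.2]; group
        _ = _ := by group
    have TT : ∀ v ∈ V, ∀ w ∈ V, T a (T b (v * w)) = T a (T b v) * T a (T b w) := fun v hv w hw => by
      rw [h.T_mul (MA hb) hv hw, h.T_mul (MA ha) (h.T_mem (MA hb) hv) (h.T_mem (MA hb) hw)]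
    have t1 : T a (T b v0) * T a (T b v1) = 1 := by
      rw [← TT _ hv0 _ hv1, ee, TT _ hw0 _ hw1, h.T_comm (MA ha) (MA hb) (mc a ha b hb) hw0,
        (h.T_eq_one hw0).2 ca, (h.T_eq_one hw1).2 cb, T_one, T_one, one_mul]
    have m0 := h.T_mem (MA ha) (h.T_mem (MA hb) hv0)
    have t2 := h.eq_of_mul m0 t1
    have t3 : T a (T b v0) = 1 := KK _ m0 (T_fix (T_fix c0 (mc _ hy _ hb)) (mc _ hy _ ha))
      (t2 ▸ T_fix (T_fix c1 (mc _ hy' _ hb)) (mc _ hy' _ ha))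
    have alt : ∀ y ∈ M, y ≠ 1 → ∀ v ∈ V, v ≠ 1 → Commute y v → T a (T b v) = 1 →
        zpowers b = zpowers y ∨ zpowers a = zpowers y := by
      intro y hy y1 v hv v1 c t
      have m := h.T_mem (MA hb) hv
      rcases K a ha a1 y hy y1 _ m ((h.T_eq_one m).1 t) (T_fix c (mc _ hy _ hb)) with e | e
      · exact Or.inl ((K b hb b1 y hy y1 v hv ((h.T_eq_one hv).1 e) c).resolve_left v1)
      · exact Or.inr e
    rcases alt y hy y1 v0 hv0 v01 c0 t3 with f | f <;>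
      rcases alt y' hy' y1' v1 hv1 v11 c1 (t2 ▸ t3) with f' | f'
    · exact (YY (f'.symm.trans f)).elim
    · exfalso
      rw [eb, ← conj_zpowers] at f
      rw [ea, ← conj_zpowers] at f'
      have x2 : x * x ∈ N[zpowers y] := by
        rw [← conj_eq_self_iff, mul_conj, f', f]
      have xx : x ∈ N[zpowers y] := by
        obtain ⟨k, hk⟩ := odd_ord h.odd xA
        have : x = (x * x) ^ (k + 1) := by
          rw [← pow_two, ← pow_mul, show 2 * (k + 1) = (2 * k + 1) + 1 by ring, ← hk, pow_succ,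
            pow_orderOf_eq_one, one_mul]
        rw [this]; exact pow_mem x2 _
      exact YY (f'.symm.trans (conj_eq_self xx))
    · have d0 := K' _ _ _ f ca
      have d1 := K' _ _ _ f' cb
      have g : v0 * w0 = v1 * w1 := by
        calc v0 * w0 = v0 * (w0 * w1) * w1 := by rw [mul_assoc, mul_assoc, h.el w1 hw1, mul_one]
          _ = _ := by rw [← ee, ← mul_assoc, h.el v0 hv0, one_mul]
      have g1 : v0 * w0 = 1 := KK _ (mul_mem hv0 hw0) (c0.mul_right d0) (g ▸ c1.mul_right d1)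
      exact ⟨(h.T_eq_one hv0).1 (by rw [T, ← e0, g1]), (h.T_eq_one hv1).1 (by rw [T, ← e1, ← g, g1])⟩
    · exact (YY (f'.symm.trans f)).elim
  have q0 := h.eqc hn (mul_mem hv0 hv1) hv0 vw v01 fun x hx => mem_cent1.2 (main x hx).1
  have : y ∈ P ⊓ C1[v0] := ⟨MP hy, mem_cent1.2 c0⟩
  rw [← q0] at this
  exact n1 (main y this).2

theorem fit_comm : fittingOf A ≤ C[fittingOf A] := by
  refine fittingOf_le_cent_of_forall fun p hp => le_cent_symm (fittingOf_le_cent_of_forall ?_)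
  intro q hq
  by_cases e : p = q
  · subst e
    have := h.cyc hp (piCoreOf_isPGroup hp A) (piCoreOf_le _ _)
      (h.le.trans (self_le_norm_piCoreOf _ _))
    exact isMulCommutative_iff_le_cent.1 inferInstance
  · exact piCoreOf_le_cent_of_disjoint fun r _ h1 h2 => e (h1.symm.trans h2)

theorem fit_norm : B ≤ N[fittingOf A] := h.le.trans (self_le_norm_fittingOf A)

theorem fit_cyc : IsCyclic (fittingOf A) := h.cyc_of_comm (fittingOf_le A) h.fit_norm h.fit_comm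

theorem fit_semi (hx : x ∈ fittingOf A) (hv : v ∈ V) (e : Commute x v) : x = 1 ∨ v = 1 :=
  h.semi (fittingOf_le A) h.fit_norm h.fit_comm hx hv e

theorem fit_cent : A ⊓ C[fittingOf A] ≤ fittingOf A := inf_cent_fittingOf_le (solv_odd h.odd)

theorem der_le : ⁅A, A⁆ ≤ fittingOf A :=
  (le_inf (commutator_le_of_le_norm_left (le_norm_self le_rfl))
    (PG.commutator_le_cent_of_isCyclic h.fit_cyc (self_le_norm_fittingOf A)
      (self_le_norm_fittingOf A))).trans h.fit_cent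

/-- an `l`-group containing a non-trivial element of `F(A)` forces `l ∣ |V| - 1`. -/
theorem dvd (hl : l.Prime) (hP : IsPGroup l P) (hn : P ≤ N[V]) (hx : x ∈ P) (hF : x ∈ fittingOf A)
    (x1 : x ≠ 1) : Nat.card V ≡ 1 [MOD l] := by
  have := Fact.mk hl
  have e : V ⊓ C[P] = ⊥ := eq_bot_iff.2 fun v hv =>
    mem_bot.2 ((h.fit_semi hF hv.1 (hv.2 x hx)).resolve_left x1)
  have := PG.card_modEq_card_inf_cent hP hn
  rwa [e, card_bot] at this

end TA

end Cfsg.Agent.WA.SM
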