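import Cfsg.Agent.WA.SMA

/-! SEA, P3: the quotient `H / O(H)`. -/

set_option autoImplicit false
set_option linter.unusedSectionVars false
set_option linter.unusedVariables false

namespace Cfsg.Agent.WA.SM

open Cfsg Subgroup MulAction Cfsg.Agent.GT Cfsg.Agent.Cls Cfsg.Agent.GW
open scoped commutatorElement

universe u

theorem exists_lin {X : Type u} [Group X] [Finite X] {Y : Subgroup X} {x : X}
    (h : ⁅(⊤ : Subgroup X), (⊤ : Subgroup X)⁆ ≤ Y) (hx : x ∉ Y) :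
    ∃ lam : X →* ℂˣ, (∀ y ∈ Y, lam y = 1) ∧ lam x ≠ 1 := by
  let Q := Abelianization X ⧸ Y.map (Abelianization.of (G := X))
  let g : X →* Q := (QuotientGroup.mk' _).comp Abelianization.of
  have : Finite (Abelianization X) := Quotient.finite _
  have : Finite Q := Quotient.finite _
  have : NeZero (Monoid.exponent Q) := ⟨Monoid.exponent_ne_zero_of_finite⟩
  have g1 : g x ≠ 1 := by
    intro e
    obtain ⟨y, hy, e⟩ := (QuotientGroup.eq_one_iff _).1 e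
    have : y⁻¹ * x ∈ commutator X := QuotientGroup.eq.1 e
    exact hx (by simpa using mul_mem hy (h this))
  obtain ⟨χ, hχ⟩ := CommGroup.exists_apply_ne_one_of_hasEnoughRootsOfUnity Q ℂ g1
  refine ⟨χ.comp g, fun y hy => ?_, hχ⟩
  have : g y = 1 := (QuotientGroup.eq_one_iff _).2 ⟨y, hy, rfl⟩
  simp [this]

variable {G Ω : Type u} [Group G] [Finite G] [MulAction G Ω] {α β : Ω} {t : G} {S P : Subgroup G}
  {X : Type u} [Group X] [Finite X] {f : stabilizer G α →* X} {A : Subgroup X} {l : ℕ}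

structure Sd (α β : Ω) (t : G) (S : Subgroup G) (f : stabilizer G α →* X) : Prop where
  tw : Tw G Ω
  ne : α ≠ β
  ord : orderOf t = 2
  ta : t • α = β
  tb : t • β = α
  syl : IsPiHallOf {2} S ⊤
  le : S ≤ stabilizer G α
  ex : ∃ s ∈ S, orderOf s = 2
  surj : Function.Surjective f
  ker : kr f = O[stabilizer G α]

local notation3 "H" => stabilizer G α
local notation3 "D" => stabilizer G α ⊓ stabilizer G β

namespace Sd
variable (h : Sd α β t S f)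
include h

theorem pS : IsPGroup 2 S := h.syl.isPi.isPGroup Nat.prime_two

theorem top : im f H = ⊤ := im_dom_of_surj h.surj

theorem nS : (⊤ : Subgroup X) ≤ N[im f S] := by
  rw [← h.top, im_le_norm_iff le_rfl h.le, h.ker, sup_comm]
  exact h.tw.cl α S h.syl h.le

theorem cS : IsMulCommutative (im f S) :=
  isMulCommutative_iff_le_cent.2 (im_cent (h.tw.ac.ab S h.pS))

theorem sylS : IsPiHallOf {2} (im f S) ⊤ := h.top ▸ (h.syl.of_le h.le le_top).im le_rfl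

theorem O_bot : O[(⊤ : Subgroup X)] = ⊥ := h.top ▸ piCoreOf_im_eq_bot le_rfl h.ker

theorem eq1 {x : G} (hx : x ∈ H) (e : f ⟨x, hx⟩ = 1) : Odd (orderOf x) :=
  odd_ord (O_odd H) (h.ker ▸ (mem_kr' hx).2 e)

theorem inj {x : G} (hx : x ∈ S) (e : f ⟨x, h.le hx⟩ = 1) : x = 1 := by
  have : x ∈ S ⊓ O[H] := ⟨hx, h.ker ▸ (mem_kr' (h.le hx)).2 e⟩
  rwa [h.syl.isPi.inf_eq_bot (piCoreOf_isPi _ _), mem_bot] at this

theorem memV {v : X} : v ∈ omegaOne 2 (im f S) ↔ v ∈ im f S ∧ v * v = 1 :=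
  ⟨fun hv => ⟨PG.omegaOne_le _ _ hv, by
    rw [← pow_two]; exact pow_eq_one_of_mem_omegaOne_of_comm h.cS hv⟩,
    fun hv => PG.mem_omegaOne hv.1 (by rw [pow_two, hv.2])⟩

theorem lift {v : X} (hv : v ∈ omegaOne 2 (im f S)) (v1 : v ≠ 1) :
    ∃ s, ∃ hs : s ∈ S, orderOf s = 2 ∧ f ⟨s, h.le hs⟩ = v := by
  obtain ⟨hv, e⟩ := h.memV.1 hv
  obtain ⟨s, hs', hs, rfl⟩ := mem_im.1 hv
  refine ⟨s, hs, ord2 (h.inj (mul_mem hs hs) ?_) fun e => v1 ?_, rfl⟩
  · rw [← e, ← map_mul]; rfl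
  · subst e; exact map_one f

theorem invV {s : G} (hs : s ∈ H) (o : orderOf s = 2) :
    f ⟨s, hs⟩ ∈ omegaOne 2 (im f S) ∧ f ⟨s, hs⟩ ≠ 1 := by
  have e : f ⟨s, hs⟩ * f ⟨s, hs⟩ = 1 := by
    rw [← map_mul, ← map_one f]; exact congrArg f (Subtype.ext (sq1 o))
  have n : f ⟨s, hs⟩ ≠ 1 := fun e => by
    have := h.eq1 hs e
    rw [o] at this
    exact absurd this (by decide)
  refine ⟨h.memV.2 ⟨h.sylS.mem_of_normal h.nS (mem_top _) ?_, e⟩, n⟩
  rw [ord2 e n]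
  exact piNat_single_self Nat.prime_two

theorem cardV : Nat.card (omegaOne 2 (im f S)) = nI S + 1 := by
  classical
  rw [← Nat.card_congr (Equiv.optionSubtypeNe (1 : omegaOne 2 (im f S))), Finite.card_option]
  congr 1
  refine (Nat.card_eq_of_bijective (fun x : {x : G // x ∈ S ∧ orderOf x = 2} =>
    (⟨⟨f ⟨x.1, h.le x.2.1⟩, (h.invV _ x.2.2).1⟩, fun e => (h.invV _ x.2.2).2 (congrArg Subtype.val e)⟩ :
      {b : omegaOne 2 (im f S) // b ≠ 1})) ⟨fun x y e => ?_, fun v => ?_⟩).symm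
  · have e' : f ⟨x.1, h.le x.2.1⟩ = f ⟨y.1, h.le y.2.1⟩ := congrArg (fun z => z.1.1) e
    refine Subtype.ext (eq_of_inv_mul_eq_one (h.inj (mul_mem (inv_mem x.2.1) y.2.1) ?_))
    rw [← inv_mul_cancel (f ⟨y.1, h.le y.2.1⟩)]
    nth_rewrite 1 [← e']
    rw [← map_inv, ← map_mul]; rfl
  · obtain ⟨s, hs, o, e⟩ := h.lift v.1.2 fun e => v.2 (Subtype.ext e)
    exact ⟨⟨s, hs, o⟩, Subtype.ext (Subtype.ext e)⟩

theorem oD : Odd (Nat.card ↥(D)) := h.tw.odd α β h.ne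

theorem oB : Odd (Nat.card (im f (D))) := h.oD.of_dvd_nat card_im_dvd

theorem exA : ∃ A : Subgroup X, IsPiHallOf ({2} : Set ℕ)ᶜ A ⊤ ∧ im f (D) ≤ A := by
  obtain ⟨A, hA, e⟩ := exists_hall_master ({2} : Set ℕ)ᶜ le_top h.nS (solvable_of_comm h.cS)
    h.sylS.idx
  obtain ⟨g, -, e⟩ := e _ le_top (odd_iff_pi.2 h.oB)
  exact ⟨_, hA.conj_of_mem (mem_top g), e⟩

theorem kk {v w : X} (hv : v ∈ omegaOne 2 (im f S)) (hw : w ∈ omegaOne 2 (im f S)) (v1 : v ≠ 1)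
    (w1 : w ≠ 1) : ∃ k, ∃ hk : k ∈ D, t * k * t = k⁻¹ ∧ f ⟨k, hk.1⟩ * v * (f ⟨k, hk.1⟩)⁻¹ = w := by
  obtain ⟨s, hs, o, rfl⟩ := h.lift hv v1
  obtain ⟨s', hs', o', rfl⟩ := h.lift hw w1
  obtain ⟨k, ⟨k1, k2, k3, k4⟩, -⟩ := h.tw.kk α β t s s' h.ne h.ord h.ta h.tb o o' (h.le hs) (h.le hs')
  refine ⟨k, ⟨k1, k2⟩, k3, ?_⟩
  rw [← map_inv, ← map_mul, ← map_mul]
  exact congrArg f (Subtype.ext k4)

theorem faith (hA : IsPiHallOf ({2} : Set ℕ)ᶜ A ⊤) : A ⊓ C[omegaOne 2 (im f S)] = ⊥ := by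
  have oA := odd_iff_pi.1 hA.isPi
  have p2 := isPGroup_im (f := f) h.pS
  have h1 : A ⊓ C[omegaOne 2 (im f S)] ≤ C[im f S] :=
    coprime_comm_le_cent_of_omegaOne Nat.prime_two h.cS p2 (le_top.trans h.nS)
      (cop2' (oA.of_dvd_nat (card_dvd_of_le inf_le_left)) p2).symm (le_cent_symm inf_le_right)
  have h2 : A ⊓ C[im f S] ≤ O[(⊤ : Subgroup X)] := by
    refine le_O le_top ?_ (oA.of_dvd_nat (card_dvd_of_le inf_le_left))
    rw [← h.sylS.sup_eq hA]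
    exact sup_le (le_norm_of_cent (le_cent_symm inf_le_right))
      (le_norm_inf (le_norm_self le_rfl) (le_norm_cent (le_top.trans h.nS)))
  exact eq_bot_iff.2 (h.O_bot ▸ (le_inf inf_le_left h1).trans h2)

theorem nV : (⊤ : Subgroup X) ≤ N[omegaOne 2 (im f S)] := PG.le_norm_omegaOne h.nS

theorem ta' (hA : IsPiHallOf ({2} : Set ℕ)ᶜ A ⊤) (hB : im f (D) ≤ A) :
    TA (omegaOne 2 (im f S)) A (im f (D)) where
  el := fun v hv => (h.memV.1 hv).2
  ne := by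
    obtain ⟨s, hs, o⟩ := h.ex
    exact ne_bot_of_mem (h.invV (h.le hs) o).1 (h.invV (h.le hs) o).2
  nV := le_top.trans h.nV
  odd := odd_iff_pi.1 hA.isPi
  le := hB
  faith := h.faith hA
  tr := fun v hv w hw v1 w1 => by
    obtain ⟨k, hk, -, e⟩ := h.kk hv hw v1 w1
    exact ⟨_, mem_im_of_mem hk.1 hk, e⟩

theorem dvd (hV : Nat.card (omegaOne 2 (im f S)) ≡ 1 [MOD l]) : l ∣ nI S := by
  rw [h.cardV] at hV
  simpa using (Nat.modEq_iff_dvd' (Nat.le_add_left 1 _)).1 hV.symm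

theorem fit_le (hA : IsPiHallOf ({2} : Set ℕ)ᶜ A ⊤) (hB : im f (D) ≤ A) :
    fittingOf A ≤ im f (D) := by
  refine fittingOf_le_of_forall_piCoreOf fun p hp => ?_
  by_cases e : piCoreOf {p} A = ⊥
  · rw [e]; exact bot_le
  obtain ⟨x, hx, x1⟩ := exists_ne_one_of_ne_bot e
  have d := h.dvd ((h.ta' hA hB).dvd hp (piCoreOf_isPGroup hp A) (le_top.trans h.nV) hx
    (piCoreOf_single_le_fittingOf hp hx) x1)
  obtain ⟨P, hP, -⟩ := exists_syl_ge (Q := ⊥) (M := D) hp IsPGroup.of_bot bot_le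
  have h1 := ((h.tw.syl α β S P p h.ne h.syl hp d hP).2).im (f := f) le_rfl
  rw [h.top] at h1
  have h2 : im f P ≤ im f (D) := im_mono hP.le
  exact (piCoreOf_le_hall (h1.of_le (h2.trans hB) le_top)).trans h2

theorem hallB [IsSimpleGroup G] : IsPiHallOf ({2} : Set ℕ)ᶜ (im f (D)) ⊤ := by
  obtain ⟨A, hA, hB⟩ := h.exA
  have T := h.ta' hA hB
  have der : ⁅(⊤ : Subgroup X), (⊤ : Subgroup X)⁆ ≤ im f (D) ⊔ im f S := by
    obtain ⟨Q, _, _, g, -, hk⟩ := exists_quo' ⊤ (im f S) le_top h.nS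
    have e : im g ⊤ = im g A := by
      calc im g ⊤ = im g (kr g ⊔ A) := by rw [hk, h.sylS.sup_eq hA]
        _ = _ := im_kr_sup le_top
    rw [← hk, ← im_le_im_iff le_top le_top, im_commutator le_top le_top, e,
      ← im_commutator le_top le_top]
    exact im_mono (T.der_le.trans (h.fit_le hA hB))
  have top : im f (D) ⊔ im f S = ⊤ := by
    by_contra e
    obtain ⟨x, -, hx⟩ := SetLike.not_le_iff_exists.1 fun e' => e (top_le_iff.1 e')
    obtain ⟨lam, h1, h2⟩ := exists_lin der hx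
    obtain ⟨x, rfl⟩ := h.surj x
    have := Fintype.ofFinite G
    have := lin_triv h.tw α β h.ne (lam.comp f) fun y hy =>
      h1 _ (le_sup_left (a := im f (D)) (mem_im_of_mem y.2 ⟨y.2, hy⟩))
    exact h2 (DFunLike.congr_fun this x)
  exact h.sylS.compl (isComplIn_of_norm (Or.inl (le_top.trans h.nS))
    ((odd_iff_pi.2 h.oB).inf_eq_bot' h.sylS.isPi) top).symm

theorem tB [IsSimpleGroup G] : TA (omegaOne 2 (im f S)) (im f (D)) (im f (D)) :=
  h.ta' h.hallB le_rfl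

/-- an `l`-subgroup of `D` meeting `F(B)` non-trivially fixes only `α` and `β`. -/
theorem fixl [IsSimpleGroup G] (hl : l.Prime) (hP : IsPGroup l P) (hD : P ≤ D) {x : G} (hx : x ∈ P)
    (hF : f ⟨x, (hD hx).1⟩ ∈ fittingOf (im f (D))) (x1 : f ⟨x, (hD hx).1⟩ ≠ 1) {c : Ω} (hc : c ≠ α)
    (hPc : P ≤ stabilizer G c) : c = β := by
  have d := h.dvd (h.tB.dvd hl (isPGroup_im (f := f) hP) (le_top.trans h.nV)
    (mem_im_of_mem _ hx) hF x1)
  refine h.tw.free α S P l h.syl hl d hP (hD.trans inf_le_left) ?_ c β hc h.ne.symm hPc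
    (hD.trans inf_le_right)
  intro v hv o e
  have e1 := e x hx
  have m : x * v * x⁻¹ * v⁻¹ ∈ H := O_le _ e1
  rw [← h.ker, mem_kr' m] at e1
  have e2 : Commute (f ⟨x, (hD hx).1⟩) (f ⟨v, hv⟩) := by
    rw [← commutatorElement_eq_one_iff_commute, ← map_commutatorElement]
    exact e1
  exact (h.tB.fit_semi hF (h.invV hv o).1 e2).elim x1 (h.invV hv o).2

theorem lpart {x : G} (hx : x ∈ H) {F : Subgroup X} (hF : f ⟨x, hx⟩ ∈ F) (x1 : f ⟨x, hx⟩ ≠ 1) :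
    ∃ l : ℕ, l.Prime ∧ ∃ y ∈ zpowers x, ∃ hy : y ∈ H, IsPGroup l (zpowers y) ∧ f ⟨y, hy⟩ ∈ F ∧
      f ⟨y, hy⟩ ≠ 1 := by
  obtain ⟨l, hl, d⟩ := Nat.exists_prime_and_dvd (n := orderOf (f ⟨x, hx⟩)) (by simpa using x1)
  have e : f ⟨constt {l} x, constt_mem _ hx⟩ = constt {l} (f ⟨x, hx⟩) := by
    rw [constt_map]
    exact congrArg f (Subtype.ext (constt_map (H).subtype {l} ⟨x, hx⟩))
  refine ⟨l, hl, constt {l} x, constt_mem_zpowers _ _, constt_mem _ hx,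
    (isPiSubgroup_zpowers_iff.2 (piNat_constt _ _)).isPGroup hl, e ▸ constt_mem _ hF,
    e ▸ constt_ne_one_of_dvd hl rfl d⟩

theorem wle [IsSimpleGroup G] : (D) ⊓ O[stabilizer G β] ≤ kr f := by
  have WD : (D) ⊓ O[stabilizer G β] ≤ D := inf_le_left
  rw [← im_eq_bot_iff (WD.trans inf_le_left)]
  by_contra ne
  obtain ⟨z, ⟨hF, hz⟩, z1⟩ := exists_ne_one_of_ne_bot (fittingOf_inf_ne_bot
    (solv_odd (h.oB.of_dvd_nat (card_dvd_of_le (im_mono WD)))) (im_mono WD)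
    (im_norm (le_norm_inf (le_norm_self le_rfl) (inf_le_right.trans (O_norm _)))) ne)
  obtain ⟨w, hw', hw, rfl⟩ := mem_im.1 hz
  obtain ⟨l, hl, y, hy, hy', py, yF, y1⟩ := h.lpart hw' hF z1
  obtain ⟨P, hP, yP⟩ := exists_syl_ge hl py (zpowers_le.2 (zpowers_le.2 hw hy))
  have PD := hP.le.trans WD
  have nD : stabilizer G β ⊓ N[P] ≤ D := by
    intro g hg
    refine ⟨?_, hg.1⟩
    by_contra e
    have : g • α = β := h.fixl hl (hP.isPi.isPGroup hl) PD (yP (mem_zpowers y)) yF y1 e (by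
      rw [stabilizer_smul_eq_stabilizer_map_conj, ← conj_eq_self hg.2]
      exact conj_mono g (PD.trans inf_le_left))
    exact h.ne (smul_left_cancel g (this.trans hg.1.symm))
  have h1 : IsPiHallOf {l} P O[stabilizer G β] := syl_of_norm_le hl hP (hP.le.trans inf_le_right)
    (le_inf ((inf_le_inf_right _ (O_le _)).trans nD) inf_le_left)
  have h2 := frattini_arg hl h1 (O_le _) (O_norm _)
  have h3 : Odd (Nat.card (stabilizer G β)) := by
    rw [← h2]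
    exact odd_iff_pi.1 ((piCoreOf_isPi _ _).sup (odd_iff_pi.2 (h.oD.of_dvd_nat (card_dvd_of_le nD)))
      (Or.inr (inf_le_left.trans (O_norm _))))
  obtain ⟨s, hs, o⟩ := h.ex
  have : t * s * t⁻¹ ∈ stabilizer G β := by
    rw [← h.ta, stabilizer_smul_eq_stabilizer_map_conj]
    exact conj_mem_conj.2 (h.le hs)
  have := odd_ord h3 this
  rw [ord2_conj o] at this
  exact absurd this (by decide)

end Sd

end Cfsg.Agent.WA.SM
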