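import Cfsg.Agent.WA.A2
import Cfsg.Agent.WA.JH2
import Cfsg.Agent.Cl.SLCard

/-! Walter's theorem, part SEA: no group of odd order is transitive on the involutions of `L₂(2^a)`. -/

set_option autoImplicit false
set_option linter.unusedSectionVars false

namespace Cfsg.Agent.WA.SZ

open Cfsg Subgroup MulAction Cfsg.Agent.GT Matrix MatrixGroups

universe u

theorem sl2_sq {F : Type*} [Field F] (h2 : (2 : F) = 0) {A B : SL(2, F)} (a2 : A * A = 1) (a1 : A ≠ 1)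
    (c : B * A = A * B) : B * B = 1 := by
  have e := fun i j => congrFun₂ (congrArg (fun M : SL(2, F) => M.1) a2) i j
  have e' := fun i j => congrFun₂ (congrArg (fun M : SL(2, F) => M.1) c) i j
  have dB := B.2
  rw [det_fin_two] at dB
  have e1 := e 0 0; have e2 := e 1 1; have e3 := e' 0 1; have e4 := e' 1 0
  simp [Matrix.mul_apply, Fin.sum_univ_two] at e1 e2 e3 e4
  have ad : A 1 1 = A 0 0 := sub_eq_zero.1 (pow_eq_zero_iff (n := 2) (by norm_num) |>.1 (by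
    linear_combination e2 - e1 + (A 0 0 ^ 2 - A 0 0 * A 1 1) * h2))
  have xw : B 1 1 = B 0 0 := by
    by_contra n
    have b0 : A 0 1 = 0 := (mul_eq_zero.1 (show A 0 1 * (B 1 1 - B 0 0) = 0 by
      rw [ad] at e3; linear_combination -e3)).resolve_right (sub_ne_zero.2 n)
    have c0 : A 1 0 = 0 := (mul_eq_zero.1 (show A 1 0 * (B 1 1 - B 0 0) = 0 by
      rw [ad] at e4; linear_combination e4)).resolve_right (sub_ne_zero.2 n)
    have a0 : A 0 0 = 1 := sub_eq_zero.1 (pow_eq_zero_iff (n := 2) (by norm_num) |>.1 (by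
      rw [b0] at e1; linear_combination e1 + (1 - A 0 0) * h2))
    refine a1 (Subtype.ext ?_)
    ext i j
    fin_cases i <;> fin_cases j <;> simp [*]
  refine Subtype.ext ?_
  ext i j
  have dB' : B 0 0 * B 1 1 - B 0 1 * B 1 0 = 1 := dB
  rw [xw] at dB'
  fin_cases i <;> fin_cases j <;> simp [Matrix.mul_apply, Fin.sum_univ_two, xw]
  · linear_combination dB' + B 0 1 * B 1 0 * h2
  · linear_combination B 0 0 * B 0 1 * h2
  · linear_combination B 0 0 * B 1 0 * h2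
  · linear_combination dB' + B 0 1 * B 1 0 * h2

theorem l2e_sl {T : Type u} [Group T] (h : L2e T) : ∃ a, 2 ≤ a ∧ ∃ (F : Type) (_ : Field F) (_ : Fintype F),
    Fintype.card F = 2 ^ a ∧ (2 : F) = 0 ∧ Nonempty (T ≃* SL(2, F)) := by
  obtain ⟨a, ha, F, _, _, c, ⟨e⟩⟩ := h
  have h2 : (2 : F) = 0 := by
    have := FiniteField.cast_card_eq_zero F
    rw [c, Nat.cast_pow, Nat.cast_two] at this
    exact pow_eq_zero_iff (by omega) |>.1 this
  have z : center SL(2, F) = ⊥ := eq_bot_iff.2 fun g hg => by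
    rcases (Cl.sl2_mem_center_iff g).1 hg with rfl | rfl
    · exact one_mem _
    · refine Subtype.ext ?_
      ext i j
      have : (-1 : F) = 1 := by linear_combination -h2
      fin_cases i <;> fin_cases j <;> simp [this]
  exact ⟨a, ha, F, inferInstance, inferInstance, c, h2, ⟨e.trans ((QuotientGroup.quotientMulEquivOfEq z).trans
    QuotientGroup.quotientBot)⟩⟩

theorem l2e_facts {T : Type u} [Group T] (h : L2e T) : (∀ z y : T, orderOf z = 2 → y * z = z * y → y * y = 1) ∧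
    ∃ a, 2 ≤ a ∧ Nat.card T = 2 ^ a * ((2 ^ a - 1) * (2 ^ a + 1)) := by
  obtain ⟨a, ha, F, _, _, c, h2, ⟨e⟩⟩ := l2e_sl h
  refine ⟨fun z y o cm => e.injective ?_, a, ha, by rw [Nat.card_congr e.toEquiv, Cl.card_sl_two, c, mul_assoc]⟩
  rw [map_mul, map_one]
  exact sl2_sq h2 (A := e z) (by rw [← map_mul, BS.mul_self_of_orderOf o, map_one])
    (fun n => BS.ne_one_of_orderOf_two o (e.injective (n.trans (map_one e).symm))) (by rw [← map_mul, cm, map_mul])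

variable {X : Type u} [Group X] [Finite X] {M U D T : Subgroup X} {z : X}

theorem idx_orbit (n : M ≤ N[U]) (hz : z ∈ U) (z1 : z ≠ 1)
    (tr : ∀ y ∈ U, y ≠ 1 → ∃ m ∈ M, m * z * m⁻¹ = y) : C1[z].relIndex M + 1 = Nat.card U := by
  let A : MulAction M X := MulAction.compHom X (MulAut.conj.comp M.subtype)
  have e := @MulAction.index_stabilizer M X _ A z
  have e1 : @stabilizer M X _ A z = C1[z].subgroupOf M := by
    ext m
    exact (mul_inv_eq_iff_eq_mul (a := m.1 * z) (b := m.1) (c := z)).trans (by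
      rw [mem_subgroupOf, mem_cent1, eq_comm])
  have e2 : @orbit M X A.toSMul z = (U : Set X) \ {1} := by
    ext y
    constructor
    · rintro ⟨m, rfl⟩
      exact ⟨conj_mem_of_le_norm n m.2 hz, fun e => z1 (conj_eq_one_iff.1 e)⟩
    · rintro ⟨hy, y1⟩
      obtain ⟨m, hm, e⟩ := tr y hy y1
      exact ⟨⟨m, hm⟩, e⟩
  rw [e1, e2] at e
  rw [relIndex, e, Set.ncard_diff_singleton_add_one (one_mem U)]
  rfl

theorem reg {Ω : Type*} [MulAction X Ω] [Finite Ω] {o : Ω} (fx : U ≤ stabilizer X o)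
    (cd : Nat.card Ω = Nat.card U + 1) (fr : ∀ u ∈ U, ∀ y, y ≠ o → u • y = y → u = 1) {y y' : Ω} (hy : y ≠ o)
    (hy' : y' ≠ o) : ∃ u ∈ U, u • y = y' := by
  have inj : Function.Injective fun u : U => (⟨u.1 • y, fun e => hy (smul_left_cancel u.1
      (e.trans (fx u.2).symm))⟩ : {y // y ≠ o}) := fun u v e => Subtype.ext (inv_mul_eq_one.1 (fr _
        (mul_mem (inv_mem u.2) v.2) y hy (by rw [mul_smul, inv_smul_eq_iff]; exact (congrArg Subtype.val e).symm)))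
  obtain ⟨u, e⟩ := (inj.bijective_of_nat_card_le (by
    rw [show Nat.card {y // y ≠ o} = Nat.card Ω - 1 by
      classical
      have := Fintype.ofFinite Ω
      simp [Fintype.card_subtype_compl]]
    omega)).2 ⟨y', hy'⟩
  exact ⟨u, u.2, congrArg Subtype.val e⟩

theorem kill {Ω : Type*} [MulAction X Ω] [Finite Ω] {o : Ω} (fx : U ≤ stabilizer X o) (n : stabilizer X o ≤ N[U])
    (cd : Nat.card Ω = Nat.card U + 1) (c3 : 2 < Nat.card U) (fr : ∀ u ∈ U, ∀ y, y ≠ o → u • y = y → u = 1)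
    (od : Odd (Nat.card D)) (t1 : ∀ y, ∃ d ∈ D, d • o = y)
    (t2 : ∀ z ∈ U, ∀ y ∈ U, z ≠ 1 → y ≠ 1 → ∃ d ∈ D ⊓ stabilizer X o, d * z * d⁻¹ = y) : False := by
  obtain ⟨l, hl, d⟩ := Nat.exists_prime_and_dvd (n := Nat.card U - 1) (by omega)
  obtain ⟨P, hP⟩ := exists_syl hl (D ⊓ stabilizer X o)
  have c : ∀ z ∈ U, P ≤ C1[z] → z = 1 := fun z hz e => by_contra fun z1 => syl_not_dvd hl hP (d.trans (by
    rw [← idx_orbit (inf_le_right.trans n) hz z1 fun y hy => t2 z hz y hy z1, Nat.add_sub_cancel]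
    exact relIndex_dvd_of_le_left _ e))
  have un : ∀ y y', y ≠ o → y' ≠ o → P ≤ stabilizer X y → P ≤ stabilizer X y' → y = y' := fun y y' h h' e e' => by
    obtain ⟨u, hu, rfl⟩ := reg fx cd fr h h'
    rw [c u hu fun p hp => mem_cent1.2 (mul_inv_eq_iff_eq_mul.1 (inv_mul_eq_one.1 (fr _ (mul_mem (inv_mem hu)
      (conj_mem_of_le_norm n (syl_le hP hp).2 hu)) y h (by
        rw [mul_smul, mul_smul, mul_smul, e (inv_mem hp), e' hp, inv_smul_smul]))).symm), one_smul]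
  obtain ⟨y, y1, e⟩ : ∃ y, y ≠ o ∧ P ≤ stabilizer X y := by
    by_contra h
    haveI := Fact.mk hl
    have m := (syl_isPGroup hl hP).card_modEq_card_fixedPoints Ω
    rw [show fixedPoints P Ω = {o} from Set.eq_singleton_iff_unique_mem.2 ⟨fun p => (syl_le hP p.2).2,
      fun y hy => by_contra fun y1 => h ⟨y, y1, fun p hp => hy ⟨p, hp⟩⟩⟩, cd, Nat.card_unique (α := ({o} : Set Ω))] at m
    have := Nat.dvd_sub ((Nat.modEq_iff_dvd' (by omega)).1 m.symm) d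
    rw [show Nat.card U + 1 - 1 - (Nat.card U - 1) = 1 by omega] at this
    exact hl.ne_one (Nat.dvd_one.1 this)
  obtain ⟨g, hg, rfl⟩ := t1 y
  have e1 : cj[g] (D ⊓ stabilizer X o) = D ⊓ stabilizer X (g • o) := by
    rw [conj_inf, conj_eq_self_of_mem hg, stabilizer_smul_eq_stabilizer_map_conj]
  have h1 := syl_conj hP g
  rw [e1] at h1
  obtain ⟨k, hk, e2⟩ := syl_exists_conj hl h1 (syl_of_card_le hl h1 (syl_isPGroup hl hP)
    (le_inf ((syl_le hP).trans inf_le_left) e) (card_conj g P).le)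
  have a1 : (k * g) • o = g • o := by rw [mul_smul]; exact hk.2
  have a2 : (k * g) • g • o = o := by
    by_contra h
    refine y1 (smul_left_cancel (k * g) ((un _ _ h y1 (fun p hp => ?_) e).trans a1.symm))
    rw [e2, ← mul_conj, mem_conj] at hp
    have := e hp
    rwa [mem_stabilizer_iff, mul_smul, mul_smul, inv_smul_eq_iff] at this
  exact y1 (a1.symm.trans (PG.mem_of_sq_mem_of_odd (M := stabilizer X o) (B84.odd_of_mem od (mul_mem hk.1 hg))
    (by rw [mem_stabilizer_iff, mul_smul, a1, a2])))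

/-- The geometry of a normal subgroup `L₂(2^a)`. -/
theorem geo [T.Normal] (ab : AB X) (h : L2e T) (el : El (⊤ : Subgroup T)) (hz : z ∈ T) (o : orderOf z = 2) :
    (∀ y ∈ T ⊓ C1[z], y * y = 1) ∧ (∀ y ∈ T ⊓ C1[z], y ≠ 1 → T ⊓ C1[y] = T ⊓ C1[z]) ∧
    Nat.card (X ⧸ N[T ⊓ C1[z]]) = Nat.card ↥(T ⊓ C1[z]) + 1 ∧ 2 < Nat.card ↥(T ⊓ C1[z]) ∧
    ∀ u ∈ T ⊓ C1[z], ∀ y : X ⧸ N[T ⊓ C1[z]], y ≠ (1 : X) → u • y = y → u = 1 := by
  obtain ⟨sq, a, ha, cT⟩ := l2e_facts h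
  have sq' : ∀ {z}, z ∈ T → orderOf z = 2 → ∀ y ∈ T ⊓ C1[z], y * y = 1 := fun {z} hz o y hy =>
    congrArg Subtype.val (sq ⟨z, hz⟩ ⟨y, hy.1⟩ (by rwa [← orderOf_coe]) (Subtype.ext (mem_cent1.1 hy.2)))
  have cm : ∀ {z}, z ∈ T → orderOf z = 2 → ∀ x ∈ T ⊓ C1[z], ∀ y ∈ T ⊓ C1[z], x * y = y * x := fun hz o x hx y hy => by
    rw [← inv_eq_of_mul_eq_one_right (sq' hz o _ (mul_mem hx hy)), _root_.mul_inv_rev,
      inv_eq_of_mul_eq_one_right (sq' hz o _ hx), inv_eq_of_mul_eq_one_right (sq' hz o _ hy)]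
  have o2 : ∀ y ∈ T ⊓ C1[z], y ≠ 1 → orderOf y = 2 := fun y hy => BS.orderOf_eq_two_of (sq' hz o y hy)
  have ti : ∀ {z}, z ∈ T → orderOf z = 2 → ∀ y ∈ T ⊓ C1[z], y ≠ 1 → T ⊓ C1[y] = T ⊓ C1[z] := fun hz o y hy y1 =>
    le_antisymm (fun x hx => ⟨hx.1, mem_cent1.2 (cm hy.1 (BS.orderOf_eq_two_of (sq' hz o y hy) y1) x hx _
      ⟨hz, mem_cent1.2 (mem_cent1.1 hy.2).symm⟩)⟩) fun x hx => ⟨hx.1, mem_cent1.2 (cm hz o x hx y hy)⟩
  have cj' : ∀ g y : X, cj[g] (T ⊓ C1[y]) = T ⊓ C1[g * y * g⁻¹] := fun g y => by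
    rw [conj_inf, conj_eq_self_of_normal, conj_cent1]
  have z1 := BS.ne_one_of_orderOf_two o
  have zU : z ∈ T ⊓ C1[z] := ⟨hz, self_mem_cent1 z⟩
  have tr : ∀ y ∈ T, orderOf y = 2 → ∃ g ∈ T, g * z * g⁻¹ = y := fun y hy oy => by
    obtain ⟨g, -, e⟩ := el.one ⟨z, hz⟩ trivial ⟨y, hy⟩ trivial (by rwa [← orderOf_coe]) (by rwa [← orderOf_coe])
    exact ⟨g, g.2, congrArg Subtype.val e⟩
  have p2 : IsPGroup 2 ↥(T ⊓ C1[z]) := fun y => ⟨1, Subtype.ext (by rw [pow_one, pow_two]; exact sq' hz o y y.2)⟩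
  have hU : IsPiHallOf {2} (T ⊓ C1[z]) T := syl_of_maximal Nat.prime_two p2 inf_le_left fun Q hQ l1 l2 =>
    le_antisymm (le_inf l2 ((ab Q hQ).trans (cent_le_cent1 (l1 zU)))) l1
  have nB : ∀ g : X, g * z * g⁻¹ ∈ T ⊓ C1[z] → g ∈ N[T ⊓ C1[z]] := fun g e =>
    conj_eq_self_iff.1 (by rw [cj', ti hz o _ e fun e => z1 (conj_eq_one_iff.1 e)])
  have i1 := idx_orbit (M := T ⊓ N[T ⊓ C1[z]]) inf_le_right zU z1 fun y hy y1 => by
    obtain ⟨g, hg, e⟩ := tr y hy.1 (o2 y hy y1)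
    exact ⟨g, ⟨hg, nB g (e ▸ hy)⟩, e⟩
  have i2 := card_inf_mul_relIndex C1[z] (T ⊓ N[T ⊓ C1[z]])
  rw [show C1[z] ⊓ (T ⊓ N[T ⊓ C1[z]]) = T ⊓ C1[z] from le_antisymm (fun x hx => ⟨hx.2.1, hx.1⟩)
    (le_inf inf_le_right (le_inf inf_le_left le_normalizer))] at i2
  have i3 := card_inf_mul_relIndex N[T ⊓ C1[z]] T
  have i4 : N[T ⊓ C1[z]].relIndex ⊤ = N[T ⊓ C1[z]].relIndex T := JH.relIndex_prod le_top fun x _ => by
    obtain ⟨k, hk, n, hn, rfl⟩ := frattini_arg_exists Nat.prime_two hU (x := x) (le_norm_of_normal (mem_top x))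
    exact ⟨k, hk, by rwa [inv_mul_cancel_left]⟩
  have p4 : 4 ≤ 2 ^ a := Nat.pow_le_pow_right (n := 2) (by norm_num) ha
  have ev : 2 ∣ 2 ^ a := dvd_pow_self 2 (by omega)
  have cU : Nat.card ↥(T ⊓ C1[z]) = 2 ^ a := PiNat.eq_of_mul_eq (IsPiHallOf.isPi hU).piNat (IsPiHallOf.idx hU)
    (piNat_single_pow Nat.prime_two a) ((piNat_single_compl_iff Nat.prime_two).2 (by
      rw [Nat.prime_two.dvd_mul]; omega)) ((IsPiHallOf.card_mul hU).trans cT)
  refine ⟨sq' hz o, ti hz o, ?_, by omega, fun u hu y y1 e => by_contra fun u1 => y1 ?_⟩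
  · rw [inf_comm _ T, ← i2, cT, cU, ← i4, relIndex_top_right, mul_assoc, eq_tsub_of_add_eq (i1.trans cU)] at i3
    rw [← index_eq_card, cU]
    exact Nat.eq_of_mul_eq_mul_left (by omega) (Nat.eq_of_mul_eq_mul_left (by omega) i3)
  obtain ⟨g, rfl⟩ := QuotientGroup.mk_surjective y
  have m : g⁻¹ * u * g ∈ N[T ⊓ C1[z]] := by
    rw [mul_assoc]; exact QuotientGroup.eq.1 e.symm
  have m' : g⁻¹ * u * g ∈ T ⊓ C1[z] := le_syl_of_le_norm Nat.prime_two hU (Q := zpowers (g⁻¹ * u * g))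
    (isPGroup_of_card_eq_prime (by rw [Nat.card_zpowers, ← o2 u hu u1]; simpa using orderOf_conj g⁻¹ u))
    (zpowers_le.2 (Normal.conj_mem' inferInstance u hu.1 g)) (zpowers_le.2 m) (mem_zpowers _)
  refine QuotientGroup.eq.2 (conj_eq_self_iff.1 ?_)
  rw [mul_one, ← ti hz o u hu u1, cj', inv_inv, ti hz o _ m' (cne' u1 g), ti hz o u hu u1]

theorem l2e_kill [T.Normal] (ab : AB X) (h : L2e T) (el : El (⊤ : Subgroup T)) (hz : z ∈ T) (o : orderOf z = 2)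
    (od : Odd (Nat.card D)) (tr : ∀ y y' : X, orderOf y = 2 → orderOf y' = 2 → ∃ d ∈ D, d * y * d⁻¹ = y') : False := by
  obtain ⟨sq, ti, cd, c3, fr⟩ := geo ab h el hz o
  have st : stabilizer X ((1 : X) : X ⧸ N[T ⊓ C1[z]]) = N[T ⊓ C1[z]] := stabilizer_quotient _
  have cj' : ∀ g y : X, cj[g] (T ⊓ C1[y]) = T ⊓ C1[g * y * g⁻¹] := fun g y => by
    rw [conj_inf, conj_eq_self_of_normal, conj_cent1]
  refine kill (le_normalizer.trans st.ge) st.le cd c3 fr od (fun y => ?_) fun y hy y' hy' y1 y1' => ?_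
  · obtain ⟨g, rfl⟩ := QuotientGroup.mk_surjective y
    obtain ⟨d, hd, e⟩ := tr z (g * z * g⁻¹) o (by rwa [orderOf_conj])
    refine ⟨d, hd, QuotientGroup.eq.2 (conj_eq_self_iff.1 (?_ : cj[(d * 1)⁻¹ * g] _ = _))⟩
    rw [mul_one, mul_conj, cj', ← e, ← cj', inv_conj_conj]
  · obtain ⟨d, hd, e⟩ := tr y y' (BS.orderOf_eq_two_of (sq y hy) y1) (BS.orderOf_eq_two_of (sq y' hy') y1')
    exact ⟨d, ⟨hd, st.ge (conj_eq_self_iff.1 (by rw [← ti y hy y1, cj', e, ti y' hy' y1', ti y hy y1]))⟩, e⟩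

end Cfsg.Agent.WA.SZ
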