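import Cfsg.Agent.Sig.Side
import Cfsg.Agent.GW.D3

/-! The two places where the solvable signalizer functor theorem uses `p`, for `p = 2`. -/

set_option autoImplicit false
open Cfsg Subgroup Cfsg.Agent.GT Cfsg.Agent.BG Cfsg.Agent.Sig
open scoped commutatorElement

namespace Cfsg.Agent.WA.Sg
universe u
variable {G : Type u} [Group G] [Finite G] {p q r : ℕ} {B P H U : Subgroup G}

theorem puig2 {L Q R : Subgroup G} (S : Side 2 q B P L Q R) (hq : q.Prime)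
    (hP : IsPGroup q P) : L ≤ N[zPuigOf P] := by
  rcases S.gen with e | e
  · refine Puig_center_normal hq (Nat.odd_iff.2 (Nat.two_dvd_ne_zero.1 S.cop)) S.solv
      (syl_mk hq S.PL hP fun hd => S.idx ?_) ?_
    · have h1 := card_sup_mul_card_inf' (S.PL.trans S.nR)
      rw [← e, ← card_mul_relIndex S.PL, ← card_inf_mul_relIndex P R, inf_comm P, mul_right_comm,
        mul_right_comm, mul_comm (Nat.card P), mul_comm (Nat.card ↥(R ⊓ P))] at h1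
      have h2 : P.relIndex L = P.relIndex R := by
        have a := card_pos' P
        have b := card_pos' (R ⊓ P)
        have : Nat.card P * Nat.card ↥(R ⊓ P) * P.relIndex L =
            Nat.card P * Nat.card ↥(R ⊓ P) * P.relIndex R := by linarith
        exact Nat.eq_of_mul_eq_mul_left (Nat.mul_pos a b) this
      exact (h2 ▸ hd).trans (relIndex_dvd_of_le_left _ S.QP)
    · have hQ := isPi_of_isPGroup hq (hP.to_le S.QP)
      have hc := (piCoreOf_isPi {q}ᶜ L).coprime' hQ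
      exact eq_bot_of_le_of_coprime le_rfl ((le_inf (piCoreOf_le _ _) (le_cent_of_norm_of_coprime
        ((piCoreOf_le _ _).trans S.nQ) ((S.QP.trans S.PL).trans (self_le_norm_piCoreOf _ _))
        hc)).trans S.chr) hc
  · rw [← le_antisymm S.QP e]
    exact S.nQ.trans (norm_le_norm_zPuigOf _)

theorem push2 (hp2 : p = 2) (hq : q.Prime)
    {B Ω P L₁ Q₁ R₁ L₂ Q₂ R₂ : Subgroup G} (hB : IsPGroup p B) (hBΩ : B ≤ Ω)
    (hP : IsPGroup q P) (hP1 : P ≠ ⊥)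
    (h₁ : Side p q B P L₁ Q₁ R₁) (h₂ : Side p q B P L₂ Q₂ R₂)
    (nP : Ω ≤ N[P]) (nL₁ : Ω ≤ N[L₁]) (nL₂ : Ω ≤ N[L₂]) (nQ₁ : Ω ≤ N[Q₁]) (nQ₂ : Ω ≤ N[Q₂])
    (nR₁ : Ω ≤ N[R₁]) (nR₂ : Ω ≤ N[R₂])
    (H₁ : ∀ W : Subgroup G, W ≠ ⊥ → W ≤ P → L₂ ≤ N[W] → Ω ≤ N[W] → R₁ ⊓ N[W] ≤ N[Q₂])
    (H₂ : ∀ W : Subgroup G, W ≠ ⊥ → W ≤ P → L₁ ≤ N[W] → Ω ≤ N[W] → R₂ ⊓ N[W] ≤ N[Q₁]) :
    ∃ W : Subgroup G, W ≠ ⊥ ∧ W ≤ P ∧ L₁ ≤ N[W] ∧ L₂ ≤ N[W] ∧ Ω ≤ N[W] := by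
  subst hp2
  exact ⟨zPuigOf P, zPuigOf_ne_bot hq hP hP1, zPuigOf_le P, puig2 h₁ hq hP, puig2 h₂ hq hP,
    nP.trans (norm_le_norm_zPuigOf _)⟩

/-- an involution `t` acting on a group `H` of odd order: a `C_H(t)`-invariant `r`-subgroup `U`
has `[U, t] ≤ O_r(H)`. -/
theorem rfl2 (hr : r.Prime) {t : G} (ht : orderOf t = 2) (ho : Odd (Nat.card H)) (hn : t ∈ N[H])
    (hUH : U ≤ H) (hU : IsPGroup r U) (hRU : t ∈ N[U]) (hC : H ⊓ C1[t] ≤ N[U]) :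
    ⁅U, zpowers t⁆ ≤ piCoreOf {r} H := by
  have hUR : ⁅U, zpowers t⁆ ≤ U := commutator_le_of_le_norm_left (GW.zp_norm hRU)
  have oU := odd_card_of_le ho hUH
  obtain ⟨Q, _, _, f, -, hk⟩ := exists_quo' (H ⊔ zpowers t) (piCoreOf {r} H)
    ((piCoreOf_le _ _).trans le_sup_left)
    (sup_le (self_le_norm_piCoreOf _ _) (le_norm_piCoreOf (GW.zp_norm hn)))
  have dH : H ≤ H ⊔ zpowers t := le_sup_left
  have tL : zpowers t ≤ H ⊔ zpowers t := le_sup_right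
  have htL : t ∈ H ⊔ zpowers t := tL (mem_zpowers t)
  have m : f ⟨t, htL⟩ ∈ im f (zpowers t) := mem_im_of_mem htL (mem_zpowers t)
  rw [← hk, ← im_le_cent_iff (hUH.trans dH) tL, im_zpowers htL, cent_zpowers]
  refine GW.K1d hr (odd_im ho) (piCoreOf_im_eq_bot dH hk) (by
      rw [← map_mul, ← map_one f]; exact congrArg f (Subtype.ext (GW.sq1 ht)))
    (im_norm (GW.zp_norm hn) m) (im_mono hUH) (isPGroup_im hU) (im_norm (GW.zp_norm hRU) m) ?_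
  rw [← im_inf_cent1_of_coprime dH htL hn (by
    rw [ht]; exact (Nat.coprime_two_right.2 (odd_card_of_le ho inf_le_left)))]
  exact im_norm hC

end Cfsg.Agent.WA.Sg
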